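/-
Assembly of statement S1430 (Bender-Glauberman, Theorem 14.2, parts (a), (b)): the structure of a
maximal subgroup `M` with a nontrivial Hall `κ(M)`-subgroup `K`.

The three facts that carry the real content enter as explicit hypotheses:

* `RegHyp M K` : (case `κ(M) ⊆ τ₁(M)`) no element of prime order outside `κ(M)` of a complement
  of `M_σ` commutes with an element of prime order of `K`;
* `T3Hyp M` : (case `κ(M) ⊄ τ₁(M)`) the complements `E` of `M_σ` are `κ(M)`-groups acting in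
  a prime manner on `M_σ`, and all their subgroups of prime order are normal;
* `SigmaHyp M K` : a subgroup `X` of prime order of `K` lies in `M*_σ` for every maximal subgroup
  `M*` containing `N_G(X)`;

together with the statement S1428 (`H28 G`).  Everything else (the normal complement `U` of `K`
in `E`, its commutativity through Thompson's theorem on fixed-point-free automorphisms of prime
order, the prime action of `K`, the normalizers) is proved here.
-/
import Mathlib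
import Cfsg.Agent.S1350
import Cfsg.Agent.S0033
import Cfsg.Agent.S1420
import Cfsg.Agent.S1427
import Cfsg.Agent.Lib.helper60.BGCentU
import Cfsg.Agent.Lib.helper8.BGTen3
import Cfsg.Agent.Lib.helper8.BGTen5

set_option autoImplicit false
open Cfsg

namespace Cfsg.Agent.Lib.helper87.BG142

variable {G : Type*} [Group G]

/-- (O-a) the regularity hypothesis. -/
def RegHyp (M K : Subgroup G) : Prop :=
  ∀ E : Subgroup G, IsComplIn E (sigmaCore M) M → K ≤ E →
    ∀ x ∈ K, ∀ y ∈ E, (orderOf x).Prime → (orderOf y).Prime → orderOf y ∉ kappa M →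
      x * y = y * x → False

/-- (O-b) the subgroups of prime order of `K` lie in `M*_σ`. -/
def SigmaHyp (_M K : Subgroup G) : Prop :=
  ∀ X : Subgroup G, X ≤ K → (Nat.card X).Prime → ∀ Mstar : Subgroup G, IsCoatom Mstar →
    Subgroup.normalizer (X : Set G) ≤ Mstar → X ≤ sigmaCore Mstar

/-- (O-c) the structure of the complements when `κ(M)` is not contained in `τ₁(M)`. -/
def T3Hyp (M : Subgroup G) : Prop :=
  ∀ E : Subgroup G, IsComplIn E (sigmaCore M) M →
    (∀ q : ℕ, q.Prime → q ∣ Nat.card E → q ∈ kappa M) ∧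
    (∀ X : Subgroup G, X ≤ E → (Nat.card X).Prime → E ≤ Subgroup.normalizer (X : Set G)) ∧
    ∀ x ∈ E, x ≠ 1 → sigmaCore M ⊓ Subgroup.centralizer ({x} : Set G) =
      sigmaCore M ⊓ Subgroup.centralizer (E : Set G)

/-- The statement S1428 for the group `G`. -/
def H28 (G : Type*) [Group G] : Prop :=
  ∀ (M : Subgroup G), IsCoatom M → ∀ (E : Subgroup G), IsComplIn E (sigmaCore M) M →
    ∀ (p : ℕ), p ∈ tau1 M → ∀ (P : Subgroup G), P ≤ E → Nat.card P = p →
      ∀ (R : Subgroup G), R ≤ E ⊓ Subgroup.centralizer (P : Set G) → (Nat.card R).Prime →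
        sigmaCore M ⊓ Subgroup.centralizer (P : Set G) ≤
          sigmaCore M ⊓ Subgroup.centralizer (R : Set G)

theorem mem_cent_singleton {c x : G} :
    c ∈ Subgroup.centralizer ({x} : Set G) ↔ x * c = c * x := by
  rw [Subgroup.mem_centralizer_iff]
  constructor
  · intro h
    exact h x rfl
  · intro h y hy
    rw [Set.mem_singleton_iff] at hy
    subst hy
    exact h

/-! ### The Hall property of `U` -/

theorem hall_U [Finite G] (hG : IsMinSimpleOddOrder G) (M : Subgroup G) (hM : IsCoatom M)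
    (K E U : Subgroup G) (hE : IsComplIn E (sigmaCore M) M) (hUK : IsComplIn U K E)
    (hK : IsPiHallOf (kappa M) K M) :
    IsPiHallOf {q | q.Prime ∧ q ∉ kappa M ∧ q ∉ sigma M} U M := by
  obtain ⟨hH1, -, -⟩ := Cfsg.Agent.S1350.result hG M hM
  have cE : Nat.card E * Nat.card (sigmaCore M) = Nat.card M :=
    Cfsg.Agent.Lib.helper60.BGCentU.card_of_isComplIn hE
  have cU : Nat.card U * Nat.card K = Nat.card E :=
    Cfsg.Agent.Lib.helper60.BGCentU.card_of_isComplIn hUK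
  have hUM : U ≤ M := hUK.1.trans hE.1
  have hKrel : K.relIndex M = Nat.card U * Nat.card (sigmaCore M) := by
    have h1 := Cfsg.Agent.Lib.helper13.relIndex_mul_card_of_le hK.1
    have h2 : K.relIndex M * Nat.card K =
        (Nat.card U * Nat.card (sigmaCore M)) * Nat.card K := by
      rw [h1, ← cE, ← cU]; ring
    exact Nat.eq_of_mul_eq_mul_right Nat.card_pos h2
  have hSrel : (sigmaCore M).relIndex M = Nat.card U * Nat.card K := by
    have h1 := Cfsg.Agent.Lib.helper13.relIndex_mul_card_of_le hE.2.1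
    have h2 : (sigmaCore M).relIndex M * Nat.card (sigmaCore M) =
        (Nat.card U * Nat.card K) * Nat.card (sigmaCore M) := by
      rw [h1, ← cE, ← cU]
    exact Nat.eq_of_mul_eq_mul_right Nat.card_pos h2
  have hUrel : U.relIndex M = Nat.card K * Nat.card (sigmaCore M) := by
    have h1 := Cfsg.Agent.Lib.helper13.relIndex_mul_card_of_le hUM
    have h2 : U.relIndex M * Nat.card U =
        (Nat.card K * Nat.card (sigmaCore M)) * Nat.card U := by
      rw [h1, ← cE, ← cU]; ring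
    exact Nat.eq_of_mul_eq_mul_right Nat.card_pos h2
  refine ⟨hUM, ?_, ?_⟩
  · intro p hp hpU
    refine ⟨hp, ?_, ?_⟩
    · intro hpκ
      apply hK.2.2 p hp hpκ
      rw [hKrel]
      exact Dvd.dvd.mul_right hpU _
    · intro hpσ
      apply hH1.2.2 p hp hpσ
      rw [hSrel]
      exact Dvd.dvd.mul_right hpU _
  · intro p hp hpπ hpd
    obtain ⟨-, hpκ, hpσ⟩ := hpπ
    rw [hUrel] at hpd
    rcases (Nat.Prime.dvd_mul hp).mp hpd with h | h
    · exact hpκ (hK.2.1 p hp h)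
    · exact hpσ (hH1.2.1 p hp h)

/-! ### The normalizers -/

theorem norm_eq [Finite G] (M K E U : Subgroup G) (hE : IsComplIn E (sigmaCore M) M)
    (hKE : K ≤ E) (hUn : E ≤ Subgroup.normalizer (U : Set G)) (hUK : U ⊓ K = ⊥)
    (hfac : ∀ e ∈ E, ∃ u ∈ U, ∃ k ∈ K, e = u * k)
    (hsemi : ∀ k ∈ K, k ≠ 1 → sigmaCore M ⊓ Subgroup.centralizer ({k} : Set G) =
      sigmaCore M ⊓ Subgroup.centralizer (K : Set G))
    (hreg : ∀ k ∈ K, k ≠ 1 → U ⊓ Subgroup.centralizer ({k} : Set G) = ⊥)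
    (X : Subgroup G) (hXK : X ≤ K) (hX1 : X ≠ ⊥)
    (hKnX : K ≤ Subgroup.normalizer (X : Set G)) :
    M ⊓ Subgroup.normalizer (X : Set G) =
      K ⊔ (sigmaCore M ⊓ Subgroup.centralizer (K : Set G)) := by
  obtain ⟨hEM, hSM, hES, hMfac⟩ := hE
  have hcentX : ∀ c : G, (∀ x ∈ X, c * x = x * c) → c ∈ Subgroup.normalizer (X : Set G) := by
    intro c hc
    apply Cfsg.Agent.Lib.helper13.mem_normalizer_of_forall_conj_mem
    intro x hx
    rw [hc x hx, mul_inv_cancel_right]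
    exact hx
  obtain ⟨x0, hx01⟩ := (Subgroup.ne_bot_iff_exists_ne_one).mp hX1
  have hx0X : (x0 : G) ∈ X := x0.2
  have hx0ne : (x0 : G) ≠ 1 := fun h => hx01 (Subtype.ext h)
  apply le_antisymm
  · rintro m ⟨hmM, hmN⟩
    obtain ⟨e, he, s, hs, rfl⟩ := hMfac m hmM
    -- `s` centralizes `X`
    have hsX : ∀ x ∈ X, s * x = x * s := by
      intro x hx
      have hxE : x ∈ E := hKE (hXK hx)
      have hy : e * s * x * (e * s)⁻¹ ∈ X := (Subgroup.mem_normalizer_iff.mp hmN x).mp hx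
      have hyE : e * s * x * (e * s)⁻¹ ∈ E := hKE (hXK hy)
      have h1 : s * x * s⁻¹ ∈ E := by
        have : s * x * s⁻¹ = e⁻¹ * (e * s * x * (e * s)⁻¹) * e := by group
        rw [this]
        exact E.mul_mem (E.mul_mem (E.inv_mem he) hyE) he
      have h2 : s * x * s⁻¹ * x⁻¹ ∈ E := E.mul_mem h1 (E.inv_mem hxE)
      have h3 : s * x * s⁻¹ * x⁻¹ ∈ sigmaCore M := by
        have hxn := Cfsg.Agent.Lib.helper13.le_normalizer_sigmaCore M (hEM hxE)
        have h4 : x * s⁻¹ * x⁻¹ ∈ sigmaCore M :=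
          (Subgroup.mem_normalizer_iff.mp hxn s⁻¹).mp ((sigmaCore M).inv_mem hs)
        have : s * x * s⁻¹ * x⁻¹ = s * (x * s⁻¹ * x⁻¹) := by group
        rw [this]
        exact (sigmaCore M).mul_mem hs h4
      have h5 : s * x * s⁻¹ * x⁻¹ ∈ E ⊓ sigmaCore M := ⟨h2, h3⟩
      rw [hES, Subgroup.mem_bot] at h5
      have h6 : s * x * s⁻¹ = x := by
        have := congrArg (· * x) h5
        simpa using this
      calc s * x = s * x * s⁻¹ * s := by group
        _ = x * s := by rw [h6]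
    have hsK : s ∈ sigmaCore M ⊓ Subgroup.centralizer (K : Set G) := by
      rw [← hsemi x0 (hXK hx0X) hx0ne]
      exact Subgroup.mem_inf.mpr ⟨hs, mem_cent_singleton.mpr (hsX _ hx0X).symm⟩
    have hsN : s ∈ Subgroup.normalizer (X : Set G) := hcentX s hsX
    have heN : e ∈ Subgroup.normalizer (X : Set G) := by
      have : e = e * s * s⁻¹ := by group
      rw [this]
      exact Subgroup.mul_mem _ hmN (Subgroup.inv_mem _ hsN)
    obtain ⟨u, hu, k, hk, rfl⟩ := hfac e he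
    have huN : u ∈ Subgroup.normalizer (X : Set G) := by
      have : u = u * k * k⁻¹ := by group
      rw [this]
      exact Subgroup.mul_mem _ heN (Subgroup.inv_mem _ (hKnX hk))
    have hu1 : u = 1 := by
      have h1 : u * x0 * u⁻¹ ∈ X := (Subgroup.mem_normalizer_iff.mp huN x0).mp hx0X
      have h2 : u * x0 * u⁻¹ * (x0 : G)⁻¹ ∈ K := K.mul_mem (hXK h1) (K.inv_mem (hXK hx0X))
      have h3 : u * x0 * u⁻¹ * (x0 : G)⁻¹ ∈ U := by
        have hxn := hUn (hKE (hXK hx0X))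
        have h4 : (x0 : G) * u⁻¹ * (x0 : G)⁻¹ ∈ U :=
          (Subgroup.mem_normalizer_iff.mp hxn u⁻¹).mp (U.inv_mem hu)
        have : u * x0 * u⁻¹ * (x0 : G)⁻¹ = u * ((x0 : G) * u⁻¹ * (x0 : G)⁻¹) := by group
        rw [this]
        exact U.mul_mem hu h4
      have h5 : u * x0 * u⁻¹ * (x0 : G)⁻¹ ∈ U ⊓ K := ⟨h3, h2⟩
      rw [hUK, Subgroup.mem_bot] at h5
      have h6 : u * x0 * u⁻¹ = x0 := by
        have := congrArg (· * (x0 : G)) h5
        simpa using this
      have h7 : u ∈ U ⊓ Subgroup.centralizer ({(x0 : G)} : Set G) := by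
        refine Subgroup.mem_inf.mpr ⟨hu, mem_cent_singleton.mpr ?_⟩
        calc (x0 : G) * u = u * x0 * u⁻¹ * u := by rw [h6]
          _ = u * x0 := by group
      rw [hreg x0 (hXK hx0X) hx0ne, Subgroup.mem_bot] at h7
      exact h7
    subst hu1
    rw [one_mul]
    exact Subgroup.mul_mem_sup hk hsK
  · apply sup_le
    · exact le_inf (hKE.trans hEM) hKnX
    · rintro c ⟨hcS, hcK⟩
      refine ⟨hSM hcS, hcentX c ?_⟩
      intro x hx
      exact ((Subgroup.mem_centralizer_iff.mp hcK) x (hXK hx)).symm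

/-! ### The conclusion from a normal complement `U` of `K` in `E` -/

theorem core [Finite G] (hG : IsMinSimpleOddOrder G) (M : Subgroup G) (hM : IsCoatom M)
    (K E U : Subgroup G) (hE : IsComplIn E (sigmaCore M) M) (hKE : K ≤ E) (hUE : U ≤ E)
    (hUn : E ≤ Subgroup.normalizer (U : Set G)) (hUK : U ⊓ K = ⊥)
    (hfac : ∀ e ∈ E, ∃ u ∈ U, ∃ k ∈ K, e = u * k)
    (hK : IsPiHallOf (kappa M) K M) (hK1 : K ≠ ⊥)
    (hsemi : ∀ k ∈ K, k ≠ 1 → sigmaCore M ⊓ Subgroup.centralizer ({k} : Set G) =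
      sigmaCore M ⊓ Subgroup.centralizer (K : Set G))
    (hreg : ∀ k ∈ K, k ≠ 1 → U ⊓ Subgroup.centralizer ({k} : Set G) = ⊥)
    (hKn : ∀ X : Subgroup G, X ≤ K → (Nat.card X).Prime →
      K ≤ Subgroup.normalizer (X : Set G))
    (hUab : IsMulCommutative U) (hsig : SigmaHyp M K) :
    (∀ k ∈ K, k ≠ 1 → sigmaCore M ⊓ Subgroup.centralizer ({k} : Set G) = (sigmaCore M ⊓ Subgroup.centralizer (K : Set G))) ∧
      (∃ U : Subgroup G, IsMulCommutative U ∧ IsPiHallOf {q | q.Prime ∧ q ∉ kappa M ∧ q ∉ sigma M} U M ∧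
        K ≤ Subgroup.normalizer (U : Set G) ∧ ∀ k ∈ K, k ≠ 1 → U ⊓ Subgroup.centralizer ({k} : Set G) = ⊥) ∧
      ∀ X : Subgroup G, X ≤ K → (Nat.card X).Prime →
        M ⊓ Subgroup.normalizer (X : Set G) = K ⊔ (sigmaCore M ⊓ Subgroup.centralizer (K : Set G)) ∧ M ⊓ Subgroup.normalizer (K : Set G) = K ⊔ (sigmaCore M ⊓ Subgroup.centralizer (K : Set G)) ∧
        ∀ Mstar : Subgroup G, IsCoatom Mstar → Subgroup.normalizer (X : Set G) ≤ Mstar → X ≤ sigmaCore Mstar := by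
  refine ⟨hsemi, ⟨U, hUab, hall_U hG M hM K E U hE ⟨hUE, hKE, hUK, hfac⟩ hK, hKE.trans hUn,
    hreg⟩, ?_⟩
  intro X hXK hXp
  have hX1 : X ≠ ⊥ := by
    rintro rfl
    rw [Subgroup.card_bot] at hXp
    exact Nat.not_prime_one hXp
  exact ⟨norm_eq M K E U hE hKE hUn hUK hfac hsemi hreg X hXK hX1 (hKn X hXK hXp),
    norm_eq M K E U hE hKE hUn hUK hfac hsemi hreg K le_rfl hK1 Subgroup.le_normalizer,
    hsig X hXK hXp⟩

/-! ### The case where the complements are `κ(M)`-groups -/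

theorem of_t3 [Finite G] (hG : IsMinSimpleOddOrder G) (M : Subgroup G) (hM : IsCoatom M)
    (K : Subgroup G) (hK : IsPiHallOf (kappa M) K M) (hK1 : K ≠ ⊥) (ht3 : T3Hyp M)
    (hsig : SigmaHyp M K) :
    (∀ k ∈ K, k ≠ 1 → sigmaCore M ⊓ Subgroup.centralizer ({k} : Set G) = (sigmaCore M ⊓ Subgroup.centralizer (K : Set G))) ∧
      (∃ U : Subgroup G, IsMulCommutative U ∧ IsPiHallOf {q | q.Prime ∧ q ∉ kappa M ∧ q ∉ sigma M} U M ∧
        K ≤ Subgroup.normalizer (U : Set G) ∧ ∀ k ∈ K, k ≠ 1 → U ⊓ Subgroup.centralizer ({k} : Set G) = ⊥) ∧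
      ∀ X : Subgroup G, X ≤ K → (Nat.card X).Prime →
        M ⊓ Subgroup.normalizer (X : Set G) = K ⊔ (sigmaCore M ⊓ Subgroup.centralizer (K : Set G)) ∧ M ⊓ Subgroup.normalizer (K : Set G) = K ⊔ (sigmaCore M ⊓ Subgroup.centralizer (K : Set G)) ∧
        ∀ Mstar : Subgroup G, IsCoatom Mstar → Subgroup.normalizer (X : Set G) ≤ Mstar → X ≤ sigmaCore Mstar := by
  have hKσ : ∀ p : ℕ, p.Prime → p ∣ Nat.card K → p ∉ sigma M :=
    fun p hp hpK => (hK.2.1 p hp hpK).2.2.1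
  obtain ⟨E, hE, hKE⟩ := Cfsg.Agent.Lib.helper60.BGCentU.exists_compl_ge hG M hM K hK.1 hKσ
  obtain ⟨hκ, hnorm, hprime⟩ := ht3 E hE
  have hEK : E ≤ K := by
    rw [← Subgroup.relIndex_eq_one]
    by_contra hne
    obtain ⟨p, hp, hpd⟩ := Nat.exists_prime_and_dvd hne
    have hpE : p ∣ Nat.card E := by
      have := Cfsg.Agent.Lib.helper13.relIndex_mul_card_of_le hKE
      rw [← this]
      exact Dvd.dvd.mul_right hpd _
    apply hK.2.2 p hp (hκ p hp hpE)
    rw [← Subgroup.relIndex_mul_relIndex K E M hKE hE.1]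
    exact Dvd.dvd.mul_right hpd _
  obtain rfl : E = K := le_antisymm hEK hKE
  have hbot : IsMulCommutative (⊥ : Subgroup G) := by
    refine ⟨⟨fun a b => ?_⟩⟩
    have ha := Subgroup.mem_bot.mp a.2
    have hb := Subgroup.mem_bot.mp b.2
    apply Subtype.ext
    simp [ha, hb]
  refine core hG M hM E E ⊥ hE le_rfl bot_le ?_ (bot_inf_eq _) ?_ hK hK1 hprime ?_ hnorm hbot hsig
  · intro e _
    apply Cfsg.Agent.Lib.helper13.mem_normalizer_of_forall_conj_mem
    intro x hx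
    rw [Subgroup.mem_bot] at hx ⊢
    rw [hx]
    group
  · intro e he
    exact ⟨1, Subgroup.one_mem _, e, he, (one_mul e).symm⟩
  · intro k _ _
    exact bot_inf_eq _

/-! ### The normal complement of `K` in `E` when `κ(M) ⊆ τ₁(M)` -/

theorem exists_normal_compl [Finite G] (E K : Subgroup G) (hKE : K ≤ E)
    (hKc : K ⊓ ⁅E, E⁆ = ⊥)
    (hcop : ∀ p : ℕ, p.Prime → p ∣ Nat.card K → ¬ p ∣ K.relIndex E) :
    ∃ U : Subgroup G, U ≤ E ∧ E ≤ Subgroup.normalizer (U : Set G) ∧ U ⊓ K = ⊥ ∧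
      ∀ e ∈ E, ∃ u ∈ U, ∃ k ∈ K, e = u * k := by
  classical
  set f : ↥E →* Abelianization ↥E := Abelianization.of with hf
  have hfs : Function.Surjective f := QuotientGroup.mk_surjective
  set KE : Subgroup ↥E := K.subgroupOf E with hKEdef
  have hcard : Nat.Coprime (Nat.card (KE.map f)) (KE.map f).index := by
    apply Nat.coprime_of_dvd
    intro p hp hp1 hp2
    have h1 : p ∣ Nat.card K := by
      have h3 : Nat.card (KE.map f) ∣ Nat.card KE := Subgroup.card_map_dvd KE f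
      have h4 : Nat.card KE = Nat.card K :=
        Nat.card_congr (Subgroup.subgroupOfEquivOfLe hKE).toEquiv
      rw [h4] at h3
      exact dvd_trans hp1 h3
    have h2 : p ∣ K.relIndex E := dvd_trans hp2 (Subgroup.index_map_dvd KE hfs)
    exact hcop p hp h1 h2
  obtain ⟨Hb, hHb⟩ := Subgroup.exists_right_complement'_of_coprime hcard
  have hnormal : (Hb.comap f).Normal := inferInstance
  refine ⟨(Hb.comap f).map E.subtype, Subgroup.map_subtype_le _, ?_, ?_, ?_⟩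
  · intro e he
    apply Cfsg.Agent.Lib.helper13.mem_normalizer_of_forall_conj_mem
    rintro x ⟨x', hx', rfl⟩
    refine ⟨⟨e, he⟩ * x' * ⟨e, he⟩⁻¹, hnormal.conj_mem x' hx' ⟨e, he⟩, rfl⟩
  · rw [eq_bot_iff]
    rintro x ⟨⟨x', hx', rfl⟩, hxK⟩
    have h1 : f x' ∈ Hb := hx'
    have h2 : f x' ∈ KE.map f := ⟨x', hxK, rfl⟩
    have h3 : f x' = 1 := by
      have := hHb.disjoint.le_bot (Subgroup.mem_inf.mpr ⟨h2, h1⟩)
      exact Subgroup.mem_bot.mp this
    have h4 : x' ∈ commutator ↥E := by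
      rw [← Abelianization.ker_of]
      exact h3
    have h5 : (x' : G) ∈ ⁅E, E⁆ := by
      have h6 : (commutator ↥E).map E.subtype = ⁅E, E⁆ := by
        rw [commutator_def, Subgroup.map_commutator, ← MonoidHom.range_eq_map,
          Subgroup.range_subtype]
      rw [← h6]
      exact ⟨x', h4, rfl⟩
    have h7 : (x' : G) ∈ K ⊓ ⁅E, E⁆ := Subgroup.mem_inf.mpr ⟨hxK, h5⟩
    rw [hKc] at h7
    exact h7
  · intro e he
    obtain ⟨⟨⟨kb, hkb⟩, ⟨hb, hhb⟩⟩, hprod⟩ := hHb.2 (f ⟨e, he⟩)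
    obtain ⟨k', hk', rfl⟩ := hkb
    have hprod' : f k' * hb = f ⟨e, he⟩ := hprod
    have h1 : ⟨e, he⟩ * k'⁻¹ ∈ Hb.comap f := by
      rw [Subgroup.mem_comap, map_mul, map_inv, ← hprod', mul_comm (f k') hb, mul_inv_cancel_right]
      exact hhb
    refine ⟨e * (k' : G)⁻¹, ⟨⟨e, he⟩ * k'⁻¹, h1, rfl⟩, (k' : G), hk', ?_⟩
    group

/-! ### Elementary lemmas on powers and centralizers -/

theorem K_inf_comm [Finite G] (M K E : Subgroup G) (hEM : E ≤ M)
    (hK : ∀ p : ℕ, p.Prime → p ∣ Nat.card K → p ∈ tau1 M) : K ⊓ ⁅E, E⁆ = ⊥ := by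
  by_contra hne
  have hcard : Nat.card ↥(K ⊓ ⁅E, E⁆) ≠ 1 := fun h => hne (Subgroup.card_eq_one.mp h)
  obtain ⟨p, hp, hpd⟩ := Nat.exists_prime_and_dvd hcard
  have h1 : p ∣ Nat.card K := dvd_trans hpd (Subgroup.card_dvd_of_le inf_le_left)
  have h2 : p ∣ Nat.card ↥⁅M, M⁆ :=
    dvd_trans hpd (Subgroup.card_dvd_of_le (inf_le_right.trans (Subgroup.commutator_mono hEM hEM)))
  exact (hK p hp h1).2.2.2.1 h2

theorem exists_prime_pow [Finite G] (k : G) (hk : k ≠ 1) : ∃ n : ℕ, (orderOf (k ^ n)).Prime := by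
  have h1 : orderOf k ≠ 1 := fun h => hk (orderOf_eq_one_iff.mp h)
  obtain ⟨p, hp, hpd⟩ := Nat.exists_prime_and_dvd h1
  refine ⟨orderOf k / p, ?_⟩
  rw [orderOf_pow_orderOf_div (orderOf_pos k).ne' hpd]
  exact hp

theorem cent_zpowers (x : G) :
    Subgroup.centralizer ((Subgroup.zpowers x : Subgroup G) : Set G) =
      Subgroup.centralizer ({x} : Set G) := by
  ext c
  constructor
  · intro h
    exact mem_cent_singleton.mpr ((Subgroup.mem_centralizer_iff.mp h) x (Subgroup.mem_zpowers x))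
  · intro h
    rw [Subgroup.mem_centralizer_iff]
    intro y hy
    obtain ⟨n, rfl⟩ := Subgroup.mem_zpowers_iff.mp hy
    have hc : Commute x c := mem_cent_singleton.mp h
    exact (hc.zpow_left n).eq

/-- An element commuting with all the elements of prime power order of a subgroup commutes with
the subgroup. -/
theorem comm_of_ppow [Finite G] (c : G) (S : Subgroup G)
    (h : ∀ k ∈ S, ∀ p a : ℕ, p.Prime → orderOf k = p ^ a → k * c = c * k) :
    ∀ k ∈ S, k * c = c * k := by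
  have key : ∀ n : ℕ, ∀ k ∈ S, orderOf k = n → k * c = c * k := by
    intro n
    induction n using Nat.strong_induction_on with
    | _ n ih =>
      intro k hk hn
      by_cases h1 : n = 1
      · have : k = 1 := orderOf_eq_one_iff.mp (hn.trans h1)
        rw [this, one_mul, mul_one]
      have hn0 : n ≠ 0 := by
        rw [← hn]
        exact (orderOf_pos k).ne'
      obtain ⟨p, hp, hpd⟩ := Nat.exists_prime_and_dvd h1
      obtain ⟨a, m, hpm, hnm⟩ := Nat.exists_eq_pow_mul_and_not_dvd hn0 p hp.ne_one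
      have hm0 : m ≠ 0 := by
        rintro rfl
        exact hn0 (by rw [hnm, mul_zero])
      have ha0 : a ≠ 0 := by
        rintro rfl
        rw [pow_zero, one_mul] at hnm
        exact hpm (hnm ▸ hpd)
      have hpa : 1 < p ^ a := Nat.one_lt_pow ha0 hp.one_lt
      have hcop : Nat.Coprime (p ^ a) m :=
        Nat.Coprime.pow_left a ((Nat.Prime.coprime_iff_not_dvd hp).mpr hpm)
      -- the two parts
      have ho1 : orderOf (k ^ m) = p ^ a := by
        rw [orderOf_pow, hn, hnm, Nat.gcd_mul_left_left, Nat.mul_div_cancel _ (Nat.pos_of_ne_zero hm0)]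
      have ho2 : orderOf (k ^ p ^ a) = m := by
        rw [orderOf_pow, hn, hnm, Nat.gcd_mul_right_left,
          Nat.mul_div_cancel_left _ (Nat.pos_of_ne_zero hpa.ne_bot)]
      have hc1 : Commute (k ^ m) c := h (k ^ m) (S.pow_mem hk m) p a hp ho1
      have hc2 : Commute (k ^ p ^ a) c := by
        apply ih m ?_ (k ^ p ^ a) (S.pow_mem hk _) ho2
        rw [hnm]
        exact lt_mul_of_one_lt_left (Nat.pos_of_ne_zero hm0) hpa
      have hbez : ((p ^ a : ℕ) : ℤ) * Nat.gcdA (p ^ a) m + (m : ℤ) * Nat.gcdB (p ^ a) m = 1 := by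
        rw [← Nat.gcd_eq_gcd_ab, hcop.gcd_eq_one]
        rfl
      have hk' : k = (k ^ p ^ a) ^ Nat.gcdA (p ^ a) m * (k ^ m) ^ Nat.gcdB (p ^ a) m := by
        rw [← zpow_natCast k (p ^ a), ← zpow_natCast k m, ← zpow_mul, ← zpow_mul, ← zpow_add,
          hbez, zpow_one]
      have : Commute k c := by
        rw [hk']
        exact (hc2.zpow_left _).mul_left (hc1.zpow_left _)
      exact this.eq
  intro k hk
  exact key (orderOf k) k hk rfl

/-! ### The prime action of `K` when `κ(M) ⊆ τ₁(M)` -/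

theorem prime_dvd_card_of_mem [Finite G] {K : Subgroup G} {x : G} (hx : x ∈ K) :
    orderOf x ∣ Nat.card K := by
  have h := orderOf_dvd_natCard (⟨x, hx⟩ : K)
  rwa [Subgroup.orderOf_mk] at h

/-- Claim A: two commuting elements of prime order of `K`. -/
theorem cent_le_of_prime [Finite G] (h28 : H28 G) (M : Subgroup G) (hM : IsCoatom M)
    (E K : Subgroup G) (hE : IsComplIn E (sigmaCore M) M) (hKE : K ≤ E)
    (hKτ : ∀ p : ℕ, p.Prime → p ∣ Nat.card K → p ∈ tau1 M)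
    (hKab : ∀ a ∈ K, ∀ b ∈ K, a * b = b * a)
    (x y : G) (hx : x ∈ K) (hy : y ∈ K) (hxp : (orderOf x).Prime) (hyp : (orderOf y).Prime) :
    sigmaCore M ⊓ Subgroup.centralizer ({x} : Set G) ≤
      sigmaCore M ⊓ Subgroup.centralizer ({y} : Set G) := by
  have hτ : orderOf x ∈ tau1 M := hKτ _ hxp (prime_dvd_card_of_mem hx)
  have hyc : Subgroup.zpowers y ≤ E ⊓ Subgroup.centralizer ((Subgroup.zpowers x : Subgroup G) : Set G) := by
    rw [Subgroup.zpowers_le]
    refine Subgroup.mem_inf.mpr ⟨hKE hy, ?_⟩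
    rw [cent_zpowers]
    exact mem_cent_singleton.mpr (hKab x hx y hy)
  have h := h28 M hM E hE (orderOf x) hτ (Subgroup.zpowers x) (Subgroup.zpowers_le.mpr (hKE hx))
    (Nat.card_zpowers x) (Subgroup.zpowers y) hyc (by rw [Nat.card_zpowers]; exact hyp)
  rwa [cent_zpowers, cent_zpowers] at h

/-- Claim C: a nontrivial power of an element of prime power order of `E`, the prime being of
rank one in `M`. -/
theorem cent_pelem [Finite G] (hG : IsMinSimpleOddOrder G) (M : Subgroup G) (hM : IsCoatom M)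
    (E : Subgroup G) (hE : IsComplIn E (sigmaCore M) M) (p : ℕ) [Fact p.Prime]
    (hp1 : PRankLE p 1 M) (k : G) (hkE : k ∈ E) (a : ℕ) (hka : orderOf k = p ^ a) (n : ℕ)
    (hn : k ^ n ≠ 1) :
    sigmaCore M ⊓ Subgroup.centralizer ({k ^ n} : Set G) =
      sigmaCore M ⊓ Subgroup.centralizer ({k} : Set G) := by
  obtain ⟨hodd, -, -, -⟩ := id hG
  have hk1 : k ≠ 1 := by
    rintro rfl
    exact hn (one_pow n)
  have hpg : IsPGroup p (Subgroup.zpowers (⟨k, hkE⟩ : E)) := by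
    apply IsPGroup.of_card (n := a)
    rw [Nat.card_zpowers, Subgroup.orderOf_mk, hka]
  obtain ⟨S, hS⟩ := hpg.exists_le_sylow
  have hkS : (⟨k, hkE⟩ : E) ∈ (S : Subgroup E) := hS (Subgroup.mem_zpowers _)
  have hSc : IsCyclic (S : Subgroup E) :=
    Cfsg.Agent.Lib.helper8.bg_sylow_cyclic_of_prank_one hodd hE.1 p hp1 S
  have hS1 : (S : Subgroup E) ≠ ⊥ := by
    intro h
    rw [h, Subgroup.mem_bot] at hkS
    exact hk1 (congrArg Subtype.val hkS)
  have res := Cfsg.Agent.S1427.result hG M hM E hE p S hS1 hSc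
  have h1 := res k ⟨⟨k, hkE⟩, hkS, rfl⟩ hk1
  have h2 := res (k ^ n) ⟨⟨k, hkE⟩ ^ n, Subgroup.pow_mem _ hkS n, rfl⟩ hn
  rw [h1, h2]

theorem semiprime_K [Finite G] (hG : IsMinSimpleOddOrder G) (h28 : H28 G) (M : Subgroup G)
    (hM : IsCoatom M) (E K : Subgroup G) (hE : IsComplIn E (sigmaCore M) M) (hKE : K ≤ E)
    (hKτ : ∀ p : ℕ, p.Prime → p ∣ Nat.card K → p ∈ tau1 M)
    (hKab : ∀ a ∈ K, ∀ b ∈ K, a * b = b * a) :
    ∀ k ∈ K, k ≠ 1 → sigmaCore M ⊓ Subgroup.centralizer ({k} : Set G) =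
      sigmaCore M ⊓ Subgroup.centralizer (K : Set G) := by
  intro k hk hk1
  apply le_antisymm
  · intro c hc
    obtain ⟨hcS, hcC⟩ := Subgroup.mem_inf.mp hc
    obtain ⟨n, hn⟩ := exists_prime_pow k hk1
    have hkc : Commute k c := mem_cent_singleton.mp hcC
    have hx : c ∈ sigmaCore M ⊓ Subgroup.centralizer ({k ^ n} : Set G) :=
      Subgroup.mem_inf.mpr ⟨hcS, mem_cent_singleton.mpr (hkc.pow_left n).eq⟩
    refine Subgroup.mem_inf.mpr ⟨hcS, ?_⟩
    rw [Subgroup.mem_centralizer_iff]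
    apply comm_of_ppow c K
    intro k' hk' p a hp hka
    by_cases ha : a = 0
    · have : k' = 1 := by
        rw [← orderOf_eq_one_iff, hka, ha, pow_zero]
      rw [this, one_mul, mul_one]
    have : Fact p.Prime := ⟨hp⟩
    have hpK : p ∣ Nat.card K := by
      have h1 : p ∣ orderOf k' := by
        rw [hka]
        exact dvd_pow_self p ha
      exact dvd_trans h1 (prime_dvd_card_of_mem hk')
    have hp1 : PRankLE p 1 M := (hKτ p hp hpK).2.2.2.2
    have ho : orderOf (k' ^ p ^ (a - 1)) = p := by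
      rw [orderOf_pow, hka, Nat.gcd_eq_right (pow_dvd_pow p (Nat.sub_le a 1)),
        Nat.pow_div (Nat.sub_le a 1) hp.pos, Nat.sub_sub_self (Nat.one_le_iff_ne_zero.mpr ha),
        pow_one]
    have hne : k' ^ p ^ (a - 1) ≠ 1 := by
      intro h
      rw [h, orderOf_one] at ho
      exact hp.one_lt.ne ho
    have h1 := cent_le_of_prime h28 M hM E K hE hKE hKτ hKab (k ^ n) (k' ^ p ^ (a - 1))
      (K.pow_mem hk n) (K.pow_mem hk' _) hn (by rw [ho]; exact hp) hx
    rw [cent_pelem hG M hM E hE p hp1 k' (hKE hk') a hka (p ^ (a - 1)) hne] at h1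
    exact mem_cent_singleton.mp (Subgroup.mem_inf.mp h1).2
  · exact inf_le_inf_left _ (Subgroup.centralizer_le (Set.singleton_subset_iff.mpr hk))

theorem reg_K [Finite G] (M : Subgroup G) (E K U : Subgroup G)
    (hE : IsComplIn E (sigmaCore M) M) (hKE : K ≤ E) (hUE : U ≤ E) (hreg : RegHyp M K)
    (hUκ : ∀ p : ℕ, p.Prime → p ∣ Nat.card U → p ∉ kappa M) :
    ∀ k ∈ K, k ≠ 1 → U ⊓ Subgroup.centralizer ({k} : Set G) = ⊥ := by
  intro k hk hk1
  rw [eq_bot_iff]
  intro u hu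
  obtain ⟨huU, huC⟩ := Subgroup.mem_inf.mp hu
  rw [Subgroup.mem_bot]
  by_contra hu1
  obtain ⟨n, hn⟩ := exists_prime_pow k hk1
  obtain ⟨m, hm⟩ := exists_prime_pow u hu1
  have hku : Commute k u := mem_cent_singleton.mp huC
  have hnotκ : orderOf (u ^ m) ∉ kappa M :=
    hUκ _ hm (prime_dvd_card_of_mem (U.pow_mem huU m))
  exact hreg E hE hKE (k ^ n) (K.pow_mem hk n) (u ^ m) (hUE (U.pow_mem huU m)) hn hm hnotκ
    ((hku.pow_left n).pow_right m).eq

theorem bot_comm : IsMulCommutative (⊥ : Subgroup G) := by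
  refine ⟨⟨fun a b => ?_⟩⟩
  have ha := Subgroup.mem_bot.mp a.2
  have hb := Subgroup.mem_bot.mp b.2
  apply Subtype.ext
  simp [ha, hb]

theorem U_comm [Finite G] (hG : IsMinSimpleOddOrder G) (M : Subgroup G) (hM : IsCoatom M)
    (E K U : Subgroup G) (hE : IsComplIn E (sigmaCore M) M) (hUE : U ≤ E)
    (hKn : K ≤ Subgroup.normalizer (U : Set G)) (hK1 : K ≠ ⊥)
    (hreg : ∀ k ∈ K, k ≠ 1 → U ⊓ Subgroup.centralizer ({k} : Set G) = ⊥)
    (hUσ : ∀ p : ℕ, p.Prime → p ∣ Nat.card U → p ∉ sigma M) :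
    IsMulCommutative U := by
  by_cases hU : U = ⊥
  · subst hU
    exact bot_comm
  obtain ⟨k0, hk01⟩ := (Subgroup.ne_bot_iff_exists_ne_one).mp hK1
  have hk0ne : (k0 : G) ≠ 1 := fun h => hk01 (Subtype.ext h)
  obtain ⟨n, hn⟩ := exists_prime_pow (k0 : G) hk0ne
  set x : G := (k0 : G) ^ n with hxdef
  have hxK : x ∈ K := K.pow_mem k0.2 n
  have hx1 : x ≠ 1 := by
    intro h
    rw [h, orderOf_one] at hn
    exact Nat.not_prime_one hn
  set φ : MulAut ↥U := Cfsg.Agent.Lib.helper8.bgConjAut U x (hKn hxK) with hφ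
  have hfix : ∀ g : ↥U, φ g = g → g = 1 := by
    intro g hg
    have h1 : x * (g : G) * x⁻¹ = g := by
      rw [← Cfsg.Agent.Lib.helper8.bgConjAut_apply U x (hKn hxK) g, ← hφ, hg]
    have h2 : (g : G) ∈ U ⊓ Subgroup.centralizer ({x} : Set G) := by
      refine Subgroup.mem_inf.mpr ⟨g.2, mem_cent_singleton.mpr ?_⟩
      calc x * (g : G) = x * g * x⁻¹ * x := by group
        _ = g * x := by rw [h1]
    rw [hreg x hxK hx1, Subgroup.mem_bot] at h2
    exact Subtype.ext h2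
  have hpow : φ ^ orderOf x = 1 := by
    ext g
    rw [Cfsg.Agent.Lib.helper8.bgConjAut_pow U x (hKn hxK) (orderOf x) g, pow_orderOf_eq_one]
    simp
  have hord : orderOf φ = orderOf x := by
    have h1 : orderOf φ ∣ orderOf x := orderOf_dvd_of_pow_eq_one hpow
    rcases (Nat.dvd_prime hn).mp h1 with h | h
    · exfalso
      have hφ1 : φ = 1 := orderOf_eq_one_iff.mp h
      obtain ⟨u0, hu01⟩ := (Subgroup.ne_bot_iff_exists_ne_one).mp hU
      exact hu01 (hfix u0 (by rw [hφ1]; rfl))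
    · exact h
  have hnil : Group.IsNilpotent ↥U :=
    Cfsg.Agent.S0033.result φ hfix (orderOf x) hn hord
  exact (Cfsg.Agent.S1420.result hG M hM E hE).1 U (hUE.trans hE.1) hnil hUσ

/-! ### The case `κ(M) ⊆ τ₁(M)` -/

theorem of_t1 [Finite G] (hG : IsMinSimpleOddOrder G) (M : Subgroup G) (hM : IsCoatom M)
    (K : Subgroup G) (hK : IsPiHallOf (kappa M) K M) (hK1 : K ≠ ⊥)
    (hT1 : ∀ p ∈ kappa M, p ∈ tau1 M) (h28 : H28 G) (hreg : RegHyp M K)
    (hsig : SigmaHyp M K) :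
    (∀ k ∈ K, k ≠ 1 → sigmaCore M ⊓ Subgroup.centralizer ({k} : Set G) = (sigmaCore M ⊓ Subgroup.centralizer (K : Set G))) ∧
      (∃ U : Subgroup G, IsMulCommutative U ∧ IsPiHallOf {q | q.Prime ∧ q ∉ kappa M ∧ q ∉ sigma M} U M ∧
        K ≤ Subgroup.normalizer (U : Set G) ∧ ∀ k ∈ K, k ≠ 1 → U ⊓ Subgroup.centralizer ({k} : Set G) = ⊥) ∧
      ∀ X : Subgroup G, X ≤ K → (Nat.card X).Prime →
        M ⊓ Subgroup.normalizer (X : Set G) = K ⊔ (sigmaCore M ⊓ Subgroup.centralizer (K : Set G)) ∧ M ⊓ Subgroup.normalizer (K : Set G) = K ⊔ (sigmaCore M ⊓ Subgroup.centralizer (K : Set G)) ∧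
        ∀ Mstar : Subgroup G, IsCoatom Mstar → Subgroup.normalizer (X : Set G) ≤ Mstar → X ≤ sigmaCore Mstar := by
  have hKκ : ∀ p : ℕ, p.Prime → p ∣ Nat.card K → p ∈ kappa M := hK.2.1
  have hKτ : ∀ p : ℕ, p.Prime → p ∣ Nat.card K → p ∈ tau1 M :=
    fun p hp hpK => hT1 p (hKκ p hp hpK)
  have hKσ : ∀ p : ℕ, p.Prime → p ∣ Nat.card K → p ∉ sigma M :=
    fun p hp hpK => (hKκ p hp hpK).2.2.1
  obtain ⟨E, hE, hKE⟩ := Cfsg.Agent.Lib.helper60.BGCentU.exists_compl_ge hG M hM K hK.1 hKσ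
  have hKc : K ⊓ ⁅E, E⁆ = ⊥ := K_inf_comm M K E hE.1 hKτ
  have hKab : ∀ a ∈ K, ∀ b ∈ K, a * b = b * a := by
    intro a ha b hb
    have h1 : a * b * a⁻¹ * b⁻¹ ∈ K ⊓ ⁅E, E⁆ := by
      refine Subgroup.mem_inf.mpr ⟨K.mul_mem (K.mul_mem (K.mul_mem ha hb) (K.inv_mem ha))
        (K.inv_mem hb), ?_⟩
      have := Subgroup.commutator_mem_commutator (hKE ha) (hKE hb)
      rwa [commutatorElement_def] at this
    rw [hKc, Subgroup.mem_bot] at h1
    have h2 := congrArg (· * b * a) h1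
    simpa [mul_assoc] using h2
  have hcop : ∀ p : ℕ, p.Prime → p ∣ Nat.card K → ¬ p ∣ K.relIndex E := by
    intro p hp hpK hpd
    apply hK.2.2 p hp (hKκ p hp hpK)
    rw [← Subgroup.relIndex_mul_relIndex K E M hKE hE.1]
    exact Dvd.dvd.mul_right hpd _
  obtain ⟨U, hUE, hUn, hUK, hfac⟩ := exists_normal_compl E K hKE hKc hcop
  have hHall := hall_U hG M hM K E U hE ⟨hUE, hKE, hUK, hfac⟩ hK
  have hsemi := semiprime_K hG h28 M hM E K hE hKE hKτ hKab
  have hreg' := reg_K M E K U hE hKE hUE hreg (fun p hp hpU => (hHall.2.1 p hp hpU).2.1)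
  have hUab := U_comm hG M hM E K U hE hUE (hKE.trans hUn) hK1 hreg'
    (fun p hp hpU => (hHall.2.1 p hp hpU).2.2)
  have hKn : ∀ X : Subgroup G, X ≤ K → (Nat.card X).Prime →
      K ≤ Subgroup.normalizer (X : Set G) := by
    intro X hXK _ k hk
    apply Cfsg.Agent.Lib.helper13.mem_normalizer_of_forall_conj_mem
    intro x hx
    rw [hKab k hk x (hXK hx), mul_inv_cancel_right]
    exact hx
  exact core hG M hM K E U hE hKE hUE hUn hUK hfac hK hK1 hsemi hreg' hKn hUab hsig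

/-- **S1430** modulo S1428 and the three hypotheses. -/
theorem bg1430_of_hyps [Finite G] (hG : IsMinSimpleOddOrder G) (M : Subgroup G)
    (hM : IsCoatom M) (K : Subgroup G) (hK : IsPiHallOf (kappa M) K M) (hK1 : K ≠ ⊥)
    (h28 : H28 G) (hreg : (∀ p ∈ kappa M, p ∈ tau1 M) → RegHyp M K)
    (ht3 : (∃ p ∈ kappa M, p ∉ tau1 M) → T3Hyp M) (hsig : SigmaHyp M K) :
    (∀ k ∈ K, k ≠ 1 → sigmaCore M ⊓ Subgroup.centralizer ({k} : Set G) = (sigmaCore M ⊓ Subgroup.centralizer (K : Set G))) ∧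
      (∃ U : Subgroup G, IsMulCommutative U ∧ IsPiHallOf {q | q.Prime ∧ q ∉ kappa M ∧ q ∉ sigma M} U M ∧
        K ≤ Subgroup.normalizer (U : Set G) ∧ ∀ k ∈ K, k ≠ 1 → U ⊓ Subgroup.centralizer ({k} : Set G) = ⊥) ∧
      ∀ X : Subgroup G, X ≤ K → (Nat.card X).Prime →
        M ⊓ Subgroup.normalizer (X : Set G) = K ⊔ (sigmaCore M ⊓ Subgroup.centralizer (K : Set G)) ∧ M ⊓ Subgroup.normalizer (K : Set G) = K ⊔ (sigmaCore M ⊓ Subgroup.centralizer (K : Set G)) ∧
        ∀ Mstar : Subgroup G, IsCoatom Mstar → Subgroup.normalizer (X : Set G) ≤ Mstar → X ≤ sigmaCore Mstar := by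
  by_cases h : ∀ p ∈ kappa M, p ∈ tau1 M
  · exact of_t1 hG M hM K hK hK1 h h28 (hreg h) hsig
  · push Not at h
    exact of_t3 hG M hM K hK hK1 (ht3 h) hsig

/-! ### `κ(M) ⊆ τ₁(M) ∪ τ₃(M)` -/

theorem prankLE_one_of_kappa [Finite G] (M : Subgroup G) {p : ℕ} (hp : p ∈ kappa M) :
    PRankLE p 1 M := by
  obtain ⟨hpp, -, -, hcyc⟩ := hp
  have : Fact p.Prime := ⟨hpp⟩
  intro A _ hA
  have hApg : IsPGroup p A := by
    intro g
    refine ⟨1, ?_⟩
    rw [pow_one]
    apply Subtype.ext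
    simpa using hA g g.2
  obtain ⟨P, hAP⟩ := hApg.exists_le_sylow
  have hPc : IsCyclic (P : Subgroup M) := (hcyc P).1
  have hAc : IsCyclic A :=
    (Subgroup.subgroupOfEquivOfLe hAP).isCyclic.mp inferInstance
  obtain ⟨g, hg⟩ := hAc.exists_generator
  have h1 : Nat.card A = orderOf g := (orderOf_eq_card_of_forall_mem_zpowers hg).symm
  have h2 : orderOf g ∣ p := by
    apply orderOf_dvd_of_pow_eq_one
    apply Subtype.ext
    simpa using hA g g.2
  rw [h1, pow_one]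
  exact Nat.le_of_dvd hpp.pos h2

theorem mem_tau3_of_kappa [Finite G] (M : Subgroup G) {p : ℕ} (hp : p ∈ kappa M)
    (h1 : p ∉ tau1 M) : p ∈ tau3 M := by
  have hr := prankLE_one_of_kappa M hp
  obtain ⟨hpp, hpM, hpσ, -⟩ := hp
  refine ⟨hpp, hpσ, ?_, hr⟩
  by_contra hd
  exact h1 ⟨hpp, hpσ, hpM, hd, hr⟩

/-- **S1430** modulo S1428 and the three hypotheses, with the `τ₃` form of the case split. -/
theorem bg1430_of_hyps' [Finite G] (hG : IsMinSimpleOddOrder G) (M : Subgroup G)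
    (hM : IsCoatom M) (K : Subgroup G) (hK : IsPiHallOf (kappa M) K M) (hK1 : K ≠ ⊥)
    (h28 : H28 G) (hreg : (∀ p ∈ kappa M, p ∈ tau1 M) → RegHyp M K)
    (ht3 : (∃ p ∈ kappa M, p ∈ tau3 M) → T3Hyp M) (hsig : SigmaHyp M K) :
    (∀ k ∈ K, k ≠ 1 → sigmaCore M ⊓ Subgroup.centralizer ({k} : Set G) = (sigmaCore M ⊓ Subgroup.centralizer (K : Set G))) ∧
      (∃ U : Subgroup G, IsMulCommutative U ∧ IsPiHallOf {q | q.Prime ∧ q ∉ kappa M ∧ q ∉ sigma M} U M ∧
        K ≤ Subgroup.normalizer (U : Set G) ∧ ∀ k ∈ K, k ≠ 1 → U ⊓ Subgroup.centralizer ({k} : Set G) = ⊥) ∧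
      ∀ X : Subgroup G, X ≤ K → (Nat.card X).Prime →
        M ⊓ Subgroup.normalizer (X : Set G) = K ⊔ (sigmaCore M ⊓ Subgroup.centralizer (K : Set G)) ∧ M ⊓ Subgroup.normalizer (K : Set G) = K ⊔ (sigmaCore M ⊓ Subgroup.centralizer (K : Set G)) ∧
        ∀ Mstar : Subgroup G, IsCoatom Mstar → Subgroup.normalizer (X : Set G) ≤ Mstar → X ≤ sigmaCore Mstar :=
  bg1430_of_hyps hG M hM K hK hK1 h28 hreg
    (fun ⟨p, hp, hp1⟩ => ht3 ⟨p, hp, mem_tau3_of_kappa M hp hp1⟩) hsig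

end Cfsg.Agent.Lib.helper87.BG142
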