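/-
Bender-Glauberman, S1430 (O-a), piece N3 of helper86's split of `NAHyp`
(`tools/S1430_NA_SPEC.md`): in the (NA)-configuration `p` is the only prime of `τ₁(M)`.
If `s ≠ p` were another one, a subgroup `Ps ≤ E` of order `s` commuting with `P` would give two
Frobenius groups `Z P`, `Z Ps` (`Z = [A,P]`) acting on `M_σ` with `C_{M_σ}(Z) = 1`, so
`|M_σ| = |Y| ^ p = |Y| ^ s` with `Y = C_{M_σ}(P) = C_{M_σ}(Ps) ≠ 1` (helper12 `ff_formula`, S1428).
-/
import Mathlib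
import Cfsg.Agent.Lib.helper71.BGRegNA
import Cfsg.Agent.Lib.helper12.FrobFixB
import Cfsg.Agent.Lib.helper1.Coprime
import Cfsg.Agent.Lib.helper97.BGEight1
import Cfsg.Agent.Lib.helper69.BGTwelveB
import Cfsg.Agent.Lib.helper8.BGTwelve
import Cfsg.Agent.Lib.helper71.BGTwelveFour
import Cfsg.Agent.Lib.helper13.BG11a

set_option autoImplicit false
open Cfsg

namespace Cfsg.Agent.Lib.helper87.BGNA

variable {G : Type*} [Group G]

theorem map_conj_eq_of_mem_normalizer {A : Subgroup G} {g : G}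
    (hA : g ∈ Subgroup.normalizer (A : Set G)) : A.map (MulAut.conj g).toMonoidHom = A := by
  rw [Subgroup.mem_normalizer_iff] at hA
  ext x
  constructor
  · rintro ⟨a, ha, rfl⟩
    exact (hA a).1 ha
  · intro hx
    refine ⟨g⁻¹ * x * g, ?_, ?_⟩
    · apply (hA _).2
      have : g * (g⁻¹ * x * g) * g⁻¹ = x := by group
      rw [this]; exact hx
    · show g * (g⁻¹ * x * g) * g⁻¹ = x
      group

theorem map_conj_commutator {A B : Subgroup G} {g : G}
    (hA : g ∈ Subgroup.normalizer (A : Set G)) (hB : g ∈ Subgroup.normalizer (B : Set G)) :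
    (⁅A, B⁆ : Subgroup G).map (MulAut.conj g).toMonoidHom = ⁅A, B⁆ := by
  rw [Subgroup.map_commutator, map_conj_eq_of_mem_normalizer hA, map_conj_eq_of_mem_normalizer hB]

theorem conj_mem_commutator {A B : Subgroup G} {g : G}
    (hA : g ∈ Subgroup.normalizer (A : Set G)) (hB : g ∈ Subgroup.normalizer (B : Set G))
    {z : G} (hz : z ∈ (⁅A, B⁆ : Subgroup G)) : g * z * g⁻¹ ∈ (⁅A, B⁆ : Subgroup G) := by
  have h := map_conj_commutator hA hB
  rw [← h]
  exact ⟨z, hz, rfl⟩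

/-- The Frobenius count: `Z` of prime order normalized by `F` of prime order acting
fixed-point-freely, both in `E`; then `|M_σ| = |C_{M_σ}(F)| ^ |F|` when `C_{M_σ}(Z) = 1`. -/
theorem frob_count [Finite G] (hG : IsMinSimpleOddOrder G) (M : Subgroup G) (hM : IsCoatom M)
    (E : Subgroup G) (hE : IsComplIn E (sigmaCore M) M)
    (hnil : Group.IsNilpotent (sigmaCore M))
    (Z F : Subgroup G) (hZE : Z ≤ E) (hFE : F ≤ E) (hF1 : F ≠ ⊥)
    (hFZ : ∀ e ∈ F, ∀ u ∈ Z, e * u * e⁻¹ ∈ Z)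
    (hfpf : ∀ e ∈ F, e ≠ 1 → ∀ u ∈ Z, e * u = u * e → u = 1)
    (hZσ : sigmaCore M ⊓ Subgroup.centralizer ((Z : Subgroup G) : Set G) = ⊥) :
    Nat.card (sigmaCore M) =
      Nat.card ↥(sigmaCore M ⊓ Subgroup.centralizer (F : Set G)) ^ Nat.card F := by
  have hEM : E ≤ M := hE.1
  have hsup : Z ⊔ F ≤ E := sup_le hZE hFE
  have hHn : ∀ x ∈ Z ⊔ F, ∀ h ∈ sigmaCore M, x * h * x⁻¹ ∈ sigmaCore M := by
    intro x hx h hh
    have hxM : x ∈ M := hEM (hsup hx)
    have := Cfsg.Agent.Lib.helper13.le_normalizer_sigmaCore M hxM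
    rw [Subgroup.mem_normalizer_iff] at this
    exact (this h).1 hh
  have hsolv : Group.IsSolvable (sigmaCore M) := by
    have := hnil
    infer_instance
  have hcopE : (Nat.card (sigmaCore M)).Coprime (Nat.card E) := by
    apply Nat.coprime_of_dvd
    intro k hk hk1 hk2
    exact Cfsg.Agent.Lib.helper97.bg8_not_sigma hG M hM E hE k hk hk2
      (Cfsg.Agent.Lib.helper71.BG12.mem_sigma_of_dvd_card_sigmaCore M hk hk1)
  have hcop : Nat.Coprime (Nat.card (sigmaCore M)) (Nat.card ↥(Z ⊔ F)) :=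
    Nat.Coprime.coprime_dvd_right (Subgroup.card_dvd_of_le hsup) hcopE
  have key := Cfsg.Agent.Lib.helper12.ff_formula Z F (sigmaCore M) hF1 hFZ hfpf hHn hsolv hcop
  have h1 : sigmaCore M ⊓ Subgroup.centralizer ((Z ⊔ F : Subgroup G) : Set G) = ⊥ := by
    apply le_antisymm _ bot_le
    rw [← hZσ]
    exact inf_le_inf_left _ (Subgroup.centralizer_le (by exact_mod_cast (le_sup_left : Z ≤ Z ⊔ F)))
  rw [h1, hZσ] at key
  simpa using key

theorem mem_normalizer_map_subtype_of_normal {E : Subgroup G} (K' : Subgroup ↥E) [K'.Normal]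
    {g : G} (hg : g ∈ E) : g ∈ Subgroup.normalizer ((K'.map E.subtype : Subgroup G) : Set G) := by
  have key : ∀ g ∈ E, ∀ k ∈ K'.map E.subtype, g * k * g⁻¹ ∈ K'.map E.subtype := by
    rintro g hg _ ⟨k', hk', rfl⟩
    refine ⟨(⟨g, hg⟩ : ↥E) * k' * (⟨g, hg⟩ : ↥E)⁻¹, ?_, rfl⟩
    exact ‹K'.Normal›.conj_mem k' hk' _
  rw [Subgroup.mem_normalizer_iff]
  intro k
  constructor
  · exact key g hg k
  · intro hk
    have := key g⁻¹ (E.inv_mem hg) _ hk
    have h2 : g⁻¹ * (g * k * g⁻¹) * g⁻¹⁻¹ = k := by group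
    rwa [h2] at this

/-- An element of order `s ∈ τ₁(M)` of `E` commuting with `P` (`|P| = p ∈ τ₁(M)`, `s ≠ p`). -/
theorem exists_comm_of_tau1 [Finite G] (hG : IsMinSimpleOddOrder G) (M : Subgroup G)
    (hM : IsCoatom M) (E : Subgroup G) (hE : IsComplIn E (sigmaCore M) M)
    (p : ℕ) (hp : p ∈ tau1 M) (P : Subgroup G) (hPE : P ≤ E) (hP : Nat.card P = p)
    (s : ℕ) (hs : s ∈ tau1 M) (hsp : s ≠ p) :
    ∃ y : G, y ∈ E ∧ orderOf y = s ∧ ∀ g ∈ P, g * y = y * g := by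
  have hpp : p.Prime := hp.1
  have hsp' : s.Prime := hs.1
  have : Fact p.Prime := ⟨hpp⟩
  have : Fact s.Prime := ⟨hsp'⟩
  have hEM : E ≤ M := hE.1
  have hEE : ⁅E, E⁆ ≤ ⁅M, M⁆ := Subgroup.commutator_mono hEM hEM
  -- an element of order `s` in `E`
  obtain ⟨y0, hy0⟩ := exists_prime_orderOf_dvd_card' (G := ↥M) s hs.2.2.1
  have hy0G : orderOf (y0 : G) = s := by rw [Subgroup.orderOf_coe]; exact hy0
  have hsS : ¬ s ∣ Nat.card (sigmaCore M) := fun h =>
    hs.2.1 (Cfsg.Agent.Lib.helper71.BG12.mem_sigma_of_dvd_card_sigmaCore M hsp' h)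
  have hB : IsPGroup s (Subgroup.zpowers (y0 : G)) := by
    apply IsPGroup.of_card (n := 1)
    rw [Nat.card_zpowers, hy0G, pow_one]
  obtain ⟨g, hgM, hg⟩ := Cfsg.Agent.Lib.helper69.bg1210_exists_conj_le_compl hE hsS
    (B := Subgroup.zpowers (y0 : G)) (by rw [Subgroup.zpowers_le]; exact y0.2) hB
  set y : G := g * (y0 : G) * g⁻¹ with hydef
  have hyE : y ∈ E := hg _ (Subgroup.mem_zpowers _)
  have hyo : orderOf y = s := by
    have := orderOf_injective (MulAut.conj g).toMonoidHom (MulAut.conj g).injective (y0 : G)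
    rw [← hy0G, ← this]
    rfl
  -- the normal subgroup `K = E' ⟨y⟩` of `E`
  let φ : ↥E →* Abelianization ↥E := Abelianization.of
  let y' : ↥E := ⟨y, hyE⟩
  let K' : Subgroup ↥E := Subgroup.comap φ (Subgroup.zpowers (φ y'))
  have : K'.Normal := Subgroup.Normal.comap (by infer_instance) φ
  let K : Subgroup G := K'.map E.subtype
  have hKE : K ≤ E := by
    rintro _ ⟨k, -, rfl⟩
    exact k.2
  have hyK : y ∈ K := ⟨y', Subgroup.mem_comap.mpr (Subgroup.mem_zpowers _), rfl⟩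
  have hy's : y' ^ s = 1 := by
    apply Subtype.ext
    show y ^ s = 1
    rw [← hyo]; exact pow_orderOf_eq_one y
  -- elements of `K'` have `s`-th power in the commutator subgroup
  have hK's : ∀ k ∈ K', (φ k) ^ s = 1 := by
    intro k hk
    obtain ⟨n, hn⟩ := Subgroup.mem_zpowers_iff.mp (Subgroup.mem_comap.mp hk)
    rw [← hn, ← zpow_natCast, ← zpow_mul, mul_comm, zpow_mul, zpow_natCast, ← map_pow, hy's,
      map_one, one_zpow]
  have hpK : ¬ p ∣ Nat.card K := by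
    intro hdvd
    have hcard : Nat.card K = Nat.card K' :=
      Nat.card_congr (Subgroup.equivMapOfInjective K' E.subtype E.subtype_injective).symm.toEquiv
    rw [hcard] at hdvd
    obtain ⟨k, hk⟩ := exists_prime_orderOf_dvd_card' (G := ↥K') p hdvd
    have hkE : orderOf (k : ↥E) = p := by rw [Subgroup.orderOf_coe]; exact hk
    have h1 : (φ (k : ↥E)) ^ s = 1 := hK's _ k.2
    have h2 : (φ (k : ↥E)) ^ p = 1 := by
      rw [← map_pow, ← hkE, pow_orderOf_eq_one, map_one]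
    have h3 : φ (k : ↥E) = 1 := by
      have hd1 := orderOf_dvd_of_pow_eq_one h1
      have hd2 := orderOf_dvd_of_pow_eq_one h2
      have : orderOf (φ (k : ↥E)) = 1 :=
        Nat.eq_one_of_dvd_coprimes ((Nat.coprime_primes hsp' hpp).mpr hsp) hd1 hd2
      exact orderOf_eq_one_iff.mp this
    have h4 : (k : ↥E) ∈ commutator ↥E := by
      rw [← Abelianization.ker_of]
      exact h3
    have h5 : ((k : ↥E) : G) ∈ ⁅E, E⁆ := by
      rw [← Subgroup.map_subtype_commutator]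
      exact ⟨_, h4, rfl⟩
    have h6 : orderOf ((k : ↥E) : G) = p := by rw [Subgroup.orderOf_coe]; exact hkE
    have h7 : p ∣ Nat.card ↥⁅M, M⁆ := by
      have := orderOf_dvd_natCard (⟨((k : ↥E) : G), hEE h5⟩ : ↥⁅M, M⁆)
      rwa [Subgroup.orderOf_mk, h6] at this
    exact hp.2.2.2.1 h7
  have hPK : P ≤ Subgroup.normalizer (K : Set G) := fun g hg =>
    mem_normalizer_map_subtype_of_normal K' (hPE hg)
  have hcop : (Nat.card P).Coprime (Nat.card K) := by
    rw [hP]; exact (Nat.Prime.coprime_iff_not_dvd hpp).mpr hpK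
  obtain ⟨Q, -, hPQ⟩ := Cfsg.Agent.Lib.helper1.exists_invariant_sylow_ge (p := s) P K hPK hcop
    (Or.inr (Cfsg.Agent.Lib.helper97.bg8_solvable hG M hM K (hKE.trans hEM))) ⊥ bot_le
    (IsPGroup.of_bot) (by
      intro g _
      rw [Subgroup.mem_normalizer_iff]
      intro h
      simp [Subgroup.mem_bot])
  -- an element of order `s` in `Q`
  have hsK : s ∣ Nat.card K := by
    have := orderOf_dvd_natCard (⟨y, hyK⟩ : ↥K)
    rwa [Subgroup.orderOf_mk, hyo] at this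
  have hQ1 : (Q : Subgroup ↥K) ≠ ⊥ := Sylow.ne_bot_of_dvd_card Q hsK
  have hsQ : s ∣ Nat.card ↥(Q : Subgroup ↥K) := by
    rcases Q.isPGroup'.card_eq_or_dvd with h | h
    · exact absurd ((Subgroup.card_eq_one).mp h) hQ1
    · exact h
  obtain ⟨y2, hy2⟩ := exists_prime_orderOf_dvd_card' (G := ↥(Q : Subgroup ↥K)) s hsQ
  have hy2G : orderOf (((y2 : ↥K) : G)) = s := by
    rw [Subgroup.orderOf_coe, Subgroup.orderOf_coe]; exact hy2
  have hy2Q : ((y2 : ↥K) : G) ∈ (Q : Subgroup ↥K).map K.subtype := ⟨_, y2.2, rfl⟩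
  have hQK : (Q : Subgroup ↥K).map K.subtype ≤ K := by
    rintro _ ⟨k, -, rfl⟩
    exact k.2
  have hQs : IsPGroup s ↥((Q : Subgroup ↥K).map K.subtype) := Q.isPGroup'.map K.subtype
  refine ⟨((y2 : ↥K) : G), hKE (hQK hy2Q), hy2G, ?_⟩
  intro g hg
  set q : G := ((y2 : ↥K) : G) with hq
  have hgN := hPQ hg
  rw [Subgroup.mem_normalizer_iff] at hgN
  have hc1 : g * q * g⁻¹ * q⁻¹ ∈ (Q : Subgroup ↥K).map K.subtype :=
    Subgroup.mul_mem _ ((hgN q).1 hy2Q) (Subgroup.inv_mem _ hy2Q)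
  have hc2 : g * q * g⁻¹ * q⁻¹ ∈ ⁅M, M⁆ := by
    have := Subgroup.commutator_mem_commutator (hEM (hPE hg)) (hEM (hKE (hQK hy2Q)))
    rwa [commutatorElement_def] at this
  have hc : g * q * g⁻¹ * q⁻¹ = 1 := by
    obtain ⟨k, hk⟩ := hQs ⟨_, hc1⟩
    have hk' : (g * q * g⁻¹ * q⁻¹) ^ s ^ k = 1 := by
      have := congrArg Subtype.val hk
      simpa using this
    have hd1 : orderOf (g * q * g⁻¹ * q⁻¹) ∣ s ^ k := orderOf_dvd_of_pow_eq_one hk'
    have hd2 : orderOf (g * q * g⁻¹ * q⁻¹) ∣ Nat.card ↥⁅M, M⁆ := by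
      have := orderOf_dvd_natCard (⟨_, hc2⟩ : ↥⁅M, M⁆)
      rwa [Subgroup.orderOf_mk] at this
    have hcop2 : (s ^ k).Coprime (Nat.card ↥⁅M, M⁆) :=
      Nat.Coprime.pow_left k ((Nat.Prime.coprime_iff_not_dvd hsp').mpr hs.2.2.2.1)
    exact orderOf_eq_one_iff.mp (Nat.eq_one_of_dvd_coprimes hcop2 hd1 hd2)
  calc g * q = (g * q * g⁻¹ * q⁻¹) * q * g := by group
    _ = q * g := by rw [hc, one_mul]

/-- PIECE N3 (Frobenius counting: `p` is the only prime of `τ₁(M)`). -/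
theorem na_tau1 [Finite G] (hG : IsMinSimpleOddOrder G) (M : Subgroup G) (hM : IsCoatom M)
    (E : Subgroup G) (hE : IsComplIn E (sigmaCore M) M) (r : ℕ) [Fact r.Prime] (hr : r ∈ tau2 M)
    (hS : ∀ S : Sylow r G, ¬ IsMulCommutative (S : Subgroup G))
    (A : Subgroup G) (hAE : A ≤ E) (hAe : IsElementaryAbelian r A) (hA2 : Nat.card A = r ^ 2)
    (p : ℕ) (hp : p ∈ tau1 M) (P : Subgroup G) (hPE : P ≤ E) (hP : Nat.card P = p)
    (hY : sigmaCore M ⊓ Subgroup.centralizer (P : Set G) ≠ ⊥)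
    (hZA : ⁅A, P⁆ ≤ A) (hZ : Nat.card ↥⁅A, P⁆ = r)
    (hZP : ⁅A, P⁆ ⊓ Subgroup.centralizer (P : Set G) = ⊥)
    (hZσ : sigmaCore M ⊓ Subgroup.centralizer ((⁅A, P⁆ : Subgroup G) : Set G) = ⊥) :
    ∀ s ∈ tau1 M, s = p := by
  intro s hs
  by_contra hsp
  have hpp : p.Prime := hp.1
  have hsp' : s.Prime := hs.1
  have : Fact p.Prime := ⟨hpp⟩
  have : Fact s.Prime := ⟨hsp'⟩
  have hrp : r.Prime := Fact.out
  have hEM : E ≤ M := hE.1
  obtain ⟨hnil, -⟩ := Cfsg.Agent.S1417.result hG M hM r hr A ⟨hAE.trans hEM, hAe, hA2⟩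
  have hEA : E ≤ Subgroup.normalizer (A : Set G) :=
    (Cfsg.Agent.S1418.result hG M hM E hE r hr A ⟨hAE, hAe, hA2⟩).1.1
  obtain ⟨y, hyE, hyo, hyP⟩ := exists_comm_of_tau1 hG M hM E hE p hp P hPE hP s hs hsp
  set Ps : Subgroup G := Subgroup.zpowers y with hPsdef
  have hPs : Nat.card Ps = s := by rw [hPsdef, Nat.card_zpowers, hyo]
  have hPsE : Ps ≤ E := by rw [hPsdef, Subgroup.zpowers_le]; exact hyE
  have hPsCP : Ps ≤ Subgroup.centralizer (P : Set G) := by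
    rw [hPsdef, Subgroup.zpowers_le, Subgroup.mem_centralizer_iff]
    intro g hg
    exact hyP g hg
  have hPCPs : P ≤ Subgroup.centralizer (Ps : Set G) := by
    intro g hg
    rw [hPsdef, Cfsg.Agent.Lib.helper71.BGRegNA.mem_cent_zpowers]
    exact (hyP g hg).symm
  have h1 := Cfsg.Agent.S1428.result hG M hM E hE p hp P hPE hP Ps (le_inf hPsE hPsCP)
    (by rw [hPs]; exact hsp')
  have h2 := Cfsg.Agent.S1428.result hG M hM E hE s hs Ps hPsE hPs P (le_inf hPE hPCPs)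
    (by rw [hP]; exact hpp)
  have hYeq : sigmaCore M ⊓ Subgroup.centralizer (Ps : Set G) =
      sigmaCore M ⊓ Subgroup.centralizer (P : Set G) := le_antisymm h2 h1
  have hZE : (⁅A, P⁆ : Subgroup G) ≤ E := hZA.trans hAE
  -- `P` and `Ps` normalize `Z`
  have hPZ : ∀ e ∈ P, ∀ u ∈ (⁅A, P⁆ : Subgroup G), e * u * e⁻¹ ∈ (⁅A, P⁆ : Subgroup G) :=
    fun e he u hu => conj_mem_commutator (hEA (hPE he)) (Subgroup.le_normalizer he) hu
  have hPsZ : ∀ e ∈ Ps, ∀ u ∈ (⁅A, P⁆ : Subgroup G), e * u * e⁻¹ ∈ (⁅A, P⁆ : Subgroup G) :=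
    fun e he u hu => conj_mem_commutator (hEA (hPsE he))
      (Subgroup.centralizer_le_normalizer (P : Set G) (hPsCP he)) hu
  -- fixed-point-freeness
  have hfpfP : ∀ e ∈ P, e ≠ 1 → ∀ u ∈ (⁅A, P⁆ : Subgroup G), e * u = u * e → u = 1 := by
    intro e he he1 u hu hcomm
    have hPe := Cfsg.Agent.Lib.helper26.p0_eq_zpowers p P hP e he he1
    have hcu : u ∈ Subgroup.centralizer ((P : Subgroup G) : Set G) := by
      rw [← hPe, Cfsg.Agent.Lib.helper71.BGRegNA.mem_cent_zpowers]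
      exact hcomm
    have : u ∈ (⁅A, P⁆ : Subgroup G) ⊓ Subgroup.centralizer (P : Set G) :=
      Subgroup.mem_inf.mpr ⟨hu, hcu⟩
    rw [hZP] at this
    exact Subgroup.mem_bot.mp this
  have hnc : ¬ (⁅A, P⁆ : Subgroup G) ≤ Subgroup.centralizer (Ps : Set G) := by
    intro hle
    have h3 := Cfsg.Agent.S1428.result hG M hM E hE s hs Ps hPsE hPs ⁅A, P⁆ (le_inf hZE hle)
      (by rw [hZ]; exact hrp)
    rw [hZσ, hYeq] at h3
    exact hY (le_antisymm h3 bot_le)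
  have hfpfPs : ∀ e ∈ Ps, e ≠ 1 → ∀ u ∈ (⁅A, P⁆ : Subgroup G), e * u = u * e → u = 1 := by
    intro e he he1 u hu hcomm
    by_contra hu1
    have hPe := Cfsg.Agent.Lib.helper26.p0_eq_zpowers s Ps hPs e he he1
    have hZu := Cfsg.Agent.Lib.helper26.p0_eq_zpowers r ⁅A, P⁆ hZ u hu hu1
    apply hnc
    intro z hz
    rw [← hPe, Cfsg.Agent.Lib.helper71.BGRegNA.mem_cent_zpowers]
    rw [← hZu] at hz
    obtain ⟨n, rfl⟩ := Subgroup.mem_zpowers_iff.mp hz
    exact ((Commute.zpow_right (show Commute e u from hcomm) n)).eq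
  have hP1 : P ≠ ⊥ := by
    intro h
    rw [h, Subgroup.card_bot] at hP
    exact hpp.one_lt.ne hP
  have hPs1 : Ps ≠ ⊥ := by
    intro h
    rw [h, Subgroup.card_bot] at hPs
    exact hsp'.one_lt.ne hPs
  have c1 := frob_count hG M hM E hE hnil ⁅A, P⁆ P hZE hPE hP1 hPZ hfpfP hZσ
  have c2 := frob_count hG M hM E hE hnil ⁅A, P⁆ Ps hZE hPsE hPs1 hPsZ hfpfPs hZσ
  rw [hP] at c1
  rw [hPs, hYeq] at c2
  have hY2 : 2 ≤ Nat.card ↥(sigmaCore M ⊓ Subgroup.centralizer (P : Set G)) := by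
    have h0 : Nat.card ↥(sigmaCore M ⊓ Subgroup.centralizer (P : Set G)) ≠ 0 :=
      Nat.card_pos.ne'
    have h1' : Nat.card ↥(sigmaCore M ⊓ Subgroup.centralizer (P : Set G)) ≠ 1 := fun h =>
      hY ((Subgroup.card_eq_one).mp h)
    omega
  have := Nat.pow_right_injective hY2 (c1.symm.trans c2)
  exact hsp this.symm

end Cfsg.Agent.Lib.helper87.BGNA
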