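import Mathlib
import Cfsg.Prelude.Def_OddOrderLocal
import Cfsg.Agent.Lib.helper13.BG11b
import Cfsg.Agent.Lib.helper13.SylowIn
import Cfsg.Agent.Lib.helper25.BGTenNineC
import Cfsg.Agent.Lib.helper8.BGTwelve
import Cfsg.Agent.Lib.helper86.BG1424
import Cfsg.Agent.Lib.helper1.Hall
import Cfsg.Agent.S1350

/-!
# Bender–Glauberman 13.3 (statement S1425): MAIN step

`σ(M)`-subgroups of a minimal simple group of odd order are conjugate into `M_σ`.  The proof is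
written against the statements S1424 (B-G 13.2 (a)-(c)) and S1417 (B-G 12.5) and the two lemmas
`hall_factor_conj` (L1) and `bg_sigma_conj_of_sigma` (L3) of helper3's plan, all four taken as
hypotheses (`H24`, `H17`, `HL1`, `HL3`).
-/

set_option autoImplicit false

namespace Cfsg.Agent.Lib.helper87.BG133

open Cfsg

/-- the statement S1424 (for a fixed group), as a hypothesis -/
def H24 (G : Type*) [Group G] : Prop :=
  ∀ (M : Subgroup G), IsCoatom M → ∀ (q : ℕ) [Fact q.Prime], q ∈ Cfsg.sigma M → ∀ (X : Subgroup G),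
    IsPGroup q X → X ≠ ⊥ → X ≤ M → ∀ (Mstar : Subgroup G), IsCoatom Mstar → Mstar ≠ M →
    Subgroup.normalizer (X : Set G) ≤ Mstar → ∀ (S : Sylow q ↥(M ⊓ Mstar)),
    X ≤ (S : Subgroup ↥(M ⊓ Mstar)).map (M ⊓ Mstar).subtype →
    (∀ g : G, Mstar ≠ M.map (MulAut.conj g).toMonoidHom) ∧
      Subgroup.normalizer (((S : Subgroup ↥(M ⊓ Mstar)).map (M ⊓ Mstar).subtype : Subgroup G) : Set G) ≤ M ∧
      ¬ q ∣ ((S : Subgroup ↥(M ⊓ Mstar)).map (M ⊓ Mstar).subtype).relIndex Mstar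

/-- the statement S1417 (for a fixed group), as a hypothesis -/
def H17 (G : Type*) [Group G] : Prop :=
  ∀ (M : Subgroup G), IsCoatom M → ∀ (p : ℕ) [Fact p.Prime], p ∈ Cfsg.tau2 M → ∀ (A : Subgroup G),
    (A ≤ M ∧ Cfsg.IsElementaryAbelian p A ∧ Nat.card A = p ^ 2) →
    Group.IsNilpotent (Cfsg.sigmaCore M) ∧
      (∀ P : Sylow p M, IsMulCommutative (P : Subgroup M) ∧
        (A ≤ (P : Subgroup M).map M.subtype →
          (∀ x ∈ (P : Subgroup M).map M.subtype, x ^ p = 1 ↔ x ∈ A) ∧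
          ¬ Subgroup.normalizer ((((P : Subgroup M).map M.subtype : Subgroup G)) : Set G) ≤ M)) ∧
      M ≤ Subgroup.normalizer ((Cfsg.sigmaCore M ⊔ A : Subgroup G) : Set G) ∧
      Cfsg.sigmaCore M ⊓ Subgroup.centralizer (A : Set G) = ⊥ ∧
      (∀ Mstar : Subgroup G, IsCoatom Mstar → Mstar ≠ M → A ≤ Mstar → Cfsg.sigmaCore M ⊓ Mstar = ⊥) ∧
      ∃ A₁ : Subgroup G, A₁ ≤ A ∧ Nat.card A₁ = p ∧ Cfsg.sigmaCore M ⊓ Subgroup.centralizer (A₁ : Set G) = ⊥

/-- lemma L1 (`hall_factor_conj`) for a fixed group, as a hypothesis -/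
def HL1 (G : Type*) [Group G] : Prop :=
  ∀ (π : Set ℕ) (H B D Y : Subgroup G), Group.IsSolvable H → B ≤ H → D ≤ H →
    H ≤ Subgroup.normalizer (B : Set G) → (∀ p : ℕ, p.Prime → p ∣ Nat.card B → p ∉ π) →
    (∀ h ∈ H, ∃ b ∈ B, ∃ d ∈ D, h = b * d) → Y ≤ H →
    (∀ p : ℕ, p.Prime → p ∣ Nat.card Y → p ∈ π) →
    ∃ h ∈ H, Y.map (MulAut.conj h).toMonoidHom ≤ D

/-- lemma L3 (`bg_sigma_conj_of_sigma`) for a fixed group, as a hypothesis -/
def HL3 (G : Type*) [Group G] : Prop :=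
  ∀ (M H : Subgroup G), IsCoatom M → IsCoatom H → H ≠ M →
    (∀ g : G, H ≠ M.map (MulAut.conj g).toMonoidHom) → ∀ (q : ℕ) [Fact q.Prime],
    q ∈ Cfsg.sigma H → ∀ (S : Subgroup G), S ≤ M → S ≤ H → IsPGroup q S → ¬ q ∣ S.relIndex H →
    Subgroup.normalizer (S : Set G) ≤ M → ∀ (Y : Subgroup G), Y ≤ H →
    (∀ p : ℕ, p.Prime → p ∣ Nat.card Y → p ∈ Cfsg.sigma M) →
    ∃ h ∈ H, Y.map (MulAut.conj h).toMonoidHom ≤ M

variable {G : Type*} [Group G] [Finite G]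

theorem map_conj_one (Y : Subgroup G) : Y.map (MulAut.conj (1 : G)).toMonoidHom = Y := by
  ext y
  rw [Cfsg.Agent.Lib.helper13.sf_mem_map_conj_iff]
  simp

/-- a `σ(M)`-subgroup of `M` lies in `M_σ` -/
theorem le_sigmaCore_of_pi (hG : IsMinSimpleOddOrder G) (M : Subgroup G) (hM : IsCoatom M)
    (Y : Subgroup G) (hYM : Y ≤ M) (hY : ∀ p : ℕ, p.Prime → p ∣ Nat.card Y → p ∈ sigma M) :
    Y ≤ sigmaCore M := by
  intro y hy
  have hmem : (⟨y, hYM hy⟩ : M) ∈ piCore (sigma M) ↥M := by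
    rw [← QuotientGroup.eq_one_iff, ← orderOf_eq_one_iff]
    by_contra hne
    obtain ⟨p, hp, hpd⟩ := Nat.exists_prime_and_dvd hne
    have h1 : p ∣ (piCore (sigma M) ↥M).index := by
      rw [Subgroup.index_eq_card]
      exact hpd.trans (orderOf_dvd_natCard _)
    have h3 : orderOf ((⟨y, hYM hy⟩ : M) : M ⧸ piCore (sigma M) ↥M) ∣ orderOf (⟨y, hYM hy⟩ : M) :=
      orderOf_map_dvd (QuotientGroup.mk' (piCore (sigma M) ↥M)) _
    have h4 : orderOf (⟨y, hYM hy⟩ : M) = orderOf y :=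
      (Subgroup.orderOf_coe (⟨y, hYM hy⟩ : M)).symm
    have h5 : orderOf y ∣ Nat.card Y := Subgroup.orderOf_dvd_natCard Y hy
    have h2 : p ∣ Nat.card Y := (hpd.trans h3).trans (h4 ▸ h5)
    exact Cfsg.Agent.Lib.helper25.BGS.sigma_core_not_dvd_index hG
      (Cfsg.Agent.Lib.helper13.bgx_uniq hG) (Cfsg.Agent.Lib.helper13.bgx_fus hG) M hM
      (hY p hp h2) h1
  exact ⟨⟨y, hYM hy⟩, hmem, rfl⟩

/-- a `q`-subgroup of `H` of index prime to `q` in `H` is (the image of) a Sylow subgroup of `H` -/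
theorem exists_sylow_of_relIndex {q : ℕ} [Fact q.Prime] {S H : Subgroup G} (hSH : S ≤ H)
    (hSq : IsPGroup q S) (hSyl : ¬ q ∣ S.relIndex H) :
    ∃ P : Sylow q H, (P : Subgroup H).map H.subtype = S := by
  have h1 : IsPGroup q (S.subgroupOf H) := hSq.comap_subtype
  have h2 : ¬ q ∣ (S.subgroupOf H).index := hSyl
  refine ⟨h1.toSylow h2, ?_⟩
  rw [IsPGroup.toSylow_coe]
  exact Subgroup.map_subgroupOf_eq_of_le hSH

theorem mem_sigma_of {q : ℕ} [Fact q.Prime] {S H : Subgroup G} (hSH : S ≤ H)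
    (hSq : IsPGroup q S) (hS1 : S ≠ ⊥) (hSyl : ¬ q ∣ S.relIndex H)
    (hN : Subgroup.normalizer (S : Set G) ≤ H) : q ∈ sigma H := by
  obtain ⟨P, hP⟩ := exists_sylow_of_relIndex hSH hSq hSyl
  refine ⟨Fact.out, ?_, P, by rw [hP]; exact hN⟩
  have hnt : Nontrivial S := (Subgroup.nontrivial_iff_ne_bot S).mpr hS1
  obtain ⟨n, hn0, hn⟩ := (hSq.nontrivial_iff_card).mp hnt
  have h1 : q ∣ Nat.card S := by rw [hn]; exact dvd_pow_self q hn0.ne'
  exact h1.trans (Subgroup.card_dvd_of_le hSH)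

theorem not_prankLE_one {q : ℕ} (hq : q.Prime) {A L : Subgroup G} (hAL : A ≤ L)
    (hAel : IsElementaryAbelian q A) (hAc : Nat.card A = q ^ 2) : ¬ PRankLE q 1 L := by
  intro h
  have h1 := Cfsg.Agent.Lib.helper8.bg_elemAb_subgroupOf L hAel
  have h2 := h (A.subgroupOf L) h1.1 h1.2
  have h3 : Nat.card (A.subgroupOf L) = Nat.card A :=
    Nat.card_congr (Subgroup.subgroupOfEquivOfLe hAL).toEquiv
  rw [h3, hAc] at h2
  have : q ^ 1 < q ^ 2 := Nat.pow_lt_pow_right hq.one_lt (by norm_num)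
  omega

theorem mem_tau2_of (hG : IsMinSimpleOddOrder G) (L : Subgroup G) (hL : IsCoatom L) {q : ℕ}
    (hq : q.Prime) (hqL : q ∉ sigma L) {A : Subgroup G} (hAL : A ≤ L)
    (hAel : IsElementaryAbelian q A) (hAc : Nat.card A = q ^ 2) : q ∈ tau2 L := by
  refine ⟨hq, hqL, ?_, not_prankLE_one hq hAL hAel hAc⟩
  by_contra h
  exact hqL (Cfsg.Agent.Lib.helper8.bg_alpha_sub_sigma hG (Cfsg.Agent.Lib.helper13.bgx_uniq hG)
    L hL ⟨hq, h⟩)

theorem normalizer_le_of_omega {q : ℕ} {S A : Subgroup G} (hAS : A ≤ S)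
    (hΩ : ∀ x ∈ S, x ^ q = 1 ↔ x ∈ A) :
    Subgroup.normalizer (S : Set G) ≤ Subgroup.normalizer (A : Set G) := by
  intro g hg
  apply Cfsg.Agent.Lib.helper13.mem_normalizer_of_forall_conj_mem
  intro a ha
  have h1 : g * a * g⁻¹ ∈ S := (Subgroup.mem_normalizer_iff.mp hg a).mp (hAS ha)
  refine (hΩ _ h1).mp ?_
  have h2 : a ^ q = 1 := (hΩ a (hAS ha)).mpr ha
  rw [conj_pow, h2]
  simp

/-- Frattini argument: `H = H_σ · N_H(A)` when `H` normalizes `H_σ A` and `A` is a `q`-group,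
`q ∉ σ(H)`. -/
theorem frattini_sigma (H : Subgroup G) {q : ℕ} [Fact q.Prime] (hqH : q ∉ sigma H)
    (A : Subgroup G) (hAH : A ≤ H) (hAq : IsPGroup q A)
    (hnorm : H ≤ Subgroup.normalizer ((sigmaCore H ⊔ A : Subgroup G) : Set G)) :
    ∀ h ∈ H, ∃ b ∈ sigmaCore H, ∃ d ∈ H ⊓ Subgroup.normalizer (A : Set G), h = b * d := by
  intro h hh
  have hqp : q.Prime := Fact.out
  have hσH : sigmaCore H ≤ H := Subgroup.map_subtype_le _
  have hcop : (Nat.card (piCore (sigma H) ↥H)).Coprime q := by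
    have h1 := Cfsg.Agent.Lib.helper8.bg_sigmaCore_card_coprime H hqp hqH
    have h2 : Nat.card (sigmaCore H) = Nat.card (piCore (sigma H) ↥H) :=
      Subgroup.card_map_of_injective H.subtype_injective
    rwa [h2] at h1
  have hJ : IsPGroup q (A.subgroupOf H) := hAq.comap_subtype
  have hsub : (sigmaCore H).subgroupOf H = piCore (sigma H) ↥H :=
    Subgroup.comap_map_eq_self_of_injective H.subtype_injective _
  have hg : ∀ x ∈ A.subgroupOf H, (⟨h, hh⟩ : H) * x * (⟨h, hh⟩ : H)⁻¹ ∈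
      A.subgroupOf H ⊔ piCore (sigma H) ↥H := by
    intro x hx
    rw [← hsub, ← Subgroup.subgroupOf_sup hAH hσH, Subgroup.mem_subgroupOf]
    have hxA : (x : G) ∈ sigmaCore H ⊔ A :=
      (le_sup_right : A ≤ sigmaCore H ⊔ A) (Subgroup.mem_subgroupOf.mp hx)
    have h1 := (Subgroup.mem_normalizer_iff.mp (hnorm hh) (x : G)).mp hxA
    rw [sup_comm]
    simpa using h1
  obtain ⟨y, hy, b, hb, hyb⟩ := Cfsg.Agent.Lib.helper13.exists_mul_normalizer_of_conj_mem_sup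
    (piCore (sigma H) ↥H) (A.subgroupOf H) hcop hJ ⟨h, hh⟩ hg
  refine ⟨(y : G), ⟨y, hy, rfl⟩, (b : G), Subgroup.mem_inf.mpr ⟨b.2, ?_⟩, ?_⟩
  · have h1 := Cfsg.Agent.Lib.helper13.coe_mem_normalizer_map_subtype (A.subgroupOf H) b hb
    rwa [Subgroup.map_subgroupOf_eq_of_le hAH] at h1
  · have h1 := congrArg Subtype.val hyb
    simpa using h1

/-- if `H_σ` is nilpotent and `H` is not conjugate to `M` then `σ(M) ∩ σ(H) = ∅` -/
theorem sigma_disjoint (hG : IsMinSimpleOddOrder G) (M H : Subgroup G) (hM : IsCoatom M)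
    (hH : IsCoatom H) (hnc : ∀ g : G, H ≠ M.map (MulAut.conj g).toMonoidHom)
    (hnil : Group.IsNilpotent (sigmaCore H)) {r : ℕ} (hrM : r ∈ sigma M) (hrH : r ∈ sigma H) :
    False := by
  have : Fact r.Prime := ⟨hrM.1⟩
  obtain ⟨T, -, hTr, hTi, -, hNT⟩ :=
    Cfsg.Agent.Lib.helper13.exists_normal_sylow_of_nil hG H hH hnil hrH
  obtain ⟨-, -, P, hNP⟩ := id hrM
  have hRr : IsPGroup r ((P : Subgroup M).map M.subtype) := P.2.map _
  have hRi := Cfsg.Agent.Lib.helper13.sigma_sylow_index M hrM P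
  obtain ⟨g, hg⟩ := MulAction.exists_smul_eq G (hRr.toSylow hRi) (hTr.toSylow hTi)
  have hTeq : T = ((P : Subgroup M).map M.subtype).map (MulAut.conj g).toMonoidHom := by
    ext x
    rw [Cfsg.Agent.Lib.helper13.sf_mem_map_conj_iff]
    have h1 : x ∈ ((g • hRr.toSylow hRi : Sylow r G) : Subgroup G) ↔
        g⁻¹ * x * g ∈ ((hRr.toSylow hRi : Sylow r G) : Subgroup G) :=
      Cfsg.Agent.Lib.helper8.bg_mem_smul_sylow _ g x
    rw [hg] at h1
    exact h1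
  have h2 : H ≤ M.map (MulAut.conj g).toMonoidHom := by
    rw [← hNT, hTeq, Cfsg.Agent.Lib.helper13.normalizer_map_conj]
    exact Subgroup.map_mono hNP
  have hco := Cfsg.Agent.Lib.helper13.sf_isCoatom_map_conj hM g
  rcases hH.le_iff.mp h2 with h3 | h3
  · exact hco.1 h3
  · exact hnc g h3.symm

/-- case (2b) of the proof: `q ∉ σ(H)` -/
theorem case2b (hG : IsMinSimpleOddOrder G) (h24 : H24 G) (h17 : H17 G) (hL1 : HL1 G)
    (hL3 : HL3 G) (M H : Subgroup G) (hM : IsCoatom M) (hH : IsCoatom H)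
    (hnc : ∀ g : G, H ≠ M.map (MulAut.conj g).toMonoidHom)
    (q : ℕ) [Fact q.Prime] (hq : q ∈ sigma M) (hqH : q ∉ sigma H)
    (S : Subgroup G) (hSM : S ≤ M) (hSH : S ≤ H) (hSq : IsPGroup q S)
    (hSyl : ¬ q ∣ S.relIndex H)
    (X : Subgroup G) (hXS : X ≤ S) (hX1 : X ≠ ⊥) (hNX : Subgroup.normalizer (X : Set G) ≤ H)
    (Y : Subgroup G) (hYH : Y ≤ H) (hY : ∀ p : ℕ, p.Prime → p ∣ Nat.card Y → p ∈ sigma M) :
    ∃ g : G, Y.map (MulAut.conj g).toMonoidHom ≤ M := by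
  obtain ⟨hodd, hsimple, hna, hsolv⟩ := id hG
  have hqp : q.Prime := Fact.out
  have hS1 : S ≠ ⊥ := fun h => hX1 (le_bot_iff.mp (h ▸ hXS))
  have hncyc : ¬ IsCyclic S := by
    intro hcyc
    have h1 := Cfsg.Agent.Lib.helper86.BG1424.normalizer_le_of_le_cyclic hcyc hXS
    exact hqH (mem_sigma_of hSH hSq hS1 hSyl (h1.trans hNX))
  obtain ⟨A, hAS, hAel, hAc⟩ :=
    Cfsg.Agent.Lib.helper13.exists_elemAb_sq_of_not_cyclic hodd S hSq hncyc
  have hAH : A ≤ H := hAS.trans hSH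
  have hAM : A ≤ M := hAS.trans hSM
  have hAq : IsPGroup q A := hSq.to_le hAS
  have hA1 : A ≠ ⊥ := by
    intro h
    rw [h, Subgroup.card_bot] at hAc
    exact (Nat.one_lt_pow two_ne_zero hqp.one_lt).ne hAc
  have hτ : q ∈ tau2 H := mem_tau2_of hG H hH hqp hqH hAH hAel hAc
  obtain ⟨hnil, -, hnorm, -, -, -⟩ := h17 H hH q hτ A ⟨hAH, hAel, hAc⟩
  have hfac := frattini_sigma H hqH A hAH hAq hnorm
  have hHsolv : Group.IsSolvable H := hsolv H hH.1
  have hBπ : ∀ p : ℕ, p.Prime → p ∣ Nat.card (sigmaCore H) → p ∉ sigma M := by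
    intro p hp hpd hpM
    exact sigma_disjoint hG M H hM hH hnc hnil hpM
      ((Cfsg.Agent.S1350.result hG H hH).1.2.1 p hp hpd)
  obtain ⟨h, hhH, hYh⟩ := hL1 (sigma M) H (sigmaCore H) (H ⊓ Subgroup.normalizer (A : Set G)) Y
    hHsolv (Subgroup.map_subtype_le _) inf_le_left
    (Cfsg.Agent.Lib.helper13.le_normalizer_sigmaCore H) hBπ hfac hYH hY
  have hY₁N : Y.map (MulAut.conj h).toMonoidHom ≤ Subgroup.normalizer (A : Set G) :=
    hYh.trans inf_le_right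
  by_cases hNA : Subgroup.normalizer (A : Set G) ≤ M
  · exact ⟨h, hY₁N.trans hNA⟩
  have hNAtop : Subgroup.normalizer (A : Set G) ≠ ⊤ :=
    Cfsg.Agent.Lib.helper25.BGT.normalizer_ne_top_of_isPGroup hG q A hAq hA1
  obtain ⟨L, hL, hNL⟩ :=
    (eq_top_or_exists_le_coatom (Subgroup.normalizer (A : Set G))).resolve_left hNAtop
  have hLM : L ≠ M := fun h' => hNA (h' ▸ hNL)
  have hAL : A ≤ L := Subgroup.le_normalizer.trans hNL
  have hAML : A ≤ M ⊓ L := le_inf hAM hAL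
  obtain ⟨S₂, hS₂⟩ := (hAq.comap_subtype (K := M ⊓ L)).exists_le_sylow
  have hAS₂ : A ≤ (S₂ : Subgroup ↥(M ⊓ L)).map (M ⊓ L).subtype := by
    intro a ha
    exact ⟨⟨a, hAML ha⟩, hS₂ (Subgroup.mem_subgroupOf.mpr ha), rfl⟩
  obtain ⟨hnc₂, hNS₂, hSyl₂⟩ := h24 M hM q hq A hAq hA1 hAM L hL hLM hNL S₂ hAS₂
  have hS₂q : IsPGroup q ((S₂ : Subgroup ↥(M ⊓ L)).map (M ⊓ L).subtype) := S₂.2.map _
  have hS₂ML : (S₂ : Subgroup ↥(M ⊓ L)).map (M ⊓ L).subtype ≤ M ⊓ L :=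
    Subgroup.map_subtype_le _
  have hqL : q ∈ sigma L := by
    by_contra hqL
    have hτ' : q ∈ tau2 L := mem_tau2_of hG L hL hqp hqL hAL hAel hAc
    obtain ⟨-, hP, -, -, -, -⟩ := h17 L hL q hτ' A ⟨hAL, hAel, hAc⟩
    obtain ⟨P, hPeq⟩ := exists_sylow_of_relIndex (hS₂ML.trans inf_le_right) hS₂q hSyl₂
    have h2 := (hP P).2 (by rw [hPeq]; exact hAS₂)
    rw [hPeq] at h2
    exact h2.2 ((normalizer_le_of_omega hAS₂ h2.1).trans hNL)
  obtain ⟨l, hlL, hYl⟩ := hL3 M L hM hL hLM hnc₂ q hqL _ (hS₂ML.trans inf_le_left)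
    (hS₂ML.trans inf_le_right) hS₂q hSyl₂ hNS₂ (Y.map (MulAut.conj h).toMonoidHom)
    (hY₁N.trans hNL) (by
      intro p hp hpd
      rw [Cfsg.Agent.Lib.helper13.sf_card_map_conj] at hpd
      exact hY p hp hpd)
  refine ⟨l * h, ?_⟩
  rw [← Cfsg.Agent.Lib.helper13.sf_map_conj_mul]
  exact hYl

/-- the core of the proof: `Y` normalizes a nontrivial `q`-subgroup `X ≤ M` -/
theorem core (hG : IsMinSimpleOddOrder G) (h24 : H24 G) (h17 : H17 G) (hL1 : HL1 G)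
    (hL3 : HL3 G) (M : Subgroup G) (hM : IsCoatom M) (q : ℕ) [Fact q.Prime] (hq : q ∈ sigma M)
    (X Y : Subgroup G) (hX1 : X ≠ ⊥) (hXq : IsPGroup q X)
    (hYN : Y ≤ Subgroup.normalizer (X : Set G)) (hXM : X ≤ M)
    (hY : ∀ p : ℕ, p.Prime → p ∣ Nat.card Y → p ∈ sigma M) :
    ∃ g : G, Y.map (MulAut.conj g).toMonoidHom ≤ M := by
  by_cases hN : Subgroup.normalizer (X : Set G) ≤ M
  · exact ⟨1, by rw [map_conj_one]; exact hYN.trans hN⟩
  have hNtop := Cfsg.Agent.Lib.helper25.BGT.normalizer_ne_top_of_isPGroup hG q X hXq hX1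
  obtain ⟨H, hH, hNH⟩ :=
    (eq_top_or_exists_le_coatom (Subgroup.normalizer (X : Set G))).resolve_left hNtop
  have hHM : H ≠ M := fun h' => hN (h' ▸ hNH)
  have hXH : X ≤ H := Subgroup.le_normalizer.trans hNH
  have hXMH : X ≤ M ⊓ H := le_inf hXM hXH
  obtain ⟨S, hS⟩ := (hXq.comap_subtype (K := M ⊓ H)).exists_le_sylow
  have hXS : X ≤ (S : Subgroup ↥(M ⊓ H)).map (M ⊓ H).subtype := by
    intro a ha
    exact ⟨⟨a, hXMH ha⟩, hS (Subgroup.mem_subgroupOf.mpr ha), rfl⟩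
  obtain ⟨hnc, hNS, hSyl⟩ := h24 M hM q hq X hXq hX1 hXM H hH hHM hNH S hXS
  have hSq : IsPGroup q ((S : Subgroup ↥(M ⊓ H)).map (M ⊓ H).subtype) := S.2.map _
  have hSMH : (S : Subgroup ↥(M ⊓ H)).map (M ⊓ H).subtype ≤ M ⊓ H := Subgroup.map_subtype_le _
  by_cases hqH : q ∈ sigma H
  · obtain ⟨h, -, hh⟩ := hL3 M H hM hH hHM hnc q hqH _ (hSMH.trans inf_le_left)
      (hSMH.trans inf_le_right) hSq hSyl hNS Y (hYN.trans hNH) hY
    exact ⟨h, hh⟩
  · exact case2b hG h24 h17 hL1 hL3 M H hM hH hnc q hq hqH _ (hSMH.trans inf_le_left)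
      (hSMH.trans inf_le_right) hSq hSyl X hXS hX1 hNH Y (hYN.trans hNH) hY

/-- **B-G 13.3** (statement S1425), modulo S1424, S1417 and the lemmas L1, L3. -/
theorem main (hG : IsMinSimpleOddOrder G) (h24 : H24 G) (h17 : H17 G) (hL1 : HL1 G)
    (hL3 : HL3 G) (M : Subgroup G) (hM : IsCoatom M) (Y : Subgroup G) (hY1 : Y ≠ ⊥)
    (hY : ∀ p : ℕ, p.Prime → p ∣ Nat.card Y → p ∈ Cfsg.sigma M) :
    ∃ g : G, Y.map (MulAut.conj g).toMonoidHom ≤ Cfsg.sigmaCore M := by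
  obtain ⟨hodd, hsimple, hna, hsolv⟩ := id hG
  have hYtop : Y ≠ ⊤ := by
    intro h
    have hHall := (Cfsg.Agent.S1350.result hG M hM).2.1
    have hidx : (sigmaCore M).index = 1 := by
      by_contra hne
      obtain ⟨p, hp, hpd⟩ := Nat.exists_prime_and_dvd hne
      have h1 : p ∣ Nat.card Y := by
        rw [h, Subgroup.card_top]
        exact hpd.trans (Subgroup.index_dvd_card _)
      exact hHall.2 p hp (hY p hp h1) hpd
    have h2 : sigmaCore M = ⊤ := Subgroup.index_eq_one.mp hidx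
    have h3 : sigmaCore M ≤ M := Subgroup.map_subtype_le _
    exact hM.1 (top_le_iff.mp (h2 ▸ h3))
  have hYsolv : Group.IsSolvable Y := hsolv Y hYtop
  have hYnt : Nontrivial Y := (Subgroup.nontrivial_iff_ne_bot Y).mpr hY1
  obtain ⟨q, X₀, hqp, hX₀n, hX₀1, hX₀q⟩ :=
    Cfsg.Agent.Lib.helper1.exists_normal_pgroup (G := Y)
  have : Fact q.Prime := ⟨hqp⟩
  obtain ⟨X, hXdef⟩ : ∃ X : Subgroup G, X = X₀.map Y.subtype := ⟨_, rfl⟩
  have hXY : X ≤ Y := by rw [hXdef]; exact Subgroup.map_subtype_le _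
  have hXq : IsPGroup q X := by rw [hXdef]; exact hX₀q.map _
  have hX1 : X ≠ ⊥ := by
    rw [hXdef]
    intro h
    rw [Subgroup.map_eq_bot_iff_of_injective _ Y.subtype_injective] at h
    exact hX₀1 h
  have hYN : Y ≤ Subgroup.normalizer (X : Set G) := by
    intro y hy
    rw [hXdef]
    exact Cfsg.Agent.Lib.helper13.coe_mem_normalizer_map_subtype X₀ ⟨y, hy⟩ (by
      rw [Subgroup.normalizer_eq_top_iff.mpr hX₀n]; exact Subgroup.mem_top _)
  have hqσ : q ∈ sigma M := by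
    apply hY q hqp
    have hnt : Nontrivial X := (Subgroup.nontrivial_iff_ne_bot X).mpr hX1
    obtain ⟨n, hn0, hn⟩ := (hXq.nontrivial_iff_card).mp hnt
    have h1 : q ∣ Nat.card X := by rw [hn]; exact dvd_pow_self q hn0.ne'
    exact h1.trans (Subgroup.card_dvd_of_le hXY)
  obtain ⟨-, -, P, -⟩ := id hqσ
  have hRq : IsPGroup q ((P : Subgroup M).map M.subtype) := P.2.map _
  have hRi := Cfsg.Agent.Lib.helper13.sigma_sylow_index M hqσ P
  obtain ⟨Q, hQ⟩ := hXq.exists_le_sylow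
  obtain ⟨g, hg⟩ := MulAction.exists_smul_eq G Q (hRq.toSylow hRi)
  have hXg : X.map (MulAut.conj g).toMonoidHom ≤ M := by
    rintro _ ⟨x, hx, rfl⟩
    have h1 : (MulAut.conj g).toMonoidHom x ∈ ((g • Q : Sylow q G) : Subgroup G) := by
      rw [Cfsg.Agent.Lib.helper8.bg_mem_smul_sylow]
      have h0 : g⁻¹ * (MulAut.conj g).toMonoidHom x * g = x := by
        change g⁻¹ * (g * x * g⁻¹) * g = x
        group
      rw [h0]; exact hQ hx
    rw [hg] at h1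
    have h2 : (MulAut.conj g).toMonoidHom x ∈ (P : Subgroup M).map M.subtype := h1
    exact (Subgroup.map_subtype_le _) h2
  have hYNg : Y.map (MulAut.conj g).toMonoidHom ≤
      Subgroup.normalizer ((X.map (MulAut.conj g).toMonoidHom : Subgroup G) : Set G) := by
    rw [Cfsg.Agent.Lib.helper13.normalizer_map_conj]
    exact Subgroup.map_mono hYN
  have hYg : ∀ p : ℕ, p.Prime → p ∣ Nat.card (Y.map (MulAut.conj g).toMonoidHom) →
      p ∈ sigma M := by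
    intro p hp hpd
    rw [Cfsg.Agent.Lib.helper13.sf_card_map_conj] at hpd
    exact hY p hp hpd
  obtain ⟨k, hk⟩ := core hG h24 h17 hL1 hL3 M hM q hqσ (X.map (MulAut.conj g).toMonoidHom)
    (Y.map (MulAut.conj g).toMonoidHom) (Cfsg.Agent.Lib.helper13.map_conj_ne_bot g hX1)
    (hXq.map _) hYNg hXg hYg
  refine ⟨k * g, ?_⟩
  apply le_sigmaCore_of_pi hG M hM
  · rw [← Cfsg.Agent.Lib.helper13.sf_map_conj_mul]
    exact hk
  · intro p hp hpd
    rw [Cfsg.Agent.Lib.helper13.sf_card_map_conj] at hpd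
    exact hY p hp hpd

end Cfsg.Agent.Lib.helper87.BG133
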