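import Mathlib.GroupTheory.SpecificGroups.Dihedral
import Mathlib.GroupTheory.SpecificGroups.Quaternion
import Mathlib.GroupTheory.PGroup
import Mathlib.Data.Nat.Totient
import Mathlib.FieldTheory.Finite.Basic

set_option autoImplicit false

namespace Cfsg.Agent.Lib.helper87

/-- Odd numbers: `j ^ (2 ^ a) ≡ 1 [MOD 2 ^ b]` for `b ≤ a + 1`... in the form needed: if `j` is coprime to `2 ^ b`
with `b ≤ a`, then `j ^ (2 ^ a) ≡ 1 [MOD 2 ^ b]`. -/
theorem pow_two_pow_modEq_one (j a b : ℕ) (hb : b ≤ a) (hj : Nat.Coprime j (2 ^ b)) :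
    j ^ (2 ^ a) ≡ 1 [MOD 2 ^ b] := by
  rcases Nat.eq_zero_or_pos b with rfl | hbpos
  · simp [Nat.modEq_one]
  · have h1 : j ^ Nat.totient (2 ^ b) ≡ 1 [MOD 2 ^ b] := Nat.ModEq.pow_totient hj
    rw [Nat.totient_prime_pow Nat.prime_two hbpos] at h1
    simp only [Nat.add_one_sub_one, mul_one] at h1
    have h2 : 2 ^ a = 2 ^ (b - 1) * 2 ^ (a - (b - 1)) := by
      rw [← pow_add]
      congr 1
      omega
    rw [h2, pow_mul]
    simpa using h1.pow (2 ^ (a - (b - 1)))

/-- If a group `D` is generated by `c` and `x` in the sense that every element is `c ^ i` or `x * c ^ i`,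
`c` has `2`-power order, `x` is not a power of `c`, and every automorphism sends `c` to a power of `c`,
then `Aut(D)` is a `2`-group. -/
theorem aut_isPGroup_two_of_cyclic_index_two {D : Type*} [Group D] (c x : D) (a : ℕ) (hc : c ^ (2 ^ a) = 1)
    (hgen : ∀ d : D, ∃ i : ℕ, d = c ^ i ∨ d = x * c ^ i)
    (hx : ∀ i : ℕ, x ≠ c ^ i)
    (hα : ∀ α : MulAut D, ∃ i : ℕ, α c = c ^ i) : IsPGroup 2 (MulAut D) := by
  intro α
  obtain ⟨j, hj⟩ := hα α
  have hA : ∀ e : ℕ, (α ^ e) c = c ^ (j ^ e) := by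
    intro e
    induction e with
    | zero => simp
    | succ e ih =>
      rw [pow_succ, MulAut.mul_apply, hj, map_pow, ih, ← pow_mul, pow_succ]
  -- order of c
  have hdvd : orderOf c ∣ 2 ^ a := orderOf_dvd_of_pow_eq_one hc
  obtain ⟨b, hb, hob⟩ := (Nat.dvd_prime_pow Nat.prime_two).mp hdvd
  have hopos : 0 < orderOf c := by rw [hob]; positivity
  have hcop : Nat.Coprime j (orderOf c) := by
    have h1 : orderOf (α c) = orderOf c := MulEquiv.orderOf_eq α c
    rw [hj] at h1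
    have hfin : IsOfFinOrder c := orderOf_pos_iff.mp hopos
    rw [hfin.orderOf_pow] at h1
    have h2 : Nat.gcd (orderOf c) j = 1 := by
      have h3 := Nat.div_mul_cancel (Nat.gcd_dvd_left (orderOf c) j)
      rw [h1] at h3
      have h4 : orderOf c * Nat.gcd (orderOf c) j = orderOf c * 1 := by rw [h3, mul_one]
      exact Nat.eq_of_mul_eq_mul_left hopos h4
    rw [Nat.coprime_comm]
    exact h2
  have hB : (α ^ (2 ^ a)) c = c := by
    rw [hA]
    have h1 : j ^ (2 ^ a) ≡ 1 [MOD orderOf c] := by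
      rw [hob] at hcop ⊢
      exact pow_two_pow_modEq_one j a b hb hcop
    have h2 := pow_eq_pow_iff_modEq.mpr h1
    rw [h2, pow_one]
  -- β = α ^ (2 ^ a)
  have hβpow : ∀ e : ℕ, ((α ^ (2 ^ a)) ^ e) c = c := by
    intro e
    induction e with
    | zero => simp
    | succ e ih => rw [pow_succ, MulAut.mul_apply, hB, ih]
  obtain ⟨t, ht⟩ : ∃ t : ℕ, (α ^ (2 ^ a)) x = x * c ^ t := by
    obtain ⟨i, hi | hi⟩ := hgen ((α ^ (2 ^ a)) x)
    · exfalso
      have h1 : (α ^ (2 ^ a)) (c ^ i) = c ^ i := by rw [map_pow, hB]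
      have h2 : (α ^ (2 ^ a)) x = (α ^ (2 ^ a)) (c ^ i) := by rw [h1, hi]
      exact hx i ((α ^ (2 ^ a)).injective h2)
    · exact ⟨i, hi⟩
  have hD : ∀ e : ℕ, ((α ^ (2 ^ a)) ^ e) x = x * c ^ (e * t) := by
    intro e
    induction e with
    | zero => simp
    | succ e ih =>
      rw [pow_succ, MulAut.mul_apply, ht, map_mul, map_pow, ih, hβpow, mul_assoc, ← pow_add]
      congr 2
      ring
  refine ⟨a + a, ?_⟩
  have hγc := hβpow (2 ^ a)
  have hγx : ((α ^ (2 ^ a)) ^ (2 ^ a)) x = x := by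
    rw [hD, pow_mul, hc, one_pow, mul_one]
  rw [pow_add, pow_mul]
  ext d
  obtain ⟨i, hi | hi⟩ := hgen d
  · rw [hi, map_pow, hγc]; rfl
  · rw [hi, map_mul, map_pow, hγc, hγx]; rfl

theorem aut_dihedral_isPGroup_two (k : ℕ) (hk : 2 ≤ k) : IsPGroup 2 (MulAut (DihedralGroup (2 ^ k))) := by
  have : NeZero (2 ^ k) := ⟨by positivity⟩
  have hpow : ∀ i : ZMod (2 ^ k), (DihedralGroup.r 1 : DihedralGroup (2 ^ k)) ^ i.val = DihedralGroup.r i := by
    intro i
    rw [DihedralGroup.r_one_pow, ZMod.natCast_zmod_val]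
  refine aut_isPGroup_two_of_cyclic_index_two (DihedralGroup.r 1) (DihedralGroup.sr 0) k
    DihedralGroup.r_one_pow_n ?_ ?_ ?_
  · intro d
    cases d with
    | r i => exact ⟨i.val, Or.inl (hpow i).symm⟩
    | sr i =>
      refine ⟨i.val, Or.inr ?_⟩
      rw [hpow, DihedralGroup.sr_mul_r, zero_add]
  · intro i
    rw [DihedralGroup.r_one_pow]
    exact fun h => by cases h
  · intro α
    cases h : α (DihedralGroup.r 1) with
    | r i => exact ⟨i.val, (hpow i).symm⟩
    | sr i =>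
      exfalso
      have h1 : orderOf (α (DihedralGroup.r 1)) = orderOf (DihedralGroup.r 1 : DihedralGroup (2 ^ k)) :=
        MulEquiv.orderOf_eq α _
      rw [h, DihedralGroup.orderOf_sr, DihedralGroup.orderOf_r_one] at h1
      have h2 : 2 ^ 2 ≤ 2 ^ k := Nat.pow_le_pow_right (by norm_num) hk
      omega

theorem aut_quaternion_isPGroup_two (k : ℕ) (hk : 2 ≤ k) : IsPGroup 2 (MulAut (QuaternionGroup (2 ^ k))) := by
  have : NeZero (2 ^ k) := ⟨by positivity⟩
  have : NeZero (2 * 2 ^ k) := ⟨by positivity⟩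
  have hpow : ∀ i : ZMod (2 * 2 ^ k),
      (QuaternionGroup.a 1 : QuaternionGroup (2 ^ k)) ^ i.val = QuaternionGroup.a i := by
    intro i
    rw [QuaternionGroup.a_one_pow, ZMod.natCast_zmod_val]
  refine aut_isPGroup_two_of_cyclic_index_two (QuaternionGroup.a 1) (QuaternionGroup.xa 0) (k + 1)
    ?_ ?_ ?_ ?_
  · have h0 := QuaternionGroup.a_one_pow_n (n := 2 ^ k)
    have e : 2 ^ (k + 1) = 2 * 2 ^ k := by ring
    rw [e]
    exact h0
  · intro d
    cases d with
    | a i => exact ⟨i.val, Or.inl (hpow i).symm⟩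
    | xa i =>
      refine ⟨i.val, Or.inr ?_⟩
      rw [hpow, QuaternionGroup.xa_mul_a, zero_add]
  · intro i
    rw [QuaternionGroup.a_one_pow]
    exact fun h => by cases h
  · intro α
    cases h : α (QuaternionGroup.a 1) with
    | a i => exact ⟨i.val, (hpow i).symm⟩
    | xa i =>
      exfalso
      have h1 : orderOf (α (QuaternionGroup.a 1)) = orderOf (QuaternionGroup.a 1 : QuaternionGroup (2 ^ k)) :=
        MulEquiv.orderOf_eq α _
      rw [h, QuaternionGroup.orderOf_xa, QuaternionGroup.orderOf_a_one] at h1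
      have h2 : 2 ^ 2 ≤ 2 ^ k := Nat.pow_le_pow_right (by norm_num) hk
      omega

end Cfsg.Agent.Lib.helper87
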