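/-
Bender-Glauberman, towards Theorem 14.2 (statement S1430), the case `κ(M) ⊄ τ₁(M)` ("(O-c)").

Setting: `M` a maximal subgroup, `E` a complement of `M_σ`, `r ∈ τ₃(M)`, `R ≤ E` of order `r` with
`C := C_{M_σ}(R) ≠ 1`, and `H` a maximal subgroup containing `N_G(R)`.

This file proves the two "kill" lemmas of the argument (paper proof of helper28):

* `lemma_X` : a subgroup `P ≤ E` of prime order `p ∈ τ₁(M)` centralizes `R`;
* `lemma_Y` : a subgroup `P ≤ E` of prime order `p ∈ τ₁(M)` centralizes `C`;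

from a list `Facts M E R H` of basic facts of the setting (the facts (B0)-(B5), (N1)-(N3) of the
paper proof), which are hypotheses here.
-/
import Mathlib
import Cfsg.Agent.S1350
import Cfsg.Agent.S1415
import Cfsg.Agent.S1427
import Cfsg.Agent.S1428
import Cfsg.Agent.Lib.lead.Hall
import Cfsg.Agent.Lib.helper18.QuatSylow
import Cfsg.Agent.Lib.helper26.BGP0
import Cfsg.Agent.Lib.helper27.Radical
import Cfsg.Agent.Lib.helper54.BGNAN1
import Cfsg.Agent.Lib.helper60.BGCentU
import Cfsg.Agent.Lib.helper87.BG1430Asm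
import Cfsg.Agent.Lib.helper87.BGNAN3

set_option autoImplicit false
open Cfsg

namespace Cfsg.Agent.Lib.helper87.BGOC

open Cfsg.Agent.Lib.helper8 Cfsg.Agent.Lib.helper97
open scoped Pointwise

variable {G : Type*} [Group G]

/-! ### Generic lemmas -/

theorem eq_zpowers_of_prime_card [Finite G] {X : Subgroup G} (hX : (Nat.card X).Prime) {x : G}
    (hx : x ∈ X) (hx1 : x ≠ 1) : Subgroup.zpowers x = X := by
  have : Fact (Nat.card X).Prime := ⟨hX⟩
  exact Cfsg.Agent.Lib.helper26.p0_eq_zpowers (Nat.card X) X rfl x hx hx1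

theorem ne_bot_of_prime_card {X : Subgroup G} (hX : (Nat.card X).Prime) : X ≠ ⊥ := by
  intro h
  rw [h, Subgroup.card_bot] at hX
  exact Nat.not_prime_one hX

theorem exists_ne_one_of_prime_card {X : Subgroup G} (hX : (Nat.card X).Prime) :
    ∃ x ∈ X, x ≠ 1 := by
  obtain ⟨x, hx⟩ := (Subgroup.ne_bot_iff_exists_ne_one).mp (ne_bot_of_prime_card hX)
  exact ⟨x, x.2, fun h => hx (Subtype.ext h)⟩

theorem centralizer_symm {A B : Subgroup G} (h : A ≤ Subgroup.centralizer (B : Set G)) :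
    B ≤ Subgroup.centralizer (A : Set G) := Subgroup.le_centralizer_iff.mp h

theorem le_centralizer_zpowers {x : G} {A : Subgroup G} (h : ∀ a ∈ A, x * a = a * x) :
    Subgroup.zpowers x ≤ Subgroup.centralizer (A : Set G) := by
  rw [Subgroup.zpowers_le, Subgroup.mem_centralizer_iff]
  intro a ha
  exact (h a ha).symm

theorem cent_of_comm_prime [Finite G] {X A : Subgroup G} (hX : (Nat.card X).Prime)
    (hA : (Nat.card A).Prime) {e u : G} (he : e ∈ X) (he1 : e ≠ 1) (hu : u ∈ A) (hu1 : u ≠ 1)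
    (h : e * u = u * e) : X ≤ Subgroup.centralizer (A : Set G) := by
  rw [← eq_zpowers_of_prime_card hX he he1, ← eq_zpowers_of_prime_card hA hu hu1]
  rw [Subgroup.zpowers_le, Subgroup.mem_centralizer_iff]
  intro a ha
  obtain ⟨n, rfl⟩ := Subgroup.mem_zpowers_iff.mp ha
  exact (Commute.zpow_right (show Commute e u from h) n).symm.eq

theorem self_le_centralizer_of_prime_card [Finite G] {X : Subgroup G} (hX : (Nat.card X).Prime) :
    X ≤ Subgroup.centralizer (X : Set G) := by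
  obtain ⟨e, he, he1⟩ := exists_ne_one_of_prime_card hX
  exact cent_of_comm_prime hX hX he he1 he he1 rfl

/-- A subgroup containing a Sylow `q`-subgroup of `E` for every prime `q` contains `E`. -/
theorem le_of_exists_sylow_le [Finite G] (E D : Subgroup G)
    (h : ∀ (q : ℕ) [Fact q.Prime], ∃ Q : Sylow q ↥E, (Q : Subgroup ↥E).map E.subtype ≤ D) :
    E ≤ D := by
  have hD : D.subgroupOf E = ⊤ := by
    apply Subgroup.eq_top_of_card_eq
    apply Nat.dvd_antisymm (Subgroup.card_subgroup_dvd_card _)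
    rw [← Nat.factorization_prime_le_iff_dvd Nat.card_pos.ne' Nat.card_pos.ne']
    intro q hq
    have : Fact q.Prime := ⟨hq⟩
    obtain ⟨Q, hQD⟩ := h q
    have hQ : (Q : Subgroup ↥E) ≤ D.subgroupOf E := by
      intro x hx
      exact Subgroup.mem_subgroupOf.mpr (hQD ⟨x, hx, rfl⟩)
    have h1 : Nat.card (Q : Subgroup ↥E) ∣ Nat.card (D.subgroupOf E) := Subgroup.card_dvd_of_le hQ
    rw [Sylow.card_eq_multiplicity] at h1
    exact (hq.pow_dvd_iff_le_factorization Nat.card_pos.ne').mp h1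
  intro x hx
  have : (⟨x, hx⟩ : ↥E) ∈ D.subgroupOf E := by rw [hD]; trivial
  exact Subgroup.mem_subgroupOf.mp this

/-- A solvable subgroup contained in its own derived subgroup is trivial. -/
theorem eq_bot_of_le_commutator_self {K : Subgroup G} (hs : Group.IsSolvable ↥K)
    (h : K ≤ ⁅K, K⁆) : K = ⊥ := by
  by_contra hK
  have hnt : Nontrivial ↥K := (Subgroup.nontrivial_iff_ne_bot K).mpr hK
  have hlt := Group.IsSolvable.commutator_lt_top_of_nontrivial ↥K
  apply hlt.ne
  rw [eq_top_iff]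
  intro k _
  have hk : (k : G) ∈ (⁅K, K⁆ : Subgroup G) := h k.2
  rw [← Subgroup.map_subtype_commutator] at hk
  obtain ⟨k', hk', e⟩ := hk
  have : k' = k := Subtype.ext e
  rwa [← this]

/-- The `τ₃(M)`-subgroups of a complement `E` lie in `E'`. -/
theorem tau3_le_commutator [Finite G] (hG : IsMinSimpleOddOrder G) (M : Subgroup G)
    (hM : IsCoatom M) (E : Subgroup G) (hE : IsComplIn E (sigmaCore M) M) (X : Subgroup G)
    (hXE : X ≤ E) (hX : ∀ q : ℕ, q.Prime → q ∣ Nat.card X → q ∈ tau3 M) :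
    ∃ E₃ : Subgroup G, IsPiHallOf (tau3 M) E₃ E ∧ X ≤ E₃ ∧ IsCyclic E₃ ∧ E₃ ≤ ⁅E, E⁆ ∧
      E ≤ Subgroup.normalizer (E₃ : Set G) := by
  have hEM : E ≤ M := hE.1
  have hsolv : Group.IsSolvable ↥E := bg8_solvable hG M hM E hEM
  obtain ⟨H₀, hH₀⟩ := Cfsg.Agent.Lib.lead.exists_isPiHall_of_isSolvable (tau3 M) ↥E
  have hE₃ : IsPiHallOf (tau3 M) (H₀.map E.subtype) E := by
    refine ⟨Subgroup.map_subtype_le _, ?_, ?_⟩
    · intro s hs hsd
      rw [Subgroup.card_map_of_injective E.subtype_injective] at hsd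
      exact hH₀.1 s hs hsd
    · intro s hs hs3
      have e1 : (H₀.map E.subtype).subgroupOf E = H₀ :=
        Subgroup.comap_map_eq_self_of_injective E.subtype_injective H₀
      show ¬ s ∣ ((H₀.map E.subtype).subgroupOf E).index
      rw [e1]
      exact hH₀.2 s hs hs3
  obtain ⟨hE₃cyc, hE₃c, hE₃n⟩ := (Cfsg.Agent.S1415.result hG M hM E hE).2.2 _ hE₃
  have hH₀n : ∀ (g h : ↥E), h ∈ H₀ → g * h * g⁻¹ ∈ H₀ := by
    intro g h hh
    have h2 : (g : G) * (h : G) * (g : G)⁻¹ ∈ H₀.map E.subtype :=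
      (Subgroup.mem_normalizer_iff.mp (hE₃n g.2) (h : G)).mp ⟨h, hh, rfl⟩
    obtain ⟨h', hh', e⟩ := h2
    have : h' = g * h * g⁻¹ := Subtype.ext e
    rwa [← this]
  have hK : IsPiSubgroup (tau3 M) (X.subgroupOf E) := by
    intro s hs hsd
    rw [Nat.card_congr (Subgroup.subgroupOfEquivOfLe hXE).toEquiv] at hsd
    exact hX s hs hsd
  obtain ⟨g, hg⟩ := Cfsg.Agent.Lib.lead.le_conj_isPiHall_of_isSolvable hH₀ hK
  refine ⟨H₀.map E.subtype, hE₃, ?_, hE₃cyc, hE₃c, hE₃n⟩
  intro x hx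
  have hx' : (⟨x, hXE hx⟩ : ↥E) ∈ X.subgroupOf E := Subgroup.mem_subgroupOf.mpr hx
  obtain ⟨h, hh, e⟩ := hg hx'
  refine ⟨⟨x, hXE hx⟩, ?_, rfl⟩
  rw [← e]
  exact hH₀n g h hh

/-- A subgroup of prime order `q ∈ τ₃(M)` of a complement `E` is normal in `E`. -/
theorem tau3_normal [Finite G] (hG : IsMinSimpleOddOrder G) (M : Subgroup G)
    (hM : IsCoatom M) (E : Subgroup G) (hE : IsComplIn E (sigmaCore M) M) (X : Subgroup G)
    (hXE : X ≤ E) (hX : Nat.card X ∈ tau3 M) :
    E ≤ Subgroup.normalizer (X : Set G) := by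
  have hq : (Nat.card X).Prime := hX.1
  obtain ⟨E₃, -, hXE₃, hcyc, -, hn⟩ := tau3_le_commutator hG M hM E hE X hXE (by
    intro s hs hsd
    rw [(Nat.prime_dvd_prime_iff_eq hs hq).mp hsd]
    exact hX)
  apply Cfsg.Agent.Lib.helper71.BG12.le_normalizer_of_forall_conj_mem
  intro e he x hx
  have hmap : X.map (MulAut.conj e).toMonoidHom ≤ E₃ := by
    rintro _ ⟨y, hy, rfl⟩
    exact (Subgroup.mem_normalizer_iff.mp (hn he) y).mp (hXE₃ hy)
  have hcard : Nat.card (X.map (MulAut.conj e).toMonoidHom) = Nat.card X :=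
    Subgroup.card_map_of_injective (MulAut.conj e).injective
  have := Cfsg.Agent.Lib.helper18.eq_of_le_cyclic_of_card_eq E₃ _ _ hmap hXE₃ hcard
  rw [← this]
  exact ⟨x, hx, rfl⟩

/-- A coprime group of automorphisms of a cyclic `q`-group which centralizes its subgroup of
order `q` is trivial. -/
theorem cent_of_cent_omega [Finite G] {q : ℕ} [Fact q.Prime] (Q P Y : Subgroup G)
    (hQ : IsPGroup q Q) (hcyc : IsCyclic Q) (hPQ : P ≤ Subgroup.normalizer (Q : Set G))
    (hcop : (Nat.card Q).Coprime (Nat.card P)) (hYQ : Y ≤ Q) (hYc : Nat.card Y = q)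
    (hPY : P ≤ Subgroup.centralizer (Y : Set G)) : Q ≤ Subgroup.centralizer (P : Set G) := by
  have hq : q.Prime := Fact.out
  have hab : ∀ a ∈ Q, ∀ b ∈ Q, a * b = b * a := by
    intro a ha b hb
    have hmc : IsMulCommutative ↥Q := hcyc.isMulCommutative
    have := hmc.is_comm.comm (⟨a, ha⟩ : Q) ⟨b, hb⟩
    exact congrArg Subtype.val this
  have hZ := Cfsg.Agent.Lib.helper54.BGNA.abel_comm_inf_cent Q P hab hPQ hcop
  have hZQ : ⁅Q, P⁆ ≤ Q := Cfsg.Agent.Lib.helper1.commutator_le_of_le_normalizer hPQ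
  by_cases hbot : (⁅Q, P⁆ : Subgroup G) = ⊥
  · have hsolv : Group.IsSolvable Q :=
      Group.isSolvable_of_comm (fun a b => Subtype.ext (hab a a.2 b b.2))
    have h := Cfsg.Agent.Lib.helper1.commutator_sup_fixed P Q hPQ hcop.symm (Or.inr hsolv)
    rw [hbot, bot_sup_eq] at h
    exact (le_of_eq h.symm).trans inf_le_right
  · exfalso
    have hZp : IsPGroup q ↥(⁅Q, P⁆ : Subgroup G) := hQ.to_le hZQ
    have hqZ : q ∣ Nat.card ↥(⁅Q, P⁆ : Subgroup G) := by
      rcases hZp.card_eq_or_dvd with h | h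
      · exact absurd ((Subgroup.card_eq_one).mp h) hbot
      · exact h
    obtain ⟨z, hz⟩ := exists_prime_orderOf_dvd_card' (G := ↥(⁅Q, P⁆ : Subgroup G)) q hqZ
    have hzG : orderOf (z : G) = q := by rw [Subgroup.orderOf_coe]; exact hz
    have hzQ : Subgroup.zpowers (z : G) ≤ Q := (Subgroup.zpowers_le).mpr (hZQ z.2)
    have hcard : Nat.card (Subgroup.zpowers (z : G)) = Nat.card Y := by
      rw [Nat.card_zpowers, hzG, hYc]
    have := hcyc
    have heq := Cfsg.Agent.Lib.helper18.eq_of_le_cyclic_of_card_eq Q _ _ hzQ hYQ hcard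
    have hzY : (z : G) ∈ Y := by rw [← heq]; exact Subgroup.mem_zpowers _
    have hzC : (z : G) ∈ (⁅Q, P⁆ : Subgroup G) ⊓ Subgroup.centralizer (P : Set G) :=
      ⟨z.2, centralizer_symm hPY hzY⟩
    rw [hZ, Subgroup.mem_bot] at hzC
    rw [hzC, orderOf_one] at hzG
    exact hq.ne_one hzG.symm

/-! ### The setting and its basic facts -/

/-- The setting of (O-c). -/
structure Setting (M E R H : Subgroup G) (r : ℕ) : Prop where
  hM : IsCoatom M
  hE : IsComplIn E (sigmaCore M) M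
  hr : r ∈ tau3 M
  hRE : R ≤ E
  hR : Nat.card R = r
  hC : sigmaCore M ⊓ Subgroup.centralizer (R : Set G) ≠ ⊥
  hH : IsCoatom H
  hNR : Subgroup.normalizer (R : Set G) ≤ H

/-- The basic facts of the setting (with `C = C_{M_σ}(R)`). -/
structure Facts (M E R H : Subgroup G) : Prop where
  hne : H ≠ M
  hEN : E ≤ Subgroup.normalizer (R : Set G)
  hEH : E ≤ H
  hRs : R ≤ sigmaCore H
  hCs : ∀ q : ℕ, q.Prime →
    q ∣ Nat.card ↥(sigmaCore M ⊓ Subgroup.centralizer (R : Set G)) → q ∉ sigma H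
  hτ2 : ∀ q : ℕ, q ∉ tau2 M
  hB3 : sigmaCore M ⊓ H ≤ Subgroup.centralizer (R : Set G)
  hB4 : ∀ X : Subgroup G, X ≤ E → (Nat.card X).Prime → Nat.card X ∉ tau1 H →
    sigmaCore M ⊓ Subgroup.centralizer (R : Set G) ≤ Subgroup.centralizer (X : Set G)
  hB5 : ∀ X : Subgroup G, X ≤ E → (Nat.card X).Prime → Nat.card X ∈ tau3 M →
    sigmaCore M ⊓ Subgroup.centralizer (X : Set G) =
      sigmaCore M ⊓ Subgroup.centralizer (R : Set G)
  hN1 : ∀ q : ℕ, q.Prime →
    q ∣ Nat.card ↥(sigmaCore M ⊓ Subgroup.centralizer (R : Set G)) → q ∈ tau1 H ∨ q ∈ tau3 H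
  hN2 : ∀ Y : Subgroup G, Y ≤ sigmaCore M ⊓ Subgroup.centralizer (R : Set G) →
    (Nat.card Y).Prime → Subgroup.normalizer (Y : Set G) ≤ M
  hN2' : ∀ X : Subgroup G, X ≤ E → (Nat.card X).Prime →
    sigmaCore M ⊓ Subgroup.centralizer (X : Set G) ≠ ⊥ → Nat.card X ∈ sigma H →
    Subgroup.normalizer (X : Set G) ≤ H
  hN3 : ∀ P' : Subgroup G, P' ≤ E → Nat.card P' ∈ tau1 M → Nat.card P' ∈ tau1 H →
    ¬ P' ≤ Subgroup.centralizer (R : Set G) →
    sigmaCore M ⊓ Subgroup.centralizer (R : Set G) ≤ Subgroup.centralizer (P' : Set G)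

/-! ### Lemma X -/

/-- **Lemma X**: a subgroup `P ≤ E` of prime order `p ∈ τ₁(M)` centralizes `R`. -/
theorem lemma_X [Finite G] (hG : IsMinSimpleOddOrder G) {M E R H : Subgroup G} {r : ℕ}
    (S : Setting M E R H r) (F : Facts M E R H)
    (p : ℕ) (hp : p ∈ tau1 M) (P : Subgroup G) (hPE : P ≤ E) (hP : Nat.card P = p) :
    P ≤ Subgroup.centralizer (R : Set G) := by
  by_contra hPR
  have hM := S.hM
  have hE := S.hE
  have hEM : E ≤ M := hE.1
  have hpp : p.Prime := hp.1
  have hrp : r.Prime := S.hr.1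
  have hRp : (Nat.card R).Prime := by rw [S.hR]; exact hrp
  have hPp : (Nat.card P).Prime := by rw [hP]; exact hpp
  have hodd : Odd (Nat.card G) := hG.1
  set C : Subgroup G := sigmaCore M ⊓ Subgroup.centralizer (R : Set G) with hCdef
  have hCM : C ≤ sigmaCore M := inf_le_left
  have hCR : C ≤ Subgroup.centralizer (R : Set G) := inf_le_right
  have hMsM : sigmaCore M ≤ M := Subgroup.map_subtype_le _
  have hcopE : (Nat.card (sigmaCore M)).Coprime (Nat.card E) := by
    apply Nat.coprime_of_dvd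
    intro k hk hk1 hk2
    exact bg8_not_sigma hG M hM E hE k hk hk2
      (Cfsg.Agent.Lib.helper71.BG12.mem_sigma_of_dvd_card_sigmaCore M hk hk1)
  have hMsn : ∀ x ∈ E, ∀ h ∈ sigmaCore M, x * h * x⁻¹ ∈ sigmaCore M := by
    intro x hx h hh
    have := Cfsg.Agent.Lib.helper13.le_normalizer_sigmaCore M (hEM hx)
    rw [Subgroup.mem_normalizer_iff] at this
    exact (this h).1 hh
  -- X1 : `C_{M_σ}(P)` is not contained in `C`
  have X1 : ¬ sigmaCore M ⊓ Subgroup.centralizer (P : Set G) ≤ C := by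
    intro hle
    have hP1 : P ≠ ⊥ := ne_bot_of_prime_card hPp
    have hUn : ∀ e ∈ P, ∀ u ∈ R, e * u * e⁻¹ ∈ R := by
      intro e he u hu
      have := F.hEN (hPE he)
      rw [Subgroup.mem_normalizer_iff] at this
      exact (this u).1 hu
    have hfpf : ∀ e ∈ P, e ≠ 1 → ∀ u ∈ R, e * u = u * e → u = 1 := by
      intro e he he1 u hu heu
      by_contra hu1
      exact hPR (cent_of_comm_prime hPp hRp he he1 hu hu1 heu)
    have hsup : R ⊔ P ≤ E := sup_le S.hRE hPE
    have hHn : ∀ x ∈ R ⊔ P, ∀ h ∈ sigmaCore M, x * h * x⁻¹ ∈ sigmaCore M :=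
      fun x hx => hMsn x (hsup hx)
    have hsolv : Group.IsSolvable (sigmaCore M) := bg8_solvable hG M hM (sigmaCore M) hMsM
    have hcop : Nat.Coprime (Nat.card (sigmaCore M)) (Nat.card ↥(R ⊔ P)) :=
      Nat.Coprime.coprime_dvd_right (Subgroup.card_dvd_of_le hsup) hcopE
    have key := Cfsg.Agent.Lib.helper12.ff_formula R P (sigmaCore M) hP1 hUn hfpf hHn hsolv hcop
    have h1 : sigmaCore M ⊓ Subgroup.centralizer ((R ⊔ P : Subgroup G) : Set G) =
        sigmaCore M ⊓ Subgroup.centralizer (P : Set G) := by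
      apply le_antisymm
      · exact inf_le_inf_left _
          (Subgroup.centralizer_le (by exact_mod_cast (le_sup_right : P ≤ R ⊔ P)))
      · refine le_inf inf_le_left ?_
        intro x hx
        have hxR : x ∈ Subgroup.centralizer (R : Set G) := hCR (hle hx)
        have hxP : x ∈ Subgroup.centralizer (P : Set G) := hx.2
        rw [Subgroup.mem_centralizer_iff]
        intro h hh
        have hcl : R ⊔ P ≤ Subgroup.centralizer ({x} : Set G) := by
          apply sup_le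
          · intro u hu
            rw [Subgroup.mem_centralizer_iff]
            intro y hy
            rw [Set.mem_singleton_iff] at hy; subst hy
            exact (Subgroup.mem_centralizer_iff.mp hxR u hu).symm
          · intro u hu
            rw [Subgroup.mem_centralizer_iff]
            intro y hy
            rw [Set.mem_singleton_iff] at hy; subst hy
            exact (Subgroup.mem_centralizer_iff.mp hxP u hu).symm
        have := hcl hh
        rw [Subgroup.mem_centralizer_iff] at this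
        exact (this x rfl).symm
    rw [h1] at key
    have hpos : 0 < Nat.card ↥(sigmaCore M ⊓ Subgroup.centralizer (P : Set G)) ^ Nat.card P :=
      pow_pos Nat.card_pos _
    have hcard : Nat.card (sigmaCore M) = Nat.card C := Nat.eq_of_mul_eq_mul_left hpos key
    have hCeq : C = sigmaCore M := Subgroup.eq_of_le_of_card_ge hCM (le_of_eq hcard)
    have hMsH : sigmaCore M ≤ H := by
      have h2 : C ≤ H := hCR.trans ((Subgroup.centralizer_le_normalizer _).trans S.hNR)
      rwa [hCeq] at h2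
    have hMH : M ≤ H := by
      intro m hm
      obtain ⟨a, ha, b, hb, rfl⟩ := hE.2.2.2 m hm
      exact H.mul_mem (F.hEH ha) (hMsH hb)
    exact F.hne (Cfsg.Agent.Lib.helper71.BG12.eq_of_coatom_le hM hMH S.hH.1)
  -- X2/X3 for the subgroups of prime order commuting with `P`
  have hCprime : ∀ X : Subgroup G, X ≤ E → (Nat.card X).Prime →
      X ≤ Subgroup.centralizer (P : Set G) → Nat.card X ∈ tau1 M →
      C ≤ Subgroup.centralizer (X : Set G) := by
    intro X hXE hXp hXP hX1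
    have h28 := Cfsg.Agent.S1428.result hG M hM E hE p hp P hPE hP X (le_inf hXE hXP) hXp
    have hXR : ¬ X ≤ Subgroup.centralizer (R : Set G) := by
      intro hXR
      have h28' := Cfsg.Agent.S1428.result hG M hM E hE (Nat.card X) hX1 X hXE rfl R
        (le_inf S.hRE (centralizer_symm hXR)) hRp
      exact X1 (h28.trans h28')
    by_cases hXH : Nat.card X ∈ tau1 H
    · exact F.hN3 X hXE hX1 hXH hXR
    · exact F.hB4 X hXE hXp hXH
  -- X3 : `E` centralizes `C`
  have X3 : E ≤ Subgroup.centralizer (C : Set G) := by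
    apply le_of_exists_sylow_le
    intro q _
    have hq : q.Prime := Fact.out
    by_cases hqE : q ∣ Nat.card E
    swap
    · obtain ⟨Q⟩ : Nonempty (Sylow q ↥E) := inferInstance
      refine ⟨Q, ?_⟩
      have hc : Nat.card (Q : Subgroup ↥E) = 1 := by
        rw [Sylow.card_eq_multiplicity, Nat.factorization_eq_zero_of_not_dvd hqE, pow_zero]
      have hQb : (Q : Subgroup ↥E) = ⊥ := Subgroup.eq_bot_of_card_eq _ hc
      rw [hQb, Subgroup.map_bot]
      exact bot_le
    obtain ⟨e0, he0⟩ := exists_prime_orderOf_dvd_card' (G := ↥E) q hqE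
    have he0G : orderOf (e0 : G) = q := by rw [Subgroup.orderOf_coe]; exact he0
    have hq13 := bg8_tau13 hG M hM E hE (e0 : G) e0.2 q hq he0G (F.hτ2 q)
    have hr1 : PRankLE q 1 M := by
      rcases hq13 with h | h
      · exact h.2.2.2.2
      · exact h.2.2.2
    have hY : ∃ Y : Subgroup G, Y ≤ E ∧ Nat.card Y = q ∧
        C ≤ Subgroup.centralizer (Y : Set G) := by
      rcases hq13 with h1 | h3
      · by_cases hqp : q = p
        · subst hqp
          exact ⟨P, hPE, hP, hCprime P hPE hPp (self_le_centralizer_of_prime_card hPp)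
            (by rw [hP]; exact h1)⟩
        · obtain ⟨y, hyE, hyo, hyP⟩ := Cfsg.Agent.Lib.helper87.BGNA.exists_comm_of_tau1 hG M hM
            E hE p hp P hPE hP q h1 hqp
          have hc : Nat.card (Subgroup.zpowers y) = q := by rw [Nat.card_zpowers, hyo]
          refine ⟨Subgroup.zpowers y, (Subgroup.zpowers_le).mpr hyE, hc, ?_⟩
          apply hCprime _ ((Subgroup.zpowers_le).mpr hyE) (by rw [hc]; exact hq) _
            (by rw [hc]; exact h1)
          exact le_centralizer_zpowers (fun g hg => (hyP g hg).symm)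
      · have hc : Nat.card (Subgroup.zpowers (e0 : G)) = q := by rw [Nat.card_zpowers, he0G]
        refine ⟨Subgroup.zpowers (e0 : G), (Subgroup.zpowers_le).mpr e0.2, hc, ?_⟩
        have := F.hB5 (Subgroup.zpowers (e0 : G)) ((Subgroup.zpowers_le).mpr e0.2)
          (by rw [hc]; exact hq) (by rw [hc]; exact h3)
        rw [hCdef, ← this]; exact inf_le_right
    obtain ⟨Y, hYE, hYq, hCY⟩ := hY
    have hYp : IsPGroup q (Y.subgroupOf E) := by
      apply IsPGroup.of_card (n := 1)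
      rw [Nat.card_congr (Subgroup.subgroupOfEquivOfLe hYE).toEquiv, hYq, pow_one]
    obtain ⟨Q, hQ⟩ := hYp.exists_le_sylow
    refine ⟨Q, ?_⟩
    have hcyc : IsCyclic (Q : Subgroup ↥E) := bg_sylow_cyclic_of_prank_one hodd hEM q hr1 Q
    obtain ⟨y, hyY, hy1⟩ := exists_ne_one_of_prime_card (X := Y) (by rw [hYq]; exact hq)
    have hyQ' : (⟨y, hYE hyY⟩ : ↥E) ∈ (Q : Subgroup ↥E) := hQ (Subgroup.mem_subgroupOf.mpr hyY)
    have hyQ : y ∈ (Q : Subgroup ↥E).map E.subtype := ⟨⟨y, hYE hyY⟩, hyQ', rfl⟩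
    have hQ1 : (Q : Subgroup ↥E) ≠ ⊥ := by
      intro h
      rw [h, Subgroup.mem_bot] at hyQ'
      exact hy1 (congrArg Subtype.val hyQ')
    have h27 := Cfsg.Agent.S1427.result hG M hM E hE q Q hQ1 hcyc y hyQ hy1
    have hCy : C ≤ sigmaCore M ⊓ Subgroup.centralizer ({y} : Set G) :=
      le_inf hCM (hCY.trans (Subgroup.centralizer_le (Set.singleton_subset_iff.mpr hyY)))
    rw [h27] at hCy
    exact centralizer_symm (hCy.trans inf_le_right)
  -- X4 : `p ∉ σ(H)`
  have X4 : p ∉ sigma H := by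
    intro hpH
    have hne : sigmaCore M ⊓ Subgroup.centralizer (P : Set G) ≠ ⊥ := by
      intro h; apply X1; rw [h]; exact bot_le
    have hNP := F.hN2' P hPE hPp hne (by rw [hP]; exact hpH)
    apply X1
    refine le_inf inf_le_left ?_
    exact (le_inf inf_le_left
      (inf_le_right.trans ((Subgroup.centralizer_le_normalizer _).trans hNP))).trans F.hB3
  -- a complement `E_H` of `H_σ` containing `C P`
  have hCH : C ≤ H := hCR.trans ((Subgroup.centralizer_le_normalizer _).trans S.hNR)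
  have hPH : P ≤ H := hPE.trans F.hEH
  have hPC : P ≤ Subgroup.centralizer (C : Set G) := hPE.trans X3
  have hPCσ : ∀ ℓ : ℕ, ℓ.Prime → ℓ ∣ Nat.card ↥(P ⊔ C) → ℓ ∉ sigma H := by
    intro ℓ hℓ hd
    have h1 := Cfsg.Agent.Lib.helper27.card_sup_dvd_mul_of_le_normalizer P C
      (hPC.trans (Subgroup.centralizer_le_normalizer _))
    rcases (Nat.Prime.dvd_mul hℓ).mp (hd.trans h1) with h | h
    · rw [hP] at h
      rw [(Nat.prime_dvd_prime_iff_eq hℓ hpp).mp h]; exact X4
    · exact F.hCs ℓ hℓ h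
  obtain ⟨EH, hEHc, hPCE⟩ := Cfsg.Agent.Lib.helper60.BGCentU.exists_compl_ge hG H S.hH (P ⊔ C)
    (sup_le hPH hCH) hPCσ
  have hPEH : P ≤ EH := le_sup_left.trans hPCE
  have hCEH : C ≤ EH := le_sup_right.trans hPCE
  -- X5 : every prime of `C` is in `τ₃(H)`
  have X5 : ∀ q : ℕ, q.Prime → q ∣ Nat.card C → q ∈ tau3 H := by
    intro q hq hqC
    have : Fact q.Prime := ⟨hq⟩
    rcases F.hN1 q hq hqC with h1 | h3
    · exfalso
      obtain ⟨y, hy⟩ := exists_prime_orderOf_dvd_card' (G := ↥C) q hqC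
      have hyG : orderOf (y : G) = q := by rw [Subgroup.orderOf_coe]; exact hy
      have hYC : Subgroup.zpowers (y : G) ≤ C := (Subgroup.zpowers_le).mpr y.2
      have hYc : Nat.card (Subgroup.zpowers (y : G)) = q := by rw [Nat.card_zpowers, hyG]
      have hPY : P ≤ Subgroup.centralizer ((Subgroup.zpowers (y : G) : Subgroup G) : Set G) :=
        hPC.trans (Subgroup.centralizer_le (by exact_mod_cast hYC))
      have h28 := Cfsg.Agent.S1428.result hG H S.hH EH hEHc q h1 (Subgroup.zpowers (y : G))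
        (hYC.trans hCEH) hYc P (le_inf hPEH hPY) hPp
      have hRY : R ≤ sigmaCore H ⊓
          Subgroup.centralizer ((Subgroup.zpowers (y : G) : Subgroup G) : Set G) :=
        le_inf F.hRs (centralizer_symm (hYC.trans hCR))
      exact hPR (centralizer_symm ((hRY.trans h28).trans inf_le_right))
    · exact h3
  -- X6 : contradiction
  have hCcard : Nat.card C ≠ 1 := fun h => S.hC (Subgroup.eq_bot_of_card_eq _ h)
  obtain ⟨q, hq, hqC⟩ := Nat.exists_prime_and_dvd hCcard
  have hq3 := X5 q hq hqC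
  have : Fact q.Prime := ⟨hq⟩
  obtain ⟨y, hy⟩ := exists_prime_orderOf_dvd_card' (G := ↥C) q hqC
  have hyG : orderOf (y : G) = q := by rw [Subgroup.orderOf_coe]; exact hy
  have hYC : Subgroup.zpowers (y : G) ≤ C := (Subgroup.zpowers_le).mpr y.2
  have hYc : Nat.card (Subgroup.zpowers (y : G)) = q := by rw [Nat.card_zpowers, hyG]
  have hEHN := tau3_normal hG H S.hH EH hEHc (Subgroup.zpowers (y : G)) (hYC.trans hCEH)
    (by rw [hYc]; exact hq3)
  have hEHM : EH ≤ M := hEHN.trans (F.hN2 _ hYC (by rw [hYc]; exact hq))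
  obtain ⟨E₃, -, hCE₃, -, hE₃c, -⟩ := tau3_le_commutator hG H S.hH EH hEHc C hCEH X5
  have hCder : C ≤ ⁅EH, EH⁆ := hCE₃.trans hE₃c
  -- elements of `E_H` are products `a * b` with `a ∈ E`, `b ∈ C`
  have hdec : ∀ x ∈ EH, ∃ a ∈ E, ∃ b ∈ C, x = a * b := by
    intro x hx
    obtain ⟨a, ha, b, hb, rfl⟩ := hE.2.2.2 x (hEHM hx)
    refine ⟨a, ha, b, ?_, rfl⟩
    have hbH : b ∈ H := by
      have h1 : a * b ∈ H := hEHc.1 hx
      have h2 : b = a⁻¹ * (a * b) := by group
      rw [h2]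
      exact H.mul_mem (H.inv_mem (F.hEH ha)) h1
    exact ⟨hb, F.hB3 ⟨hb, hbH⟩⟩
  have hcomm : ∀ a ∈ E, ∀ b ∈ C, a * b = b * a := by
    intro a ha b hb
    exact (Subgroup.mem_centralizer_iff.mp (X3 ha) b hb).symm
  have hder : ⁅EH, EH⁆ ≤ ⁅E, E⁆ ⊔ ⁅C, C⁆ := by
    rw [Subgroup.commutator_le]
    intro x hx x' hx'
    obtain ⟨a, ha, b, hb, rfl⟩ := hdec x hx
    obtain ⟨a', ha', b', hb', rfl⟩ := hdec x' hx'
    rw [commutatorElement_def]
    have h1 : a * b * (a' * b') * (a * b)⁻¹ * (a' * b')⁻¹ =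
        (a * a' * a⁻¹ * a'⁻¹) * (b * b' * b⁻¹ * b'⁻¹) := by
      have e1 := hcomm a ha b' hb'
      have e2 := hcomm a' ha' b hb
      have e3 := hcomm a ha b hb
      have e4 := hcomm a' ha' b' hb'
      have e5 := hcomm a⁻¹ (E.inv_mem ha) b hb
      have e6 := hcomm a'⁻¹ (E.inv_mem ha') b hb
      have e7 := hcomm a'⁻¹ (E.inv_mem ha') b' hb'
      have e8 := hcomm a⁻¹ (E.inv_mem ha) b' hb'
      have e9 := hcomm a⁻¹ (E.inv_mem ha) b⁻¹ (C.inv_mem hb)
      have e10 := hcomm a'⁻¹ (E.inv_mem ha') b⁻¹ (C.inv_mem hb)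
      have e11 := hcomm a'⁻¹ (E.inv_mem ha') b'⁻¹ (C.inv_mem hb')
      have e12 := hcomm a' ha' b⁻¹ (C.inv_mem hb)
      calc a * b * (a' * b') * (a * b)⁻¹ * (a' * b')⁻¹
          = a * (b * a') * b' * (b⁻¹ * a⁻¹) * (b'⁻¹ * a'⁻¹) := by group
        _ = a * (a' * b) * b' * (a⁻¹ * b⁻¹) * (a'⁻¹ * b'⁻¹) := by rw [e2, e9, e11]
        _ = a * a' * (b * b' * a⁻¹) * b⁻¹ * a'⁻¹ * b'⁻¹ := by group
        _ = a * a' * (a⁻¹ * (b * b')) * b⁻¹ * a'⁻¹ * b'⁻¹ := by
            rw [show b * b' * a⁻¹ = a⁻¹ * (b * b') from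
              (hcomm a⁻¹ (E.inv_mem ha) (b * b') (C.mul_mem hb hb')).symm]
        _ = a * a' * a⁻¹ * (b * b' * b⁻¹ * a'⁻¹) * b'⁻¹ := by group
        _ = a * a' * a⁻¹ * (a'⁻¹ * (b * b' * b⁻¹)) * b'⁻¹ := by
            rw [show b * b' * b⁻¹ * a'⁻¹ = a'⁻¹ * (b * b' * b⁻¹) from
              (hcomm a'⁻¹ (E.inv_mem ha') (b * b' * b⁻¹)
                (C.mul_mem (C.mul_mem hb hb') (C.inv_mem hb))).symm]
        _ = a * a' * a⁻¹ * a'⁻¹ * (b * b' * b⁻¹ * b'⁻¹) := by group
    rw [h1]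
    have c1 := Subgroup.commutator_mem_commutator ha ha'
    have c2 := Subgroup.commutator_mem_commutator hb hb'
    rw [commutatorElement_def] at c1 c2
    exact Subgroup.mul_mem _ (Subgroup.mem_sup_left c1) (Subgroup.mem_sup_right c2)
  have hCC : C ≤ ⁅C, C⁆ := by
    intro c hc
    have h1 : c ∈ ⁅E, E⁆ ⊔ ⁅C, C⁆ := hder (hCder hc)
    have hnorm : (⁅E, E⁆ : Subgroup G) ≤ Subgroup.normalizer ((⁅C, C⁆ : Subgroup G) : Set G) :=
      ((Cfsg.Agent.Lib.helper71.BG12.commutator_self_le E).trans X3).trans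
        ((Subgroup.centralizer_le
          (by exact_mod_cast Cfsg.Agent.Lib.helper71.BG12.commutator_self_le C)).trans
          (Subgroup.centralizer_le_normalizer _))
    have h2 : c ∈ ((⁅E, E⁆ : Subgroup G) : Set G) * ((⁅C, C⁆ : Subgroup G) : Set G) := by
      rw [← Subgroup.coe_mul_of_left_le_normalizer_right _ _ hnorm]
      exact h1
    obtain ⟨e', he', c', hc', rfl⟩ := Set.mem_mul.mp h2
    have hc'C : c' ∈ C := Cfsg.Agent.Lib.helper71.BG12.commutator_self_le C hc'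
    have he'E : e' ∈ E := Cfsg.Agent.Lib.helper71.BG12.commutator_self_le E he'
    have he'C : e' ∈ C := by
      have h3 : e' = (e' * c') * c'⁻¹ := by group
      rw [h3]
      exact C.mul_mem hc (C.inv_mem hc'C)
    have he'1 : e' = 1 := by
      have h4 : e' ∈ E ⊓ sigmaCore M := ⟨he'E, hCM he'C⟩
      rw [hE.2.2.1] at h4
      exact Subgroup.mem_bot.mp h4
    rw [he'1, one_mul]
    exact hc'
  exact S.hC (eq_bot_of_le_commutator_self (bg8_solvable hG M hM C (hCM.trans hMsM)) hCC)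

/-! ### Lemma Y -/

/-- **Lemma Y**: a subgroup `P ≤ E` of prime order `p ∈ τ₁(M)` centralizes `C = C_{M_σ}(R)`. -/
theorem lemma_Y [Finite G] (hG : IsMinSimpleOddOrder G) {M E R H : Subgroup G} {r : ℕ}
    (S : Setting M E R H r) (F : Facts M E R H)
    (hF : ∀ (EH Y : Subgroup G) (q : ℕ), Setting H EH Y M q → Facts H EH Y M)
    (p : ℕ) (hp : p ∈ tau1 M) (P : Subgroup G) (hPE : P ≤ E) (hP : Nat.card P = p) :
    sigmaCore M ⊓ Subgroup.centralizer (R : Set G) ≤ Subgroup.centralizer (P : Set G) := by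
  by_contra hCP
  have hM := S.hM
  have hE := S.hE
  have hEM : E ≤ M := hE.1
  have hpp : p.Prime := hp.1
  have hPp : (Nat.card P).Prime := by rw [hP]; exact hpp
  have hodd : Odd (Nat.card G) := hG.1
  set C : Subgroup G := sigmaCore M ⊓ Subgroup.centralizer (R : Set G) with hCdef
  have hCM : C ≤ sigmaCore M := inf_le_left
  have hCR : C ≤ Subgroup.centralizer (R : Set G) := inf_le_right
  have hMsM : sigmaCore M ≤ M := Subgroup.map_subtype_le _
  have hCH : C ≤ H := hCR.trans ((Subgroup.centralizer_le_normalizer _).trans S.hNR)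
  have hPH : P ≤ H := hPE.trans F.hEH
  have hpH : p ∈ tau1 H := by
    by_contra h
    exact hCP (F.hB4 P hPE hPp (by rw [hP]; exact h))
  -- `P` normalizes `C`
  have hPNC : P ≤ Subgroup.normalizer (C : Set G) := by
    apply Cfsg.Agent.Lib.helper71.BG12.le_normalizer_of_forall_conj_mem
    intro e he c hc
    have hc := Subgroup.mem_inf.mp hc
    refine Subgroup.mem_inf.mpr ⟨?_, ?_⟩
    · have := Cfsg.Agent.Lib.helper13.le_normalizer_sigmaCore M (hEM (hPE he))
      rw [Subgroup.mem_normalizer_iff] at this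
      exact (this c).1 hc.1
    · rw [Subgroup.mem_centralizer_iff]
      intro u hu
      have hN := F.hEN (hPE he)
      rw [Subgroup.mem_normalizer_iff] at hN
      have hu' : e⁻¹ * u * e ∈ R := by
        apply (hN (e⁻¹ * u * e)).2
        have h2 : e * (e⁻¹ * u * e) * e⁻¹ = u := by group
        rw [h2]; exact hu
      have hc2 := Subgroup.mem_centralizer_iff.mp hc.2 _ hu'
      calc u * (e * c * e⁻¹) = e * ((e⁻¹ * u * e) * c) * e⁻¹ := by group
        _ = e * (c * (e⁻¹ * u * e)) * e⁻¹ := by rw [hc2]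
        _ = e * c * e⁻¹ * u := by group
  have hcop : (Nat.card P).Coprime (Nat.card C) := by
    rw [hP]
    apply (Nat.Prime.coprime_iff_not_dvd hpp).mpr
    intro hd
    exact hp.2.1 (Cfsg.Agent.Lib.helper71.BG12.mem_sigma_of_dvd_card_sigmaCore M hpp
      (hd.trans (Subgroup.card_dvd_of_le hCM)))
  have hCsolv : Group.IsSolvable C := bg8_solvable hG M hM C (hCM.trans hMsM)
  -- a `P`-invariant Sylow subgroup of `C` not centralized by `P`
  have hex : ∃ (q : ℕ) (_ : Fact q.Prime) (Q : Sylow q ↥C),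
      P ≤ Subgroup.normalizer (((Q : Subgroup ↥C).map C.subtype : Subgroup G) : Set G) ∧
      ¬ (Q : Subgroup ↥C).map C.subtype ≤ Subgroup.centralizer (P : Set G) := by
    by_contra hno
    apply hCP
    apply le_of_exists_sylow_le
    intro q _
    obtain ⟨Q, -, hQN⟩ := Cfsg.Agent.Lib.helper1.exists_invariant_sylow_ge (p := q) P C hPNC hcop
      (Or.inr hCsolv) ⊥ bot_le IsPGroup.of_bot (by
        intro g _
        rw [Subgroup.mem_normalizer_iff]
        intro h
        simp [Subgroup.mem_bot])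
    refine ⟨Q, ?_⟩
    by_contra hQ
    exact hno ⟨q, inferInstance, Q, hQN, hQ⟩
  obtain ⟨q, hqF, Q, hQN, hQP⟩ := hex
  have hq : q.Prime := hqF.out
  set Qs : Subgroup G := (Q : Subgroup ↥C).map C.subtype with hQsdef
  have hQsC : Qs ≤ C := Subgroup.map_subtype_le _
  have hQsp : IsPGroup q Qs := Q.isPGroup'.map C.subtype
  have hQ1 : (Q : Subgroup ↥C) ≠ ⊥ := by
    intro h
    apply hQP
    rw [hQsdef, h, Subgroup.map_bot]; exact bot_le
  have hqC : q ∣ Nat.card C := by
    by_contra hn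
    apply hQ1
    apply Subgroup.eq_bot_of_card_eq
    rw [Sylow.card_eq_multiplicity, Nat.factorization_eq_zero_of_not_dvd hn, pow_zero]
  have hqp : q ≠ p := by
    rintro rfl
    exact hp.2.1 (Cfsg.Agent.Lib.helper71.BG12.mem_sigma_of_dvd_card_sigmaCore M hq
      (hqC.trans (Subgroup.card_dvd_of_le hCM)))
  have hcopQ : (Nat.card Qs).Coprime (Nat.card P) := by
    obtain ⟨k, hk⟩ := (IsPGroup.iff_card.mp hQsp)
    rw [hk, hP]
    exact Nat.Coprime.pow_left k ((Nat.coprime_primes hq hpp).mpr hqp)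
  rcases F.hN1 q hq hqC with h1 | h3
  · -- `q ∈ τ₁(H)`: `P` centralizes `Qs`
    apply hQP
    apply centralizer_symm
    intro g hg
    rw [Subgroup.mem_centralizer_iff]
    intro x hx
    have hgN := hQN hg
    rw [Subgroup.mem_normalizer_iff] at hgN
    have hc1 : g * x * g⁻¹ * x⁻¹ ∈ Qs :=
      Subgroup.mul_mem _ ((hgN x).1 hx) (Subgroup.inv_mem _ hx)
    have hc2 : g * x * g⁻¹ * x⁻¹ ∈ ⁅H, H⁆ := by
      have := Subgroup.commutator_mem_commutator (hPH hg) (hCH (hQsC hx))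
      rwa [commutatorElement_def] at this
    have hc : g * x * g⁻¹ * x⁻¹ = 1 := by
      obtain ⟨k, hk⟩ := hQsp ⟨_, hc1⟩
      have hk' : (g * x * g⁻¹ * x⁻¹) ^ q ^ k = 1 := by
        have := congrArg Subtype.val hk
        simpa using this
      have hd1 : orderOf (g * x * g⁻¹ * x⁻¹) ∣ q ^ k := orderOf_dvd_of_pow_eq_one hk'
      have hd2 : orderOf (g * x * g⁻¹ * x⁻¹) ∣ Nat.card ↥⁅H, H⁆ := by
        have := orderOf_dvd_natCard (⟨_, hc2⟩ : ↥⁅H, H⁆)
        rwa [Subgroup.orderOf_mk] at this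
      have hcop2 : (q ^ k).Coprime (Nat.card ↥⁅H, H⁆) :=
        Nat.Coprime.pow_left k ((Nat.Prime.coprime_iff_not_dvd hq).mpr h1.2.2.2.1)
      exact orderOf_eq_one_iff.mp (Nat.eq_one_of_dvd_coprimes hcop2 hd1 hd2)
    calc x * g = ((g * x * g⁻¹ * x⁻¹)⁻¹) * (g * x) := by group
      _ = g * x := by rw [hc, inv_one, one_mul]
  · -- `q ∈ τ₃(H)`
    have hr1 : PRankLE q 1 H := h3.2.2.2
    have hcyc : IsCyclic (Q : Subgroup ↥C) := bg_sylow_cyclic_of_prank_one hodd hCH q hr1 Q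
    have hcycs : IsCyclic Qs :=
      (Subgroup.equivMapOfInjective (Q : Subgroup ↥C) C.subtype
        C.subtype_injective).isCyclic.mp hcyc
    have hqQ : q ∣ Nat.card (Q : Subgroup ↥C) := by
      rcases Q.isPGroup'.card_eq_or_dvd with h | h
      · exact absurd ((Subgroup.card_eq_one).mp h) hQ1
      · exact h
    obtain ⟨y, hy⟩ := exists_prime_orderOf_dvd_card' (G := ↥(Q : Subgroup ↥C)) q hqQ
    have hyG : orderOf (((y : ↥C) : G)) = q := by
      rw [Subgroup.orderOf_coe, Subgroup.orderOf_coe]; exact hy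
    set Y : Subgroup G := Subgroup.zpowers (((y : ↥C) : G)) with hYdef
    have hYQ : Y ≤ Qs := (Subgroup.zpowers_le).mpr ⟨(y : ↥C), y.2, rfl⟩
    have hYc : Nat.card Y = q := by rw [Nat.card_zpowers, hyG]
    have hYC : Y ≤ C := hYQ.trans hQsC
    have hPCσ : ∀ ℓ : ℕ, ℓ.Prime → ℓ ∣ Nat.card ↥(P ⊔ C) → ℓ ∉ sigma H := by
      intro ℓ hℓ hd
      have h1 := Cfsg.Agent.Lib.helper27.card_sup_dvd_mul_of_le_normalizer P C hPNC
      rcases (Nat.Prime.dvd_mul hℓ).mp (hd.trans h1) with h | h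
      · rw [hP] at h
        rw [(Nat.prime_dvd_prime_iff_eq hℓ hpp).mp h]; exact hpH.2.1
      · exact F.hCs ℓ hℓ h
    obtain ⟨EH, hEHc, hPCE⟩ := Cfsg.Agent.Lib.helper60.BGCentU.exists_compl_ge hG H S.hH (P ⊔ C)
      (sup_le hPH hCH) hPCσ
    have hPEH : P ≤ EH := le_sup_left.trans hPCE
    have hCEH : C ≤ EH := le_sup_right.trans hPCE
    have hRY : R ≤ sigmaCore H ⊓ Subgroup.centralizer (Y : Set G) :=
      le_inf F.hRs (centralizer_symm (hYC.trans hCR))
    have hRne : R ≠ ⊥ := ne_bot_of_prime_card (by rw [S.hR]; exact S.hr.1)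
    have S' : Setting H EH Y M q :=
      { hM := S.hH, hE := hEHc, hr := h3, hRE := hYC.trans hCEH, hR := hYc,
        hC := fun h => hRne (le_bot_iff.mp (h ▸ hRY)), hH := hM,
        hNR := F.hN2 Y hYC (by rw [hYc]; exact hq) }
    have hXY := lemma_X hG S' (hF EH Y q S') p hpH P hPEH hP
    exact hQP (cent_of_cent_omega Qs P Y hQsp hcycs hQN hcopQ hYQ hYc hXY)

end Cfsg.Agent.Lib.helper87.BGOC
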