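/-
Bender-Glauberman, towards Theorem 14.2 (statement S1430), the case `κ(M) ⊄ τ₁(M)` ("(O-c)"),
second part: the basic facts `Facts M E R H` of `Cfsg.Agent.Lib.helper87.BGOC` are derived from

* the bundles `HNorm`, `HH`, `HTau2`, `HCross`, `HE3` of `Cfsg.Agent.Lib.helper8.BGT3Defs`
  (pieces A, B, C, X, E3 of the split of helper8),
* `NAHyp G` (through `helper56.BGOb.ob_core`: a subgroup `X` of prime order in `κ(M)` lies in
  `L_σ` for every maximal `L ≥ N_G(X)`),
* the `σ`-partition `PartHyp G` (statement S1378, second part),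
* the asymmetry lemma `ASHyp G`.

Consequently `HKillC G` and `HKillA G` hold.
-/
import Mathlib
import Cfsg.Agent.S1403
import Cfsg.Agent.S1404
import Cfsg.Agent.S1417
import Cfsg.Agent.S1418
import Cfsg.Agent.S1424
import Cfsg.Agent.Lib.helper8.BGT3Defs
import Cfsg.Agent.Lib.helper56.BGOb
import Cfsg.Agent.Lib.helper55.BGTau1
import Cfsg.Agent.Lib.helper87.BG1425Main
import Cfsg.Agent.Lib.helper87.BGOC
import Cfsg.Agent.Lib.helper98.BGT3End

set_option autoImplicit false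
open Cfsg

namespace Cfsg.Agent.Lib.helper87.BGOC

open Cfsg.Agent.Lib.helper8 Cfsg.Agent.Lib.helper97 Cfsg.Agent.Lib.helper8.BGT3
open Cfsg.Agent.Lib.helper71.BGRegNA

variable {G : Type*} [Group G]

/-- The `σ`-partition (second part of statement S1378). -/
def PartHyp (G : Type*) [Group G] : Prop :=
  ∀ M N : Subgroup G, IsCoatom M → IsCoatom N → (sigma M ∩ sigma N).Nonempty →
    ∃ g : G, N = M.map (MulAut.conj g).toMonoidHom

/-! ### Generic lemmas -/

theorem map_conj_mul (M : Subgroup G) (a b : G) :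
    M.map (MulAut.conj (a * b)).toMonoidHom =
      (M.map (MulAut.conj b).toMonoidHom).map (MulAut.conj a).toMonoidHom := by
  rw [Subgroup.map_map]
  congr 1
  ext x
  simp [MulAut.conj_apply, mul_assoc]

/-- Fusion: a maximal subgroup `L = M^g` containing `N_G(Y)` for a nontrivial `q`-subgroup `Y`
of `M`, `q ∈ σ(M)`, is `M`. -/
theorem fusion_eq [Finite G] (hG : IsMinSimpleOddOrder G) (M : Subgroup G) (hM : IsCoatom M)
    (q : ℕ) [Fact q.Prime] (hq : q ∈ sigma M) (Y : Subgroup G) (hYq : IsPGroup q Y)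
    (hY1 : Y ≠ ⊥) (hYM : Y ≤ M) (L : Subgroup G)
    (hNL : Subgroup.normalizer (Y : Set G) ≤ L) (g : G)
    (hL : L = M.map (MulAut.conj g).toMonoidHom) : L = M := by
  have hYL : Y ≤ L := Subgroup.le_normalizer.trans hNL
  have h1 : Y.map (MulAut.conj g⁻¹).toMonoidHom ≤ M := by
    rintro _ ⟨y, hy, rfl⟩
    have hyL := hYL hy
    rw [hL] at hyL
    obtain ⟨m, hm, e⟩ := hyL
    have e' : g * m * g⁻¹ = y := e
    show g⁻¹ * y * g⁻¹⁻¹ ∈ M
    rw [← e']
    have : g⁻¹ * (g * m * g⁻¹) * g⁻¹⁻¹ = m := by group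
    rw [this]; exact hm
  obtain ⟨m, hm, c, hc, e⟩ := (Cfsg.Agent.S1404.result hG M hM q hq Y hYq hY1 hYM).1 g⁻¹ h1
  have hg : g = c⁻¹ * m⁻¹ := by
    have : g = (g⁻¹)⁻¹ := by group
    rw [this, e]; group
  have hL' : L = M.map (MulAut.conj c⁻¹).toMonoidHom := by
    rw [hL, hg, map_conj_mul,
      Cfsg.Agent.Lib.helper87.BGNA.map_conj_eq_of_mem_normalizer
        (Subgroup.le_normalizer (M.inv_mem hm))]
  have hcL : c⁻¹ ∈ L :=
    L.inv_mem (hNL (Subgroup.centralizer_le_normalizer _ hc))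
  exact Cfsg.Agent.Lib.helper71.BG12.eq_of_map_conj_of_mem_left hL' hcL

/-- A nontrivial subgroup of a maximal subgroup has its normalizer in some maximal subgroup. -/
theorem exists_coatom_normalizer_le [Finite G] (hG : IsMinSimpleOddOrder G) {M X : Subgroup G}
    (hM : IsCoatom M) (hXM : X ≤ M) (hX1 : X ≠ ⊥) :
    ∃ L : Subgroup G, IsCoatom L ∧ Subgroup.normalizer (X : Set G) ≤ L := by
  have hXtop : X ≠ ⊤ := by
    rintro rfl
    exact hM.1 (top_le_iff.mp hXM)
  have hN := Cfsg.Agent.Lib.helper71.BG12.normalizer_ne_top' hG hX1 hXtop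
  obtain ⟨L, hL, hNL⟩ := (eq_top_or_exists_le_coatom _).resolve_left hN
  exact ⟨L, hL, hNL⟩

/-- In a cyclic group, the normalizer of the group normalizes every subgroup. -/
theorem normalizer_le_normalizer_of_cyclic [Finite G] {R R0 : Subgroup G} (hRR0 : R ≤ R0)
    (hcyc : IsCyclic R0) :
    Subgroup.normalizer (R0 : Set G) ≤ Subgroup.normalizer (R : Set G) := by
  apply Cfsg.Agent.Lib.helper71.BG12.le_normalizer_of_forall_conj_mem
  intro n hn x hx
  have hmap : R.map (MulAut.conj n).toMonoidHom ≤ R0 := by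
    rintro _ ⟨y, hy, rfl⟩
    exact (Subgroup.mem_normalizer_iff.mp hn y).mp (hRR0 hy)
  have hcard : Nat.card (R.map (MulAut.conj n).toMonoidHom) = Nat.card R :=
    Subgroup.card_map_of_injective (MulAut.conj n).injective
  have := hcyc
  have h := Cfsg.Agent.Lib.helper18.eq_of_le_cyclic_of_card_eq R0 _ _ hmap hRR0 hcard
  rw [← h]
  exact ⟨x, hx, rfl⟩

/-- A nontrivial `q`-group has an element of order `q`. -/
theorem exists_orderOf_eq_of_pgroup [Finite G] {q : ℕ} [Fact q.Prime] {Q : Subgroup G}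
    (hQ : IsPGroup q Q) (hQ1 : Q ≠ ⊥) : ∃ z ∈ Q, orderOf z = q := by
  have hqQ : q ∣ Nat.card Q := by
    rcases hQ.card_eq_or_dvd with h | h
    · exact absurd ((Subgroup.card_eq_one).mp h) hQ1
    · exact h
  obtain ⟨z, hz⟩ := exists_prime_orderOf_dvd_card' (G := ↥Q) q hqQ
  exact ⟨(z : G), z.2, by rw [Subgroup.orderOf_coe]; exact hz⟩

/-- A subgroup of a complement `E` all of whose prime divisors are in `τ₃(M)` is normal in `E`. -/
theorem tau3_normal' [Finite G] (hG : IsMinSimpleOddOrder G) (M : Subgroup G)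
    (hM : IsCoatom M) (E : Subgroup G) (hE : IsComplIn E (sigmaCore M) M) (X : Subgroup G)
    (hXE : X ≤ E) (hX : ∀ q : ℕ, q.Prime → q ∣ Nat.card X → q ∈ tau3 M) :
    E ≤ Subgroup.normalizer (X : Set G) := by
  obtain ⟨E₃, -, hXE₃, hcyc, -, hn⟩ := tau3_le_commutator hG M hM E hE X hXE hX
  exact hn.trans (normalizer_le_normalizer_of_cyclic hXE₃ hcyc)

/-- The Sylow `r`-subgroup `R₀` of a complement `E`, for `r ∈ τ₃(M)`. -/
theorem sylow_tau3 [Finite G] (hG : IsMinSimpleOddOrder G) (M : Subgroup G) (hM : IsCoatom M)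
    (E : Subgroup G) (hE : IsComplIn E (sigmaCore M) M) (r : ℕ) (hr : r ∈ tau3 M)
    (R : Subgroup G) (hRE : R ≤ E) (hR : Nat.card R = r) :
    ∃ R0 : Subgroup G, R ≤ R0 ∧ R0 ≤ E ∧ IsPGroup r R0 ∧ IsCyclic R0 ∧
      E ≤ Subgroup.normalizer (R0 : Set G) ∧
      (∀ Q₁ : Subgroup G, IsPGroup r Q₁ → Q₁ ≤ M → R0 ≤ Q₁ → Q₁ = R0) ∧
      Subgroup.normalizer (R0 : Set G) ≤ Subgroup.normalizer (R : Set G) := by
  have hrp : r.Prime := hr.1
  have : Fact r.Prime := ⟨hrp⟩
  have hEM : E ≤ M := hE.1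
  have hodd : Odd (Nat.card G) := hG.1
  have hRp : IsPGroup r (R.subgroupOf E) := by
    apply IsPGroup.of_card (n := 1)
    rw [Nat.card_congr (Subgroup.subgroupOfEquivOfLe hRE).toEquiv, hR, pow_one]
  obtain ⟨Q₀, hQ₀⟩ := hRp.exists_le_sylow
  have hcyc₀ : IsCyclic (Q₀ : Subgroup ↥E) := bg_sylow_cyclic_of_prank_one hodd hEM r hr.2.2.2 Q₀
  set R0 : Subgroup G := (Q₀ : Subgroup ↥E).map E.subtype with hR0def
  have hR0E : R0 ≤ E := Subgroup.map_subtype_le _
  have hR0p : IsPGroup r R0 := Q₀.isPGroup'.map E.subtype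
  have hcyc : IsCyclic R0 :=
    (Subgroup.equivMapOfInjective (Q₀ : Subgroup ↥E) E.subtype
      E.subtype_injective).isCyclic.mp hcyc₀
  have hRR0 : R ≤ R0 := by
    intro x hx
    exact ⟨⟨x, hRE hx⟩, hQ₀ (Subgroup.mem_subgroupOf.mpr hx), rfl⟩
  have hcardR0 : Nat.card R0 = r ^ (Nat.card E).factorization r := by
    rw [hR0def, Subgroup.card_map_of_injective E.subtype_injective, Sylow.card_eq_multiplicity]
  have hprimes : ∀ q : ℕ, q.Prime → q ∣ Nat.card R0 → q ∈ tau3 M := by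
    intro q hq hqd
    rw [hcardR0] at hqd
    rw [(Nat.prime_dvd_prime_iff_eq hq hrp).mp (hq.dvd_of_dvd_pow hqd)]
    exact hr
  refine ⟨R0, hRR0, hR0E, hR0p, hcyc, tau3_normal' hG M hM E hE R0 hR0E hprimes, ?_,
    normalizer_le_normalizer_of_cyclic hRR0 hcyc⟩
  intro Q₁ hQ₁ hQ₁M hle
  symm
  apply Subgroup.eq_of_le_of_card_ge hle
  obtain ⟨k, hk⟩ := IsPGroup.iff_card.mp hQ₁
  rw [hk, hcardR0]
  apply Nat.pow_le_pow_right hrp.pos
  have h1 : r ^ k ∣ Nat.card M := by rw [← hk]; exact Subgroup.card_dvd_of_le hQ₁M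
  rw [← Cfsg.Agent.Lib.helper60.BGCentU.card_of_isComplIn hE] at h1
  have hcop : (r ^ k).Coprime (Nat.card (sigmaCore M)) := by
    apply Nat.Coprime.pow_left
    apply (Nat.Prime.coprime_iff_not_dvd hrp).mpr
    intro hd
    exact hr.2.1 (Cfsg.Agent.Lib.helper71.BG12.mem_sigma_of_dvd_card_sigmaCore M hrp hd)
  have h2 : r ^ k ∣ Nat.card E := hcop.dvd_of_dvd_mul_right h1
  exact (hrp.pow_dvd_iff_le_factorization Nat.card_pos.ne').mp h2

/-- (Sig): a singular subgroup `X ≤ E` of prime order not in `τ₂(M)` has its order in `σ(L)` for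
every maximal subgroup `L ≥ N_G(X)`. -/
theorem sig_of_singular [Finite G] (hG : IsMinSimpleOddOrder G) (hNA : NAHyp G)
    (M E : Subgroup G) (hM : IsCoatom M) (hE : IsComplIn E (sigmaCore M) M) (X : Subgroup G)
    (hXE : X ≤ E) (hXp : (Nat.card X).Prime) (hXτ : Nat.card X ∉ tau2 M)
    (hXne : sigmaCore M ⊓ Subgroup.centralizer (X : Set G) ≠ ⊥)
    (L : Subgroup G) (hL : IsCoatom L) (hNL : Subgroup.normalizer (X : Set G) ≤ L) :
    Nat.card X ∈ sigma L := by
  obtain ⟨x, hxX, hx1⟩ := exists_ne_one_of_prime_card hXp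
  have hXz := eq_zpowers_of_prime_card hXp hxX hx1
  have hxo : orderOf x = Nat.card X := by
    conv_rhs => rw [← hXz]
    rw [Nat.card_zpowers]
  obtain ⟨c, hc, hc1⟩ : ∃ c ∈ sigmaCore M ⊓ Subgroup.centralizer (X : Set G), c ≠ 1 := by
    by_contra hno
    apply hXne
    rw [Subgroup.eq_bot_iff_forall]
    intro c hc
    by_contra hc1
    exact hno ⟨c, hc, hc1⟩
  have hcσ : c ∈ sigmaCore M := (Subgroup.mem_inf.mp hc).1
  have hxc : x * c = c * x :=
    Subgroup.mem_centralizer_iff.mp (Subgroup.mem_inf.mp hc).2 x hxX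
  have hκ : orderOf x ∈ kappa M := by
    by_contra hκ
    have := tau2_of_singular hG M hM E hE x (hXE hxX) (by rw [hxo]; exact hXp) hκ c hcσ hc1 hxc
    rw [hxo] at this
    exact hXτ this
  have h := Cfsg.Agent.Lib.helper56.BGOb.ob_core hG hNA M L hM hL x (hE.1 (hXE hxX)) hκ
    (by rw [hXz]; exact hNL)
  rwa [hxo] at h

/-- `E` normalizes `C_{M_σ}(R)` when it normalizes `R`. -/
theorem le_normalizer_inf_cent (M E R : Subgroup G) (hEM : E ≤ M)
    (hEN : E ≤ Subgroup.normalizer (R : Set G)) :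
    E ≤ Subgroup.normalizer
      ((sigmaCore M ⊓ Subgroup.centralizer (R : Set G) : Subgroup G) : Set G) := by
  apply Cfsg.Agent.Lib.helper71.BG12.le_normalizer_of_forall_conj_mem
  intro e he c hc
  have hc := Subgroup.mem_inf.mp hc
  refine Subgroup.mem_inf.mpr ⟨?_, ?_⟩
  · have := Cfsg.Agent.Lib.helper13.le_normalizer_sigmaCore M (hEM he)
    rw [Subgroup.mem_normalizer_iff] at this
    exact (this c).1 hc.1
  · rw [Subgroup.mem_centralizer_iff]
    intro u hu
    have hN := hEN he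
    rw [Subgroup.mem_normalizer_iff] at hN
    have hu' : e⁻¹ * u * e ∈ R := by
      apply (hN (e⁻¹ * u * e)).2
      have h2 : e * (e⁻¹ * u * e) * e⁻¹ = u := by group
      rw [h2]; exact hu
    have hc2 := Subgroup.mem_centralizer_iff.mp hc.2 _ hu'
    calc u * (e * c * e⁻¹) = e * ((e⁻¹ * u * e) * c) * e⁻¹ := by group
      _ = e * (c * (e⁻¹ * u * e)) * e⁻¹ := by rw [hc2]
      _ = e * c * e⁻¹ * u := by group

/-- A coprime group `P` of automorphisms of a solvable group `C` which does not centralize `C`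
does not centralize some `P`-invariant Sylow subgroup of `C`. -/
theorem exists_inv_sylow_not_cent [Finite G] (P C : Subgroup G)
    (hPNC : P ≤ Subgroup.normalizer (C : Set G)) (hcop : (Nat.card P).Coprime (Nat.card C))
    (hCsolv : Group.IsSolvable C) (hCP : ¬ C ≤ Subgroup.centralizer (P : Set G)) :
    ∃ (q : ℕ) (_ : Fact q.Prime) (Q : Sylow q ↥C),
      P ≤ Subgroup.normalizer (((Q : Subgroup ↥C).map C.subtype : Subgroup G) : Set G) ∧
      ¬ (Q : Subgroup ↥C).map C.subtype ≤ Subgroup.centralizer (P : Set G) := by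
  by_contra hno
  apply hCP
  apply le_of_exists_sylow_le
  intro q _
  obtain ⟨Q, -, hQN⟩ := Cfsg.Agent.Lib.helper1.exists_invariant_sylow_ge (p := q) P C hPNC hcop
    (Or.inr hCsolv) ⊥ bot_le IsPGroup.of_bot (by
      intro g _
      rw [Subgroup.mem_normalizer_iff]
      intro h
      simp [Subgroup.mem_bot])
  refine ⟨Q, ?_⟩
  by_contra hQ
  exact hno ⟨q, inferInstance, Q, hQN, hQ⟩

/-! ### The facts -/

/-- The basic facts of the setting, from the pieces A, B, C, X, E3, (Sig), the `σ`-partition and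
the asymmetry lemma. -/
theorem facts [Finite G] (hG : IsMinSimpleOddOrder G) (hNA : NAHyp G) (hPart : PartHyp G)
    (hAS : ASHyp G) (hNorm : HNorm G) (hHH : HH G) (hT2 : HTau2 G) (hX : HCross G)
    (hE3 : HE3 G) {M E R H : Subgroup G} {r : ℕ} (S : Setting M E R H r) : Facts M E R H := by
  have hM := S.hM
  have hE := S.hE
  have hH := S.hH
  have hEM : E ≤ M := hE.1
  have hodd : Odd (Nat.card G) := hG.1
  have hrp : r.Prime := S.hr.1
  have : Fact r.Prime := ⟨hrp⟩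
  have hctx : Ctx M E R r := ⟨hM, hE, S.hr, S.hRE, S.hR⟩
  have hsctx : SCtx M E R r := ⟨hctx, S.hC⟩
  obtain ⟨hEN, -⟩ := hNorm M E R r hctx
  obtain ⟨hnc, hB3e⟩ := hHH M E R r hctx H hH S.hNR
  have hne : H ≠ M := by
    intro h
    apply hnc 1
    rw [Cfsg.Agent.Lib.helper87.BG133.map_conj_one]; exact h
  have hEH : E ≤ H := hEN.trans S.hNR
  have hτ2 := hT2 M E R r hsctx
  have hRp : (Nat.card R).Prime := by rw [S.hR]; exact hrp
  have hRne : R ≠ ⊥ := ne_bot_of_prime_card hRp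
  have hRM : R ≤ M := S.hRE.trans hEM
  have hRH : R ≤ H := Subgroup.le_normalizer.trans S.hNR
  have hMsM : sigmaCore M ≤ M := Subgroup.map_subtype_le _
  have hB3 : sigmaCore M ⊓ H ≤ Subgroup.centralizer (R : Set G) := by
    rw [hB3e]; exact inf_le_right
  have hU : BGUniqHyp G := fun K hK h1 h2 => Cfsg.Agent.S1403.result hG K hK h1 h2
  set C : Subgroup G := sigmaCore M ⊓ Subgroup.centralizer (R : Set G) with hCdef
  have hCM : C ≤ sigmaCore M := inf_le_left
  have hCR : C ≤ Subgroup.centralizer (R : Set G) := inf_le_right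
  have hCH : C ≤ H := hCR.trans ((Subgroup.centralizer_le_normalizer _).trans S.hNR)
  have hCsolv : Group.IsSolvable C := bg8_solvable hG M hM C (hCM.trans hMsM)
  -- `R ≤ H_σ`
  have hrH : r ∈ sigma H := by
    have := sig_of_singular hG hNA M E hM hE R S.hRE hRp (by rw [S.hR]; exact hτ2 r) S.hC H hH
      S.hNR
    rwa [S.hR] at this
  have hRs : R ≤ sigmaCore H :=
    Cfsg.Agent.Lib.helper87.BG133.le_sigmaCore_of_pi hG H hH R hRH (by
      intro q hq hqd
      rw [S.hR] at hqd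
      rw [(Nat.prime_dvd_prime_iff_eq hq hrp).mp hqd]; exact hrH)
  have hσM : ∀ q : ℕ, q.Prime → q ∣ Nat.card C → q ∈ sigma M := fun q hq hqC =>
    Cfsg.Agent.Lib.helper71.BG12.mem_sigma_of_dvd_card_sigmaCore M hq
      (hqC.trans (Subgroup.card_dvd_of_le hCM))
  -- `C` is a `σ(H)'`-group
  have hCs : ∀ q : ℕ, q.Prime → q ∣ Nat.card C → q ∉ sigma H := by
    intro q hq hqC hqH
    obtain ⟨g, hg⟩ := hPart M H hM hH ⟨q, hσM q hq hqC, hqH⟩
    exact hnc g hg
  have hRcent : ∀ Y : Subgroup G, Y ≤ C →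
      sigmaCore H ⊓ Subgroup.centralizer (Y : Set G) ≠ ⊥ := by
    intro Y hYC h
    have hRY : R ≤ sigmaCore H ⊓ Subgroup.centralizer (Y : Set G) :=
      le_inf hRs (centralizer_symm (hYC.trans hCR))
    rw [h] at hRY
    exact hRne (le_bot_iff.mp hRY)
  -- (N1)
  have hN1 : ∀ q : ℕ, q.Prime → q ∣ Nat.card C → q ∈ tau1 H ∨ q ∈ tau3 H := by
    intro q hq hqC
    have : Fact q.Prime := ⟨hq⟩
    have hqσ := hCs q hq hqC
    have hqM := hσM q hq hqC
    have hqH : q ∣ Nat.card H := hqC.trans (Subgroup.card_dvd_of_le hCH)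
    have hr2 : PRankLE q 2 H := by
      by_contra h
      exact hqσ (bg_alpha_sub_sigma hG hU H hH ⟨hq, h⟩)
    by_cases hr1 : PRankLE q 1 H
    · by_cases hd : q ∣ Nat.card ↥⁅H, H⁆
      · exact Or.inr ⟨hq, hqσ, hd, hr1⟩
      · exact Or.inl ⟨hq, hqσ, hqH, hd, hr1⟩
    · exfalso
      have hq2 : q ∈ tau2 H := ⟨hq, hqσ, hr2, hr1⟩
      obtain ⟨y, hy⟩ := exists_prime_orderOf_dvd_card' (G := ↥C) q hqC
      have hyG : orderOf (y : G) = q := by rw [Subgroup.orderOf_coe]; exact hy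
      have hYC : Subgroup.zpowers (y : G) ≤ C := (Subgroup.zpowers_le).mpr y.2
      have hYc : Nat.card (Subgroup.zpowers (y : G)) = q := by rw [Nat.card_zpowers, hyG]
      have hY1 : Subgroup.zpowers (y : G) ≠ ⊥ := ne_bot_of_prime_card (by rw [hYc]; exact hq)
      have hYq : IsPGroup q (Subgroup.zpowers (y : G)) :=
        IsPGroup.of_card (n := 1) (by rw [hYc, pow_one])
      obtain ⟨EH, hEHc, hCEH⟩ :=
        Cfsg.Agent.Lib.helper60.BGCentU.exists_compl_ge hG H hH C hCH hCs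
      obtain ⟨A, hAE, hAel, hAc⟩ := bg7_exists_elemAb_compl H EH hEHc q hq2
      obtain ⟨⟨-, hsub⟩, -, huniq⟩ :=
        Cfsg.Agent.S1418.result hG H hH EH hEHc q hq2 A ⟨hAE, hAel, hAc⟩
      have hYA : Subgroup.zpowers (y : G) ≤ A := hsub _ (hYC.trans hCEH) hYc
      obtain ⟨-, hu⟩ := huniq _ hYA hYc (hRcent _ hYC)
      have hNY : Subgroup.normalizer ((Subgroup.zpowers (y : G) : Subgroup G) : Set G) ≤ H :=
        normalizer_le_of_uniq hG H _ hH (hYC.trans hCH) hY1 hu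
      have hYM : Subgroup.zpowers (y : G) ≤ M := hYC.trans (hCM.trans hMsM)
      have hYMH : Subgroup.zpowers (y : G) ≤ M ⊓ H := le_inf hYM (hYC.trans hCH)
      have hYp' : IsPGroup q ((Subgroup.zpowers (y : G)).subgroupOf (M ⊓ H)) := by
        apply IsPGroup.of_card (n := 1)
        rw [Nat.card_congr (Subgroup.subgroupOfEquivOfLe hYMH).toEquiv, hYc, pow_one]
      obtain ⟨S0, hS0⟩ := hYp'.exists_le_sylow
      have hYS : Subgroup.zpowers (y : G) ≤
          (S0 : Subgroup ↥(M ⊓ H)).map (M ⊓ H).subtype := by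
        intro x hx
        exact ⟨⟨x, hYMH hx⟩, hS0 (Subgroup.mem_subgroupOf.mpr hx), rfl⟩
      obtain ⟨-, -, hidx⟩ := Cfsg.Agent.S1424.result hG M hM q hqM _ hYq hY1 hYM H hH hne hNY
        S0 hYS
      have hTMH : (S0 : Subgroup ↥(M ⊓ H)).map (M ⊓ H).subtype ≤ M ⊓ H :=
        Subgroup.map_subtype_le _
      have hTq : IsPGroup q ((S0 : Subgroup ↥(M ⊓ H)).map (M ⊓ H).subtype) :=
        S0.isPGroup'.map _
      obtain ⟨P, hP⟩ := Cfsg.Agent.Lib.helper87.BG133.exists_sylow_of_relIndex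
        (hTMH.trans inf_le_right) hTq hidx
      obtain ⟨A', hA'P, hA'el, hA'c⟩ :=
        Cfsg.Agent.Lib.helper55.BGJ.exists_elemAb_sq_le_sylow H q hr2 hr1 P
      rw [hP] at hA'P
      have h17 := (Cfsg.Agent.S1417.result hG H hH q hq2 A'
        ⟨hA'P.trans (hTMH.trans inf_le_right), hA'el, hA'c⟩).2.2.2.2.1 M hM (Ne.symm hne)
        (hA'P.trans (hTMH.trans inf_le_left))
      have hRle : R ≤ sigmaCore H ⊓ M := le_inf hRs hRM
      rw [h17] at hRle
      exact hRne (le_bot_iff.mp hRle)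
  have hr1H : ∀ q : ℕ, q.Prime → q ∣ Nat.card C → PRankLE q 1 H := by
    intro q hq hqC
    rcases hN1 q hq hqC with h | h
    · exact h.2.2.2.2
    · exact h.2.2.2
  -- (N2)
  have hN2 : ∀ Y : Subgroup G, Y ≤ C → (Nat.card Y).Prime →
      Subgroup.normalizer (Y : Set G) ≤ M := by
    intro Y hYC hYp
    have : Fact (Nat.card Y).Prime := ⟨hYp⟩
    have hqC : Nat.card Y ∣ Nat.card C := Subgroup.card_dvd_of_le hYC
    have hqM := hσM _ hYp hqC
    have hr1 := hr1H _ hYp hqC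
    obtain ⟨EH, hEHc, hCEH⟩ :=
      Cfsg.Agent.Lib.helper60.BGCentU.exists_compl_ge hG H hH C hCH hCs
    have hY1 : Y ≠ ⊥ := ne_bot_of_prime_card hYp
    have hYM : Y ≤ M := hYC.trans (hCM.trans hMsM)
    obtain ⟨L, hL, hNL⟩ := exists_coatom_normalizer_le hG hM hYM hY1
    have hqL : Nat.card Y ∈ sigma L := sig_of_singular hG hNA H EH hH hEHc Y (hYC.trans hCEH)
      hYp (fun h => h.2.2.2 hr1) (hRcent Y hYC) L hL hNL
    obtain ⟨g, hg⟩ := hPart M L hM hL ⟨Nat.card Y, hqM, hqL⟩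
    have hYq : IsPGroup (Nat.card Y) Y := IsPGroup.of_card (n := 1) (by rw [pow_one])
    rw [fusion_eq hG M hM (Nat.card Y) hqM Y hYq hY1 hYM L hNL g hg] at hNL
    exact hNL
  -- (N2')
  have hN2' : ∀ X : Subgroup G, X ≤ E → (Nat.card X).Prime →
      sigmaCore M ⊓ Subgroup.centralizer (X : Set G) ≠ ⊥ → Nat.card X ∈ sigma H →
      Subgroup.normalizer (X : Set G) ≤ H := by
    intro X hXE hXp hXne hsH
    have : Fact (Nat.card X).Prime := ⟨hXp⟩
    have hX1 : X ≠ ⊥ := ne_bot_of_prime_card hXp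
    have hXM : X ≤ M := hXE.trans hEM
    obtain ⟨L, hL, hNL⟩ := exists_coatom_normalizer_le hG hM hXM hX1
    have hsL : Nat.card X ∈ sigma L :=
      sig_of_singular hG hNA M E hM hE X hXE hXp (hτ2 _) hXne L hL hNL
    obtain ⟨g, hg⟩ := hPart H L hH hL ⟨Nat.card X, hsH, hsL⟩
    have hXq : IsPGroup (Nat.card X) X := IsPGroup.of_card (n := 1) (by rw [pow_one])
    rw [fusion_eq hG H hH (Nat.card X) hsH X hXq hX1 (hXE.trans hEH) L hNL g hg] at hNL
    exact hNL
  -- (N3)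
  have hN3 : ∀ P' : Subgroup G, P' ≤ E → Nat.card P' ∈ tau1 M → Nat.card P' ∈ tau1 H →
      ¬ P' ≤ Subgroup.centralizer (R : Set G) → C ≤ Subgroup.centralizer (P' : Set G) := by
    intro P' hP'E hp'M hp'H hP'R
    by_contra hCP
    have hp'p : (Nat.card P').Prime := hp'M.1
    have hPNC : P' ≤ Subgroup.normalizer (C : Set G) :=
      hP'E.trans (le_normalizer_inf_cent M E R hEM hEN)
    have hcop : (Nat.card P').Coprime (Nat.card C) := by
      apply (Nat.Prime.coprime_iff_not_dvd hp'p).mpr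
      intro hd
      exact hp'M.2.1 (hσM _ hp'p hd)
    obtain ⟨q, hqF, Q, hQN, hQP⟩ := exists_inv_sylow_not_cent P' C hPNC hcop hCsolv hCP
    have hq : q.Prime := hqF.out
    set Qs : Subgroup G := (Q : Subgroup ↥C).map C.subtype with hQsdef
    have hQsC : Qs ≤ C := Subgroup.map_subtype_le _
    have hQsp : IsPGroup q Qs := Q.isPGroup'.map C.subtype
    have hQ1 : (Q : Subgroup ↥C) ≠ ⊥ := by
      intro h
      apply hQP
      rw [hQsdef, h, Subgroup.map_bot]; exact bot_le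
    have hQs1 : Qs ≠ ⊥ := by
      intro h
      apply hQP
      rw [h]; exact bot_le
    have hqC : q ∣ Nat.card C := by
      by_contra hn
      apply hQ1
      apply Subgroup.eq_bot_of_card_eq
      rw [Sylow.card_eq_multiplicity, Nat.factorization_eq_zero_of_not_dvd hn, pow_zero]
    have hqM := hσM q hq hqC
    have hqp : q ≠ Nat.card P' := by
      intro h
      rw [h] at hqM
      exact hp'M.2.1 hqM
    have hcopQ : (Nat.card Qs).Coprime (Nat.card P') := by
      obtain ⟨k, hk⟩ := (IsPGroup.iff_card.mp hQsp)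
      rw [hk]
      exact Nat.Coprime.pow_left k ((Nat.coprime_primes hq hp'p).mpr hqp)
    have hr1 := hr1H q hq hqC
    have hcyc : IsCyclic (Q : Subgroup ↥C) := bg_sylow_cyclic_of_prank_one hodd hCH q hr1 Q
    have hcycs : IsCyclic Qs :=
      (Subgroup.equivMapOfInjective (Q : Subgroup ↥C) C.subtype
        C.subtype_injective).isCyclic.mp hcyc
    -- `C_{Qs}(P') = 1`
    have hQsP' : Qs ⊓ Subgroup.centralizer (P' : Set G) = ⊥ := by
      by_contra hne0
      obtain ⟨z, hz, hzo⟩ := exists_orderOf_eq_of_pgroup (hQsp.to_le inf_le_left) hne0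
      have hzQ : z ∈ Qs := (Subgroup.mem_inf.mp hz).1
      have hzP : z ∈ Subgroup.centralizer (P' : Set G) := (Subgroup.mem_inf.mp hz).2
      exact hQP (cent_of_cent_omega Qs P' (Subgroup.zpowers z) hQsp hcycs hQN hcopQ
        ((Subgroup.zpowers_le).mpr hzQ) (by rw [Nat.card_zpowers, hzo])
        (centralizer_symm ((Subgroup.zpowers_le).mpr hzP)))
    -- `N_G(Qs) ≤ M`
    have hNQs : Subgroup.normalizer (Qs : Set G) ≤ M := by
      obtain ⟨z0, hz0, hz0o⟩ := exists_orderOf_eq_of_pgroup hQsp hQs1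
      have hY0 : Subgroup.zpowers z0 ≤ Qs := (Subgroup.zpowers_le).mpr hz0
      exact (normalizer_le_normalizer_of_cyclic hY0 hcycs).trans
        (hN2 _ (hY0.trans hQsC) (by rw [Nat.card_zpowers, hz0o]; exact hq))
    -- `Qs` is a Sylow `q`-subgroup of `M ∩ H`
    have hQsmax : ∀ Q₁ : Subgroup G, Q₁ ≤ M ⊓ H → IsPGroup q Q₁ → Qs ≤ Q₁ → Q₁ = Qs := by
      intro Q₁ hQ₁ hQ₁p hle
      have hQ₁Ms : Q₁ ≤ sigmaCore M :=
        Cfsg.Agent.Lib.helper87.BG133.le_sigmaCore_of_pi hG M hM Q₁ (hQ₁.trans inf_le_left) (by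
          intro ℓ hℓ hd
          obtain ⟨k, hk⟩ := IsPGroup.iff_card.mp hQ₁p
          rw [hk] at hd
          rw [(Nat.prime_dvd_prime_iff_eq hℓ hq).mp (hℓ.dvd_of_dvd_pow hd)]; exact hqM)
      have hQ₁C : Q₁ ≤ C := fun x hx => Subgroup.mem_inf.mpr
        ⟨hQ₁Ms hx, hB3 (Subgroup.mem_inf.mpr ⟨hQ₁Ms hx, (Subgroup.mem_inf.mp (hQ₁ hx)).2⟩)⟩
      have h1 : IsPGroup q (Q₁.subgroupOf C) := hQ₁p.comap_subtype
      have h2 : (Q : Subgroup ↥C) ≤ Q₁.subgroupOf C := fun x hx =>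
        Subgroup.mem_subgroupOf.mpr (hle ⟨x, hx, rfl⟩)
      have h3 := Q.is_maximal' h1 h2
      apply le_antisymm _ hle
      intro x hx
      have : (⟨x, hQ₁C hx⟩ : ↥C) ∈ Q₁.subgroupOf C := Subgroup.mem_subgroupOf.mpr hx
      rw [h3] at this
      exact ⟨⟨x, hQ₁C hx⟩, this, rfl⟩
    -- the Sylow `r`-subgroup `R₀` of `E`
    obtain ⟨R0, hRR0, hR0E, hR0p, hR0cyc, hER0, hR0max, hNR0⟩ :=
      sylow_tau3 hG M hM E hE r S.hr R S.hRE S.hR
    have hR01 : R0 ≠ ⊥ := fun h => hRne (le_bot_iff.mp (h ▸ hRR0))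
    have hR0P : R0 ⊓ Subgroup.centralizer (P' : Set G) = ⊥ := by
      by_contra hne0
      obtain ⟨z, hz, hzo⟩ := exists_orderOf_eq_of_pgroup (hR0p.to_le inf_le_left) hne0
      have hzR0 : z ∈ R0 := (Subgroup.mem_inf.mp hz).1
      have hzP : z ∈ Subgroup.centralizer (P' : Set G) := (Subgroup.mem_inf.mp hz).2
      have hcard : Nat.card (Subgroup.zpowers z) = Nat.card R := by
        rw [Nat.card_zpowers, hzo, S.hR]
      have := hR0cyc
      have heq := Cfsg.Agent.Lib.helper18.eq_of_le_cyclic_of_card_eq R0 _ _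
        ((Subgroup.zpowers_le).mpr hzR0) hRR0 hcard
      apply hP'R
      apply centralizer_symm
      rw [← heq, Subgroup.zpowers_le]
      exact hzP
    exact hAS M H hM hH hnc (Nat.card P') hp'M hp'H P'
      (le_inf (hP'E.trans hEM) (hP'E.trans hEH)) rfl
      r R0 hrp (le_inf (hR0E.trans hEM) (hR0E.trans hEH)) hR0p hR01
      (fun Q₁ hQ₁ hQ₁p hle => hR0max Q₁ hQ₁p (hQ₁.trans inf_le_left) hle)
      (hP'E.trans hER0) hR0P (hNR0.trans S.hNR)
      q Qs hq (le_inf (hQsC.trans (hCM.trans hMsM)) (hQsC.trans hCH)) hQsp hQs1 hQsmax hQN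
      hQsP' hNQs
  exact
    { hne := hne, hEN := hEN, hEH := hEH, hRs := hRs, hCs := hCs, hτ2 := hτ2, hB3 := hB3
      hB4 := fun X hXE hXp h => hX M E R r hctx H hH S.hNR X hXE hXp (Or.inl h)
      hB5 := fun X hXE _ h3 => hE3 M E R r hsctx X hXE h3
      hN1 := hN1, hN2 := hN2, hN2' := hN2', hN3 := hN3 }

/-! ### The kills in the bundle language, and `T3Hyp` -/

/-- (KC) every `P ≤ E` of order in `τ₁(M)` centralizes `R`. -/
theorem killC [Finite G] (hG : IsMinSimpleOddOrder G) (hNA : NAHyp G) (hPart : PartHyp G)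
    (hAS : ASHyp G) (hNorm : HNorm G) (hHH : HH G) (hT2 : HTau2 G) (hX : HCross G)
    (hE3 : HE3 G) : HKillC G := by
  intro M E R r hs p P hp hPE hP
  obtain ⟨⟨hM, hE, hr, hRE, hR⟩, hC⟩ := hs
  have hRp : (Nat.card R).Prime := by rw [hR]; exact hr.1
  obtain ⟨H, hH, hNR⟩ := exists_coatom_normalizer_le hG hM (hRE.trans hE.1)
    (ne_bot_of_prime_card hRp)
  have S : Setting M E R H r := ⟨hM, hE, hr, hRE, hR, hC, hH, hNR⟩
  exact lemma_X hG S (facts hG hNA hPart hAS hNorm hHH hT2 hX hE3 S) p hp P hPE hP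

/-- (KA) every `P ≤ E` of order in `τ₁(M)` centralizes `C_{M_σ}(R)`. -/
theorem killA [Finite G] (hG : IsMinSimpleOddOrder G) (hNA : NAHyp G) (hPart : PartHyp G)
    (hAS : ASHyp G) (hNorm : HNorm G) (hHH : HH G) (hT2 : HTau2 G) (hX : HCross G)
    (hE3 : HE3 G) : HKillA G := by
  intro M E R r hs p P hp hPE hP
  obtain ⟨⟨hM, hE, hr, hRE, hR⟩, hC⟩ := hs
  have hRp : (Nat.card R).Prime := by rw [hR]; exact hr.1
  obtain ⟨H, hH, hNR⟩ := exists_coatom_normalizer_le hG hM (hRE.trans hE.1)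
    (ne_bot_of_prime_card hRp)
  have S : Setting M E R H r := ⟨hM, hE, hr, hRE, hR, hC, hH, hNR⟩
  exact lemma_Y hG S (facts hG hNA hPart hAS hNorm hHH hT2 hX hE3 S)
    (fun EH Y q S' => facts hG hNA hPart hAS hNorm hHH hT2 hX hE3 S') p hp P hPE hP

/-- (O-c): `T3Hyp M` when `κ(M)` contains a prime of `τ₃(M)`. -/
theorem t3Hyp_of_bundles [Finite G] (hG : IsMinSimpleOddOrder G) (hNA : NAHyp G)
    (hPart : PartHyp G) (hAS : ASHyp G) (hNorm : HNorm G) (hHH : HH G) (hT2 : HTau2 G)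
    (hX : HCross G) (hE3 : HE3 G) (M : Subgroup G) (hM : IsCoatom M)
    (h : ∃ p ∈ kappa M, p ∈ tau3 M) : Cfsg.Agent.Lib.helper87.BG142.T3Hyp M := by
  intro E hE
  obtain ⟨p, hpκ, hp3⟩ := h
  have hpp : p.Prime := hp3.1
  have : Fact p.Prime := ⟨hpp⟩
  have hEM : E ≤ M := hE.1
  -- an element of order `p` in `E`
  have hpE : p ∣ Nat.card E := by
    have h1 : p ∣ Nat.card E * Nat.card (sigmaCore M) := by
      rw [Cfsg.Agent.Lib.helper60.BGCentU.card_of_isComplIn hE]; exact hpκ.2.1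
    rcases (Nat.Prime.dvd_mul hpp).mp h1 with h | h
    · exact h
    · exact absurd (Cfsg.Agent.Lib.helper71.BG12.mem_sigma_of_dvd_card_sigmaCore M hpp h) hp3.2.1
  obtain ⟨x, hx⟩ := exists_prime_orderOf_dvd_card' (G := ↥E) p hpE
  have hxG : orderOf (x : G) = p := by rw [Subgroup.orderOf_coe]; exact hx
  obtain ⟨c, hcσ, hc1, hxc⟩ := kappa_singular M p hpκ (x : G) (hEM x.2) hxG
  have hRE : Subgroup.zpowers (x : G) ≤ E := (Subgroup.zpowers_le).mpr x.2
  have hRc : Nat.card (Subgroup.zpowers (x : G)) = p := by rw [Nat.card_zpowers, hxG]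
  have hC : sigmaCore M ⊓
      Subgroup.centralizer ((Subgroup.zpowers (x : G) : Subgroup G) : Set G) ≠ ⊥ := by
    intro hbot
    have hcC : c ∈ sigmaCore M ⊓
        Subgroup.centralizer ((Subgroup.zpowers (x : G) : Subgroup G) : Set G) :=
      Subgroup.mem_inf.mpr ⟨hcσ, mem_cent_zpowers.mpr hxc⟩
    rw [hbot, Subgroup.mem_bot] at hcC
    exact hc1 hcC
  have hctx : Ctx M E (Subgroup.zpowers (x : G)) p := ⟨hM, hE, hp3, hRE, hRc⟩
  have hsctx : SCtx M E (Subgroup.zpowers (x : G)) p := ⟨hctx, hC⟩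
  have hτ2 := hT2 M E _ p hsctx
  have hKC := killC hG hNA hPart hAS hNorm hHH hT2 hX hE3
  have hKA := killA hG hNA hPart hAS hNorm hHH hT2 hX hE3
  refine Cfsg.Agent.Lib.helper98.BGT3.t3_of_prime_cent hG M hM E hE hτ2 _ hC ?_
  intro X hXE hXp
  obtain ⟨y, hyX, hy1⟩ := exists_ne_one_of_prime_card hXp
  have hXz := eq_zpowers_of_prime_card hXp hyX hy1
  have hyo : orderOf y = Nat.card X := by
    conv_rhs => rw [← hXz]
    rw [Nat.card_zpowers]
  have h13 := bg8_tau13 hG M hM E hE y (hXE hyX) (Nat.card X) hXp hyo (hτ2 _)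
  rcases h13 with h1 | h3
  · apply le_antisymm
    · have hXR := hKC M E _ p hsctx (Nat.card X) X h1 hXE rfl
      exact Cfsg.Agent.S1428.result hG M hM E hE (Nat.card X) h1 X hXE rfl
        (Subgroup.zpowers (x : G)) (le_inf hRE (centralizer_symm hXR))
        (by rw [hRc]; exact hpp)
    · exact le_inf inf_le_left (hKA M E _ p hsctx (Nat.card X) X h1 hXE rfl)
  · exact hE3 M E _ p hsctx X hXE h3

end Cfsg.Agent.Lib.helper87.BGOC
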