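import Cfsg.Agent.Lib.helper87.SylowIn2

set_option autoImplicit false

namespace Cfsg.Agent.Lib.helper87

open Cfsg

variable {G : Type*} [Group G]

theorem map_conj_eq_of_mem_normalizer {n : G} {Q : Subgroup G} (hn : n ∈ Subgroup.normalizer (Q : Set G)) :
    Q.map (MulAut.conj n).toMonoidHom = Q := by
  ext x
  rw [mem_map_conj]
  exact ((Subgroup.mem_normalizer_iff''.mp hn) x).symm

theorem normalizerMonoidHom_coe (Q : Subgroup G) (n : ↥(Subgroup.normalizer (Q : Set G))) (x : Q) :
    ((Q.normalizerMonoidHom n x : Q) : G) = (n : G) * (x : G) * (n : G)⁻¹ := rfl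

/-- The automorphisms of `Q` induced by `K` are the image of `N_K(Q)` under the conjugation
homomorphism `N_G(Q) → Aut(Q)`. -/
theorem autInducedBy_eq_map (K Q : Subgroup G) :
    autInducedBy K Q = ((K ⊓ Subgroup.normalizer (Q : Set G)).subgroupOf
      (Subgroup.normalizer (Q : Set G))).map Q.normalizerMonoidHom := by
  unfold autInducedBy
  have hset : {α : MulAut Q | ∃ g ∈ K, ∀ x : Q, ((α x : Q) : G) = g * (x : G) * g⁻¹} =
      ((((K ⊓ Subgroup.normalizer (Q : Set G)).subgroupOf
      (Subgroup.normalizer (Q : Set G))).map Q.normalizerMonoidHom : Subgroup (MulAut Q)) : Set (MulAut Q)) := by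
    ext α
    constructor
    · rintro ⟨g, hgK, hg⟩
      have hgN : g ∈ Subgroup.normalizer (Q : Set G) := by
        rw [Subgroup.mem_normalizer_iff]
        intro h
        constructor
        · intro hh
          have := hg ⟨h, hh⟩
          rw [← this]
          exact (α ⟨h, hh⟩).2
        · intro hh
          have h1 := hg (α.symm ⟨g * h * g⁻¹, hh⟩)
          rw [MulEquiv.apply_symm_apply] at h1
          have h2 : h = ((α.symm ⟨g * h * g⁻¹, hh⟩ : Q) : G) := by
            have h3 : g * h * g⁻¹ = g * ((α.symm ⟨g * h * g⁻¹, hh⟩ : Q) : G) * g⁻¹ := h1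
            exact mul_left_cancel (mul_right_cancel h3)
          rw [h2]
          exact (α.symm ⟨g * h * g⁻¹, hh⟩).2
      refine ⟨⟨g, hgN⟩, Subgroup.mem_subgroupOf.mpr ⟨hgK, hgN⟩, ?_⟩
      ext x
      rw [hg x]
      rfl
    · rintro ⟨n, hn, rfl⟩
      exact ⟨n, (Subgroup.mem_subgroupOf.mp hn).1, fun x => rfl⟩
  rw [hset, Subgroup.closure_eq]

/-- Surjective images of Sylow subgroups, in the "Sylow in a subgroup" form. -/
theorem sylowIn_map_range {N A : Type*} [Group N] [Group A] [Finite N] {p : ℕ} [Fact p.Prime] (c : N →* A)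
    (X Y : Subgroup A) (T : Subgroup N) (hX : X = c.range) (hY : Y = T.map c) (R : Sylow p N)
    (hR : (R : Subgroup N) = T) : ∃ R' : Sylow p ↥X, (R' : Subgroup X) = Y.subgroupOf X := by
  subst hX hY
  refine ⟨R.mapSurjective c.rangeRestrict_surjective, ?_⟩
  rw [Sylow.coe_mapSurjective, hR]
  ext ⟨y, hy⟩
  constructor
  · rintro ⟨x, hx, h⟩
    refine Subgroup.mem_subgroupOf.mpr ⟨x, hx, ?_⟩
    exact congrArg Subtype.val h
  · intro h
    obtain ⟨x, hx, hxy⟩ := Subgroup.mem_subgroupOf.mp h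
    exact ⟨x, hx, Subtype.ext hxy⟩

end Cfsg.Agent.Lib.helper87
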