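import Mathlib
import Cfsg.Agent.Lib.helper87.BGOC2
import Cfsg.Agent.Lib.helper86.BGNA
import Cfsg.Agent.Lib.helper70.BGAsym
import Cfsg.Agent.Lib.helper29.BGSigGlue
import Cfsg.Agent.Lib.helper32.BGT3A
import Cfsg.Agent.Lib.helper56.BGT3B
import Cfsg.Agent.Lib.helper32.BGT3C
import Cfsg.Agent.Lib.helper56.BGT3X
import Cfsg.Agent.Lib.helper36.BGT3E3

/-!
# S1430 (O-c): final glue (helper87)

All hypothesis bundles of `t3Hyp_of_bundles` discharged from the landed pieces: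
`T3Hyp M` holds unconditionally for a maximal subgroup `M` of a minimal simple group of odd
order with a prime in `κ(M) ∩ τ₃(M)`.
-/

set_option autoImplicit false

namespace Cfsg.Agent.Lib.helper87.BGOC

open Cfsg
open Cfsg.Agent.Lib.helper8.BGT3

variable {G : Type*} [Group G]

/-- The asymmetry lemma in the `ASHyp` shape. -/
theorem asHyp [Finite G] (hG : IsMinSimpleOddOrder G) : ASHyp G := by
  intro M L hM hL hnc p hpM hpL P hPML hP q Q hq hQle hQp hQ1 hsyl hPQ hQP hNQ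
    q' Q' hq' hQ'le hQ'p hQ'1 hsyl' hPQ' hQ'P hNQ'
  exact Cfsg.Agent.Lib.helper70.bg_tau1_asymmetry hG M L hM hL hnc p hpM hpL P
    (hPML.trans inf_le_left) (hPML.trans inf_le_right) hP q hq Q hQp hQ1
    (hQle.trans inf_le_left) (hQle.trans inf_le_right)
    (fun Q1 hQ1p hQ1M hQ1L hle => hsyl Q1 (le_inf hQ1M hQ1L) hQ1p hle) hPQ hQP hNQ
    q' hq' Q' hQ'p hQ'1 (hQ'le.trans inf_le_left) (hQ'le.trans inf_le_right)
    (fun Q1 hQ1p hQ1M hQ1L hle => hsyl' Q1 (le_inf hQ1M hQ1L) hQ1p hle) hPQ' hQ'P hNQ'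

/-- Maximal subgroups with a common `σ`-prime are conjugate. -/
theorem partHyp [Finite G] (hG : IsMinSimpleOddOrder G) : PartHyp G := by
  intro M N hM hN h
  exact Cfsg.Agent.Lib.helper29.SigPart.sigma_inter_conj hG
    (Cfsg.Agent.Lib.helper29.SigPart.asymSylHyp_of_asym70
      (fun M L hM hL hnc p hpM hpL P hPM hPL hP q hq Q hQ hQ1 hQM hQL hQsyl hPQ hQP hNQ
          r hr R hR hR1 hRM hRL hRsyl hPR hRP hNR =>
        Cfsg.Agent.Lib.helper70.bg_tau1_asymmetry hG M L hM hL hnc p hpM hpL P hPM hPL hP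
          q hq Q hQ hQ1 hQM hQL hQsyl hPQ hQP hNQ r hr R hR hR1 hRM hRL hRsyl hPR hRP hNR))
    M N hM hN h

/-- **(O-c)**: `T3Hyp M`, unconditionally. -/
theorem t3Hyp [Finite G] (hG : IsMinSimpleOddOrder G) (M : Subgroup G) (hM : IsCoatom M)
    (h : ∃ p ∈ kappa M, p ∈ tau3 M) : Cfsg.Agent.Lib.helper87.BG142.T3Hyp M := by
  have hN : HNorm G := Cfsg.Agent.Lib.helper32.BGT3.t3_norm hG
  have hH : HH G := Cfsg.Agent.Lib.helper56.BGT3.t3_H hG
  have hT2 : HTau2 G := Cfsg.Agent.Lib.helper32.BGT3.t3_tau2 hG hN hH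
  have hX : HCross G := Cfsg.Agent.Lib.helper56.BGT3.t3_cross hG hN hH
  have hE3 : HE3 G := Cfsg.Agent.Lib.helper36.BGT3.t3_E3 hG hN hX
  exact t3Hyp_of_bundles hG (Cfsg.Agent.Lib.helper86.BGNA.naHyp hG) (partHyp hG) (asHyp hG)
    hN hH hT2 hX hE3 M hM h

end Cfsg.Agent.Lib.helper87.BGOC
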