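import Mathlib
import Cfsg.Agent.Lib.helper12.FrobFixB
import Cfsg.Agent.Lib.helper1.SZ
import Cfsg.Agent.Lib.helper1.Coprime
import Cfsg.Agent.Lib.helper3.PGroupFrattini
import Cfsg.Agent.Lib.helper13.Count

/-!
# B-G Theorem 15.2, the `𝒫₁` structure: pure group theory core (helper87)

`V = Q ⋊ D` with `Q` a normal Sylow `q`-subgroup, `K ≠ 1` acting coprimely on `V` with *prime
action* (`C_V(k) = K*` for all `k ∈ K#`), `|K*| = q`, `K* ≤ Q`, `D` a `K`-invariant complement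
and `[Q, D] ≠ 1`.  Then, by the Frobenius--Wielandt fixed point formula for the Frobenius group
`DK`: `|K|` is prime, `|Q : C_Q(D)| = q ^ |K|`, `Φ(Q) ≤ C_Q(D)`, `C_Q(D)` is normalized by
`Q`, `D`, `K` and no `DK`-invariant subgroup lies strictly between `C_Q(D)` and `Q`.
-/

set_option autoImplicit false

namespace Cfsg.Agent.Lib.helper87.BGP1

open Subgroup
open scoped commutatorElement Pointwise

variable {X : Type*} [Group X]

/-- The `K`-invariant setting. -/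
structure Setting (V Q K Ks D : Subgroup X) (q : ℕ) : Prop where
  hq : q.Prime
  hQV : Q ≤ V
  hDV : D ≤ V
  hQD : Q ⊓ D = ⊥
  hDQ : D ≤ normalizer (Q : Set X)
  hKQ : K ≤ normalizer (Q : Set X)
  hKD : K ≤ normalizer (D : Set X)
  hQq : IsPGroup q Q
  hDq : ¬ q ∣ Nat.card D
  hKq : ¬ q ∣ Nat.card K
  hK1 : K ≠ ⊥
  hKs : Nat.card Ks = q
  hKsQ : Ks ≤ Q
  hprime : ∀ k ∈ K, k ≠ 1 → V ⊓ centralizer ({k} : Set X) = Ks
  hnc : ¬ Q ≤ centralizer (D : Set X)

theorem cent_sup (A B : Subgroup X) :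
    centralizer ((A ⊔ B : Subgroup X) : Set X) = centralizer (A : Set X) ⊓ centralizer (B : Set X) := by
  apply le_antisymm
  · exact le_inf (centralizer_le (by exact_mod_cast (le_sup_left : A ≤ A ⊔ B)))
      (centralizer_le (by exact_mod_cast (le_sup_right : B ≤ A ⊔ B)))
  · intro x hx
    have h1 : A ≤ centralizer ((zpowers x : Subgroup X) : Set X) :=
      le_centralizer_iff.mp ((zpowers_le).mpr hx.1)
    have h2 : B ≤ centralizer ((zpowers x : Subgroup X) : Set X) :=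
      le_centralizer_iff.mp ((zpowers_le).mpr hx.2)
    have h3 : zpowers x ≤ centralizer ((A ⊔ B : Subgroup X) : Set X) :=
      le_centralizer_iff.mp (sup_le h1 h2)
    exact h3 (mem_zpowers x)

theorem mem_cent_single {c k : X} : c ∈ centralizer ({k} : Set X) ↔ k * c = c * k := by
  rw [mem_centralizer_iff]
  constructor
  · intro h; exact h k rfl
  · intro h g hg
    rw [Set.mem_singleton_iff] at hg
    rw [hg]; exact h

theorem le_normalizer_of_conj {T H : Subgroup X} (h : ∀ y ∈ T, ∀ u ∈ H, y * u * y⁻¹ ∈ H) :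
    T ≤ normalizer (H : Set X) := by
  intro y hy
  rw [mem_normalizer_iff]
  intro u
  constructor
  · exact h y hy u
  · intro hu
    have := h y⁻¹ (T.inv_mem hy) _ hu
    simpa [mul_assoc] using this

theorem conj_mem_of_le_normalizer {T H : Subgroup X} (h : T ≤ normalizer (H : Set X)) {y u : X}
    (hy : y ∈ T) (hu : u ∈ H) : y * u * y⁻¹ ∈ H :=
  (mem_normalizer_iff.mp (h hy) u).mp hu

namespace Setting

variable {V Q K Ks D : Subgroup X} {q : ℕ}

theorem fpf (h : Setting V Q K Ks D q) :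
    ∀ k ∈ K, k ≠ 1 → ∀ d ∈ D, k * d = d * k → d = 1 := by
  intro k hk hk1 d hd hkd
  have h1 : d ∈ V ⊓ centralizer ({k} : Set X) :=
    Subgroup.mem_inf.mpr ⟨h.hDV hd, mem_cent_single.mpr hkd⟩
  rw [h.hprime k hk hk1] at h1
  have h2 : d ∈ Q ⊓ D := ⟨h.hKsQ h1, hd⟩
  rw [h.hQD] at h2
  exact (mem_bot.mp h2)

theorem ks_cent (h : Setting V Q K Ks D q) : Ks ≤ centralizer (K : Set X) := by
  intro c hc
  rw [mem_centralizer_iff]
  intro k hk
  by_cases hk1 : k = 1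
  · rw [hk1]; simp
  · have h1 : c ∈ V ⊓ centralizer ({k} : Set X) := by rw [h.hprime k hk hk1]; exact hc
    exact mem_cent_single.mp (Subgroup.mem_inf.mp h1).2

theorem inf_cent (h : Setting V Q K Ks D q) {H K₁ : Subgroup X} (hHQ : H ≤ Q) (hK₁ : K₁ ≤ K)
    (hK₁1 : K₁ ≠ ⊥) : H ⊓ centralizer (K₁ : Set X) = H ⊓ Ks := by
  apply le_antisymm
  · intro x hx
    obtain ⟨hx1, hx2⟩ := Subgroup.mem_inf.mp hx
    obtain ⟨⟨k, hk⟩, hk1'⟩ := (Subgroup.ne_bot_iff_exists_ne_one).mp hK₁1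
    have hk1 : k ≠ 1 := fun h0 => hk1' (Subtype.ext h0)
    have h1 : x ∈ V ⊓ centralizer ({k} : Set X) :=
      Subgroup.mem_inf.mpr ⟨h.hQV (hHQ hx1),
        mem_cent_single.mpr ((mem_centralizer_iff.mp hx2) k hk)⟩
    rw [h.hprime k (hK₁ hk) hk1] at h1
    exact Subgroup.mem_inf.mpr ⟨hx1, h1⟩
  · intro x hx
    obtain ⟨hx1, hx2⟩ := Subgroup.mem_inf.mp hx
    exact Subgroup.mem_inf.mpr ⟨hx1, centralizer_le (by exact_mod_cast hK₁) (h.ks_cent hx2)⟩

theorem dk_le (h : Setting V Q K Ks D q) : D ⊔ K ≤ normalizer (Q : Set X) :=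
  sup_le h.hDQ h.hKQ

theorem solvable_of_le (h : Setting V Q K Ks D q) [Finite X] {H : Subgroup X} (hHQ : H ≤ Q) :
    Group.IsSolvable H := by
  have : Fact q.Prime := ⟨h.hq⟩
  have hp : IsPGroup q H := h.hQq.to_le hHQ
  have : Group.IsNilpotent H := hp.isNilpotent
  infer_instance

theorem not_dvd_sup (h : Setting V Q K Ks D q) [Finite X] {K₁ : Subgroup X} (hK₁ : K₁ ≤ K) :
    ¬ q ∣ Nat.card ↥(D ⊔ K₁) := by
  intro hdvd
  have h1 := Cfsg.Agent.Lib.helper13.card_sup_mul_card_inf K₁ D (hK₁.trans h.hKD)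
  have h2 : Nat.card ↥(D ⊔ K₁) ∣ Nat.card K₁ * Nat.card D := by
    rw [sup_comm, ← h1]; exact dvd_mul_right _ _
  rcases (Nat.Prime.dvd_mul h.hq).mp (hdvd.trans h2) with h3 | h3
  · exact h.hKq (h3.trans (Subgroup.card_dvd_of_le hK₁))
  · exact h.hDq h3

/-- The fixed point formula for a `DK`-invariant subgroup `H` of `Q`. -/
theorem ff (h : Setting V Q K Ks D q) [Finite X] {H : Subgroup X} (hHQ : H ≤ Q)
    (hHn : ∀ x ∈ D ⊔ K, ∀ y ∈ H, x * y * x⁻¹ ∈ H) {K₁ : Subgroup X} (hK₁ : K₁ ≤ K)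
    (hK₁1 : K₁ ≠ ⊥) :
    Nat.card ↥(H ⊓ Ks ⊓ centralizer (D : Set X)) ^ Nat.card K₁ * Nat.card H =
      Nat.card ↥(H ⊓ Ks) ^ Nat.card K₁ * Nat.card ↥(H ⊓ centralizer (D : Set X)) := by
  have : Fact q.Prime := ⟨h.hq⟩
  have hcop : Nat.Coprime (Nat.card H) (Nat.card ↥(D ⊔ K₁)) := by
    obtain ⟨n, hn⟩ := (IsPGroup.iff_card).mp (h.hQq.to_le hHQ)
    rw [hn]
    apply Nat.Coprime.pow_left
    exact (Nat.Prime.coprime_iff_not_dvd h.hq).mpr (h.not_dvd_sup hK₁)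
  have key := Cfsg.Agent.Lib.helper12.ff_formula D K₁ H hK₁1
    (fun e he u hu => conj_mem_of_le_normalizer h.hKD (hK₁ he) hu)
    (fun e he he1 u hu heu => h.fpf e (hK₁ he) he1 u hu heu)
    (fun x hx y hy => hHn x ((sup_le_sup_left hK₁ D) hx) y hy)
    (h.solvable_of_le hHQ) hcop
  have e1 : H ⊓ centralizer ((D ⊔ K₁ : Subgroup X) : Set X) = H ⊓ Ks ⊓ centralizer (D : Set X) := by
    rw [cent_sup, inf_comm (centralizer (D : Set X)), ← inf_assoc, h.inf_cent hHQ hK₁ hK₁1]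
  rw [e1, h.inf_cent hHQ hK₁ hK₁1] at key
  exact key

theorem q_conj (h : Setting V Q K Ks D q) : ∀ x ∈ D ⊔ K, ∀ y ∈ Q, x * y * x⁻¹ ∈ Q :=
  fun _ hx _ hy => conj_mem_of_le_normalizer h.dk_le hx hy

theorem ks_inf_cent (h : Setting V Q K Ks D q) [Finite X] : Ks ⊓ centralizer (D : Set X) = ⊥ := by
  by_contra hne
  have hle : Ks ≤ centralizer (D : Set X) := by
    have h1 : Nat.card ↥(Ks ⊓ centralizer (D : Set X)) ∣ q := by
      rw [← h.hKs]; exact Subgroup.card_dvd_of_le inf_le_left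
    rcases (Nat.dvd_prime h.hq).mp h1 with h2 | h2
    · exact absurd ((Subgroup.card_eq_one).mp h2) hne
    · have h3 : Ks ⊓ centralizer (D : Set X) = Ks := by
        apply Subgroup.eq_of_le_of_card_ge inf_le_left
        rw [h2, h.hKs]
      rw [← h3]; exact inf_le_right
  have key := h.ff (le_refl Q) h.q_conj (le_refl K) h.hK1
  have e1 : Q ⊓ Ks = Ks := inf_eq_right.mpr h.hKsQ
  have e2 : Q ⊓ Ks ⊓ centralizer (D : Set X) = Ks := by
    rw [e1]; exact inf_eq_left.mpr hle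
  rw [e2, e1, h.hKs] at key
  have hpos : 0 < q ^ Nat.card K := pow_pos h.hq.pos _
  have h4 : Nat.card Q = Nat.card ↥(Q ⊓ centralizer (D : Set X)) := Nat.eq_of_mul_eq_mul_left hpos key
  have h5 : Q ⊓ centralizer (D : Set X) = Q := by
    apply Subgroup.eq_of_le_of_card_ge inf_le_left
    rw [h4]
  exact h.hnc (by rw [← h5]; exact inf_le_right)

theorem card_H (h : Setting V Q K Ks D q) [Finite X] {H : Subgroup X} (hHQ : H ≤ Q)
    (hHn : ∀ x ∈ D ⊔ K, ∀ y ∈ H, x * y * x⁻¹ ∈ H) {K₁ : Subgroup X} (hK₁ : K₁ ≤ K)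
    (hK₁1 : K₁ ≠ ⊥) :
    Nat.card H = Nat.card ↥(H ⊓ Ks) ^ Nat.card K₁ * Nat.card ↥(H ⊓ centralizer (D : Set X)) := by
  have key := h.ff hHQ hHn hK₁ hK₁1
  have e : H ⊓ Ks ⊓ centralizer (D : Set X) = ⊥ := by
    rw [eq_bot_iff, ← h.ks_inf_cent]
    exact le_inf (inf_le_left.trans inf_le_right) inf_le_right
  rw [e, Subgroup.card_bot, one_pow, one_mul] at key
  exact key

theorem card_Q (h : Setting V Q K Ks D q) [Finite X] {K₁ : Subgroup X} (hK₁ : K₁ ≤ K)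
    (hK₁1 : K₁ ≠ ⊥) :
    Nat.card Q = q ^ Nat.card K₁ * Nat.card ↥(Q ⊓ centralizer (D : Set X)) := by
  have key := h.card_H (le_refl Q) h.q_conj hK₁ hK₁1
  rw [inf_eq_right.mpr h.hKsQ, h.hKs] at key
  exact key

theorem card_K_prime (h : Setting V Q K Ks D q) [Finite X] : (Nat.card K).Prime := by
  have hK1 : Nat.card K ≠ 1 := fun h1 => h.hK1 ((Subgroup.card_eq_one).mp h1)
  set r := (Nat.card K).minFac with hr
  have hrp : r.Prime := Nat.minFac_prime hK1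
  have : Fact r.Prime := ⟨hrp⟩
  obtain ⟨k, hk⟩ := exists_prime_orderOf_dvd_card' (G := K) r (Nat.minFac_dvd _)
  set K₁ : Subgroup X := zpowers (k : X) with hK₁
  have hK₁K : K₁ ≤ K := (zpowers_le).mpr k.2
  have hcard : Nat.card K₁ = r := by
    rw [hK₁, Nat.card_zpowers, Subgroup.orderOf_coe, hk]
  have hK₁1 : K₁ ≠ ⊥ := by
    intro h0
    rw [h0, Subgroup.card_bot] at hcard
    exact hrp.one_lt.ne' hcard.symm
  have e1 := h.card_Q hK₁K hK₁1
  have e2 := h.card_Q (le_refl K) h.hK1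
  rw [e1, hcard] at e2
  have hpos : 0 < Nat.card ↥(Q ⊓ centralizer (D : Set X)) := Nat.card_pos
  have e3 : q ^ r = q ^ Nat.card K := Nat.eq_of_mul_eq_mul_right hpos e2
  have e4 : r = Nat.card K := Nat.pow_right_injective h.hq.two_le e3
  rw [← e4]; exact hrp

theorem card_inf_ks (h : Setting V Q K Ks D q) [Finite X] (H : Subgroup X) (hc : H ⊓ Ks ≠ ⊥) :
    Nat.card ↥(H ⊓ Ks) = q := by
  have h1 : Nat.card ↥(H ⊓ Ks) ∣ q := by
    rw [← h.hKs]; exact Subgroup.card_dvd_of_le inf_le_right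
  rcases (Nat.dvd_prime h.hq).mp h1 with h2 | h2
  · exact absurd ((Subgroup.card_eq_one).mp h2) hc
  · exact h2

/-- `D` centralizes the Frattini subgroup of `Q`. -/
theorem frat_le (h : Setting V Q K Ks D q) [Finite X] :
    (frattini ↥Q).map Q.subtype ≤ Q ⊓ centralizer (D : Set X) := by
  set Φ : Subgroup X := (frattini ↥Q).map Q.subtype with hΦ
  have hΦQ : Φ ≤ Q := by rw [hΦ]; exact Subgroup.map_subtype_le _
  have hNQ : normalizer (Q : Set X) ≤ normalizer (Φ : Set X) :=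
    Cfsg.Agent.Lib.helper1.normalizer_le_normalizer_map_of_characteristic Q (frattini ↥Q)
  have hΦn : ∀ x ∈ D ⊔ K, ∀ y ∈ Φ, x * y * x⁻¹ ∈ Φ :=
    fun x hx y hy => conj_mem_of_le_normalizer (h.dk_le.trans hNQ) hx hy
  have key := h.card_H hΦQ hΦn (le_refl K) h.hK1
  by_cases hc : Φ ⊓ Ks = ⊥
  · rw [hc, Subgroup.card_bot, one_pow, one_mul] at key
    have h5 : Φ ⊓ centralizer (D : Set X) = Φ :=
      Subgroup.eq_of_le_of_card_ge inf_le_left (by rw [← key])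
    exact le_inf hΦQ (by rw [← h5]; exact inf_le_right)
  · exfalso
    rw [h.card_inf_ks Φ hc] at key
    have hQ := h.card_Q (le_refl K) h.hK1
    set Q₀ : Subgroup X := Q ⊓ centralizer (D : Set X) with hQ₀
    have e1 : Φ ⊓ centralizer (D : Set X) = Q₀ ⊓ Φ :=
      le_antisymm (le_inf (le_inf (inf_le_left.trans hΦQ) inf_le_right) inf_le_left)
        (le_inf inf_le_right (inf_le_left.trans inf_le_right))
    have e2 := Cfsg.Agent.Lib.helper13.card_sup_mul_card_inf Q₀ Φ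
      ((inf_le_left : Q₀ ≤ Q).trans (le_normalizer.trans hNQ))
    rw [← e1] at e2
    have hpos : 0 < Nat.card ↥(Φ ⊓ centralizer (D : Set X)) := Nat.card_pos
    have e3 : Nat.card ↥(Q₀ ⊔ Φ) = Nat.card Q₀ * q ^ Nat.card K := by
      apply Nat.eq_of_mul_eq_mul_right hpos
      rw [e2, key]; ring
    have e4 : Q₀ ⊔ Φ = Q := by
      apply Subgroup.eq_of_le_of_card_ge (sup_le inf_le_left hΦQ)
      rw [e3, hQ, mul_comm]
    have e5 : Q₀.subgroupOf Q ⊔ frattini ↥Q = ⊤ := by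
      have e6 : Φ.subgroupOf Q = frattini ↥Q := by
        rw [hΦ]
        exact Subgroup.comap_map_eq_self_of_injective Q.subtype_injective _
      rw [← e6, ← Subgroup.subgroupOf_sup inf_le_left hΦQ, e4, Subgroup.subgroupOf_self]
    have e7 : Q₀.subgroupOf Q = ⊤ := frattini_nongenerating e5
    have e8 : Q ≤ Q₀ := Subgroup.subgroupOf_eq_top.mp e7
    exact h.hnc (e8.trans inf_le_right)

theorem pow_comm_mem (h : Setting V Q K Ks D q) [Finite X] :
    ∀ a ∈ Q, ∀ b ∈ Q, a ^ q ∈ Q ⊓ centralizer (D : Set X) ∧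
      a * b * a⁻¹ * b⁻¹ ∈ Q ⊓ centralizer (D : Set X) := by
  have : Fact q.Prime := ⟨h.hq⟩
  have hQp : IsPGroup q ↥Q := h.hQq
  intro a ha b hb
  constructor
  · apply h.frat_le
    have h1 := Cfsg.Agent.Lib.helper3.pow_prime_mem_frattini hQp (⟨a, ha⟩ : ↥Q)
    exact ⟨_, h1, by simp⟩
  · apply h.frat_le
    have h1 : ⁅(⟨a, ha⟩ : ↥Q), ⟨b, hb⟩⁆ ∈ _root_.commutator ↥Q := by
      rw [_root_.commutator_def]
      exact Subgroup.commutator_mem_commutator (Subgroup.mem_top _) (Subgroup.mem_top _)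
    have h2 := Cfsg.Agent.Lib.helper3.commutator_le_frattini hQp h1
    exact ⟨_, h2, by simp [commutatorElement_def]⟩

theorem q0_normal (h : Setting V Q K Ks D q) [Finite X] :
    Q ⊔ D ⊔ K ≤ normalizer ((Q ⊓ centralizer (D : Set X) : Subgroup X) : Set X) := by
  refine sup_le (sup_le ?_ ?_) ?_
  · apply le_normalizer_of_conj
    intro a ha c hc
    have hcQ : c ∈ Q := (Subgroup.mem_inf.mp hc).1
    have h1 := (h.pow_comm_mem a ha c hcQ).2
    have e : a * c * a⁻¹ = (a * c * a⁻¹ * c⁻¹) * c := by group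
    rw [e]; exact Subgroup.mul_mem _ h1 hc
  · apply le_normalizer_of_conj
    intro d hd c hc
    have h1 : d * c = c * d := (mem_centralizer_iff.mp (Subgroup.mem_inf.mp hc).2) d hd
    have e : d * c * d⁻¹ = c := by rw [h1]; group
    rw [e]; exact hc
  · apply le_normalizer_of_conj
    intro k hk c hc
    refine Subgroup.mem_inf.mpr
      ⟨conj_mem_of_le_normalizer h.hKQ hk (Subgroup.mem_inf.mp hc).1, ?_⟩
    rw [mem_centralizer_iff]
    intro d hd
    have hd' : k⁻¹ * d * k ∈ D := by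
      have h0 := conj_mem_of_le_normalizer h.hKD (K.inv_mem hk) hd
      simpa using h0
    have h1 : (k⁻¹ * d * k) * c = c * (k⁻¹ * d * k) :=
      (mem_centralizer_iff.mp (Subgroup.mem_inf.mp hc).2) _ hd'
    calc d * (k * c * k⁻¹) = k * ((k⁻¹ * d * k) * c) * k⁻¹ := by group
      _ = k * (c * (k⁻¹ * d * k)) * k⁻¹ := by rw [h1]
      _ = k * c * k⁻¹ * d := by group

theorem q0_lt (h : Setting V Q K Ks D q) : Q ⊓ centralizer (D : Set X) < Q :=
  lt_of_le_of_ne inf_le_left (fun h0 => h.hnc (by rw [← h0]; exact inf_le_right))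

theorem irred (h : Setting V Q K Ks D q) [Finite X] (N : Subgroup X)
    (h1 : Q ⊓ centralizer (D : Set X) < N) (h2 : N < Q)
    (hn : D ⊔ K ≤ normalizer (N : Set X)) : False := by
  have key := h.card_H h2.le (fun x hx y hy => conj_mem_of_le_normalizer hn hx hy)
    (le_refl K) h.hK1
  have e1 : N ⊓ centralizer (D : Set X) = Q ⊓ centralizer (D : Set X) :=
    le_antisymm (inf_le_inf_right _ h2.le) (le_inf h1.le inf_le_right)
  rw [e1] at key
  by_cases hc : N ⊓ Ks = ⊥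
  · rw [hc, Subgroup.card_bot, one_pow, one_mul] at key
    exact h1.ne (Subgroup.eq_of_le_of_card_ge h1.le (by rw [key]))
  · rw [h.card_inf_ks N hc, ← h.card_Q (le_refl K) h.hK1] at key
    exact h2.ne (Subgroup.eq_of_le_of_card_ge h2.le (by rw [key]))

theorem nilp (h : Setting V Q K Ks D q) [Finite X] : Group.IsNilpotent D :=
  Cfsg.Agent.Lib.helper12.ff_nilpotent_kernel D K h.hK1
    (fun _ he _ hu => conj_mem_of_le_normalizer h.hKD he hu) h.fpf

end Setting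

/-- `D` is a complement of `Q` in `V` (elementwise form). -/
def Compl (Q D V : Subgroup X) : Prop :=
  D ≤ V ∧ Q ⊓ D = ⊥ ∧ ∀ v ∈ V, ∃ a ∈ Q, ∃ b ∈ D, v = a * b

namespace Compl

variable {V Q D : Subgroup X}

theorem sup_eq (hQV : Q ≤ V) (h : Compl Q D V) : Q ⊔ D = V := by
  apply le_antisymm (sup_le hQV h.1)
  intro v hv
  obtain ⟨a, ha, b, hb, rfl⟩ := h.2.2 v hv
  exact Subgroup.mul_mem _ (mem_sup_left ha) (mem_sup_right hb)

theorem card [Finite X] (hQV : Q ≤ V) (hVQ : V ≤ normalizer (Q : Set X)) (h : Compl Q D V) :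
    Nat.card D = Q.relIndex V := by
  have h1 := Cfsg.Agent.Lib.helper13.card_sup_mul_card_inf D Q (h.1.trans hVQ)
  rw [sup_comm, h.sup_eq hQV, inf_comm, h.2.1, Subgroup.card_bot, mul_one] at h1
  have h2 : Q.relIndex V * Nat.card Q = Nat.card V := by
    have h3 := Subgroup.index_mul_card (Q.subgroupOf V)
    rw [Nat.card_congr (Subgroup.subgroupOfEquivOfLe hQV).toEquiv] at h3
    exact h3
  rw [← h2] at h1
  exact (Nat.eq_of_mul_eq_mul_right Nat.card_pos h1).symm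

theorem conj (h : Compl Q D V) {g : X} (hgQ : g ∈ normalizer (Q : Set X))
    (hgV : g ∈ normalizer (V : Set X)) : Compl Q (MulAut.conj g • D) V := by
  have hQ' : ∀ x, g * x * g⁻¹ ∈ Q → x ∈ Q := fun x hx => (mem_normalizer_iff.mp hgQ x).mpr hx
  have hV' : ∀ x, g * x * g⁻¹ ∈ V → x ∈ V := fun x hx => (mem_normalizer_iff.mp hgV x).mpr hx
  refine ⟨?_, ?_, ?_⟩
  · intro x hx
    rw [Cfsg.Agent.Lib.helper1.mem_conj_smul] at hx
    have h1 := (mem_normalizer_iff.mp hgV _).mp (h.1 hx)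
    have e : g * (g⁻¹ * x * g) * g⁻¹ = x := by group
    rw [e] at h1; exact h1
  · rw [eq_bot_iff]
    intro x hx
    obtain ⟨hx1, hx2⟩ := Subgroup.mem_inf.mp hx
    rw [Cfsg.Agent.Lib.helper1.mem_conj_smul] at hx2
    have h1 : g⁻¹ * x * g ∈ Q := hQ' _ (by
      have e : g * (g⁻¹ * x * g) * g⁻¹ = x := by group
      rw [e]; exact hx1)
    have h2 : g⁻¹ * x * g ∈ Q ⊓ D := Subgroup.mem_inf.mpr ⟨h1, hx2⟩
    rw [h.2.1, Subgroup.mem_bot] at h2
    rw [Subgroup.mem_bot]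
    have e : x = g * (g⁻¹ * x * g) * g⁻¹ := by group
    rw [e, h2]; group
  · intro v hv
    have h1 : g⁻¹ * v * g ∈ V := hV' _ (by
      have e : g * (g⁻¹ * v * g) * g⁻¹ = v := by group
      rw [e]; exact hv)
    obtain ⟨a, ha, b, hb, hab⟩ := h.2.2 _ h1
    refine ⟨g * a * g⁻¹, (mem_normalizer_iff.mp hgQ a).mp ha, g * b * g⁻¹,
      Cfsg.Agent.Lib.helper1.conj_mem_conj_smul hb, ?_⟩
    have e : v = g * (g⁻¹ * v * g) * g⁻¹ := by group
    rw [e, hab]; group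

end Compl

theorem exists_compl [Finite X] {V Q : Subgroup X} (hQV : Q ≤ V)
    (hVQ : V ≤ normalizer (Q : Set X)) (hcop : (Nat.card Q).Coprime (Q.relIndex V)) :
    ∃ D : Subgroup X, Compl Q D V := by
  have : (Q.subgroupOf V).Normal := Subgroup.normal_subgroupOf_of_le_normalizer hVQ
  have hc : Nat.Coprime (Nat.card (Q.subgroupOf V)) (Q.subgroupOf V).index := by
    rw [Nat.card_congr (Subgroup.subgroupOfEquivOfLe hQV).toEquiv]
    exact hcop
  obtain ⟨D', hD'⟩ := Subgroup.exists_right_complement'_of_coprime hc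
  refine ⟨D'.map V.subtype, Subgroup.map_subtype_le _, ?_, ?_⟩
  · rw [eq_bot_iff]
    intro x hx
    obtain ⟨hx1, hx2⟩ := Subgroup.mem_inf.mp hx
    obtain ⟨d, hd, rfl⟩ := Subgroup.mem_map.mp hx2
    have h1 : d ∈ Q.subgroupOf V ⊓ D' := Subgroup.mem_inf.mpr ⟨Subgroup.mem_subgroupOf.mpr hx1, hd⟩
    rw [hD'.disjoint.eq_bot, Subgroup.mem_bot] at h1
    rw [Subgroup.mem_bot, h1]; rfl
  · intro v hv
    obtain ⟨⟨a, b⟩, hab⟩ := hD'.2 ⟨v, hv⟩
    refine ⟨((a : ↥V) : X), Subgroup.mem_subgroupOf.mp a.2, ((b : ↥V) : X),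
      Subgroup.mem_map.mpr ⟨(b : ↥V), b.2, rfl⟩, ?_⟩
    have := congrArg (Subtype.val) hab
    simpa using this.symm

theorem compl_conj [Finite X] {V Q D D' : Subgroup X} {q : ℕ} (hq : q.Prime) (hQV : Q ≤ V)
    (hVQ : V ≤ normalizer (Q : Set X)) (hQq : IsPGroup q Q) (hQs : ¬ q ∣ Q.relIndex V)
    (h : Compl Q D V) (h' : Compl Q D' V) : ∃ n ∈ Q, MulAut.conj n • D = D' := by
  have : Fact q.Prime := ⟨hq⟩
  have hnil : Group.IsNilpotent Q := hQq.isNilpotent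
  have hsolv : Group.IsSolvable Q := inferInstance
  have hcop : (Nat.card Q).Coprime (Nat.card D) := by
    obtain ⟨n, hn⟩ := (IsPGroup.iff_card).mp hQq
    rw [hn, h.card hQV hVQ]
    exact Nat.Coprime.pow_left _ ((Nat.Prime.coprime_iff_not_dvd hq).mpr hQs)
  exact Cfsg.Agent.Lib.helper1.sz_conj_internal Q D D' (h.1.trans hVQ) h.2.1 h'.2.1
    (by rw [h.sup_eq hQV, h'.sup_eq hQV]) hcop (Or.inl hsolv)

theorem exists_inv_compl [Finite X] {V Q K : Subgroup X} {q : ℕ} (hq : q.Prime) (hQV : Q ≤ V)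
    (hVQ : V ≤ normalizer (Q : Set X)) (hKQ : K ≤ normalizer (Q : Set X))
    (hKV : K ≤ normalizer (V : Set X)) (hQq : IsPGroup q Q) (hQs : ¬ q ∣ Q.relIndex V)
    (hKq : ¬ q ∣ Nat.card K) :
    ∃ D : Subgroup X, Compl Q D V ∧ K ≤ normalizer (D : Set X) := by
  have : Fact q.Prime := ⟨hq⟩
  have hnil : Group.IsNilpotent Q := hQq.isNilpotent
  have hsolv : Group.IsSolvable Q := inferInstance
  obtain ⟨n0, hn0⟩ := (IsPGroup.iff_card).mp hQq
  have hcopQ : (Nat.card Q).Coprime (Q.relIndex V) := by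
    rw [hn0]; exact Nat.Coprime.pow_left _ ((Nat.Prime.coprime_iff_not_dvd hq).mpr hQs)
  obtain ⟨D₁, hD₁⟩ := exists_compl hQV hVQ hcopQ
  have hL : ∀ a ∈ K, ∃ k ∈ Q, k * a ∈ normalizer (D₁ : Set X) := by
    intro a ha
    have hD₂ := hD₁.conj (hKQ ha) (hKV ha)
    obtain ⟨n, hnQ, hn⟩ := compl_conj hq hQV hVQ hQq hQs hD₁ hD₂
    refine ⟨n⁻¹, Q.inv_mem hnQ, ?_⟩
    apply Cfsg.Agent.Lib.helper1.mem_normalizer_of_conj_smul_eq
    rw [← Cfsg.Agent.Lib.helper1.conj_smul_conj_smul, ← hn,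
      Cfsg.Agent.Lib.helper1.conj_smul_conj_smul]
    simp
  have hcopK : (Nat.card K).Coprime (Nat.card Q) := by
    rw [hn0]; exact Nat.Coprime.pow_right _ ((Nat.Prime.coprime_iff_not_dvd hq).mpr hKq).symm
  obtain ⟨n, hnQ, hn⟩ := Cfsg.Agent.Lib.helper1.glauberman_exists K Q (normalizer (D₁ : Set X))
    hKQ hcopK (Or.inr hsolv) hL
  refine ⟨MulAut.conj n⁻¹ • D₁, hD₁.conj (le_normalizer (Q.inv_mem hnQ))
    (le_normalizer (hQV (Q.inv_mem hnQ))), ?_⟩
  exact Cfsg.Agent.Lib.helper1.le_normalizer_of_conj_smul_le hn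

theorem nilpotent_of_commuting (Q D V : Subgroup X) (hQ : Group.IsNilpotent Q)
    (hD : Group.IsNilpotent D) (hc : Q ≤ centralizer (D : Set X)) (hV : Q ⊔ D = V) :
    Group.IsNilpotent V := by
  have comm : ∀ (m : ↥Q) (n : ↥D), Commute (Q.subtype m) (D.subtype n) := by
    intro m n
    exact ((mem_centralizer_iff.mp (hc m.2)) n n.2).symm
  set f : ↥Q × ↥D →* X := MonoidHom.noncommCoprod Q.subtype D.subtype comm with hf
  have hr : f.range = V := by
    rw [hf, MonoidHom.noncommCoprod_range, Subgroup.range_subtype, Subgroup.range_subtype, hV]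
  have h1 : Group.IsNilpotent ↥f.range :=
    Group.nilpotent_of_surjective f.rangeRestrict f.rangeRestrict_surjective
  rw [hr] at h1
  exact h1

/-- **The `𝒫₁` structure core.** -/
theorem p1_core [Finite X] (V Q K Ks : Subgroup X) (q : ℕ) (hq : q.Prime) (hQV : Q ≤ V)
    (hVQ : V ≤ normalizer (Q : Set X)) (hKQ : K ≤ normalizer (Q : Set X))
    (hKV : K ≤ normalizer (V : Set X)) (hQq : IsPGroup q Q) (hQs : ¬ q ∣ Q.relIndex V)
    (hKq : ¬ q ∣ Nat.card K) (hK1 : K ≠ ⊥) (hKs : Nat.card Ks = q) (hKsQ : Ks ≤ Q)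
    (hprime : ∀ k ∈ K, k ≠ 1 → V ⊓ centralizer ({k} : Set X) = Ks)
    (hnn : ¬ Group.IsNilpotent V) :
    (Nat.card K).Prime ∧ ∀ D : Subgroup X, Compl Q D V →
      Group.IsNilpotent D ∧
      V ⊔ K ≤ normalizer ((Q ⊓ centralizer (D : Set X) : Subgroup X) : Set X) ∧
      Q ⊓ centralizer (D : Set X) < Q ∧
      Nat.card Q = Nat.card ↥(Q ⊓ centralizer (D : Set X)) * q ^ Nat.card K ∧
      (∀ a ∈ Q, ∀ b ∈ Q, a ^ q ∈ Q ⊓ centralizer (D : Set X) ∧
        a * b * a⁻¹ * b⁻¹ ∈ Q ⊓ centralizer (D : Set X)) ∧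
      ∀ N : Subgroup X, Q ⊓ centralizer (D : Set X) < N → N < Q →
        ¬ V ⊔ K ≤ normalizer (N : Set X) := by
  have : Fact q.Prime := ⟨hq⟩
  have hQnil : Group.IsNilpotent Q := hQq.isNilpotent
  obtain ⟨D₀, hD₀, hKD₀⟩ := exists_inv_compl hq hQV hVQ hKQ hKV hQq hQs hKq
  have hfpf : ∀ k ∈ K, k ≠ 1 → ∀ d ∈ D₀, k * d = d * k → d = 1 := by
    intro k hk hk1 d hd hkd
    have h1 : d ∈ V ⊓ centralizer ({k} : Set X) :=
      Subgroup.mem_inf.mpr ⟨hD₀.1 hd, mem_cent_single.mpr hkd⟩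
    rw [hprime k hk hk1] at h1
    have h2 : d ∈ Q ⊓ D₀ := Subgroup.mem_inf.mpr ⟨hKsQ h1, hd⟩
    rw [hD₀.2.1] at h2
    exact (mem_bot.mp h2)
  have hnil₀ : Group.IsNilpotent D₀ :=
    Cfsg.Agent.Lib.helper12.ff_nilpotent_kernel D₀ K hK1
      (fun _ he _ hu => conj_mem_of_le_normalizer hKD₀ he hu) hfpf
  have hnc : ¬ Q ≤ centralizer (D₀ : Set X) := fun hc =>
    hnn (nilpotent_of_commuting Q D₀ V hQnil hnil₀ hc (hD₀.sup_eq hQV))
  have S : Setting V Q K Ks D₀ q :=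
    { hq := hq, hQV := hQV, hDV := hD₀.1, hQD := hD₀.2.1, hDQ := hD₀.1.trans hVQ, hKQ := hKQ,
      hKD := hKD₀, hQq := hQq,
      hDq := by rw [hD₀.card hQV hVQ]; exact hQs
      hKq := hKq, hK1 := hK1, hKs := hKs, hKsQ := hKsQ, hprime := hprime, hnc := hnc }
  refine ⟨S.card_K_prime, ?_⟩
  intro D hD
  obtain ⟨n, hnQ, hn⟩ := compl_conj hq hQV hVQ hQq hQs hD₀ hD
  have hQ0n := S.q0_normal
  have hVK : V ⊔ K = Q ⊔ D₀ ⊔ K := by rw [hD₀.sup_eq hQV]
  have e : Q ⊓ centralizer (D : Set X) = Q ⊓ centralizer (D₀ : Set X) := by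
    have hnorm : ∀ g ∈ Q, ∀ c ∈ Q ⊓ centralizer (D₀ : Set X),
        g * c * g⁻¹ ∈ Q ⊓ centralizer (D₀ : Set X) := fun g hg c hc =>
      conj_mem_of_le_normalizer hQ0n (mem_sup_left (mem_sup_left hg)) hc
    apply le_antisymm
    · intro x hx
      obtain ⟨hx1, hx2⟩ := Subgroup.mem_inf.mp hx
      have h1 : n⁻¹ * x * n ∈ Q ⊓ centralizer (D₀ : Set X) := by
        refine Subgroup.mem_inf.mpr ⟨Q.mul_mem (Q.mul_mem (Q.inv_mem hnQ) hx1) hnQ, ?_⟩
        rw [mem_centralizer_iff]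
        intro d hd
        have hd' : n * d * n⁻¹ ∈ D := by
          rw [← hn]; exact Cfsg.Agent.Lib.helper1.conj_mem_conj_smul hd
        have h2 : n * d * n⁻¹ * x = x * (n * d * n⁻¹) := (mem_centralizer_iff.mp hx2) _ hd'
        calc d * (n⁻¹ * x * n) = n⁻¹ * (n * d * n⁻¹ * x) * n := by group
          _ = n⁻¹ * (x * (n * d * n⁻¹)) * n := by rw [h2]
          _ = n⁻¹ * x * n * d := by group
      have h3 := hnorm n hnQ _ h1
      have e1 : n * (n⁻¹ * x * n) * n⁻¹ = x := by group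
      rw [e1] at h3; exact h3
    · intro x hx
      have h1 : n⁻¹ * x * n⁻¹⁻¹ ∈ Q ⊓ centralizer (D₀ : Set X) := hnorm n⁻¹ (Q.inv_mem hnQ) x hx
      rw [inv_inv] at h1
      refine Subgroup.mem_inf.mpr ⟨(Subgroup.mem_inf.mp hx).1, ?_⟩
      rw [mem_centralizer_iff]
      intro y hy
      have hy' : y ∈ D := hy
      rw [← hn, Cfsg.Agent.Lib.helper1.mem_conj_smul] at hy'
      have h2 : n⁻¹ * y * n * (n⁻¹ * x * n) = n⁻¹ * x * n * (n⁻¹ * y * n) :=
        (mem_centralizer_iff.mp (Subgroup.mem_inf.mp h1).2) _ hy'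
      calc y * x = n * (n⁻¹ * y * n * (n⁻¹ * x * n)) * n⁻¹ := by group
        _ = n * (n⁻¹ * x * n * (n⁻¹ * y * n)) * n⁻¹ := by rw [h2]
        _ = x * y := by group
  rw [e, hVK]
  refine ⟨?_, hQ0n, S.q0_lt, ?_, S.pow_comm_mem, ?_⟩
  · rw [← hn]
    exact Group.nilpotent_of_mulEquiv (Subgroup.equivSMul (MulAut.conj n) D₀)
  · rw [S.card_Q (le_refl K) hK1, mul_comm]
  · intro N h1 h2 hN
    exact S.irred N h1 h2 ((sup_le (le_sup_right.trans le_sup_left) le_sup_right).trans hN)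

end Cfsg.Agent.Lib.helper87.BGP1
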