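import Mathlib
import Cfsg.Agent.Lib.helper87.BGP1A
import Cfsg.Agent.Lib.helper97.BGFitA
import Cfsg.Agent.Lib.helper28.Fitting
import Cfsg.Agent.Lib.helper54.BGSigmaNe
import Cfsg.Agent.Lib.helper30.BGKsF
import Cfsg.Agent.Lib.helper87.BGOC2
import Cfsg.Agent.Lib.helper71.NilMax
import Cfsg.Agent.Lib.helper1.ThompsonFpf
import Cfsg.Agent.S1426
import Cfsg.Agent.S1429
import Cfsg.Agent.S1414
import Cfsg.Agent.S1423
import Cfsg.Agent.S1404
import Cfsg.Agent.S1430
import Cfsg.Agent.S1350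
import Cfsg.Agent.S1365

/-!
# B-G Theorem 15.2 for `M_F ≠ M_σ`: the B-G glue (helper87)

`p1_struct`: for a maximal subgroup `M` with `M_F ≠ M_σ` and a standard factorisation
`M = K U M_σ` (given the frozen rows S1373 and S1364 cl. 3 as hypotheses): `U = 1`, `M_σ = M'`,
`|K|` and `q = |K*|` are prime, `q ∈ β(M)`, the Sylow `q`-subgroup `Q` of `M_σ` is normal in `M`
and satisfies the conclusions of `p1_core`; and `F(M)` is a TI-subset.
-/

set_option autoImplicit false

namespace Cfsg.Agent.Lib.helper87.BGP1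

open Subgroup Cfsg
open scoped commutatorElement Pointwise

universe u

variable {G : Type u} [Group G]

/-- frozen S1373 -/
def H1373 (G : Type u) [Group G] : Prop :=
  ∀ (M : Subgroup G), IsCoatom M → ∀ K U : Subgroup G, IsSigmaDecomposition M K U → K ≠ ⊥ →
    U = ⊥ → (Nat.card ↥(sigmaCore M ⊓ centralizer (K : Set G))).Prime

/-- frozen S1364, clause 3 -/
def H1364 (G : Type u) [Group G] : Prop :=
  ∀ (M : Subgroup G), IsCoatom M → ∀ K U : Subgroup G, IsSigmaDecomposition M K U → K ≠ ⊥ →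
    sigmaCore M ⊓ centralizer (K : Set G) ≤ fittingHallOf M

theorem relIndex_mul_card' {H K : Subgroup G} (hHK : H ≤ K) :
    H.relIndex K * Nat.card H = Nat.card K := by
  have h3 := Subgroup.index_mul_card (H.subgroupOf K)
  rw [Nat.card_congr (Subgroup.subgroupOfEquivOfLe hHK).toEquiv] at h3
  exact h3

theorem card_dvd_relIndex [Finite G] {A H M : Subgroup G} (hAM : A ≤ M) (hHM : H ≤ M)
    (hd : A ⊓ H = ⊥)
    (hn : A ≤ normalizer (H : Set G) ∨ H ≤ normalizer (A : Set G)) :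
    Nat.card A ∣ H.relIndex M := by
  have h1 : Nat.card ↥(A ⊔ H) = Nat.card A * Nat.card H := by
    rcases hn with hn | hn
    · have := Cfsg.Agent.Lib.helper13.card_sup_mul_card_inf A H hn
      rw [hd, Subgroup.card_bot, mul_one] at this; exact this
    · have := Cfsg.Agent.Lib.helper13.card_sup_mul_card_inf' A H hn
      rw [hd, Subgroup.card_bot, mul_one] at this; exact this
  have h2 : Nat.card ↥(A ⊔ H) ∣ Nat.card M := Subgroup.card_dvd_of_le (sup_le hAM hHM)
  rw [h1, ← relIndex_mul_card' hHM] at h2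
  exact Nat.dvd_of_mul_dvd_mul_right Nat.card_pos h2

theorem le_normalizer_map_subtype (M : Subgroup G) (H : Subgroup ↥M) [hH : H.Normal] :
    M ≤ normalizer ((H.map M.subtype : Subgroup G) : Set G) := by
  apply le_normalizer_of_conj
  intro m hm u hu
  obtain ⟨h, hh, rfl⟩ := Subgroup.mem_map.mp hu
  exact Subgroup.mem_map.mpr ⟨(⟨m, hm⟩ : ↥M) * h * (⟨m, hm⟩ : ↥M)⁻¹, hH.conj_mem h hh _, rfl⟩

/-- A prime dividing `|M_F|` has a normal Sylow subgroup inside `M_F`. -/
theorem exists_normal_sylow {H : Type*} [Group H] [Finite H] (q : ℕ) [Fact q.Prime]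
    (hq : q ∣ Nat.card (fittingHall H)) :
    ∃ P : Sylow q H, (P : Subgroup H).Normal ∧ (P : Subgroup H) ≤ fittingHall H := by
  obtain ⟨N, hN, hqN⟩ := Cfsg.Agent.Lib.helper29.exists_dvd_card_of_dvd_card_sSup
    {N : Subgroup H | N.Normal ∧ Group.IsNilpotent N ∧ (Nat.card N).Coprime N.index}
    (fun N h => h.1) q Fact.out hq
  obtain ⟨hNn, hNnil, hNcop⟩ := hN
  let P₀ : Sylow q N := default
  have hP₀n : (P₀ : Subgroup N).Normal :=
    Sylow.normal_of_normalizerCondition Group.normalizerCondition_of_isNilpotent P₀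
  have hP₀c : (P₀ : Subgroup N).Characteristic := Sylow.characteristic_of_normal P₀ hP₀n
  have hP₁n : ((P₀ : Subgroup N).map N.subtype).Normal := inferInstance
  have hP₁ : IsPGroup q ((P₀ : Subgroup N).map N.subtype) := P₀.isPGroup'.map N.subtype
  have hidx : ¬ q ∣ ((P₀ : Subgroup N).map N.subtype).index := by
    rw [Subgroup.index_map_subtype]
    intro h
    rcases (Nat.Prime.dvd_mul Fact.out).mp h with h1 | h1
    · exact P₀.not_dvd_index h1
    · exact (Nat.Prime.coprime_iff_not_dvd Fact.out).mp (Nat.Coprime.coprime_dvd_left hqN hNcop) h1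
  refine ⟨hP₁.toSylow hidx, ?_, ?_⟩
  · rw [IsPGroup.toSylow_coe]; exact hP₁n
  · rw [IsPGroup.toSylow_coe]
    exact (Subgroup.map_subtype_le _).trans (le_sSup ⟨hNn, hNnil, hNcop⟩)

/-- A `q`-subgroup of `M` lies in the normal Sylow `q`-subgroup `Q` of `M`. -/
theorem le_of_normal_sylow' [Finite G] {q : ℕ} [Fact q.Prime] {Q M R : Subgroup G}
    (hMQ : M ≤ normalizer (Q : Set G)) (hQq : IsPGroup q Q) (hQs : ¬ q ∣ Q.relIndex M)
    (hRM : R ≤ M) (hR : IsPGroup q R) : R ≤ Q := by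
  have hQn : (Q.subgroupOf M).Normal := Subgroup.normal_subgroupOf_of_le_normalizer hMQ
  have hQq' : IsPGroup q (Q.subgroupOf M) := hQq.comap_subtype
  have hidx : ¬ q ∣ (Q.subgroupOf M).index := hQs
  have hPn : ((hQq'.toSylow hidx : Sylow q M) : Subgroup M).Normal := by
    rw [IsPGroup.toSylow_coe]; exact hQn
  have hR' : IsPGroup q (R.subgroupOf M) := hR.comap_subtype
  obtain ⟨P', hP'⟩ := hR'.exists_le_sylow
  have huniq := Sylow.unique_of_normal (hQq'.toSylow hidx) hPn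
  have hPP : P' = hQq'.toSylow hidx := Subsingleton.elim _ _
  intro r hr
  have h1 : (⟨r, hRM hr⟩ : M) ∈ R.subgroupOf M := hr
  have h2 := hP' h1
  rw [hPP] at h2
  exact h2

/-- The conclusions of B-G Theorem 15.2 for a maximal subgroup of type `P1` with `M_F ≠ M_σ`. -/
structure P1Data (M K U Q : Subgroup G) : Prop where
  hU : U = ⊥
  hK1 : K ≠ ⊥
  hcomm : sigmaCore M = ⁅M, M⁆
  hKp : (Nat.card K).Prime
  hqp : (Nat.card ↥(sigmaCore M ⊓ centralizer (K : Set G))).Prime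
  hqσ : Nat.card ↥(sigmaCore M ⊓ centralizer (K : Set G)) ∈ sigma M
  hQF : Q ≤ fittingHallOf M
  hQσ : Q ≤ sigmaCore M
  hQn : M ≤ normalizer (Q : Set G)
  hQq : IsPGroup (Nat.card ↥(sigmaCore M ⊓ centralizer (K : Set G))) Q
  hQs : ¬ Nat.card ↥(sigmaCore M ⊓ centralizer (K : Set G)) ∣ Q.relIndex M
  hQsσ : ¬ Nat.card ↥(sigmaCore M ⊓ centralizer (K : Set G)) ∣ Q.relIndex (sigmaCore M)
  hKsQ : sigmaCore M ⊓ centralizer (K : Set G) ≤ Q
  hMle : M ≤ sigmaCore M ⊔ K
  hcore : ∀ D : Subgroup G, Compl Q D (sigmaCore M) →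
      Group.IsNilpotent D ∧
      sigmaCore M ⊔ K ≤ normalizer ((Q ⊓ centralizer (D : Set G) : Subgroup G) : Set G) ∧
      Q ⊓ centralizer (D : Set G) < Q ∧
      Nat.card Q = Nat.card ↥(Q ⊓ centralizer (D : Set G)) *
        Nat.card ↥(sigmaCore M ⊓ centralizer (K : Set G)) ^ Nat.card K ∧
      (∀ a ∈ Q, ∀ b ∈ Q,
        a ^ Nat.card ↥(sigmaCore M ⊓ centralizer (K : Set G)) ∈ Q ⊓ centralizer (D : Set G) ∧
        a * b * a⁻¹ * b⁻¹ ∈ Q ⊓ centralizer (D : Set G)) ∧
      ∀ N : Subgroup G, Q ⊓ centralizer (D : Set G) < N → N < Q →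
        ¬ sigmaCore M ⊔ K ≤ normalizer (N : Set G)

theorem p1_struct [Finite G] (hG : IsMinSimpleOddOrder G) (h73 : H1373 G)
    (M : Subgroup G) (hM : IsCoatom M) (K U : Subgroup G) (hKU : IsSigmaDecomposition M K U)
    (hne : fittingHallOf M ≠ sigmaCore M) : ∃ Q : Subgroup G, P1Data M K U Q := by
  classical
  obtain ⟨hHall, -, -⟩ := Cfsg.Agent.S1350.result hG M hM
  have hK := hKU.hall
  -- `M_σ` is not nilpotent
  have hnn : ¬ Group.IsNilpotent (sigmaCore M) := fun hnil =>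
    hne (le_antisymm (Cfsg.Agent.Lib.helper97.bgf_fitHallOf_le hG M hM)
      (Cfsg.Agent.Lib.helper30.BGKsF.sigmaCore_le_fittingHallOf hG M hM hnil))
  -- type P1
  have hP1 : ∀ q : ℕ, q.Prime → q ∣ Nat.card M → q ∉ sigma M → q ∈ kappa M := by
    by_contra hcon
    have hcon' := hcon
    push Not at hcon'
    obtain ⟨p, hp, hpM, hpσ, hpκ⟩ := hcon'
    have : Fact p.Prime := ⟨hp⟩
    exact hnn (Cfsg.Agent.S1429.result hG M hM hcon p hpM
      (fun h => h.elim hpσ hpκ) (Classical.arbitrary _)).2.2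
  -- `U = 1`
  have hUhall := Cfsg.Agent.Lib.helper69.bgk_decomp_hall hHall hKU
  have hU : U = ⊥ := by
    apply Subgroup.card_eq_one.mp
    apply Nat.eq_one_iff_not_exists_prime_dvd.mpr
    intro p hp hpU
    have h1 := hUhall.2.1 p hp hpU
    exact h1.2.1 (hP1 p hp (hpU.trans (Subgroup.card_dvd_of_le hUhall.1)) h1.2.2)
  have hMK : M ≤ K ⊔ sigmaCore M := by
    intro m hm
    obtain ⟨a, ha, b, hb, rfl⟩ := hKU.compl.2.2.2 m hm
    rw [hU, Subgroup.mem_bot] at ha
    rw [ha, one_mul]; exact hb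
  have hsupeq : K ⊔ sigmaCore M = M := le_antisymm (sup_le hK.1 hHall.1) hMK
  have hKs : K ⊓ sigmaCore M = ⊥ := Cfsg.Agent.Lib.helper69.bgk_K_inf_sigmaCore hK hHall
  have hE : IsComplIn K (sigmaCore M) M := by
    apply Cfsg.Agent.Lib.helper69.bgk_isComplIn_of_card hK.1 hHall.1 hKs
    rw [mul_comm, Cfsg.Agent.Lib.helper69.bgk_card_sup hK hHall, hsupeq]
  have hσ1 := Cfsg.Agent.Lib.helper54.sigmaCore_ne_bot hG M hM
  have hK1 : K ≠ ⊥ := by
    intro hKb
    have h1 := (Cfsg.Agent.S1426.result hG M hM K hE).2.1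
    rw [hKb, Subgroup.commutator_bot_right] at h1
    exact hσ1 h1.symm
  have hcomm : sigmaCore M = ⁅M, M⁆ := by
    rw [(Cfsg.Agent.S1365.result hG M hM K U hKU hK1).1, hU, bot_sup_eq]
  have hqp := h73 M hM K U hKU hK1 hU
  have : Fact (Nat.card ↥(sigmaCore M ⊓ centralizer (K : Set G))).Prime := ⟨hqp⟩
  have hKsF := (Cfsg.Agent.Lib.helper30.BGKsF.ks_P1 hG M hM K hK hK1 hMK hqp).1
  have hKsσ : sigmaCore M ⊓ centralizer (K : Set G) ≤ sigmaCore M := inf_le_left
  have hqσ : Nat.card ↥(sigmaCore M ⊓ centralizer (K : Set G)) ∈ sigma M :=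
    hHall.2.1 _ hqp (Subgroup.card_dvd_of_le hKsσ)
  have hqF : Nat.card ↥(sigmaCore M ⊓ centralizer (K : Set G)) ∣ Nat.card (fittingHall M) := by
    rw [← Cfsg.Agent.Lib.helper29.card_fittingHallOf]
    exact Subgroup.card_dvd_of_le hKsF
  obtain ⟨P, hPn, hPF⟩ := exists_normal_sylow _ hqF
  have hQF : (P : Subgroup M).map M.subtype ≤ fittingHallOf M := Subgroup.map_mono hPF
  have hQσ : (P : Subgroup M).map M.subtype ≤ sigmaCore M :=
    hQF.trans (Cfsg.Agent.Lib.helper97.bgf_fitHallOf_le hG M hM)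
  have hQn : M ≤ normalizer (((P : Subgroup M).map M.subtype : Subgroup G) : Set G) :=
    le_normalizer_map_subtype M (P : Subgroup M)
  have hQq : IsPGroup (Nat.card ↥(sigmaCore M ⊓ centralizer (K : Set G)))
      ((P : Subgroup M).map M.subtype) := P.isPGroup'.map _
  have hQs : ¬ Nat.card ↥(sigmaCore M ⊓ centralizer (K : Set G)) ∣
      ((P : Subgroup M).map M.subtype).relIndex M := by
    have h1 : ((P : Subgroup M).map M.subtype).subgroupOf M = P :=
      Subgroup.comap_map_eq_self_of_injective M.subtype_injective _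
    rw [Subgroup.relIndex, h1]
    exact P.not_dvd_index
  have hQsσ : ¬ Nat.card ↥(sigmaCore M ⊓ centralizer (K : Set G)) ∣
      ((P : Subgroup M).map M.subtype).relIndex (sigmaCore M) := by
    intro h
    apply hQs
    rw [← Subgroup.relIndex_mul_relIndex _ _ _ hQσ hHall.1]
    exact Dvd.dvd.mul_right h _
  have hKsQ : sigmaCore M ⊓ centralizer (K : Set G) ≤ (P : Subgroup M).map M.subtype :=
    le_of_normal_sylow' hQn hQq hQs (hKsσ.trans hHall.1) (IsPGroup.of_card (n := 1) (pow_one _).symm)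
  have hσn : M ≤ normalizer ((sigmaCore M : Subgroup G) : Set G) :=
    le_normalizer_map_subtype M (piCore (sigma M) M)
  have hKq : ¬ Nat.card ↥(sigmaCore M ⊓ centralizer (K : Set G)) ∣ Nat.card K := fun h =>
    (hK.2.1 _ hqp h).2.2.1 hqσ
  have hcore := p1_core (sigmaCore M) ((P : Subgroup M).map M.subtype) K
    (sigmaCore M ⊓ centralizer (K : Set G)) _ hqp hQσ (hHall.1.trans hQn) (hK.1.trans hQn)
    (hK.1.trans hσn) hQq hQsσ hKq hK1 rfl hKsQ
    (Cfsg.Agent.S1430.result hG M hM K hK hK1).1 hnn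
  refine ⟨(P : Subgroup M).map M.subtype, ⟨hU, hK1, hcomm, hcore.1, hqp, hqσ, hQF, hQσ, hQn, hQq,
    hQs, hQsσ, hKsQ, ?_, hcore.2⟩⟩
  rw [sup_comm]; exact hMK

/-- `q = |K*| ∈ β(M)`: otherwise `M_σ` has a normal `q`-complement `D`, and then `Q` centralizes
`D`, against `Q ⊓ C(D) < Q`. -/
theorem q_mem_beta [Finite G] (hG : IsMinSimpleOddOrder G) {M K U Q : Subgroup G}
    (hM : IsCoatom M) (h : P1Data M K U Q) :
    Nat.card ↥(sigmaCore M ⊓ centralizer (K : Set G)) ∈ beta M := by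
  by_contra hβ
  have hqp := h.hqp
  have : Fact (Nat.card ↥(sigmaCore M ⊓ centralizer (K : Set G))).Prime := ⟨hqp⟩
  obtain ⟨hHall, -, -⟩ := Cfsg.Agent.S1350.result hG M hM
  obtain ⟨P, N, hNn, hNP⟩ :=
    ((Cfsg.Agent.S1414.result hG M hM).2.2.2.2 _ hqp h.hqσ.2.1 hβ).2.1
  have hσQ : sigmaCore M ≤ normalizer (Q : Set G) := hHall.1.trans h.hQn
  have hPQ : (P : Subgroup ↥(sigmaCore M)).map (sigmaCore M).subtype ≤ Q :=
    le_of_normal_sylow' hσQ h.hQq h.hQsσ (Subgroup.map_subtype_le _) (P.isPGroup'.map _)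
  have hDσ : N.map (sigmaCore M).subtype ≤ sigmaCore M := Subgroup.map_subtype_le _
  have hDn : sigmaCore M ≤ normalizer ((N.map (sigmaCore M).subtype : Subgroup G) : Set G) :=
    le_normalizer_map_subtype (sigmaCore M) N
  have hNcard : ¬ Nat.card ↥(sigmaCore M ⊓ centralizer (K : Set G)) ∣ Nat.card N := by
    rw [← hNP.index_eq_card]; exact P.not_dvd_index
  have hdisj : Q ⊓ N.map (sigmaCore M).subtype = ⊥ := by
    apply Disjoint.eq_bot
    apply Subgroup.disjoint_of_coprime_natCard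
    obtain ⟨n, hn⟩ := IsPGroup.iff_card.mp h.hQq
    rw [hn, Subgroup.card_map_of_injective (Subgroup.subtype_injective _)]
    exact Nat.Coprime.pow_left n ((Nat.Prime.coprime_iff_not_dvd hqp).mpr hNcard)
  have hD : Compl Q (N.map (sigmaCore M).subtype) (sigmaCore M) := by
    refine ⟨hDσ, hdisj, fun v hv => ?_⟩
    obtain ⟨⟨n, p⟩, hnp⟩ := hNP.2 ((⟨v, hv⟩ : ↥(sigmaCore M))⁻¹)
    refine ⟨((p : ↥(sigmaCore M)) : G)⁻¹, Q.inv_mem (hPQ (Subgroup.mem_map_of_mem _ p.2)),
      ((n : ↥(sigmaCore M)) : G)⁻¹, Subgroup.inv_mem _ (Subgroup.mem_map_of_mem _ n.2), ?_⟩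
    have h2 := congrArg (fun x : ↥(sigmaCore M) => (x : G)) hnp
    simp only [Subgroup.coe_mul, Subgroup.coe_inv] at h2
    rw [← mul_inv_rev, h2, inv_inv]
  have hQcD : Q ≤ centralizer ((N.map (sigmaCore M).subtype : Subgroup G) : Set G) := by
    intro a ha
    rw [Subgroup.mem_centralizer_iff]
    intro d hd
    have h1 : a * d * a⁻¹ * d⁻¹ ∈ Q ⊓ N.map (sigmaCore M).subtype := by
      refine Subgroup.mem_inf.mpr ⟨?_, ?_⟩
      · have h3 : d * a⁻¹ * d⁻¹ ∈ Q := conj_mem_of_le_normalizer hσQ (hDσ hd) (Q.inv_mem ha)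
        have h4 := Q.mul_mem ha h3
        convert h4 using 1; group
      · have h3 : a * d * a⁻¹ ∈ N.map (sigmaCore M).subtype :=
          conj_mem_of_le_normalizer hDn (h.hQσ ha) hd
        exact Subgroup.mul_mem _ h3 (Subgroup.inv_mem _ hd)
    rw [hdisj, Subgroup.mem_bot] at h1
    have h5 : a * d = d * a := by
      have h6 := congrArg (· * (d * a)) h1
      simpa [mul_assoc] using h6
    exact h5.symm
  have hlt := (h.hcore _ hD).2.2.1
  rw [inf_eq_left.mpr hQcD] at hlt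
  exact lt_irrefl _ hlt

theorem orderOf_conj' (g y : G) : orderOf (g * y * g⁻¹) = orderOf y :=
  orderOf_injective (MulAut.conj g).toMonoidHom (MulAut.conj g).injective y

/-- `F(M)` is a TI-subset of `G`. -/
theorem fitting_TI [Finite G] (hG : IsMinSimpleOddOrder G) {M K U Q : Subgroup G}
    (hM : IsCoatom M) (h : P1Data M K U Q) : IsTISubset (fittingOf M : Set G) := by
  classical
  intro g hg x hx hgx
  by_contra hx1
  have hqp := h.hqp
  have : Fact (Nat.card ↥(sigmaCore M ⊓ centralizer (K : Set G))).Prime := ⟨hqp⟩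
  have hβ := q_mem_beta hG hM h
  obtain ⟨hHall, -, -⟩ := Cfsg.Agent.S1350.result hG M hM
  have hFM : fittingOf M ≤ M := Subgroup.map_subtype_le _
  have hMF : M ≤ normalizer ((fittingOf M : Subgroup G) : Set G) :=
    le_normalizer_map_subtype M (fittingSubgroup M)
  have hgM : g ∉ M := fun hgM => hg (hMF hgM)
  have hFnil : Group.IsNilpotent ↥(fittingOf M) := by
    have := Cfsg.Agent.Lib.helper28.fittingSubgroup_isNilpotent ↥M
    exact Group.nilpotent_of_mulEquiv
      ((fittingSubgroup ↥M).equivMapOfInjective M.subtype M.subtype_injective)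
  have hQFit : Q ≤ fittingOf M := by
    refine h.hQF.trans (Subgroup.map_mono (sSup_le ?_))
    intro N hN
    exact Cfsg.Agent.Lib.helper28.le_fittingSubgroup hN.1 hN.2.1
  have hx' : x ∈ fittingOf M := hx
  have hgx' : g * x * g⁻¹ ∈ fittingOf M := hgx
  -- a power of prime order
  have hord : orderOf x ≠ 1 := fun h1 => hx1 (orderOf_eq_one_iff.mp h1)
  obtain ⟨s, hs, hsx⟩ := Nat.exists_prime_and_dvd hord
  have hox : orderOf x ≠ 0 := (orderOf_pos x).ne'
  have hys : orderOf (x ^ (orderOf x / s)) = s := orderOf_pow_orderOf_div hox hsx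
  have hyF : x ^ (orderOf x / s) ∈ fittingOf M := Subgroup.pow_mem _ hx' _
  have hgyF : g * x ^ (orderOf x / s) * g⁻¹ ∈ fittingOf M := by
    rw [← conj_pow]; exact Subgroup.pow_mem _ hgx' _
  generalize x ^ (orderOf x / s) = y at hys hyF hgyF
  have hY : Nat.card (Subgroup.zpowers y) = s := by rw [Nat.card_zpowers, hys]
  have hYM : Subgroup.zpowers y ≤ M := (Subgroup.zpowers_le.mpr hyF).trans hFM
  have hY1 : Subgroup.zpowers y ≠ ⊥ := by
    intro hb
    rw [hb, Subgroup.card_bot] at hY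
    exact hs.one_lt.ne hY
  have hKsM : sigmaCore M ⊓ centralizer (K : Set G) ≤ M := inf_le_left.trans hHall.1
  have h23 := Cfsg.Agent.S1423.result hG M hM _ h.hqσ (sigmaCore M ⊓ centralizer (K : Set G))
    hKsM rfl (Classical.arbitrary _) (Or.inl hβ)
  by_cases hsq : s = Nat.card ↥(sigmaCore M ⊓ centralizer (K : Set G))
  · -- `s = q`
    have h23' := Cfsg.Agent.S1423.result hG M hM _ h.hqσ (Subgroup.zpowers y) hYM
      (hY.trans hsq) (Classical.arbitrary _) (Or.inl hβ)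
    have hYp : IsPGroup (Nat.card ↥(sigmaCore M ⊓ centralizer (K : Set G)))
        (Subgroup.zpowers y) := IsPGroup.of_card (n := 1) (by rw [pow_one, hY, hsq])
    have hmap : (Subgroup.zpowers y).map (MulAut.conj g).toMonoidHom ≤ M := by
      rintro _ ⟨z, hz, rfl⟩
      obtain ⟨k, rfl⟩ := Subgroup.mem_zpowers_iff.mp hz
      have h1 : (MulAut.conj g).toMonoidHom (y ^ k) = (g * y * g⁻¹) ^ k := by
        rw [conj_zpow]; rfl
      rw [h1]; exact hFM (Subgroup.zpow_mem _ hgyF k)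
    obtain ⟨m, hm, c, hc, rfl⟩ := (Cfsg.Agent.S1404.result hG M hM _ h.hqσ (Subgroup.zpowers y)
      hYp hY1 hYM).1 g hmap
    exact hgM (M.mul_mem hm (h23'.1.1 hc))
  · -- `s ≠ q`
    have hcomm : ∀ z ∈ fittingOf M, orderOf z = s → ∀ a ∈ Q, a * z = z * a := by
      intro z hz hzs a ha
      have hcop : (orderOf (⟨a, hQFit ha⟩ : ↥(fittingOf M))).Coprime
          (orderOf (⟨z, hz⟩ : ↥(fittingOf M))) := by
        rw [Subgroup.orderOf_mk, Subgroup.orderOf_mk, hzs]
        obtain ⟨n, hn⟩ := h.hQq ⟨a, ha⟩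
        have h1 : orderOf a ∣ Nat.card ↥(sigmaCore M ⊓ centralizer (K : Set G)) ^ n := by
          apply orderOf_dvd_of_pow_eq_one
          have h2 := congrArg Subtype.val hn
          simpa using h2
        exact Nat.Coprime.coprime_dvd_left h1
          (Nat.Coprime.pow_left n ((Nat.coprime_primes hqp hs).mpr (Ne.symm hsq)))
      have h2 := Cfsg.Agent.Lib.helper1.commute_of_coprime_orderOf_of_isNilpotent
        ↥(fittingOf M) _ _ hcop
      exact congrArg Subtype.val h2.eq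
    have hQY : Q ≤ centralizer ((Subgroup.zpowers y : Subgroup G) : Set G) := by
      intro a ha
      rw [Subgroup.mem_centralizer_iff]
      intro z hz
      obtain ⟨k, rfl⟩ := Subgroup.mem_zpowers_iff.mp hz
      have hc : Commute y a := (hcomm y hyF hys a ha).symm
      exact (hc.zpow_left k).eq
    obtain ⟨L, hL, hNL⟩ :=
      Cfsg.Agent.Lib.helper87.BGOC.exists_coatom_normalizer_le hG hM hYM hY1
    have hCL : centralizer ((Subgroup.zpowers y : Subgroup G) : Set G) ≤ L :=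
      (Subgroup.centralizer_le_normalizer _).trans hNL
    have hPQ : ((Classical.arbitrary (Sylow (Nat.card ↥(sigmaCore M ⊓ centralizer (K : Set G)))
        ↥(sigmaCore M)) : Subgroup ↥(sigmaCore M))).map (sigmaCore M).subtype ≤ Q :=
      le_of_normal_sylow' (hHall.1.trans h.hQn) h.hQq h.hQsσ (Subgroup.map_subtype_le _)
        ((Sylow.isPGroup' _).map _)
    have hLM : L = M := by
      obtain ⟨M', hM', huniq⟩ := h23.2.1
      rw [huniq L ⟨hL, hPQ.trans (hQY.trans hCL)⟩,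
        huniq M ⟨hM, hPQ.trans (h.hQσ.trans hHall.1)⟩]
    have hQg : Q.map (MulAut.conj g⁻¹).toMonoidHom ≤ M := by
      rintro _ ⟨a, ha, rfl⟩
      rw [← hLM]
      apply hCL
      rw [Subgroup.mem_centralizer_iff]
      intro z hz
      obtain ⟨k, rfl⟩ := Subgroup.mem_zpowers_iff.mp hz
      have h1 : a * (g * y * g⁻¹) = (g * y * g⁻¹) * a :=
        hcomm _ hgyF ((orderOf_conj' g y).trans hys) a ha
      have hc : Commute y (g⁻¹ * a * g⁻¹⁻¹) := by
        show y * (g⁻¹ * a * g⁻¹⁻¹) = g⁻¹ * a * g⁻¹⁻¹ * y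
        have h2 := congrArg (fun t => g⁻¹ * t * g) h1
        simp only [mul_assoc, inv_mul_cancel_left, inv_mul_cancel, mul_one, inv_inv] at h2 ⊢
        exact h2.symm
      exact (hc.zpow_left k).eq
    have hQgQ : Q.map (MulAut.conj g⁻¹).toMonoidHom ≤ Q :=
      le_of_normal_sylow' h.hQn h.hQq h.hQs hQg (h.hQq.map _)
    have hgN : g⁻¹ ∈ normalizer (Q : Set G) := by
      apply Subgroup.mem_normalizer_fintype
      intro n hn
      exact hQgQ ⟨n, hn, rfl⟩
    have hQ1 : Q ≠ ⊥ := by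
      intro hb
      have h1 : sigmaCore M ⊓ centralizer (K : Set G) = ⊥ := le_bot_iff.mp (hb ▸ h.hKsQ)
      have h2 : Nat.card ↥(sigmaCore M ⊓ centralizer (K : Set G)) = 1 := by
        rw [h1, Subgroup.card_bot]
      exact hqp.one_lt.ne' h2
    have hcore : ∀ N : Subgroup G, N.Normal → N ≤ M → N = ⊥ := by
      intro N hN hNM
      have := hG.2.1
      rcases hN.eq_bot_or_eq_top with h1 | h1
      · exact h1
      · exact absurd (top_le_iff.mp (h1 ▸ hNM)) hM.1
    have hNQ : normalizer (Q : Set G) = M :=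
      Cfsg.Agent.Lib.helper71.normalizer_eq_of_coatom hM hcore (h.hQσ.trans hHall.1) hQ1 h.hQn
    rw [hNQ] at hgN
    exact hgM (by simpa using M.inv_mem hgN)

/-- The conclusion of the frozen S1437, given the frozen S1373. -/
theorem s1437_of [Finite G] (hG : IsMinSimpleOddOrder G) (h73 : H1373 G)
    (M : Subgroup G) (hM : IsCoatom M) (K U : Subgroup G) (hKU : IsSigmaDecomposition M K U)
    (hne : fittingHallOf M ≠ sigmaCore M) :
    U = ⊥ ∧ sigmaCore M = ⁅M, M⁆ ∧ (Nat.card K).Prime ∧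
      (Nat.card ↥(sigmaCore M ⊓ centralizer (K : Set G))).Prime ∧
      Nat.card ↥(sigmaCore M ⊓ centralizer (K : Set G)) ∣ Nat.card (fittingHallOf M) ∧
      Nat.card ↥(sigmaCore M ⊓ centralizer (K : Set G)) ∈ beta M ∧
      ∃ Q : Subgroup G, Q ≤ fittingHallOf M ∧ M ≤ normalizer (Q : Set G) ∧
        IsPGroup (Nat.card ↥(sigmaCore M ⊓ centralizer (K : Set G))) Q ∧
        ¬ Nat.card ↥(sigmaCore M ⊓ centralizer (K : Set G)) ∣ Q.relIndex (sigmaCore M) ∧
        ∀ D : Subgroup G, IsComplIn Q D (sigmaCore M) →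
          Group.IsNilpotent D ∧
          M ≤ normalizer ((Q ⊓ centralizer (D : Set G) : Subgroup G) : Set G) ∧
          Q ⊓ centralizer (D : Set G) < Q ∧
          Nat.card Q = Nat.card ↥(Q ⊓ centralizer (D : Set G)) *
            Nat.card ↥(sigmaCore M ⊓ centralizer (K : Set G)) ^ Nat.card K ∧
          (∀ a ∈ Q, ∀ b ∈ Q,
            a ^ Nat.card ↥(sigmaCore M ⊓ centralizer (K : Set G)) ∈
              Q ⊓ centralizer (D : Set G) ∧
            a * b * a⁻¹ * b⁻¹ ∈ Q ⊓ centralizer (D : Set G)) ∧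
          ∀ N : Subgroup G, Q ⊓ centralizer (D : Set G) < N → N < Q →
            ¬ M ≤ normalizer (N : Set G) := by
  obtain ⟨Q, h⟩ := p1_struct hG h73 M hM K U hKU hne
  obtain ⟨hHall, -, -⟩ := Cfsg.Agent.S1350.result hG M hM
  have hσK : sigmaCore M ⊔ K ≤ M := sup_le hHall.1 hKU.hall.1
  refine ⟨h.hU, h.hcomm, h.hKp, h.hqp, Subgroup.card_dvd_of_le (h.hKsQ.trans h.hQF),
    q_mem_beta hG hM h, Q, h.hQF, h.hQn, h.hQq, h.hQsσ, fun D hD => ?_⟩
  obtain ⟨h1, h2, h3, h4, h5, h6⟩ := h.hcore D ⟨hD.2.1, hD.2.2.1, hD.2.2.2⟩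
  exact ⟨h1, h.hMle.trans h2, h3, h4, h5, fun N hN1 hN2 hMN => h6 N hN1 hN2 (hσK.trans hMN)⟩

/-- The conclusion of the frozen S1357, given the frozen S1373. -/
theorem s1357_of [Finite G] (hG : IsMinSimpleOddOrder G) (h73 : H1373 G)
    (M : Subgroup G) (hM : IsCoatom M) (K U : Subgroup G) (hKU : IsSigmaDecomposition M K U)
    (hne : fittingHallOf M ≠ sigmaCore M) :
    U = ⊥ ∧ IsTISubset (fittingOf M : Set G) ∧ (Nat.card K).Prime := by
  obtain ⟨Q, h⟩ := p1_struct hG h73 M hM K U hKU hne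
  exact ⟨h.hU, fitting_TI hG hM h, h.hKp⟩

end Cfsg.Agent.Lib.helper87.BGP1
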