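import Mathlib
import Cfsg.Prelude.Def_OddOrderLocal
import Cfsg.Agent.Lib.helper87.BG1425Main
import Cfsg.Agent.Lib.helper3.BG13Defs
import Cfsg.Agent.Lib.helper56.HallFactor

/-!
# Piece (C) of helper3's plan for S1427 / S1425 (B-G section 13)

`H` a maximal subgroup, `p ∉ σ(H)`, `A ≤ H` elementary abelian of order `p ^ 2`, `Y ≤ H` a
`σ(H)'`-subgroup: some `H`-conjugate of `Y` normalizes `A`.
-/

set_option autoImplicit false

namespace Cfsg.Agent.Lib.helper87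

open Cfsg Cfsg.Agent.Lib.helper3

theorem bg_tau2_conj_normalizer {G : Type*} [Group G] [Finite G] (hG : Cfsg.IsMinSimpleOddOrder G) (h17 : Hyp1417 G) (H : Subgroup G) (hH : IsCoatom H) (p : ℕ) [Fact p.Prime] (hp : p ∉ Cfsg.sigma H) (A : Subgroup G) (hAH : A ≤ H) (hA : Cfsg.IsElementaryAbelian p A) (hA2 : Nat.card A = p ^ 2) (Y : Subgroup G) (hYH : Y ≤ H) (hY : ∀ r : ℕ, r.Prime → r ∣ Nat.card Y → r ∉ Cfsg.sigma H) : ∃ h ∈ H, Y.map (MulAut.conj h).toMonoidHom ≤ Subgroup.normalizer (A : Set G) := by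
  obtain ⟨hodd, hsimple, hna, hsolv⟩ := id hG
  have hpp : p.Prime := Fact.out
  have hAq : IsPGroup p A := by
    intro a
    refine ⟨1, ?_⟩
    apply Subtype.ext
    simpa using hA.2 a a.2
  have hτ : p ∈ tau2 H := BG133.mem_tau2_of hG H hH hpp hp hAH hA hA2
  obtain ⟨-, -, hnorm, -, -, -⟩ := h17 H hH p hτ A ⟨hAH, hA, hA2⟩
  have hfac := BG133.frattini_sigma H hp A hAH hAq hnorm
  have hBπ : ∀ r : ℕ, r.Prime → r ∣ Nat.card (sigmaCore H) → r ∉ (sigma H)ᶜ := by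
    intro r hr hrd hc
    exact hc ((Cfsg.Agent.S1350.result hG H hH).1.2.1 r hr hrd)
  obtain ⟨h, hhH, hYh⟩ := Cfsg.Agent.Lib.helper56.hall_factor_conj (sigma H)ᶜ H (sigmaCore H)
    (H ⊓ Subgroup.normalizer (A : Set G)) Y (hsolv H hH.1) (Subgroup.map_subtype_le _) inf_le_left
    (Cfsg.Agent.Lib.helper13.le_normalizer_sigmaCore H) hBπ hfac hYH hY
  exact ⟨h, hhH, hYh.trans inf_le_right⟩

end Cfsg.Agent.Lib.helper87
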