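import Mathlib

/-!
Coprime averaging (helper87).

* `avg_fix`: in a group `H`, let `K₀` be an abelian subgroup of exponent dividing `e`, normalized
  by an element `γ` with `γ ^ m = 1`, `m` coprime to `e`, and let `ψ` be an element with
  `[ψ⁻¹, γ] ∈ K₀`.  Then some `ν ∈ K₀` (in any subgroup containing `γ` and `ψ`) makes `ψ ν` commute
  with `γ`.
* `exists_lift_fix`: the application to automorphisms of a group `R = P Q`: an automorphism `ψ`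
  that normalizes `P` and moves the elements of `Q` by elements of a central subgroup `W ≤ P` can be
  corrected, keeping its restriction to `P`, so as to fix every `y⁻¹ γ(y)`, `y ∈ Q`, where `γ` is an
  automorphism of order prime to the exponent of `W` that is trivial on `P` and normalizes `Q`.
-/

set_option autoImplicit false

namespace Cfsg.Agent.Lib.helper87.CoprimeAvg

section Abstract

variable {H : Type*} [Group H]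

/-- `ψ⁻¹ γ^i ψ γ^{-i}`. -/
def nseq (γ ψ : H) (i : ℕ) : H := ψ⁻¹ * γ ^ i * ψ * (γ ^ i)⁻¹

/-- The partial products of `nseq`. -/
def qseq (γ ψ : H) : ℕ → H
  | 0 => 1
  | (j + 1) => qseq γ ψ j * nseq γ ψ j

theorem nseq_zero (γ ψ : H) : nseq γ ψ 0 = 1 := by simp [nseq]

theorem nseq_one (γ ψ : H) : nseq γ ψ 1 = ψ⁻¹ * γ * ψ * γ⁻¹ := by simp [nseq]

theorem nseq_succ (γ ψ : H) (i : ℕ) :
    nseq γ ψ (i + 1) = nseq γ ψ 1 * (γ * nseq γ ψ i * γ⁻¹) := by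
  simp only [nseq, pow_succ']
  group

theorem avg_fix (K₀ A : Subgroup H)
    (hab : ∀ a ∈ K₀, ∀ b ∈ K₀, a * b = b * a) {e m : ℕ} (hexp : ∀ a ∈ K₀, a ^ e = 1)
    (hme : Nat.Coprime m e) {γ ψ : H} (hγA : γ ∈ A) (hψA : ψ ∈ A) (hγm : γ ^ m = 1)
    (hγ : ∀ a ∈ K₀, γ * a * γ⁻¹ ∈ K₀) (h1 : ψ⁻¹ * γ * ψ * γ⁻¹ ∈ K₀) :
    ∃ ν ∈ K₀, ν ∈ A ∧ γ * (ψ * ν) = ψ * ν * γ := by
  have hn1K : nseq γ ψ 1 ∈ K₀ := by
    rw [nseq_one]
    exact h1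
  have hnK : ∀ i, nseq γ ψ i ∈ K₀ := by
    intro i
    induction i with
    | zero =>
      rw [nseq_zero]
      exact K₀.one_mem
    | succ i ih =>
      rw [nseq_succ]
      exact K₀.mul_mem hn1K (hγ _ ih)
  have hnA : ∀ i, nseq γ ψ i ∈ A := by
    intro i
    unfold nseq
    exact A.mul_mem (A.mul_mem (A.mul_mem (A.inv_mem hψA) (A.pow_mem hγA i)) hψA)
      (A.inv_mem (A.pow_mem hγA i))
  have hqK : ∀ j, qseq γ ψ j ∈ K₀ := by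
    intro j
    induction j with
    | zero => exact K₀.one_mem
    | succ j ih => exact K₀.mul_mem ih (hnK j)
  have hqA : ∀ j, qseq γ ψ j ∈ A := by
    intro j
    induction j with
    | zero => exact A.one_mem
    | succ j ih => exact A.mul_mem ih (hnA j)
  have hconj : ∀ i, γ * nseq γ ψ i * γ⁻¹ = (nseq γ ψ 1)⁻¹ * nseq γ ψ (i + 1) := by
    intro i
    rw [nseq_succ γ ψ i]
    group
  have key : ∀ j, γ * qseq γ ψ j * γ⁻¹ = (nseq γ ψ 1)⁻¹ ^ j * qseq γ ψ (j + 1) := by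
    intro j
    induction j with
    | zero =>
      show γ * 1 * γ⁻¹ = (nseq γ ψ 1)⁻¹ ^ 0 * (1 * nseq γ ψ 0)
      rw [nseq_zero]
      group
    | succ j ih =>
      have e1 : γ * qseq γ ψ (j + 1) * γ⁻¹
          = (γ * qseq γ ψ j * γ⁻¹) * (γ * nseq γ ψ j * γ⁻¹) := by
        show γ * (qseq γ ψ j * nseq γ ψ j) * γ⁻¹ = _
        group
      rw [e1, ih, hconj j]
      have hc : Commute (qseq γ ψ (j + 1)) (nseq γ ψ 1)⁻¹ :=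
        hab _ (hqK (j + 1)) _ (K₀.inv_mem hn1K)
      show (nseq γ ψ 1)⁻¹ ^ j * qseq γ ψ (j + 1) * ((nseq γ ψ 1)⁻¹ * nseq γ ψ (j + 1))
        = (nseq γ ψ 1)⁻¹ ^ (j + 1) * (qseq γ ψ (j + 1) * nseq γ ψ (j + 1))
      rw [pow_succ]
      calc (nseq γ ψ 1)⁻¹ ^ j * qseq γ ψ (j + 1) * ((nseq γ ψ 1)⁻¹ * nseq γ ψ (j + 1))
          = (nseq γ ψ 1)⁻¹ ^ j * (qseq γ ψ (j + 1) * (nseq γ ψ 1)⁻¹) * nseq γ ψ (j + 1) := by
            group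
        _ = (nseq γ ψ 1)⁻¹ ^ j * ((nseq γ ψ 1)⁻¹ * qseq γ ψ (j + 1)) * nseq γ ψ (j + 1) := by
            rw [hc.eq]
        _ = (nseq γ ψ 1)⁻¹ ^ j * (nseq γ ψ 1)⁻¹ * (qseq γ ψ (j + 1) * nseq γ ψ (j + 1)) := by
            group
  have hnm : nseq γ ψ m = 1 := by
    unfold nseq
    rw [hγm]
    group
  have hkm : γ * qseq γ ψ m * γ⁻¹ = (nseq γ ψ 1)⁻¹ ^ m * qseq γ ψ m := by
    rw [key m]
    show (nseq γ ψ 1)⁻¹ ^ m * (qseq γ ψ m * nseq γ ψ m) = _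
    rw [hnm, mul_one]
  -- Bezout
  have hb : (1 : ℤ) = (m : ℤ) * Nat.gcdA m e + (e : ℤ) * Nat.gcdB m e := by
    have := Nat.gcd_eq_gcd_ab m e
    rw [hme] at this
    exact_mod_cast this
  obtain ⟨a, ha⟩ : ∃ a : ℤ, a = Nat.gcdA m e := ⟨_, rfl⟩
  obtain ⟨b, hb'⟩ : ∃ b : ℤ, b = Nat.gcdB m e := ⟨_, rfl⟩
  rw [← ha, ← hb'] at hb
  refine ⟨qseq γ ψ m ^ a, K₀.zpow_mem (hqK m) a, A.zpow_mem (hqA m) a, ?_⟩
  have hc2 : Commute ((nseq γ ψ 1)⁻¹ ^ m) (qseq γ ψ m) :=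
    hab _ (K₀.pow_mem (K₀.inv_mem hn1K) m) _ (hqK m)
  have hinv_e : ((nseq γ ψ 1)⁻¹) ^ e = 1 := hexp _ (K₀.inv_mem hn1K)
  have hpow : ((nseq γ ψ 1)⁻¹ ^ m) ^ a = (nseq γ ψ 1)⁻¹ := by
    have e2 : ((nseq γ ψ 1)⁻¹ ^ m) ^ a = (nseq γ ψ 1)⁻¹ ^ ((m : ℤ) * a) := by
      rw [zpow_mul, zpow_natCast]
    have e3 : (m : ℤ) * a = 1 - (e : ℤ) * b := by linarith
    rw [e2, e3, zpow_sub, zpow_one, zpow_mul, zpow_natCast, hinv_e, one_zpow, inv_one, mul_one]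
  have hconjν : γ * qseq γ ψ m ^ a * γ⁻¹ = (nseq γ ψ 1)⁻¹ * qseq γ ψ m ^ a := by
    have e4 : γ * qseq γ ψ m ^ a * γ⁻¹ = (γ * qseq γ ψ m * γ⁻¹) ^ a := by
      rw [conj_zpow]
    rw [e4, hkm, hc2.mul_zpow, hpow]
  have e5 : γ * (ψ * qseq γ ψ m ^ a)
      = (γ * ψ * γ⁻¹) * (γ * qseq γ ψ m ^ a * γ⁻¹) * γ := by group
  rw [e5, hconjν, nseq_one]
  group

end Abstract

section Aut

variable {R : Type*} [Group R]

theorem exists_lift_fix (P Q W : Subgroup R) (hPQ : P ⊔ Q = ⊤) (hWP : W ≤ P)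
    (hWc : ∀ w ∈ W, ∀ y : R, w * y = y * w) {e m : ℕ} (hWe : ∀ w ∈ W, w ^ e = 1)
    (hme : Nat.Coprime m e) (A : Subgroup (MulAut R)) {γ ψ : MulAut R} (hγA : γ ∈ A)
    (hψA : ψ ∈ A) (hγP : ∀ y ∈ P, γ y = y) (hγQ' : ∀ y ∈ Q, γ⁻¹ y ∈ Q) (hγm : γ ^ m = 1)
    (hψP : ∀ y ∈ P, ψ y ∈ P) (hψQ : ∀ y ∈ Q, ∃ w ∈ W, ψ y = y * w)
    (hψW : ∀ w ∈ W, ψ w ∈ W) (hψW' : ∀ w ∈ W, ψ⁻¹ w ∈ W) :
    ∃ ψ' ∈ A, (∀ y ∈ P, ψ' y = ψ y) ∧ ∀ y ∈ Q, ψ' (y⁻¹ * γ y) = y⁻¹ * γ y := by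
  classical
  let K₀ : Subgroup (MulAut R) :=
    { carrier := {ν | (∀ y ∈ P, ν y = y) ∧ ∀ y ∈ Q, ∃ w ∈ W, ν y = y * w}
      one_mem' := ⟨fun y _ => rfl, fun y _ => ⟨1, W.one_mem, by simp⟩⟩
      mul_mem' := by
        rintro ν₁ ν₂ ⟨h1P, h1Q⟩ ⟨h2P, h2Q⟩
        refine ⟨fun y hy => ?_, fun y hy => ?_⟩
        · rw [MulAut.mul_apply, h2P y hy, h1P y hy]
        · obtain ⟨w₂, hw₂, e₂⟩ := h2Q y hy
          obtain ⟨w₁, hw₁, e₁⟩ := h1Q y hy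
          refine ⟨w₁ * w₂, W.mul_mem hw₁ hw₂, ?_⟩
          rw [MulAut.mul_apply, e₂, map_mul, e₁, h1P w₂ (hWP hw₂), mul_assoc]
      inv_mem' := by
        rintro ν ⟨hP', hQ'⟩
        refine ⟨fun y hy => ?_, fun y hy => ?_⟩
        · rw [MulAut.inv_apply, MulEquiv.symm_apply_eq, hP' y hy]
        · obtain ⟨w, hw, e1⟩ := hQ' y hy
          refine ⟨w⁻¹, W.inv_mem hw, ?_⟩
          rw [MulAut.inv_apply, MulEquiv.symm_apply_eq, map_mul, e1, map_inv, hP' w (hWP hw),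
            mul_inv_cancel_right] }
  have hK₀ : ∀ ν : MulAut R, ν ∈ K₀ ↔ (∀ y ∈ P, ν y = y) ∧ ∀ y ∈ Q, ∃ w ∈ W, ν y = y * w :=
    fun ν => Iff.rfl
  have aut_ext : ∀ ν₁ ν₂ : MulAut R, (∀ y ∈ P, ν₁ y = ν₂ y) → (∀ y ∈ Q, ν₁ y = ν₂ y) →
      ν₁ = ν₂ := by
    intro ν₁ ν₂ hP' hQ'
    have h : (⊤ : Subgroup R) ≤ MonoidHom.eqLocus ν₁.toMonoidHom ν₂.toMonoidHom := by
      rw [← hPQ]
      exact sup_le (fun y hy => hP' y hy) (fun y hy => hQ' y hy)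
    exact MulEquiv.ext fun y => h (Subgroup.mem_top y)
  have hab : ∀ a ∈ K₀, ∀ b ∈ K₀, a * b = b * a := by
    intro a ha b hb
    obtain ⟨haP, haQ⟩ := (hK₀ a).mp ha
    obtain ⟨hbP, hbQ⟩ := (hK₀ b).mp hb
    refine aut_ext _ _ (fun y hy => ?_) (fun y hy => ?_)
    · rw [MulAut.mul_apply, MulAut.mul_apply, hbP y hy, haP y hy, hbP y hy]
    · obtain ⟨wa, hwa, ea⟩ := haQ y hy
      obtain ⟨wb, hwb, eb⟩ := hbQ y hy
      rw [MulAut.mul_apply, MulAut.mul_apply, eb, ea, map_mul, map_mul, ea, eb,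
        haP wb (hWP hwb), hbP wa (hWP hwa), mul_assoc, mul_assoc, hWc wa hwa wb]
  have hpowP : ∀ a ∈ K₀, ∀ i : ℕ, ∀ y ∈ P, (a ^ i) y = y := by
    intro a ha i
    induction i with
    | zero => intro y _; rfl
    | succ i ih =>
      intro y hy
      rw [pow_succ, MulAut.mul_apply, ((hK₀ a).mp ha).1 y hy, ih y hy]
  have hexp : ∀ a ∈ K₀, a ^ e = 1 := by
    intro a ha
    have aux : ∀ i : ℕ, ∀ y ∈ Q, ∀ w ∈ W, a y = y * w → (a ^ i) y = y * w ^ i := by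
      intro i
      induction i with
      | zero => intro y _ w _ _; simp
      | succ i ih =>
        intro y hy w hw e1
        rw [pow_succ, MulAut.mul_apply, e1, map_mul, ih y hy w hw e1,
          hpowP a ha i w (hWP hw), mul_assoc, ← pow_succ]
    refine aut_ext _ _ (fun y hy => ?_) (fun y hy => ?_)
    · rw [hpowP a ha e y hy]; rfl
    · obtain ⟨w, hw, e1⟩ := ((hK₀ a).mp ha).2 y hy
      rw [aux e y hy w hw e1, hWe w hw, mul_one]; rfl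
  have hγPinv : ∀ y ∈ P, γ⁻¹ y = y := by
    intro y hy
    rw [MulAut.inv_apply, MulEquiv.symm_apply_eq, hγP y hy]
  have hγconj : ∀ a ∈ K₀, γ * a * γ⁻¹ ∈ K₀ := by
    intro a ha
    obtain ⟨haP, haQ⟩ := (hK₀ a).mp ha
    refine (hK₀ _).mpr ⟨fun y hy => ?_, fun y hy => ?_⟩
    · rw [MulAut.mul_apply, MulAut.mul_apply, hγPinv y hy, haP y hy, hγP y hy]
    · obtain ⟨w, hw, e1⟩ := haQ _ (hγQ' y hy)
      refine ⟨w, hw, ?_⟩
      rw [MulAut.mul_apply, MulAut.mul_apply, e1, map_mul, hγP w (hWP hw)]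
      congr 1
      rw [MulAut.inv_apply, MulEquiv.apply_symm_apply]
  have h1 : ψ⁻¹ * γ * ψ * γ⁻¹ ∈ K₀ := by
    refine (hK₀ _).mpr ⟨fun y hy => ?_, fun y hy => ?_⟩
    · rw [MulAut.mul_apply, MulAut.mul_apply, MulAut.mul_apply, hγPinv y hy,
        hγP _ (hψP y hy), MulAut.inv_apply, MulEquiv.symm_apply_apply]
    · obtain ⟨w₁, hw₁, e1⟩ := hψQ _ (hγQ' y hy)
      obtain ⟨w, hw, e2⟩ := hψQ y hy
      refine ⟨(ψ⁻¹ w)⁻¹ * ψ⁻¹ w₁, W.mul_mem (W.inv_mem (hψW' w hw)) (hψW' w₁ hw₁), ?_⟩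
      have e3 : γ (γ⁻¹ y) = y := by
        rw [MulAut.inv_apply, MulEquiv.apply_symm_apply]
      rw [MulAut.mul_apply, MulAut.mul_apply, MulAut.mul_apply, e1, map_mul, e3,
        hγP w₁ (hWP hw₁), MulAut.inv_apply, MulEquiv.symm_apply_eq, map_mul, map_mul, map_inv,
        e2, MulAut.inv_apply, MulAut.inv_apply, MulEquiv.apply_symm_apply,
        MulEquiv.apply_symm_apply]
      group
  obtain ⟨ν, hνK, hνA, hcomm⟩ := avg_fix K₀ A hab hexp hme hγA hψA hγm hγconj h1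
  obtain ⟨hνP, hνQ⟩ := (hK₀ ν).mp hνK
  refine ⟨ψ * ν, A.mul_mem hψA hνA, fun y hy => ?_, fun y hy => ?_⟩
  · rw [MulAut.mul_apply, hνP y hy]
  · obtain ⟨w₀, hw₀, e0⟩ := hνQ y hy
    obtain ⟨w, hw, e2⟩ := hψQ y hy
    have hu : w * ψ w₀ ∈ W := W.mul_mem hw (hψW w₀ hw₀)
    have e3 : (ψ * ν) y = y * (w * ψ w₀) := by
      rw [MulAut.mul_apply, e0, map_mul, e2, mul_assoc]
    have e4 : (ψ * ν) (γ y) = γ y * (w * ψ w₀) := by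
      have h5 : (γ * (ψ * ν)) y = (ψ * ν * γ) y := by rw [hcomm]
      rw [MulAut.mul_apply, MulAut.mul_apply _ (ψ * ν) γ y, e3, map_mul, hγP _ (hWP hu)] at h5
      exact h5.symm
    rw [map_mul, map_inv, e3, e4]
    have h6 := hWc _ hu (y⁻¹ * γ y)
    calc (y * (w * ψ w₀))⁻¹ * (γ y * (w * ψ w₀))
        = (w * ψ w₀)⁻¹ * ((y⁻¹ * γ y) * (w * ψ w₀)) := by group
      _ = (w * ψ w₀)⁻¹ * ((w * ψ w₀) * (y⁻¹ * γ y)) := by rw [h6]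
      _ = y⁻¹ * γ y := by group

end Aut

end Cfsg.Agent.Lib.helper87.CoprimeAvg
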