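import Cfsg.Agent.Lib.helper87.CravenE
import Cfsg.Agent.Lib.helper87.CoprimeAvg
import Cfsg.Agent.Lib.helper90.ResWN

/-!
Centralizers of normal subsystems (helper87).

For `E` normal in `F` over `T`:
* `good_of_normal`: every map of `E` on an `E`-centric subgroup `P` extends to a map of `F` on
  `P C_S(T)` acting trivially on `C_S(T)` modulo `T`;
* `fix_of_comm`: every automorphism in `E` of an `E`-centric subgroup `P` extends to a map of `F`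
  fixing a given commutator `x⁻¹ (s x s⁻¹)` of elements of `C_S(T)`;
* `fix_of_pprime`: ... and to a map of `F` fixing `c⁻¹ χ(c)`, for `χ` an automorphism in `C_F(T)`,
  of order prime to `p`, of a subgroup `Q ≤ C_S(T)`.
-/

set_option autoImplicit false

namespace Cfsg.Agent.Lib.helper87.CenNormal

open Cfsg Cfsg.FusionSystem
open Cfsg.Agent.Lib.helper88
open Cfsg.Agent.Lib.helper87.Craven

variable {Ω : Type*} [Group Ω] {S : Subgroup Ω}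

/-- A fusion system is invariant in itself. -/
theorem invariant_self {T : Subgroup Ω} (E : FusionSystem T) : E.IsInvariantIn E := by
  refine ⟨fun _ _ h => h, ⟨le_rfl, fun R _ φ hφ x => (E.le_of_mem hφ).2 x⟩, ?_, ?_⟩
  · intro P hPT φ hφ α hα
    have hα' : T.subtype.comp (α⁻¹).toMonoidHom ∈ E.Hom T :=
      (mem_autGroup_iff' E le_rfl α⁻¹).mp ((E.autGroup T).inv_mem hα)
    have hα0 : T.subtype.comp α.toMonoidHom ∈ E.Hom T := (mem_autGroup_iff' E le_rfl α).mp hα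
    have hP'T : (P.subgroupOf T).map (T.subtype.comp α.toMonoidHom) ≤ T := by
      rintro _ ⟨y, -, rfl⟩
      exact (α y).2
    have h1 := restrict_mem E hP'T hα'
    have hval1 : ∀ y : ↥((P.subgroupOf T).map (T.subtype.comp α.toMonoidHom)),
        ((T.subtype.comp (α⁻¹).toMonoidHom).comp (Subgroup.inclusion hP'T)) y ∈ P := by
      rintro ⟨_, y, hy, rfl⟩
      show ((α⁻¹ (α y) : T) : Ω) ∈ P
      rw [MulAut.inv_apply_self]
      exact Subgroup.mem_subgroupOf.mp hy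
    have h2 := E.comp_mem h1 hφ hval1
    have hval2 : ∀ y : ↥((P.subgroupOf T).map (T.subtype.comp α.toMonoidHom)),
        (φ.comp (((T.subtype.comp (α⁻¹).toMonoidHom).comp
          (Subgroup.inclusion hP'T)).codRestrict P hval1)) y ∈ T :=
      fun y => (E.le_of_mem hφ).2 _
    have h3 := E.comp_mem h2 hα0 hval2
    refine ⟨_, h3, ?_⟩
    intro x hφx hαx
    show ((α ⟨φ ⟨((α⁻¹ (⟨((α ⟨x, hPT x.2⟩ : T) : Ω), _⟩ : T) : T) : Ω), _⟩, _⟩ : T) : Ω)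
      = ((α ⟨φ x, hφx⟩ : T) : Ω)
    have e1 : (⟨((α ⟨x, hPT x.2⟩ : T) : Ω), hP'T hαx⟩ : T) = α ⟨x, hPT x.2⟩ := Subtype.ext rfl
    congr 3
    refine congrArg φ (Subtype.ext ?_)
    show ((α⁻¹ (⟨((α ⟨x, hPT x.2⟩ : T) : Ω), _⟩ : T) : T) : Ω) = (x : Ω)
    rw [e1, MulAut.inv_apply_self]
  · intro P _ φ hφ
    exact ⟨1, (E.autGroup T).one_mem, φ, hφ, fun x hx => rfl⟩

/-- Every map of a normal subsystem `E` on an `E`-centric subgroup is good. -/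
theorem good_of_normal [Finite S] {p : ℕ} [Fact p.Prime] (hS : IsPGroup p S) (F : FusionSystem S)
    (hF : F.IsSaturated p) {T : Subgroup Ω} (E : FusionSystem T) (hE : E.IsNormalIn F p)
    {P : Subgroup Ω} (hPc : E.IsCentric P) {φ : P →* Ω} (hφ : φ ∈ E.Hom P) :
    Good F T P φ := by
  classical
  obtain ⟨⟨hEsat, -, hEinv⟩, hext⟩ := hE
  have hT := hEinv.2.1
  have hTS := hT.1
  have hfT : Finite T := finite_of_le hTS
  have hTp : IsPGroup p T := hS.to_le hTS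
  have hPT : P ≤ T := hPc.1
  have hNS : T ⊔ centralizerIn S T ≤ S := sup_le hTS inf_le_left
  have hres := Cfsg.Agent.Lib.helper87.exists_isPPrimeResidual hTp E hEsat
  have hwn := Cfsg.Agent.Lib.helper90.residual_weaklyNormal p hTp E hEsat E
    ⟨hEsat, hEsat, invariant_self E⟩ _ hres
  obtain ⟨α, hα, φ₀, hφ₀, hfr⟩ := hwn.2.2.2.2.2 P hPT φ hφ
  have h2 : (Cfsg.Agent.Lib.helper87.resSys E p).IsSubsystemOf (goodSys F E hT) :=
    Cfsg.Agent.Lib.helper87.resSys_le_of_mem (goodSys_mem_resFamily hS F hF E hEsat hEinv)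
  obtain ⟨ψ₀, hψ₀, hψ₀P, hψ₀C⟩ := (h2 P hφ₀).2 hPc
  obtain ⟨β, hβ, hβT, hβC⟩ := hext α hα
  have hβF : (T ⊔ centralizerIn S T).subtype.comp β.toMonoidHom ∈ F.Hom (T ⊔ centralizerIn S T) :=
    (mem_autGroup_iff' F hNS β).mp hβ
  have hφ₀T : ∀ x : P, φ₀ x ∈ T := fun x => ((goodSys F E hT).le_of_mem (h2 P hφ₀)).2 x
  have hval : ∀ y : ↥(P ⊔ centralizerIn S T), ψ₀ y ∈ T ⊔ centralizerIn S T := by
    refine sup_forall_mem ψ₀ _ ?_ ?_
    · intro y hy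
      have h3 : ψ₀ y = φ₀ ⟨y, hy⟩ := hψ₀P ⟨y, hy⟩
      rw [h3]
      exact Subgroup.mem_sup_left (hφ₀T _)
    · intro y hy
      have h3 : ψ₀ y = (y : Ω) * ((y : Ω)⁻¹ * ψ₀ y) := by group
      rw [h3]
      exact mul_mem (Subgroup.mem_sup_right hy) (Subgroup.mem_sup_left (hψ₀C y hy))
  refine ⟨_, F.comp_mem hψ₀ hβF hval, fun x => ?_, fun c hc => ?_⟩
  · show ((β ⟨ψ₀ (Subgroup.inclusion le_sup_left x), _⟩ : ↥(T ⊔ centralizerIn S T)) : Ω) = φ x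
    have e1 : (⟨ψ₀ (Subgroup.inclusion le_sup_left x), hval _⟩ : ↥(T ⊔ centralizerIn S T))
        = Subgroup.inclusion le_sup_left (⟨φ₀ x, hφ₀T x⟩ : T) := Subtype.ext (hψ₀P x)
    rw [e1, hβT, hfr x (hφ₀T x)]
  · show (c : Ω)⁻¹ * ((β ⟨ψ₀ c, hval c⟩ : ↥(T ⊔ centralizerIn S T)) : Ω) ∈ T
    have ht : (c : Ω)⁻¹ * ψ₀ c ∈ T := hψ₀C c hc
    have e1 : (⟨ψ₀ c, hval c⟩ : ↥(T ⊔ centralizerIn S T))
        = (⟨(c : Ω), Subgroup.mem_sup_right hc⟩ : ↥(T ⊔ centralizerIn S T))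
          * Subgroup.inclusion le_sup_left (⟨(c : Ω)⁻¹ * ψ₀ c, ht⟩ : T) := by
      apply Subtype.ext
      show ψ₀ c = (c : Ω) * ((c : Ω)⁻¹ * ψ₀ c)
      group
    rw [e1, map_mul]
    have e2 : (((β ⟨(c : Ω), Subgroup.mem_sup_right hc⟩ : ↥(T ⊔ centralizerIn S T))
        * β (Subgroup.inclusion le_sup_left (⟨(c : Ω)⁻¹ * ψ₀ c, ht⟩ : T))
          : ↥(T ⊔ centralizerIn S T)) : Ω)
        = ((β ⟨(c : Ω), Subgroup.mem_sup_right hc⟩ : ↥(T ⊔ centralizerIn S T)) : Ω)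
          * ((α ⟨(c : Ω)⁻¹ * ψ₀ c, ht⟩ : T) : Ω) := by
      rw [Subgroup.coe_mul, hβT]
    rw [e2, ← mul_assoc]
    exact T.mul_mem (hβC ⟨(c : Ω), Subgroup.mem_sup_right hc⟩ hc).1 (α _).2

/-- For a good lift `ψ` of an automorphism `a` of an `E`-centric subgroup `P`, the elements
`c⁻¹ ψ(c)`, `c ∈ C_S(T)`, lie in `Z(P)`. -/
theorem good_center {T : Subgroup Ω} (E : FusionSystem T) {P : Subgroup Ω}
    (hPc : E.IsCentric P) {a : MulAut P} (ha : P.subtype.comp a.toMonoidHom ∈ E.Hom P)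
    {ψ : ↥(P ⊔ centralizerIn S T) →* Ω}
    (hψP : ∀ x : P, ψ (Subgroup.inclusion le_sup_left x) = (P.subtype.comp a.toMonoidHom) x)
    (hψC : ∀ c : ↥(P ⊔ centralizerIn S T), (c : Ω) ∈ centralizerIn S T → (c : Ω)⁻¹ * ψ c ∈ T)
    (c : ↥(P ⊔ centralizerIn S T)) (hc : (c : Ω) ∈ centralizerIn S T) :
    (c : Ω)⁻¹ * ψ c ∈ P ⊓ Subgroup.centralizer (P : Set Ω) := by
  have hPT : P ≤ T := hPc.1
  have h1 := good_u_mem E hPc ha hψP hψC c hc
  refine Subgroup.mem_inf.mpr ⟨?_, ?_⟩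
  · obtain ⟨x, hx⟩ := h1
    rw [← hx]
    exact (a x).2
  · rw [Subgroup.mem_centralizer_iff]
    intro u hu
    have hc2 : (c : Ω) ∈ Subgroup.centralizer (T : Set Ω) := hc.2
    have e0 : ψ (Subgroup.inclusion le_sup_left (a.symm ⟨u, hu⟩)) = u := by
      rw [hψP]
      show ((a (a.symm ⟨u, hu⟩) : P) : Ω) = u
      rw [MulEquiv.apply_symm_apply]
    have h2 : u * (c : Ω) = (c : Ω) * u := Subgroup.mem_centralizer_iff.mp hc2 _ (hPT hu)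
    have h3 : Subgroup.inclusion le_sup_left (a.symm ⟨u, hu⟩) * c
        = c * Subgroup.inclusion le_sup_left (a.symm ⟨u, hu⟩) :=
      Subtype.ext (Subgroup.mem_centralizer_iff.mp hc2 _ (hPT (a.symm ⟨u, hu⟩).2))
    have h4 : u * ψ c = ψ c * u := by
      have h5 : ψ (Subgroup.inclusion le_sup_left (a.symm ⟨u, hu⟩)) * ψ c
          = ψ c * ψ (Subgroup.inclusion le_sup_left (a.symm ⟨u, hu⟩)) := by
        rw [← map_mul, ← map_mul, h3]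
      rw [e0] at h5
      exact h5
    have c1 : Commute u (c : Ω) := h2
    have c2 : Commute u (ψ c) := h4
    exact c1.inv_right.mul_right c2

/-- An automorphism of a subgroup preserves its centre. -/
theorem aut_center_mem {P : Subgroup Ω} (a : MulAut P) (w : P)
    (hw : (w : Ω) ∈ Subgroup.centralizer (P : Set Ω)) :
    ((a w : P) : Ω) ∈ Subgroup.centralizer (P : Set Ω) := by
  rw [Subgroup.mem_centralizer_iff]
  intro u hu
  have h1 : a.symm ⟨u, hu⟩ * w = w * a.symm ⟨u, hu⟩ :=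
    Subtype.ext (Subgroup.mem_centralizer_iff.mp hw _ (a.symm ⟨u, hu⟩).2)
  have h2 := congrArg a h1
  rw [map_mul, map_mul, MulEquiv.apply_symm_apply] at h2
  exact congrArg (fun z : P => (z : Ω)) h2

/-- A map of `F` extending `φ` and fixing `g ∈ C_S(T)` puts `φ` in `C_F(⟨g⟩)`. -/
theorem mem_cenHom_of_fix (F : FusionSystem S) {T P R' : Subgroup Ω} (hTS : T ≤ S) (hPT : P ≤ T)
    {g : Ω} (hg : g ∈ centralizerIn S T) {φ : P →* Ω} (hφ : φ ∈ F.Hom P) (hφT : ∀ x, φ x ∈ T)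
    (hPR : P ≤ R') (hgR : g ∈ R') {Ψ : R' →* Ω} (hΨ : Ψ ∈ F.Hom R')
    (hΨP : ∀ x : P, Ψ (Subgroup.inclusion hPR x) = φ x) (hΨg : Ψ ⟨g, hgR⟩ = g) :
    φ ∈ F.centralizerHom (Subgroup.zpowers g) P := by
  have hcomm : ∀ u ∈ T, u ∈ centralizerIn S (Subgroup.zpowers g) := by
    intro u hu
    refine Subgroup.mem_inf.mpr ⟨hTS hu, ?_⟩
    rw [Subgroup.mem_centralizer_iff]
    intro h hh
    have hh2 : h ∈ Subgroup.centralizer (T : Set Ω) := ((Subgroup.zpowers_le.mpr hg) hh).2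
    exact (Subgroup.mem_centralizer_iff.mp hh2 u hu).symm
  have hle : P ⊔ Subgroup.zpowers g ≤ R' := sup_le hPR (Subgroup.zpowers_le.mpr hgR)
  refine ⟨hφ, fun u hu => hcomm u (hPT hu), fun x => hcomm _ (hφT x),
    Ψ.comp (Subgroup.inclusion hle), restrict_mem F hle hΨ, fun x => ?_, fun x => ?_⟩
  · exact hΨP x
  · obtain ⟨k, hk⟩ := Subgroup.mem_zpowers_iff.mp x.2
    have e1 : Subgroup.inclusion hle (Subgroup.inclusion le_sup_right x)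
        = (⟨g, hgR⟩ : R') ^ k := by
      apply Subtype.ext
      rw [Subgroup.coe_zpow]
      exact hk.symm
    show Ψ (Subgroup.inclusion hle (Subgroup.inclusion le_sup_right x)) = x
    rw [e1, map_zpow, hΨg, hk]

theorem comm_fix_aux {G : Type*} [Group G] {x s dx ds : G} (h1 : Commute dx x)
    (h2 : Commute dx s) (h3 : Commute ds x) (h5 : Commute dx ds) :
    (x * dx)⁻¹ * ((s * ds) * (x * dx) * (s * ds)⁻¹) = x⁻¹ * (s * x * s⁻¹) := by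
  have h6 : Commute dx (x⁻¹ * (s * x * s⁻¹)) :=
    h1.inv_right.mul_right ((h2.mul_right h1).mul_right h2.inv_right)
  calc (x * dx)⁻¹ * ((s * ds) * (x * dx) * (s * ds)⁻¹)
      = dx⁻¹ * x⁻¹ * (s * (ds * x) * dx * ds⁻¹ * s⁻¹) := by group
    _ = dx⁻¹ * x⁻¹ * (s * (x * ds) * dx * ds⁻¹ * s⁻¹) := by rw [h3.eq]
    _ = dx⁻¹ * x⁻¹ * (s * x * (ds * dx) * ds⁻¹ * s⁻¹) := by group
    _ = dx⁻¹ * x⁻¹ * (s * x * (dx * ds) * ds⁻¹ * s⁻¹) := by rw [h5.eq]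
    _ = dx⁻¹ * x⁻¹ * (s * x * (dx * s⁻¹)) := by group
    _ = dx⁻¹ * x⁻¹ * (s * x * (s⁻¹ * dx)) := by rw [h2.inv_right.eq]
    _ = dx⁻¹ * ((x⁻¹ * (s * x * s⁻¹)) * dx) := by group
    _ = dx⁻¹ * (dx * (x⁻¹ * (s * x * s⁻¹))) := by rw [h6.eq]
    _ = x⁻¹ * (s * x * s⁻¹) := by group

/-- Every automorphism in `E` of an `E`-centric subgroup extends to a map of `F` fixing a given
commutator of elements of `C_S(T)`. -/
theorem fix_of_comm [Finite S] {p : ℕ} [Fact p.Prime] (hS : IsPGroup p S) (F : FusionSystem S)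
    (hF : F.IsSaturated p) {T : Subgroup Ω} (E : FusionSystem T) (hE : E.IsNormalIn F p)
    {P : Subgroup Ω} (hPc : E.IsCentric P) {a : MulAut P} (ha : a ∈ E.autGroup P)
    {x s : Ω} (hx : x ∈ centralizerIn S T) (hs : s ∈ centralizerIn S T) :
    P.subtype.comp a.toMonoidHom ∈ F.centralizerHom (Subgroup.zpowers (x⁻¹ * (s * x * s⁻¹))) P := by
  classical
  have hEinv := hE.1.2.2
  have hT := hEinv.2.1
  have hTS := hT.1
  have hPT : P ≤ T := hPc.1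
  have hφE : P.subtype.comp a.toMonoidHom ∈ E.Hom P := (mem_autGroup_iff' E hPT a).mp ha
  have hφF := hEinv.1 P hφE
  obtain ⟨ψ₀, hψ₀, hψ₀P, hψ₀C⟩ := good_of_normal hS F hF E hE hPc hφE
  have hg : x⁻¹ * (s * x * s⁻¹) ∈ centralizerIn S T :=
    mul_mem (inv_mem hx) (mul_mem (mul_mem hs hx) (inv_mem hs))
  refine mem_cenHom_of_fix F hTS hPT hg hφF (fun y => hPT (a y).2) le_sup_left
    (Subgroup.mem_sup_right hg) hψ₀ hψ₀P ?_
  have hx' : x ∈ P ⊔ centralizerIn S T := Subgroup.mem_sup_right hx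
  have hs' : s ∈ P ⊔ centralizerIn S T := Subgroup.mem_sup_right hs
  have e1 : (⟨x⁻¹ * (s * x * s⁻¹), Subgroup.mem_sup_right hg⟩ : ↥(P ⊔ centralizerIn S T))
      = (⟨x, hx'⟩ : ↥(P ⊔ centralizerIn S T))⁻¹ * (⟨s, hs'⟩ * ⟨x, hx'⟩ * ⟨s, hs'⟩⁻¹) :=
    Subtype.ext rfl
  rw [e1, map_mul, map_inv, map_mul, map_mul, map_inv]
  have hdx := good_center E hPc hφE hψ₀P hψ₀C ⟨x, hx'⟩ hx
  have hds := good_center E hPc hφE hψ₀P hψ₀C ⟨s, hs'⟩ hs
  have ex : ψ₀ ⟨x, hx'⟩ = x * (x⁻¹ * ψ₀ ⟨x, hx'⟩) := by group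
  have es : ψ₀ ⟨s, hs'⟩ = s * (s⁻¹ * ψ₀ ⟨s, hs'⟩) := by group
  have hcT : ∀ d ∈ P, ∀ y ∈ centralizerIn S T, Commute d y := by
    intro d hd y hy
    have hy2 : y ∈ Subgroup.centralizer (T : Set Ω) := hy.2
    exact Subgroup.mem_centralizer_iff.mp hy2 d (hPT hd)
  rw [ex, es]
  refine comm_fix_aux (hcT _ hdx.1 x hx) (hcT _ hdx.1 s hs) (hcT _ hds.1 x hx) ?_
  exact (Subgroup.mem_centralizer_iff.mp hds.2 _ hdx.1)

/-- Every automorphism in `E` of an `E`-centric subgroup `P` extends to a map of `F` fixing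
`c⁻¹ χ(c)`, where `χ` is an automorphism in `C_F(T)`, of order prime to `p`, of a subgroup
`Q ≤ C_S(T)` and `c ∈ Q`. -/
theorem fix_of_pprime [Finite S] {p : ℕ} [Fact p.Prime] (hS : IsPGroup p S) (F : FusionSystem S)
    (hF : F.IsSaturated p) {T : Subgroup Ω} (E : FusionSystem T) (hE : E.IsNormalIn F p)
    {P : Subgroup Ω} (hPc : E.IsCentric P) {a : MulAut P} (ha : a ∈ E.autGroup P)
    {Q : Subgroup Ω} (hQ : Q ≤ centralizerIn S T) {χ : MulAut Q}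
    (hχ : Q.subtype.comp χ.toMonoidHom ∈ F.centralizerHom T Q) {m : ℕ} (hm : Nat.Coprime m p)
    (hχm : χ ^ m = 1) (c : Q) :
    P.subtype.comp a.toMonoidHom
      ∈ F.centralizerHom (Subgroup.zpowers ((c : Ω)⁻¹ * ((χ c : Q) : Ω))) P := by
  classical
  have hEinv := hE.1.2.2
  have hT := hEinv.2.1
  have hTS := hT.1
  have hPT : P ≤ T := hPc.1
  have hPS : P ≤ S := hPT.trans hTS
  have hQS : Q ≤ S := hQ.trans inf_le_left
  have hfP : Finite P := finite_of_le hPS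
  have hφE : P.subtype.comp a.toMonoidHom ∈ E.Hom P := (mem_autGroup_iff' E hPT a).mp ha
  have hφF := hEinv.1 P hφE
  obtain ⟨ψ₀, hψ₀, hψ₀P, hψ₀C⟩ := good_of_normal hS F hF E hE hPc hφE
  have hRle : P ⊔ Q ≤ P ⊔ centralizerIn S T := sup_le le_sup_left (hQ.trans le_sup_right)
  have hRS : P ⊔ Q ≤ S := sup_le hPS hQS
  have hfR : Finite ↥(P ⊔ Q) := finite_of_le hRS
  have hψ₁ : ψ₀.comp (Subgroup.inclusion hRle) ∈ F.Hom (P ⊔ Q) := restrict_mem F hRle hψ₀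
  have hψ₁P : ∀ (y : ↥(P ⊔ Q)) (hy : (y : Ω) ∈ P),
      ψ₀ (Subgroup.inclusion hRle y) = ((a ⟨y, hy⟩ : P) : Ω) := by
    intro y hy
    have e1 : Subgroup.inclusion hRle y = Subgroup.inclusion le_sup_left (⟨y, hy⟩ : P) :=
      Subtype.ext rfl
    rw [e1]
    exact hψ₀P _
  have hψ₁Q : ∀ y : ↥(P ⊔ Q), (y : Ω) ∈ Q →
      (y : Ω)⁻¹ * ψ₀ (Subgroup.inclusion hRle y) ∈ P ⊓ Subgroup.centralizer (P : Set Ω) :=
    fun y hy => good_center E hPc hφE hψ₀P hψ₀C (Subgroup.inclusion hRle y) (hQ hy)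
  have hval : ∀ y : ↥(P ⊔ Q), (ψ₀.comp (Subgroup.inclusion hRle)) y ∈ P ⊔ Q := by
    refine sup_forall_mem _ _ ?_ ?_
    · intro y hy
      show ψ₀ (Subgroup.inclusion hRle y) ∈ P ⊔ Q
      rw [hψ₁P y hy]
      exact Subgroup.mem_sup_left (a _).2
    · intro y hy
      have h3 : ψ₀ (Subgroup.inclusion hRle y)
          = (y : Ω) * ((y : Ω)⁻¹ * ψ₀ (Subgroup.inclusion hRle y)) := by group
      show ψ₀ (Subgroup.inclusion hRle y) ∈ P ⊔ Q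
      rw [h3]
      exact mul_mem (Subgroup.mem_sup_right hy) (Subgroup.mem_sup_left (hψ₁Q y hy).1)
  obtain ⟨ψ, hψ⟩ := Cfsg.Agent.Lib.helper89.exists_aut_of_mem F hψ₁ hval
  have hψ' : ∀ y : ↥(P ⊔ Q), ((ψ y : ↥(P ⊔ Q)) : Ω) = ψ₀ (Subgroup.inclusion hRle y) := hψ
  have hψA : ψ ∈ F.autGroup (P ⊔ Q) := by
    rw [mem_autGroup_iff' F hRS]
    have e1 : (P ⊔ Q).subtype.comp ψ.toMonoidHom = ψ₀.comp (Subgroup.inclusion hRle) :=
      MonoidHom.ext fun y => hψ y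
    rw [e1]
    exact hψ₁
  obtain ⟨-, -, -, χ', hχ', hχ'Q, hχ'T⟩ := hχ
  have hRle2 : P ⊔ Q ≤ Q ⊔ T := sup_le (hPT.trans le_sup_right) le_sup_left
  have hγ₁ : χ'.comp (Subgroup.inclusion hRle2) ∈ F.Hom (P ⊔ Q) := restrict_mem F hRle2 hχ'
  have hγ₁P : ∀ y : ↥(P ⊔ Q), (y : Ω) ∈ P → χ' (Subgroup.inclusion hRle2 y) = (y : Ω) := by
    intro y hy
    have e1 : Subgroup.inclusion hRle2 y = Subgroup.inclusion le_sup_right (⟨y, hPT hy⟩ : T) :=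
      Subtype.ext rfl
    rw [e1]
    exact hχ'T _
  have hγ₁Q : ∀ (y : ↥(P ⊔ Q)) (hy : (y : Ω) ∈ Q),
      χ' (Subgroup.inclusion hRle2 y) = ((χ ⟨y, hy⟩ : Q) : Ω) := by
    intro y hy
    have e1 : Subgroup.inclusion hRle2 y = Subgroup.inclusion le_sup_left (⟨y, hy⟩ : Q) :=
      Subtype.ext rfl
    rw [e1]
    exact hχ'Q _
  have hval2 : ∀ y : ↥(P ⊔ Q), (χ'.comp (Subgroup.inclusion hRle2)) y ∈ P ⊔ Q := by
    refine sup_forall_mem _ _ ?_ ?_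
    · intro y hy
      show χ' (Subgroup.inclusion hRle2 y) ∈ P ⊔ Q
      rw [hγ₁P y hy]
      exact Subgroup.mem_sup_left hy
    · intro y hy
      show χ' (Subgroup.inclusion hRle2 y) ∈ P ⊔ Q
      rw [hγ₁Q y hy]
      exact Subgroup.mem_sup_right (χ _).2
  obtain ⟨γ, hγ⟩ := Cfsg.Agent.Lib.helper89.exists_aut_of_mem F hγ₁ hval2
  have hγ' : ∀ y : ↥(P ⊔ Q), ((γ y : ↥(P ⊔ Q)) : Ω) = χ' (Subgroup.inclusion hRle2 y) := hγ
  have hγA : γ ∈ F.autGroup (P ⊔ Q) := by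
    rw [mem_autGroup_iff' F hRS]
    have e1 : (P ⊔ Q).subtype.comp γ.toMonoidHom = χ'.comp (Subgroup.inclusion hRle2) :=
      MonoidHom.ext fun y => hγ y
    rw [e1]
    exact hγ₁
  -- the abstract data
  have hPQ' : P.subgroupOf (P ⊔ Q) ⊔ Q.subgroupOf (P ⊔ Q) = ⊤ :=
    codisjoint_iff.mp (Subgroup.codisjoint_subgroupOf_sup P Q)
  have hWP : (P ⊓ Subgroup.centralizer (P : Set Ω)).subgroupOf (P ⊔ Q) ≤ P.subgroupOf (P ⊔ Q) :=
    fun y hy => Subgroup.mem_subgroupOf.mpr (Subgroup.mem_subgroupOf.mp hy).1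
  have hWc : ∀ w ∈ (P ⊓ Subgroup.centralizer (P : Set Ω)).subgroupOf (P ⊔ Q),
      ∀ y : ↥(P ⊔ Q), w * y = y * w := by
    intro w hw y
    have hw' := Subgroup.mem_subgroupOf.mp hw
    have hle : P ⊔ Q ≤ Subgroup.centralizer ({(w : Ω)} : Set Ω) := by
      refine sup_le ?_ ?_
      · intro u hu
        rw [Subgroup.mem_centralizer_iff]
        intro h hh
        rw [Set.mem_singleton_iff] at hh
        rw [hh]
        exact (Subgroup.mem_centralizer_iff.mp hw'.2 u hu).symm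
      · intro u hu
        rw [Subgroup.mem_centralizer_iff]
        intro h hh
        rw [Set.mem_singleton_iff] at hh
        rw [hh]
        have hu2 : u ∈ Subgroup.centralizer (T : Set Ω) := (hQ hu).2
        exact Subgroup.mem_centralizer_iff.mp hu2 _ (hPT hw'.1)
    apply Subtype.ext
    exact Subgroup.mem_centralizer_iff.mp (hle y.2) _ rfl
  have hWe : ∀ w ∈ (P ⊓ Subgroup.centralizer (P : Set Ω)).subgroupOf (P ⊔ Q),
      w ^ Nat.card P = 1 := by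
    intro w hw
    have hw' := Subgroup.mem_subgroupOf.mp hw
    have h1 : (⟨(w : Ω), hw'.1⟩ : P) ^ Nat.card P = 1 := pow_card_eq_one'
    apply Subtype.ext
    have h2 : (((⟨(w : Ω), hw'.1⟩ : P) ^ Nat.card P : P) : Ω) = ((1 : P) : Ω) :=
      congrArg (fun z : P => (z : Ω)) h1
    rw [Subgroup.coe_pow, Subgroup.coe_one] at h2
    rw [Subgroup.coe_pow, Subgroup.coe_one]
    exact h2
  have hme : Nat.Coprime m (Nat.card P) := by
    obtain ⟨k, hk⟩ := IsPGroup.iff_card.mp (hS.to_le hPS)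
    rw [hk]
    exact Nat.Coprime.pow_right k hm
  have hγP : ∀ y ∈ P.subgroupOf (P ⊔ Q), γ y = y := by
    intro y hy
    apply Subtype.ext
    rw [hγ']
    exact hγ₁P y (Subgroup.mem_subgroupOf.mp hy)
  have hγQ : ∀ (y : ↥(P ⊔ Q)) (hy : (y : Ω) ∈ Q),
      ((γ y : ↥(P ⊔ Q)) : Ω) = ((χ ⟨y, hy⟩ : Q) : Ω) := by
    intro y hy
    rw [hγ']
    exact hγ₁Q y hy
  have hγQ' : ∀ y ∈ Q.subgroupOf (P ⊔ Q), γ⁻¹ y ∈ Q.subgroupOf (P ⊔ Q) := by
    intro y hy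
    have hy' : (y : Ω) ∈ Q := Subgroup.mem_subgroupOf.mp hy
    have e1 : γ⁻¹ y = ⟨((χ.symm ⟨y, hy'⟩ : Q) : Ω), Subgroup.mem_sup_right (χ.symm ⟨y, hy'⟩).2⟩ := by
      rw [MulAut.inv_apply, MulEquiv.symm_apply_eq]
      apply Subtype.ext
      rw [hγQ _ (χ.symm ⟨y, hy'⟩).2]
      show (y : Ω) = ((χ (χ.symm ⟨y, hy'⟩) : Q) : Ω)
      rw [MulEquiv.apply_symm_apply]
    rw [e1]
    exact Subgroup.mem_subgroupOf.mpr (χ.symm ⟨y, hy'⟩).2
  have hγpowP : ∀ (i : ℕ) (y : ↥(P ⊔ Q)), (y : Ω) ∈ P → (γ ^ i) y = y := by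
    intro i
    induction i with
    | zero => intro y _; rfl
    | succ i ih =>
      intro y hy
      rw [pow_succ, MulAut.mul_apply, hγP y (Subgroup.mem_subgroupOf.mpr hy), ih y hy]
  have hγpowQ : ∀ (i : ℕ) (y : ↥(P ⊔ Q)) (hy : (y : Ω) ∈ Q),
      (((γ ^ i) y : ↥(P ⊔ Q)) : Ω) = (((χ ^ i) ⟨y, hy⟩ : Q) : Ω) := by
    intro i
    induction i with
    | zero => intro y hy; rfl
    | succ i ih =>
      intro y hy
      have hγy : ((γ y : ↥(P ⊔ Q)) : Ω) ∈ Q := by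
        rw [hγQ y hy]
        exact (χ _).2
      rw [pow_succ, MulAut.mul_apply, ih (γ y) hγy, pow_succ, MulAut.mul_apply]
      have e1 : (⟨((γ y : ↥(P ⊔ Q)) : Ω), hγy⟩ : Q) = χ ⟨y, hy⟩ := Subtype.ext (hγQ y hy)
      rw [e1]
  have hγm : γ ^ m = 1 := by
    have h : (⊤ : Subgroup ↥(P ⊔ Q)) ≤ MonoidHom.eqLocus (γ ^ m).toMonoidHom
        (1 : MulAut ↥(P ⊔ Q)).toMonoidHom := by
      rw [← hPQ']
      refine sup_le (fun y hy => ?_) (fun y hy => ?_)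
      · exact hγpowP m y (Subgroup.mem_subgroupOf.mp hy)
      · apply Subtype.ext
        have hy' : (y : Ω) ∈ Q := Subgroup.mem_subgroupOf.mp hy
        show (((γ ^ m) y : ↥(P ⊔ Q)) : Ω) = (y : Ω)
        rw [hγpowQ m y hy', hχm]
        rfl
    exact MulEquiv.ext fun y => h (Subgroup.mem_top y)
  have hψP : ∀ y ∈ P.subgroupOf (P ⊔ Q), ψ y ∈ P.subgroupOf (P ⊔ Q) := by
    intro y hy
    have hy' : (y : Ω) ∈ P := Subgroup.mem_subgroupOf.mp hy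
    refine Subgroup.mem_subgroupOf.mpr ?_
    rw [hψ', hψ₁P y hy']
    exact (a _).2
  have hψQ : ∀ y ∈ Q.subgroupOf (P ⊔ Q),
      ∃ w ∈ (P ⊓ Subgroup.centralizer (P : Set Ω)).subgroupOf (P ⊔ Q), ψ y = y * w := by
    intro y hy
    have hy' : (y : Ω) ∈ Q := Subgroup.mem_subgroupOf.mp hy
    have hd := hψ₁Q y hy'
    refine ⟨⟨(y : Ω)⁻¹ * ψ₀ (Subgroup.inclusion hRle y), Subgroup.mem_sup_left hd.1⟩,
      Subgroup.mem_subgroupOf.mpr hd, ?_⟩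
    apply Subtype.ext
    rw [hψ']
    show ψ₀ (Subgroup.inclusion hRle y) = (y : Ω) * ((y : Ω)⁻¹ * ψ₀ (Subgroup.inclusion hRle y))
    group
  have hψW : ∀ w ∈ (P ⊓ Subgroup.centralizer (P : Set Ω)).subgroupOf (P ⊔ Q),
      ψ w ∈ (P ⊓ Subgroup.centralizer (P : Set Ω)).subgroupOf (P ⊔ Q) := by
    intro w hw
    have hw' := Subgroup.mem_subgroupOf.mp hw
    refine Subgroup.mem_subgroupOf.mpr ?_
    rw [hψ', hψ₁P w hw'.1]
    exact Subgroup.mem_inf.mpr ⟨(a _).2, aut_center_mem a ⟨w, hw'.1⟩ hw'.2⟩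
  have hψW' : ∀ w ∈ (P ⊓ Subgroup.centralizer (P : Set Ω)).subgroupOf (P ⊔ Q),
      ψ⁻¹ w ∈ (P ⊓ Subgroup.centralizer (P : Set Ω)).subgroupOf (P ⊔ Q) := by
    intro w hw
    have hw' := Subgroup.mem_subgroupOf.mp hw
    have e1 : ψ⁻¹ w = ⟨((a.symm ⟨w, hw'.1⟩ : P) : Ω), Subgroup.mem_sup_left (a.symm ⟨w, hw'.1⟩).2⟩ := by
      rw [MulAut.inv_apply, MulEquiv.symm_apply_eq]
      apply Subtype.ext
      rw [hψ', hψ₁P _ (a.symm ⟨w, hw'.1⟩).2]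
      show (w : Ω) = ((a (a.symm ⟨w, hw'.1⟩) : P) : Ω)
      rw [MulEquiv.apply_symm_apply]
    rw [e1]
    refine Subgroup.mem_subgroupOf.mpr (Subgroup.mem_inf.mpr ⟨(a.symm _).2, ?_⟩)
    exact aut_center_mem a⁻¹ ⟨w, hw'.1⟩ hw'.2
  obtain ⟨ψ₂, hψ₂A, hψ₂P, hψ₂Q⟩ := Cfsg.Agent.Lib.helper87.CoprimeAvg.exists_lift_fix
    (P.subgroupOf (P ⊔ Q)) (Q.subgroupOf (P ⊔ Q))
    ((P ⊓ Subgroup.centralizer (P : Set Ω)).subgroupOf (P ⊔ Q)) hPQ' hWP hWc hWe hme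
    (F.autGroup (P ⊔ Q)) hγA hψA hγP hγQ' hγm hψP hψQ hψW hψW'
  have hψ₂F : (P ⊔ Q).subtype.comp ψ₂.toMonoidHom ∈ F.Hom (P ⊔ Q) :=
    (mem_autGroup_iff' F hRS ψ₂).mp hψ₂A
  have hgQ : (c : Ω)⁻¹ * ((χ c : Q) : Ω) ∈ Q := Q.mul_mem (Q.inv_mem c.2) (χ c).2
  refine mem_cenHom_of_fix F hTS hPT (hQ hgQ) hφF (fun y => hPT (a y).2) le_sup_left
    (Subgroup.mem_sup_right hgQ) hψ₂F ?_ ?_
  · intro x
    show ((ψ₂ (Subgroup.inclusion le_sup_left x) : ↥(P ⊔ Q)) : Ω) = ((a x : P) : Ω)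
    rw [hψ₂P _ (Subgroup.mem_subgroupOf.mpr x.2), hψ', hψ₁P _ x.2]
    rfl
  · have hcQ : (⟨(c : Ω), Subgroup.mem_sup_right c.2⟩ : ↥(P ⊔ Q)) ∈ Q.subgroupOf (P ⊔ Q) :=
      Subgroup.mem_subgroupOf.mpr c.2
    have h1 := hψ₂Q _ hcQ
    have e1 : (⟨(c : Ω)⁻¹ * ((χ c : Q) : Ω), Subgroup.mem_sup_right hgQ⟩ : ↥(P ⊔ Q))
        = (⟨(c : Ω), Subgroup.mem_sup_right c.2⟩ : ↥(P ⊔ Q))⁻¹
          * γ ⟨(c : Ω), Subgroup.mem_sup_right c.2⟩ := by
      apply Subtype.ext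
      rw [Subgroup.coe_mul, hγQ _ c.2]
      rfl
    show ((ψ₂ ⟨(c : Ω)⁻¹ * ((χ c : Q) : Ω), Subgroup.mem_sup_right hgQ⟩ : ↥(P ⊔ Q)) : Ω)
      = (c : Ω)⁻¹ * ((χ c : Q) : Ω)
    rw [e1, h1, ← e1]

/-- The intersection of a fusion system over `T` with a fusion system over a larger group. -/
def infSys {T U : Subgroup Ω} (E : FusionSystem T) (C : FusionSystem U) (hTU : T ≤ U) :
    FusionSystem T where
  Hom P := {φ | φ ∈ E.Hom P ∧ φ ∈ C.Hom P}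
  le_of_mem h := E.le_of_mem h.1
  injective_of_mem h := E.injective_of_mem h.1
  conj_mem hP hg := ⟨E.conj_mem hP hg, C.conj_mem (hP.trans hTU) (hTU hg)⟩
  comp_mem h1 h2 h := ⟨E.comp_mem h1.1 h2.1 h, C.comp_mem h1.2 h2.2 h⟩
  inv_mem := by
    intro P φ hφ
    obtain ⟨ψ, hψ, hψe⟩ := E.inv_mem hφ.1
    obtain ⟨ψ', hψ', hψe'⟩ := C.inv_mem hφ.2
    have e1 : ψ = ψ' := by
      ext ⟨y, x, rfl⟩
      rw [hψe, hψe']
    refine ⟨ψ, ⟨hψ, ?_⟩, hψe⟩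
    rw [e1]
    exact hψ'

end Cfsg.Agent.Lib.helper87.CenNormal
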