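import Cfsg.Agent.Lib.helper87.StabAut
import Cfsg.Agent.Lib.helper88.Invariant

/-!
Conjugates of a fusion system over `S` under automorphisms of `S`, and the largest subsystem of `E`
(inside `F`) that is invariant under `Aut_F(S)`.
-/

set_option autoImplicit false

namespace Cfsg.Agent.Lib.helper87

open Cfsg

variable {Ω : Type*} [Group Ω] {S : Subgroup Ω}

/-- `χ` is the transport of `φ` along the automorphism `α` of `S`: `χ(α x) = α(φ x)`. -/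
def ConjRel (α : MulAut S) {P : Subgroup Ω} (φ : P →* Ω) {M : Subgroup Ω} (χ : M →* Ω) : Prop :=
  ∀ (x : P) (y : M) (s t : S), (s : Ω) = x → (t : Ω) = φ x → (y : Ω) = ((α s : S) : Ω) →
    χ y = ((α t : S) : Ω)

theorem conjRel_injective (E : FusionSystem S) (α : MulAut S) {P : Subgroup Ω} {φ : P →* Ω}
    (hP : P ≤ S) (hφS : ∀ x : P, φ x ∈ S) {χ : ↥(imgAut S P α) →* Ω} (hχ : χ ∈ E.Hom (imgAut S P α))
    (hrel : ConjRel α φ χ) : Function.Injective φ := by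
  intro x x' hxx'
  have h1 := hrel x ⟨α ⟨x, hP x.2⟩, mem_imgAut.mpr ⟨⟨x, hP x.2⟩, x.2, rfl⟩⟩ ⟨x, hP x.2⟩
    ⟨φ x, hφS x⟩ rfl rfl rfl
  have h2 := hrel x' ⟨α ⟨x', hP x'.2⟩, mem_imgAut.mpr ⟨⟨x', hP x'.2⟩, x'.2, rfl⟩⟩ ⟨x', hP x'.2⟩
    ⟨φ x', hφS x'⟩ rfl rfl rfl
  have h3 : (⟨φ x, hφS x⟩ : S) = ⟨φ x', hφS x'⟩ := Subtype.ext hxx'
  rw [h3, ← h2] at h1
  have h4 := congrArg Subtype.val (E.injective_of_mem hχ h1)
  have h5 : (α ⟨x, hP x.2⟩ : S) = α ⟨x', hP x'.2⟩ := Subtype.ext h4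
  have h6 := congrArg Subtype.val (α.injective h5)
  exact Subtype.ext h6

/-- The conjugate `E^α` of the fusion system `E` over `S` by an automorphism `α` of `S`: the maps `φ`
whose transport `α φ α⁻¹` is a map of `E`. -/
def conjSys (E : FusionSystem S) (α : MulAut S) : FusionSystem S where
  Hom P := {φ | P ≤ S ∧ (∀ x : P, φ x ∈ S) ∧ ∃ χ ∈ E.Hom (imgAut S P α), ConjRel α φ χ}
  le_of_mem := fun h => ⟨h.1, h.2.1⟩
  injective_of_mem := by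
    rintro P φ ⟨hP, hφS, χ, hχ, hrel⟩
    exact conjRel_injective E α hP hφS hχ hrel
  conj_mem := by
    intro P g hP hg
    refine ⟨hP, fun x => S.mul_mem (S.mul_mem hg (hP x.2)) (S.inv_mem hg),
      conjHom (imgAut S P α) ((α ⟨g, hg⟩ : S) : Ω), E.conj_mem (imgAut_le S P α) (α ⟨g, hg⟩).2, ?_⟩
    intro x y s t hs ht hy
    show ((α ⟨g, hg⟩ : S) : Ω) * (y : Ω) * ((α ⟨g, hg⟩ : S) : Ω)⁻¹ = α t
    have ht' : t = ⟨g, hg⟩ * s * ⟨g, hg⟩⁻¹ := by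
      apply Subtype.ext
      rw [ht]
      show g * (x : Ω) * g⁻¹ = g * (s : Ω) * g⁻¹
      rw [hs]
    rw [hy, ht', map_mul, map_mul, map_inv]
    rfl
  comp_mem := by
    rintro P Q φ ψ ⟨hP, hφS, χ, hχ, hrel⟩ ⟨hQ, hψS, χ', hχ', hrel'⟩ h
    have hc : ∀ y : ↥(imgAut S P α), χ y ∈ imgAut S Q α := by
      rintro ⟨y, hy⟩
      obtain ⟨s, hs, rfl⟩ := mem_imgAut.mp hy
      rw [hrel ⟨s, hs⟩ _ s ⟨φ ⟨s, hs⟩, hφS _⟩ rfl rfl rfl]
      exact mem_imgAut.mpr ⟨⟨φ ⟨s, hs⟩, hφS _⟩, h ⟨s, hs⟩, rfl⟩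
    refine ⟨hP, fun x => hψS _, χ'.comp (χ.codRestrict _ hc), E.comp_mem hχ hχ' hc, ?_⟩
    intro x y s t hs ht hy
    have h1 := hrel x y s ⟨φ x, hφS x⟩ hs rfl hy
    exact hrel' ⟨φ x, h x⟩ ⟨χ y, hc y⟩ ⟨φ x, hφS x⟩ t rfl ht h1
  inv_mem := by
    rintro P φ ⟨hP, hφS, χ, hχ, hrel⟩
    have hinj : Function.Injective φ := conjRel_injective E α hP hφS hχ hrel
    obtain ⟨ρ, hρ, hρeq⟩ := E.inv_mem hχ
    have hle : imgAut S φ.range α ≤ χ.range := by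
      intro z hz
      obtain ⟨s, ⟨x, hx⟩, rfl⟩ := mem_imgAut.mp hz
      refine ⟨⟨α ⟨x, hP x.2⟩, mem_imgAut.mpr ⟨⟨x, hP x.2⟩, x.2, rfl⟩⟩, ?_⟩
      exact hrel x _ ⟨x, hP x.2⟩ s rfl hx.symm rfl
    refine ⟨P.subtype.comp (MonoidHom.ofInjective hinj).symm.toMonoidHom, ⟨?_, ?_, ?_⟩, ?_⟩
    · rintro _ ⟨x, rfl⟩
      exact hφS x
    · intro y
      exact hP ((MonoidHom.ofInjective hinj).symm y).2
    · refine ⟨ρ.comp (Subgroup.inclusion hle), hom_comp_inclusion E hρ hle, ?_⟩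
      intro x' y s t hs ht hy
      obtain ⟨x, hx⟩ : ∃ x : P, MonoidHom.ofInjective hinj x = x' :=
        (MonoidHom.ofInjective hinj).surjective x'
      subst hx
      have ht' : (t : Ω) = x := by
        rw [ht]
        show (((MonoidHom.ofInjective hinj).symm (MonoidHom.ofInjective hinj x) : P) : Ω) = x
        rw [MulEquiv.symm_apply_apply]
      have hs' : (s : Ω) = φ x := hs
      have hmem : ((α t : S) : Ω) ∈ imgAut S P α := mem_imgAut.mpr ⟨t, ht' ▸ x.2, rfl⟩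
      have h1 : χ ⟨α t, hmem⟩ = α s := hrel x ⟨α t, hmem⟩ t s ht' hs' rfl
      show ρ ⟨y, hle y.2⟩ = α t
      have h2 : (⟨(y : Ω), hle y.2⟩ : χ.range) = ⟨χ ⟨α t, hmem⟩, ⟨_, rfl⟩⟩ :=
        Subtype.ext (hy.trans h1.symm)
      rw [h2, hρeq]
    · intro x
      show (((MonoidHom.ofInjective hinj).symm ⟨φ x, ⟨x, rfl⟩⟩ : P) : Ω) = x
      have h3 : (⟨φ x, ⟨x, rfl⟩⟩ : φ.range) = MonoidHom.ofInjective hinj x := rfl
      rw [h3, MulEquiv.symm_apply_apply]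

theorem mem_conjSys (E : FusionSystem S) (α : MulAut S) {P : Subgroup Ω} (φ : P →* Ω) :
    φ ∈ (conjSys E α).Hom P ↔
      P ≤ S ∧ (∀ x : P, φ x ∈ S) ∧ ∃ χ ∈ E.Hom (imgAut S P α), ConjRel α φ χ := Iff.rfl

/-- The largest subsystem of `E` inside `F` that is invariant under `Aut_F(S)`: the maps of `F` all of
whose `Aut_F(S)`-transports are maps of `E`. -/
def invCore (E F : FusionSystem S) : FusionSystem S where
  Hom P := {φ | φ ∈ F.Hom P ∧ ∀ α ∈ F.autGroup S, φ ∈ (conjSys E α).Hom P}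
  le_of_mem := fun h => F.le_of_mem h.1
  injective_of_mem := fun h => F.injective_of_mem h.1
  conj_mem := fun hP hg => ⟨F.conj_mem hP hg, fun α _ => (conjSys E α).conj_mem hP hg⟩
  comp_mem := fun hφ hψ h => ⟨F.comp_mem hφ.1 hψ.1 h,
    fun α hα => (conjSys E α).comp_mem (hφ.2 α hα) (hψ.2 α hα) h⟩
  inv_mem := by
    rintro P φ ⟨hφ, hφ'⟩
    obtain ⟨ψ, hψ, hψeq⟩ := F.inv_mem hφ
    refine ⟨ψ, ⟨hψ, fun α hα => ?_⟩, hψeq⟩
    obtain ⟨ψ', hψ', hψ'eq⟩ := (conjSys E α).inv_mem (hφ' α hα)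
    have h1 : ψ' = ψ := by
      refine MonoidHom.ext ?_
      rintro ⟨_, x, rfl⟩
      rw [hψ'eq, hψeq]
    rw [← h1]
    exact hψ'

theorem mem_invCore (E F : FusionSystem S) {P : Subgroup Ω} (φ : P →* Ω) :
    φ ∈ (invCore E F).Hom P ↔ φ ∈ F.Hom P ∧ ∀ α ∈ F.autGroup S, φ ∈ (conjSys E α).Hom P := Iff.rfl

theorem imgAut_one {P : Subgroup Ω} (hP : P ≤ S) : imgAut S P (1 : MulAut S) = P := by
  ext y
  rw [mem_imgAut]
  constructor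
  · rintro ⟨x, hx, rfl⟩
    exact hx
  · intro hy
    exact ⟨⟨y, hP hy⟩, hy, rfl⟩

theorem imgAut_mul (P : Subgroup Ω) (α β : MulAut S) :
    imgAut S (imgAut S P α) β = imgAut S P (β * α) := by
  ext y
  rw [mem_imgAut, mem_imgAut]
  constructor
  · rintro ⟨s, hs, rfl⟩
    obtain ⟨s', hs', h⟩ := mem_imgAut.mp hs
    refine ⟨s', hs', ?_⟩
    have : α s' = s := Subtype.ext h
    rw [← this]
    rfl
  · rintro ⟨s', hs', rfl⟩
    exact ⟨α s', mem_imgAut.mpr ⟨s', hs', rfl⟩, rfl⟩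

theorem invCore_le (E F : FusionSystem S) : (invCore E F).IsSubsystemOf E := by
  intro P φ hφ
  obtain ⟨hP, hφS, χ, hχ, hrel⟩ := hφ.2 1 (one_mem _)
  have hle : P ≤ imgAut S P (1 : MulAut S) := (imgAut_one hP).ge
  refine hom_restrict E hχ hle φ ?_
  intro x
  exact (hrel x ⟨x, hle x.2⟩ ⟨x, hP x.2⟩ ⟨φ x, hφS x⟩ rfl rfl rfl).symm

theorem invCore_le' (E F : FusionSystem S) : (invCore E F).IsSubsystemOf F :=
  fun _ _ hφ => hφ.1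

/-- The invariant core is invariant under `Aut_F(S)`. -/
theorem invCore_autInvariant (E F : FusionSystem S) (hEF : E.IsSubsystemOf F) :
    Cfsg.Agent.Lib.helper88.AutInvariant (invCore E F) F := by
  intro P hPS φ hφ α hα
  obtain ⟨-, hφS, χ, hχ, hrel⟩ := hφ.2 α hα
  refine ⟨χ, ⟨hEF _ hχ, fun β hβ => ?_⟩, ?_⟩
  · obtain ⟨-, -, χ₃, hχ₃, hrel₃⟩ := hφ.2 (β * α) (mul_mem hβ hα)
    have hle : imgAut S (imgAut S P α) β ≤ imgAut S P (β * α) := (imgAut_mul P α β).le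
    refine ⟨imgAut_le S P α, (E.le_of_mem hχ).2, χ₃.comp (Subgroup.inclusion hle),
      hom_comp_inclusion E hχ₃ hle, ?_⟩
    intro y₁ y₂ s t hs ht hy
    obtain ⟨s', hs', hs'eq⟩ := mem_imgAut.mp y₁.2
    have hsα : s = α s' := Subtype.ext (hs.trans hs'eq.symm)
    have h1 : χ y₁ = α ⟨φ ⟨s', hs'⟩, hφS _⟩ :=
      hrel ⟨s', hs'⟩ y₁ s' ⟨φ ⟨s', hs'⟩, hφS _⟩ rfl rfl hs'eq.symm
    have htα : t = α ⟨φ ⟨s', hs'⟩, hφS _⟩ := Subtype.ext (ht.trans h1)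
    have h2 : χ₃ ⟨y₂, hle y₂.2⟩ = (β * α) ⟨φ ⟨s', hs'⟩, hφS _⟩ :=
      hrel₃ ⟨s', hs'⟩ ⟨y₂, hle y₂.2⟩ s' ⟨φ ⟨s', hs'⟩, hφS _⟩ rfl rfl (by rw [hy, hsα]; rfl)
    show χ₃ ⟨y₂, hle y₂.2⟩ = β t
    rw [h2, htα]
    rfl
  · intro x hφx hαx
    exact hrel x ⟨_, hαx⟩ ⟨x, hPS x.2⟩ ⟨φ x, hφx⟩ rfl rfl rfl

end Cfsg.Agent.Lib.helper87
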