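import Cfsg.Agent.Lib.helper87.PResidual
import Cfsg.Agent.Lib.helper88.PR1
import Cfsg.Agent.Lib.helper89.FusionClosed
import Cfsg.Agent.Lib.helper89.FusionSat

/-!
Towards Craven's theorem (the `p'`-residual of a weakly normal subsystem is normal): the system of
"good" maps of a subsystem `E` over a strongly closed `T`, i.e. those maps between `E`-centric
subgroups `P` that extend to a map of `F` on `P C_S(T)` acting trivially on `C_S(T)` modulo `T`.
-/

set_option autoImplicit false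

namespace Cfsg.Agent.Lib.helper87.Craven

open Cfsg Cfsg.FusionSystem
open Cfsg.Agent.Lib.helper88

variable {Ω : Type*} [Group Ω] {S : Subgroup Ω}

/-- A map of the system sends the elements of a strongly closed subgroup into it. -/
theorem sc_mem (F : FusionSystem S) {T : Subgroup Ω} (hT : F.StronglyClosed T) {R : Subgroup Ω}
    {ψ : R →* Ω} (hψ : ψ ∈ F.Hom R) (x : R) (hx : (x : Ω) ∈ T) : ψ x ∈ T := by
  have h1 := restrict_mem F (inf_le_left : R ⊓ T ≤ R) hψ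
  exact hT.2 (R ⊓ T) inf_le_right _ h1 ⟨x, x.2, hx⟩

/-- A strongly closed subgroup is normalized by `S`. -/
theorem conj_mem_of_sc (F : FusionSystem S) {T : Subgroup Ω} (hT : F.StronglyClosed T) {s t : Ω}
    (hs : s ∈ S) (ht : t ∈ T) : s * t * s⁻¹ ∈ T :=
  hT.2 T le_rfl _ (F.conj_mem hT.1 hs) ⟨t, ht⟩

/-- To check that a homomorphism on `A ⊔ B` takes its values in `K`, check it on `A` and on `B`. -/
theorem sup_forall_mem {A B : Subgroup Ω} {G : Type*} [Group G] (f : ↥(A ⊔ B) →* G)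
    (K : Subgroup G) (hA : ∀ x : ↥(A ⊔ B), (x : Ω) ∈ A → f x ∈ K)
    (hB : ∀ x : ↥(A ⊔ B), (x : Ω) ∈ B → f x ∈ K) : ∀ x : ↥(A ⊔ B), f x ∈ K := by
  intro x
  have h1 : A ⊔ B ≤ (K.comap f).map (A ⊔ B).subtype := by
    refine sup_le ?_ ?_
    · intro a ha
      exact ⟨⟨a, Subgroup.mem_sup_left ha⟩, hA _ ha, rfl⟩
    · intro b hb
      exact ⟨⟨b, Subgroup.mem_sup_right hb⟩, hB _ hb, rfl⟩
  obtain ⟨y, hy, hyx⟩ := h1 x.2
  have : y = x := Subtype.ext hyx
  rw [← this]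
  exact hy

theorem comm_aux {G : Type*} [Group G] {X X' d t : G} (e1 : X = t * X' * t⁻¹)
    (e2 : X * d = d * X) (e3 : X' * d = d * X') :
    X * (d⁻¹ * (t * d * t⁻¹)) = d⁻¹ * (t * d * t⁻¹) * X := by
  have c2 : Commute X d := e2
  have c3 : Commute X' d := e3
  have c4 : Commute X (t * d * t⁻¹) := by
    rw [e1]
    exact (Commute.conj_iff t).mpr c3
  exact c2.inv_right.mul_right c4

/-- `φ : P → Ω` extends to a map of `F` on `P C_S(T)` acting trivially on `C_S(T)` modulo `T`. -/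
def Good (F : FusionSystem S) (T P : Subgroup Ω) (φ : P →* Ω) : Prop :=
  ∃ ψ ∈ F.Hom (P ⊔ centralizerIn S T),
    (∀ x : P, ψ (Subgroup.inclusion le_sup_left x) = φ x) ∧
    ∀ c : ↥(P ⊔ centralizerIn S T), (c : Ω) ∈ centralizerIn S T → (c : Ω)⁻¹ * ψ c ∈ T

/-- For a good extension `ψ` of a map `φ` of `E` on an `E`-centric subgroup, the elements
`c⁻¹ ψ(c)`, `c ∈ C_S(T)`, lie in the image of `φ`. -/
theorem good_u_mem {T : Subgroup Ω} (E : FusionSystem T) {P : Subgroup Ω}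
    (hPc : E.IsCentric P) {φ : P →* Ω} (hφ : φ ∈ E.Hom P)
    {ψ : ↥(P ⊔ centralizerIn S T) →* Ω}
    (hψP : ∀ x : P, ψ (Subgroup.inclusion le_sup_left x) = φ x)
    (hψC : ∀ c : ↥(P ⊔ centralizerIn S T), (c : Ω) ∈ centralizerIn S T → (c : Ω)⁻¹ * ψ c ∈ T)
    (c : ↥(P ⊔ centralizerIn S T)) (hc : (c : Ω) ∈ centralizerIn S T) :
    (c : Ω)⁻¹ * ψ c ∈ φ.range := by
  have hPT : P ≤ T := hPc.1
  refine hPc.2 φ.range ⟨φ, hφ, rfl⟩ (Subgroup.mem_inf.mpr ⟨hψC c hc, ?_⟩)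
  rw [Subgroup.mem_centralizer_iff]
  rintro _ ⟨x, rfl⟩
  have hc2 : (c : Ω) ∈ Subgroup.centralizer (T : Set Ω) := hc.2
  have h1 : φ x * (c : Ω) = (c : Ω) * φ x :=
    Subgroup.mem_centralizer_iff.mp hc2 _ ((E.le_of_mem hφ).2 x)
  have h2 : ((x : Ω)) * (c : Ω) = (c : Ω) * (x : Ω) :=
    Subgroup.mem_centralizer_iff.mp hc2 _ (hPT x.2)
  have h3 : Subgroup.inclusion le_sup_left x * c = c * Subgroup.inclusion le_sup_left x :=
    Subtype.ext h2
  have h4 : φ x * ψ c = ψ c * φ x := by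
    rw [← hψP x, ← map_mul, ← map_mul, h3]
  have c1 : Commute (φ x) (c : Ω) := h1
  have c2 : Commute (φ x) (ψ c) := h4
  exact c1.inv_right.mul_right c2

/-- The system of good maps. -/
def goodSys (F : FusionSystem S) {T : Subgroup Ω} (E : FusionSystem T)
    (hT : F.StronglyClosed T) : FusionSystem T where
  Hom P := {φ | φ ∈ E.Hom P ∧ (E.IsCentric P → Good F T P φ)}
  le_of_mem h := E.le_of_mem h.1
  injective_of_mem h := E.injective_of_mem h.1
  conj_mem := by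
    intro P g hP hg
    refine ⟨E.conj_mem hP hg, fun _ => ⟨conjHom _ g,
      F.conj_mem (sup_le (hP.trans hT.1) inf_le_left) (hT.1 hg), fun x => rfl, fun c hc => ?_⟩⟩
    have hc2 : (c : Ω) ∈ Subgroup.centralizer (T : Set Ω) := hc.2
    have h1 : g * (c : Ω) = (c : Ω) * g := Subgroup.mem_centralizer_iff.mp hc2 g hg
    have h2 : (c : Ω)⁻¹ * conjHom _ g c = 1 := by
      show (c : Ω)⁻¹ * (g * (c : Ω) * g⁻¹) = 1
      rw [h1]
      group
    rw [h2]
    exact one_mem _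
  comp_mem := by
    rintro P Q φ ψ ⟨hφ, hφg⟩ ⟨hψ, hψg⟩ h
    refine ⟨E.comp_mem hφ hψ h, fun hPc => ?_⟩
    have hQT : Q ≤ T := (E.le_of_mem hψ).1
    have hrQ : φ.range ≤ Q := by
      rintro _ ⟨x, rfl⟩
      exact h x
    have hQc : E.IsCentric Q :=
      IsCentric.of_le (IsCentric.of_isConj hPc ⟨φ, hφ, rfl⟩) hrQ hQT
    obtain ⟨φ', hφ', hφ'P, hφ'C⟩ := hφg hPc
    obtain ⟨ψ', hψ', hψ'Q, hψ'C⟩ := hψg hQc
    have hu := good_u_mem E hPc hφ hφ'P hφ'C
    have hval : ∀ y : ↥(P ⊔ centralizerIn S T), φ' y ∈ Q ⊔ centralizerIn S T := by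
      refine sup_forall_mem φ' _ ?_ ?_
      · intro y hy
        have h1 : y = Subgroup.inclusion le_sup_left (⟨y, hy⟩ : P) := rfl
        rw [h1, hφ'P]
        exact Subgroup.mem_sup_left (h _)
      · intro y hy
        have h1 : φ' y = (y : Ω) * ((y : Ω)⁻¹ * φ' y) := by group
        rw [h1]
        exact mul_mem (Subgroup.mem_sup_right hy) (Subgroup.mem_sup_left (hrQ (hu y hy)))
    refine ⟨ψ'.comp (φ'.codRestrict _ hval), F.comp_mem hφ' hψ' hval, ?_, ?_⟩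
    · intro x
      have h1 : (φ'.codRestrict _ hval) (Subgroup.inclusion le_sup_left x)
          = Subgroup.inclusion le_sup_left (⟨φ x, h x⟩ : Q) := Subtype.ext (hφ'P x)
      show ψ' ((φ'.codRestrict _ hval) (Subgroup.inclusion le_sup_left x)) = ψ ⟨φ x, h x⟩
      rw [h1, hψ'Q]
    · intro c hc
      obtain ⟨x₀, hx₀⟩ := hu c hc
      have h1 : (φ'.codRestrict _ hval) c
          = (⟨c, Subgroup.mem_sup_right hc⟩ : ↥(Q ⊔ centralizerIn S T))
            * Subgroup.inclusion le_sup_left (⟨φ x₀, h x₀⟩ : Q) := by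
        apply Subtype.ext
        show φ' c = (c : Ω) * φ x₀
        rw [hx₀]
        group
      show (c : Ω)⁻¹ * ψ' ((φ'.codRestrict _ hval) c) ∈ T
      rw [h1, map_mul, hψ'Q, ← mul_assoc]
      exact T.mul_mem (hψ'C (⟨c, Subgroup.mem_sup_right hc⟩ : ↥(Q ⊔ centralizerIn S T)) hc)
        ((E.le_of_mem hψ).2 _)
  inv_mem := by
    rintro P φ ⟨hφ, hφg⟩
    obtain ⟨ψ, hψ, hψx⟩ := E.inv_mem hφ
    refine ⟨ψ, ⟨hψ, fun hrc => ?_⟩, hψx⟩
    have hPT : P ≤ T := (E.le_of_mem hφ).1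
    have hPc : E.IsCentric P := IsCentric.of_isConj hrc (isConj_symm E ⟨φ, hφ, rfl⟩)
    obtain ⟨φ', hφ', hφ'P, hφ'C⟩ := hφg hPc
    obtain ⟨χ, hχ, hχx⟩ := F.inv_mem hφ'
    have hu := good_u_mem E hPc hφ hφ'P hφ'C
    have hC : ∀ c : Ω, ∀ hc : c ∈ centralizerIn S T, ∃ x₀ : P,
        φ' ((⟨c, Subgroup.mem_sup_right hc⟩ : ↥(P ⊔ centralizerIn S T))
          * (Subgroup.inclusion le_sup_left x₀)⁻¹) = c := by
      intro c hc
      obtain ⟨x₀, hx₀⟩ := hu ⟨c, Subgroup.mem_sup_right hc⟩ hc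
      refine ⟨x₀, ?_⟩
      rw [map_mul, map_inv, hφ'P, hx₀]
      group
    have hle : φ.range ⊔ centralizerIn S T ≤ φ'.range := by
      refine sup_le ?_ ?_
      · rintro _ ⟨x, rfl⟩
        exact ⟨Subgroup.inclusion le_sup_left x, hφ'P x⟩
      · intro c hc
        obtain ⟨x₀, hx₀⟩ := hC c hc
        exact ⟨_, hx₀⟩
    refine ⟨χ.comp (Subgroup.inclusion hle), restrict_mem F hle hχ, ?_, ?_⟩
    · rintro ⟨_, x, rfl⟩
      have h1 : Subgroup.inclusion hle (Subgroup.inclusion le_sup_left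
          (⟨φ x, ⟨x, rfl⟩⟩ : φ.range))
          = ⟨φ' (Subgroup.inclusion le_sup_left x), ⟨_, rfl⟩⟩ := Subtype.ext (hφ'P x).symm
      show χ (Subgroup.inclusion hle (Subgroup.inclusion le_sup_left
          (⟨φ x, ⟨x, rfl⟩⟩ : φ.range))) = ψ ⟨φ x, ⟨x, rfl⟩⟩
      rw [h1, hχx, hψx]
      rfl
    · intro c hc
      obtain ⟨x₀, hx₀⟩ := hC c hc
      have h1 : Subgroup.inclusion hle c
          = ⟨φ' ((⟨c, Subgroup.mem_sup_right hc⟩ : ↥(P ⊔ centralizerIn S T))
            * (Subgroup.inclusion le_sup_left x₀)⁻¹), ⟨_, rfl⟩⟩ := Subtype.ext hx₀.symm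
      show (c : Ω)⁻¹ * χ (Subgroup.inclusion hle c) ∈ T
      rw [h1, hχx]
      have h2 : (c : Ω)⁻¹ * (((⟨c, Subgroup.mem_sup_right hc⟩ : ↥(P ⊔ centralizerIn S T))
            * (Subgroup.inclusion le_sup_left x₀)⁻¹ : ↥(P ⊔ centralizerIn S T)) : Ω)
          = (x₀ : Ω)⁻¹ := by
        show (c : Ω)⁻¹ * ((c : Ω) * (x₀ : Ω)⁻¹) = (x₀ : Ω)⁻¹
        group
      rw [h2]
      exact T.inv_mem (hPT x₀.2)

theorem goodSys_le (F : FusionSystem S) {T : Subgroup Ω} (E : FusionSystem T)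
    (hT : F.StronglyClosed T) : (goodSys F E hT).IsSubsystemOf E := fun _ _ h => h.1

/-- The automorphisms of `R` in the system that are trivial on `R ∩ T` and on `R` modulo `T`. -/
def kSub (F : FusionSystem S) (T R : Subgroup Ω) : Subgroup (MulAut R) where
  carrier := {κ | κ ∈ F.autGroup R ∧ (∀ r : R, (r : Ω) ∈ T → κ r = r) ∧
    ∀ r : R, (r : Ω)⁻¹ * ((κ r : R) : Ω) ∈ T}
  one_mem' := ⟨one_mem _, fun _ _ => rfl, fun r => by
    show (r : Ω)⁻¹ * (r : Ω) ∈ T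
    rw [inv_mul_cancel]
    exact one_mem _⟩
  mul_mem' := by
    rintro a b ⟨ha, ha1, ha2⟩ ⟨hb, hb1, hb2⟩
    refine ⟨mul_mem ha hb, fun r hr => ?_, fun r => ?_⟩
    · show a (b r) = r
      rw [hb1 r hr, ha1 r hr]
    · have hu : ((r⁻¹ * b r : R) : Ω) ∈ T := hb2 r
      have h1 : a (b r) = a r * (r⁻¹ * b r) := by
        have h2 : b r = r * (r⁻¹ * b r) := by group
        conv_lhs => rw [h2]
        rw [map_mul, ha1 _ hu]
      show (r : Ω)⁻¹ * ((a (b r) : R) : Ω) ∈ T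
      rw [h1]
      have h3 : (r : Ω)⁻¹ * ((a r * (r⁻¹ * b r) : R) : Ω)
          = ((r : Ω)⁻¹ * ((a r : R) : Ω)) * ((r : Ω)⁻¹ * ((b r : R) : Ω)) := by
        show (r : Ω)⁻¹ * (((a r : R) : Ω) * ((r : Ω)⁻¹ * ((b r : R) : Ω))) = _
        group
      rw [h3]
      exact T.mul_mem (ha2 r) (hb2 r)
  inv_mem' := by
    rintro a ⟨ha, ha1, ha2⟩
    refine ⟨inv_mem ha, fun r hr => ?_, fun r => ?_⟩
    · have h1 := ha1 r hr
      conv_lhs => rw [← h1]
      exact MulAut.inv_apply_self _ _ _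
    · have h := ha2 (a⁻¹ r)
      rw [MulAut.apply_inv_self] at h
      have h2 : (r : Ω)⁻¹ * ((a⁻¹ r : R) : Ω) = (((a⁻¹ r : R) : Ω)⁻¹ * (r : Ω))⁻¹ := by group
      rw [h2]
      exact T.inv_mem h

theorem kSub_pow_apply {F : FusionSystem S} {T R : Subgroup Ω} {κ : MulAut R}
    (hκ : κ ∈ kSub F T R) (k : ℕ) (r : R) :
    (((κ ^ k) r : R) : Ω) = (r : Ω) * ((r : Ω)⁻¹ * ((κ r : R) : Ω)) ^ k := by
  induction k with
  | zero => simp
  | succ k ih =>
    have hu : ((r⁻¹ * κ r : R) : Ω) ∈ T := hκ.2.2 r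
    have hk : κ ^ k ∈ kSub F T R := Subgroup.pow_mem _ hκ k
    have h1 : (κ ^ (k + 1)) r = (κ ^ k) r * (r⁻¹ * κ r) := by
      have h2 : κ r = r * (r⁻¹ * κ r) := by group
      rw [pow_succ]
      show (κ ^ k) (κ r) = _
      conv_lhs => rw [h2]
      rw [map_mul, hk.2.1 _ hu]
    rw [h1]
    show (((κ ^ k) r : R) : Ω) * ((r : Ω)⁻¹ * ((κ r : R) : Ω)) = _
    rw [ih, pow_succ, mul_assoc]

/-- The group `kSub` lies in `Aut_S(R)` when `R` is fully automized. -/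
theorem kSub_le_autInducedBy [Finite S] {p : ℕ} [Fact p.Prime] (hS : IsPGroup p S)
    (F : FusionSystem S) {T : Subgroup Ω} (hT : F.StronglyClosed T) {R : Subgroup Ω}
    (hfa : F.IsFullyAutomized p R) : kSub F T R ≤ autInducedBy S R := by
  classical
  have hRS := hfa.1
  have hTS := hT.1
  haveI : Finite T := finite_of_le hTS
  have hTp : IsPGroup p T := hS.to_le hTS
  obtain ⟨n, hn⟩ := (IsPGroup.iff_card).mp hTp
  have hp : IsPGroup p (kSub F T R) := by
    rintro ⟨κ, hκ⟩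
    refine ⟨n, Subtype.ext ?_⟩
    show κ ^ p ^ n = 1
    ext r
    rw [kSub_pow_apply hκ]
    have h1 : ((r : Ω)⁻¹ * ((κ r : R) : Ω)) ^ p ^ n = 1 := by
      have h2 : ((⟨(r : Ω)⁻¹ * ((κ r : R) : Ω), hκ.2.2 r⟩ : T)) ^ Nat.card T = 1 :=
        pow_card_eq_one'
      rw [hn] at h2
      exact congrArg Subtype.val h2
    rw [h1, mul_one]
    rfl
  obtain ⟨a, ha, hconj⟩ := exists_conj_into_autInducedBy F hfa (kSub F T R) hp
    (fun κ hκ => hκ.1)
  intro κ hκ
  have hainv : R.subtype.comp (a⁻¹ : MulAut R).toMonoidHom ∈ F.Hom R :=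
    (mem_autGroup_iff' F hRS _).mp (inv_mem ha)
  have ha' : R.subtype.comp a.toMonoidHom ∈ F.Hom R := (mem_autGroup_iff' F hRS _).mp ha
  have h1 : a * κ * a⁻¹ ∈ kSub F T R := by
    refine ⟨mul_mem (mul_mem ha hκ.1) (inv_mem ha), fun r hr => ?_, fun r => ?_⟩
    · show a (κ (a⁻¹ r)) = r
      have h2 : ((a⁻¹ r : R) : Ω) ∈ T := sc_mem F hT hainv r hr
      rw [hκ.2.1 _ h2, MulAut.apply_inv_self]
    · have hu : (((a⁻¹ r)⁻¹ * κ (a⁻¹ r) : R) : Ω) ∈ T := hκ.2.2 (a⁻¹ r)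
      have h3 : a (κ (a⁻¹ r)) = r * a ((a⁻¹ r)⁻¹ * κ (a⁻¹ r)) := by
        rw [map_mul, map_inv, MulAut.apply_inv_self]
        group
      show (r : Ω)⁻¹ * ((a (κ (a⁻¹ r)) : R) : Ω) ∈ T
      rw [h3]
      have h4 : (r : Ω)⁻¹ * ((r * a ((a⁻¹ r)⁻¹ * κ (a⁻¹ r)) : R) : Ω)
          = ((a ((a⁻¹ r)⁻¹ * κ (a⁻¹ r)) : R) : Ω) := by
        show (r : Ω)⁻¹ * ((r : Ω) * _) = _
        group
      rw [h4]
      exact sc_mem F hT ha' _ hu
  have h2 := hconj _ h1
  have h3 : a⁻¹ * (a * κ * a⁻¹) * a = κ := by group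
  rw [h3] at h2
  exact h2

/-- An element of `Q C_S(T)` lying in `T` lies in `Q`, when `C_T(Q) ≤ Q ≤ T`. -/
theorem mem_of_mem_sup_of_mem {T Q : Subgroup Ω} (hQT : Q ≤ T)
    (hcen : centralizerIn T Q ≤ Q) {y : Ω} (hy : y ∈ Q ⊔ centralizerIn S T) (hyT : y ∈ T) :
    y ∈ Q := by
  have hle : Q ≤ Subgroup.normalizer ((centralizerIn S T : Subgroup Ω) : Set Ω) := by
    intro q hq
    rw [Subgroup.mem_normalizer_iff]
    intro c
    have key : ∀ d : Ω, d ∈ centralizerIn S T → q * d * q⁻¹ = d := by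
      intro d hd
      have hd2 : d ∈ Subgroup.centralizer (T : Set Ω) := hd.2
      have h1 : q * d = d * q := Subgroup.mem_centralizer_iff.mp hd2 q (hQT hq)
      rw [h1]
      group
    constructor
    · intro hc
      rw [key c hc]
      exact hc
    · intro hc
      have h2 := key _ hc
      have h3 : c = q * c * q⁻¹ := (mul_left_cancel (mul_right_cancel h2)).symm
      rw [h3]
      exact hc
  have h1 : y ∈ ((Q ⊔ centralizerIn S T : Subgroup Ω) : Set Ω) := hy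
  rw [Subgroup.coe_mul_of_left_le_normalizer_right Q _ hle] at h1
  obtain ⟨q, hq, c, hc, rfl⟩ := Set.mem_mul.mp h1
  have hc' : c ∈ T := by
    have h2 : c = q⁻¹ * (q * c) := by group
    rw [h2]
    exact T.mul_mem (T.inv_mem (hQT hq)) hyT
  have hc2 : c ∈ Subgroup.centralizer (T : Set Ω) := (Subgroup.mem_inf.mp hc).2
  have hcQ : c ∈ centralizerIn T Q :=
    Subgroup.mem_inf.mpr ⟨hc', Subgroup.centralizer_le hQT hc2⟩
  exact Q.mul_mem hq (hcen hcQ)

/-- Every automorphism of the system of a strongly closed subgroup `T` extends to an automorphism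
of the system of `T C_S(T)`. -/
theorem exists_ext_aut [Finite S] {p : ℕ} [Fact p.Prime] (hS : IsPGroup p S) (F : FusionSystem S)
    (hF : F.IsSaturated p) {T : Subgroup Ω} (hT : F.StronglyClosed T) {a : MulAut T}
    (ha : a ∈ F.autGroup T) :
    ∃ β ∈ F.autGroup (T ⊔ centralizerIn S T), ∀ x : T,
      β (Subgroup.inclusion le_sup_left x) = Subgroup.inclusion le_sup_left (a x) := by
  classical
  have hTS := hT.1
  haveI : Finite T := finite_of_le hTS
  have hNS : T ⊔ centralizerIn S T ≤ S := sup_le hTS inf_le_left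
  obtain ⟨-, hrec⟩ := fullyAutomized_receptive_of_fullyNormalized hS F hF
    (fullyNormalized_of_stronglyClosed F hT)
  have hφ : T.subtype.comp a.toMonoidHom ∈ F.Hom T := (mem_autGroup_iff' F hTS a).mp ha
  have hrange : (T.subtype.comp a.toMonoidHom).range = T := by
    ext y
    constructor
    · rintro ⟨x, rfl⟩
      exact (a x).2
    · intro hy
      exact ⟨a.symm ⟨y, hy⟩, by simp⟩
  obtain ⟨ψ, hψ, hψx⟩ := Cfsg.Agent.Lib.helper89.exists_extension_closure F hrec hφ hrange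
    ((T : Set Ω) ∪ (centralizerIn S T : Set Ω)) (by
      rintro g (hg | hg)
      · exact Cfsg.Agent.Lib.helper89.extender_cond_of_mem F hφ hg
      · have hg2 : g ∈ Subgroup.centralizer (T : Set Ω) := hg.2
        have hgx : ∀ x : T, g * (x : Ω) * g⁻¹ = x := by
          intro x
          have h1 : (x : Ω) * g = g * x := Subgroup.mem_centralizer_iff.mp hg2 x x.2
          rw [← h1]
          group
        refine ⟨hg.1, Subgroup.centralizer_le_normalizer _ hg2, 1, S.one_mem, fun x hx => ?_⟩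
        have h2 : (⟨g * (x : Ω) * g⁻¹, hx⟩ : T) = x := Subtype.ext (hgx x)
        rw [h2]
        group)
  have hle : T ⊔ centralizerIn S T ≤ Subgroup.closure ((T : Set Ω) ∪ (centralizerIn S T : Set Ω)) :=
    sup_le (fun x hx => Subgroup.subset_closure (Or.inl hx))
      (fun x hx => Subgroup.subset_closure (Or.inr hx))
  have hψ' := restrict_mem F hle hψ
  have hψT : ∀ x : T, (ψ.comp (Subgroup.inclusion hle)) (Subgroup.inclusion le_sup_left x)
      = ((a x : T) : Ω) := fun x => hψx x x.2 _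
  have hval : ∀ y : ↥(T ⊔ centralizerIn S T),
      (ψ.comp (Subgroup.inclusion hle)) y ∈ T ⊔ centralizerIn S T := by
    refine sup_forall_mem _ _ ?_ ?_
    · intro y hy
      have h1 : y = Subgroup.inclusion le_sup_left (⟨y, hy⟩ : T) := rfl
      rw [h1, hψT]
      exact Subgroup.mem_sup_left (a _).2
    · intro y hy
      refine Subgroup.mem_sup_right (Subgroup.mem_inf.mpr ⟨(F.le_of_mem hψ').2 y, ?_⟩)
      rw [Subgroup.mem_centralizer_iff]
      intro t ht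
      have hy2 : (y : Ω) ∈ Subgroup.centralizer (T : Set Ω) := hy.2
      have h1 : t = (ψ.comp (Subgroup.inclusion hle))
          (Subgroup.inclusion le_sup_left (a.symm ⟨t, ht⟩)) := by
        rw [hψT]
        simp
      have h2 : Subgroup.inclusion le_sup_left (a.symm ⟨t, ht⟩) * y
          = y * Subgroup.inclusion le_sup_left (a.symm ⟨t, ht⟩) :=
        Subtype.ext (Subgroup.mem_centralizer_iff.mp hy2 _ (a.symm ⟨t, ht⟩).2)
      rw [h1, ← map_mul, ← map_mul, h2]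
  obtain ⟨β, hβ⟩ := Cfsg.Agent.Lib.helper89.exists_aut_of_mem F hψ' hval
  refine ⟨β, ?_, fun x => Subtype.ext ?_⟩
  · rw [mem_autGroup_iff' F hNS]
    have h1 : (T ⊔ centralizerIn S T).subtype.comp β.toMonoidHom
        = ψ.comp (Subgroup.inclusion hle) := MonoidHom.ext fun y => hβ y
    rw [h1]
    exact hψ'
  · rw [hβ, hψT]
    rfl

end Cfsg.Agent.Lib.helper87.Craven
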