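import Cfsg.Agent.Lib.helper87.CravenA

/-!
Craven's theorem, step 1: automorphisms of `p`-power order of `E`-centric subgroups are good.
-/

set_option autoImplicit false

namespace Cfsg.Agent.Lib.helper87.Craven

open Cfsg Cfsg.FusionSystem
open Cfsg.Agent.Lib.helper88

variable {Ω : Type*} [Group Ω] {S : Subgroup Ω}

/-- An automorphism of `p`-power order of an `E`-centric subgroup is good. -/
theorem good_of_pElt [Finite S] {p : ℕ} [Fact p.Prime] (hS : IsPGroup p S) (F : FusionSystem S)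
    (hF : F.IsSaturated p) {T : Subgroup Ω} (E : FusionSystem T) (hEsat : E.IsSaturated p)
    (hEinv : E.IsInvariantIn F) {P : Subgroup Ω} (hPc : E.IsCentric P) {a : MulAut P}
    (ha : a ∈ E.autGroup P) {k : ℕ} (hk : a ^ p ^ k = 1) :
    Good F T P (P.subtype.comp a.toMonoidHom) := by
  classical
  have hT := hEinv.2.1
  have hTS := hT.1
  haveI : Finite T := finite_of_le hTS
  have hTp : IsPGroup p T := hS.to_le hTS
  have hPT : P ≤ T := hPc.1
  have hPS : P ≤ S := hPT.trans hTS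
  haveI : Finite P := finite_of_le hPS
  -- Step A: conjugate `a` inside `E` to a conjugation by an element of `T`
  obtain ⟨P₂, σ, -, hσ, hB⟩ := exists_isoEquiv_conj_into_autInducedBy hTp E hEsat hPT
    (Subgroup.zpowers a) (isPGroup_zpowers_of_pow_eq_one hk)
    (by rw [Subgroup.zpowers_le]; exact ha)
  have h1 : MulAut.congr σ a ∈ autInducedBy T P₂ := hB ⟨a, Subgroup.mem_zpowers a, rfl⟩
  obtain ⟨t, ht, hteq⟩ := (mem_autInducedBy_iff T P₂ _).mp h1
  have hP₂T : P₂ ≤ T := hσ.le_right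
  have hP₂S : P₂ ≤ S := hP₂T.trans hTS
  haveI : Finite P₂ := finite_of_le hP₂S
  have hσa : ∀ y : P, ((σ (a y) : P₂) : Ω) = t * ((σ y : P₂) : Ω) * t⁻¹ := by
    intro y
    have h2 := hteq (σ y)
    have h3 : MulAut.congr σ a (σ y) = σ (a y) := by
      show σ (a (σ.symm (σ y))) = σ (a y)
      rw [MulEquiv.symm_apply_apply]
    rw [h3] at h2
    exact h2
  have htN : t ∈ normalizerIn S P₂ := by
    refine Subgroup.mem_inf.mpr ⟨hTS ht, mem_normalizer_of_conj_mem ?_⟩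
    intro x hx
    have h2 := hσa (σ.symm ⟨x, hx⟩)
    rw [MulEquiv.apply_symm_apply] at h2
    rw [← h2]
    exact (σ (a (σ.symm ⟨x, hx⟩))).2
  -- Step B: move to a fully normalized conjugate in `F`
  obtain ⟨P₁, hconj, hP₁fn⟩ := exists_fullyNormalized_conj F hP₂S
  obtain ⟨τ, hτ, hτP⟩ := exists_map_normalizer_of_fullyNormalized hS F hF hP₁fn hconj
  obtain ⟨-, hrec⟩ := fullyAutomized_receptive_of_fullyNormalized hS F hF hP₁fn
  have hσF : P₂.subtype.comp σ.toMonoidHom ∈ F.Hom P := hEinv.1 P hσ.1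
  have hσN : ∀ x : P, (P₂.subtype.comp σ.toMonoidHom) x ∈ normalizerIn S P₂ :=
    fun x => le_normalizerIn hP₂S (σ x).2
  obtain ⟨ρ, hρdef⟩ : ∃ ρ : P →* Ω,
      ρ = τ.comp ((P₂.subtype.comp σ.toMonoidHom).codRestrict _ hσN) := ⟨_, rfl⟩
  have hρ : ρ ∈ F.Hom P := by
    rw [hρdef]
    exact F.comp_mem hσF hτ hσN
  have hρx : ∀ x : P, ρ x = τ ⟨(σ x : P₂), hσN x⟩ := by
    intro x
    rw [hρdef]
    rfl
  have hρrange : ρ.range = P₁ := by
    rw [← hτP]
    ext y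
    constructor
    · rintro ⟨x, rfl⟩
      rw [hρx]
      exact ⟨_, Subgroup.mem_subgroupOf.mpr (σ x).2, rfl⟩
    · rintro ⟨n, hn, rfl⟩
      have hn' : (n : Ω) ∈ P₂ := Subgroup.mem_subgroupOf.mp hn
      refine ⟨σ.symm ⟨n, hn'⟩, ?_⟩
      rw [hρx]
      congr 1
      apply Subtype.ext
      show ((σ (σ.symm ⟨n, hn'⟩) : P₂) : Ω) = n
      rw [MulEquiv.apply_symm_apply]
  obtain ⟨t₁, ht₁def⟩ : ∃ t₁ : Ω, t₁ = τ ⟨t, htN⟩ := ⟨_, rfl⟩
  have ht₁T : t₁ ∈ T := by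
    rw [ht₁def]
    exact sc_mem F hT hτ ⟨t, htN⟩ ht
  have ht₁S : t₁ ∈ S := hTS ht₁T
  have hρa : ∀ y : P, ρ (a y) = t₁ * ρ y * t₁⁻¹ := by
    intro y
    rw [hρx, hρx, ht₁def, ← map_inv, ← map_mul, ← map_mul]
    congr 1
    apply Subtype.ext
    exact hσa y
  -- Step C: extend `ρ` to `P C_S(T)`
  obtain ⟨ρ₀, hρ₀, hρ₀x⟩ := Cfsg.Agent.Lib.helper89.exists_extension_closure F hrec hρ hρrange
    ((P : Set Ω) ∪ (centralizerIn S T : Set Ω)) (by
      rintro g (hg | hg)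
      · exact Cfsg.Agent.Lib.helper89.extender_cond_of_mem F hρ hg
      · have hg2 : g ∈ Subgroup.centralizer (T : Set Ω) := hg.2
        have hgx : ∀ x : P, g * (x : Ω) * g⁻¹ = x := by
          intro x
          have h1 : (x : Ω) * g = g * x := Subgroup.mem_centralizer_iff.mp hg2 x (hPT x.2)
          rw [← h1]
          group
        refine ⟨hg.1, mem_normalizer_of_conj_mem ?_, 1, S.one_mem, fun x hx => ?_⟩
        · intro x hx
          rw [hgx ⟨x, hx⟩]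
          exact hx
        · have h2 : (⟨g * (x : Ω) * g⁻¹, hx⟩ : P) = x := Subtype.ext (hgx x)
          rw [h2]
          group)
  have hle : P ⊔ centralizerIn S T ≤ Subgroup.closure ((P : Set Ω) ∪ (centralizerIn S T : Set Ω)) :=
    sup_le (fun x hx => Subgroup.subset_closure (Or.inl hx))
      (fun x hx => Subgroup.subset_closure (Or.inr hx))
  obtain ⟨ρ', hρ'def⟩ : ∃ ρ' : ↥(P ⊔ centralizerIn S T) →* Ω,
      ρ' = ρ₀.comp (Subgroup.inclusion hle) := ⟨_, rfl⟩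
  have hρ' : ρ' ∈ F.Hom (P ⊔ centralizerIn S T) := by
    rw [hρ'def]
    exact restrict_mem F hle hρ₀
  have hρ'P : ∀ x : P, ρ' (Subgroup.inclusion le_sup_left x) = ρ x := by
    intro x
    rw [hρ'def]
    exact hρ₀x x x.2 _
  have hcen := (tCen_of_isCentric hEinv hPc).2 P₁ ⟨ρ, hρ, hρrange⟩
  -- the key computation on `C_S(T)`
  have key : ∀ y : ↥(P ⊔ centralizerIn S T), (y : Ω) ∈ centralizerIn S T → ∃ q : P,
      t₁ * ρ' y * t₁⁻¹ = ρ' (y * Subgroup.inclusion le_sup_left q) := by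
    intro y hy
    have hy2 : (y : Ω) ∈ Subgroup.centralizer (T : Set Ω) := hy.2
    have hdS : ρ' y ∈ S := (F.le_of_mem hρ').2 y
    have hd : ∀ x : P, ρ x * ρ' y = ρ' y * ρ x := by
      intro x
      have h2 : Subgroup.inclusion le_sup_left x * y = y * Subgroup.inclusion le_sup_left x :=
        Subtype.ext (Subgroup.mem_centralizer_iff.mp hy2 _ (hPT x.2))
      rw [← hρ'P x, ← map_mul, ← map_mul, h2]
    have huT : (ρ' y)⁻¹ * (t₁ * ρ' y * t₁⁻¹) ∈ T := by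
      have h3 := conj_mem_of_sc F hT (S.inv_mem hdS) ht₁T
      rw [inv_inv] at h3
      have h4 : (ρ' y)⁻¹ * (t₁ * ρ' y * t₁⁻¹) = ((ρ' y)⁻¹ * t₁ * ρ' y) * t₁⁻¹ := by group
      rw [h4]
      exact T.mul_mem h3 (T.inv_mem ht₁T)
    have hucen : (ρ' y)⁻¹ * (t₁ * ρ' y * t₁⁻¹) ∈ Subgroup.centralizer (P₁ : Set Ω) := by
      rw [Subgroup.mem_centralizer_iff, ← hρrange]
      rintro _ ⟨x, rfl⟩
      have e1 : ρ x = t₁ * ρ (a⁻¹ x) * t₁⁻¹ := by
        rw [← hρa, MulAut.apply_inv_self]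
      exact comm_aux e1 (hd x) (hd (a⁻¹ x))
    have hu := hcen (Subgroup.mem_inf.mpr ⟨huT, hucen⟩)
    rw [← hρrange] at hu
    obtain ⟨q, hq⟩ := hu
    refine ⟨q, ?_⟩
    rw [map_mul, hρ'P, hq]
    group
  -- Step D: the extension
  obtain ⟨χ, hχ, hχx⟩ := F.inv_mem hρ'
  have hrS : ρ'.range ≤ S := by
    rintro _ ⟨y, rfl⟩
    exact (F.le_of_mem hρ').2 y
  have hm₁ := F.comp_mem hρ' (F.conj_mem hrS ht₁S) (fun y => ⟨y, rfl⟩)
  have hval : ∀ y : ↥(P ⊔ centralizerIn S T),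
      ((conjHom ρ'.range t₁).comp (ρ'.codRestrict ρ'.range (fun y => ⟨y, rfl⟩))) y ∈ ρ'.range := by
    refine sup_forall_mem _ _ ?_ ?_
    · intro y hy
      have h2 : y = Subgroup.inclusion le_sup_left (⟨y, hy⟩ : P) := rfl
      show t₁ * ρ' y * t₁⁻¹ ∈ ρ'.range
      rw [h2, hρ'P, ← hρa, ← hρ'P]
      exact ⟨_, rfl⟩
    · intro y hy
      obtain ⟨q, hq⟩ := key y hy
      show t₁ * ρ' y * t₁⁻¹ ∈ ρ'.range
      rw [hq]
      exact ⟨_, rfl⟩
  have hm₂ := F.comp_mem hm₁ hχ hval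
  have heval : ∀ (y z : ↥(P ⊔ centralizerIn S T)), t₁ * ρ' y * t₁⁻¹ = ρ' z →
      (χ.comp (((conjHom ρ'.range t₁).comp
        (ρ'.codRestrict ρ'.range (fun y => ⟨y, rfl⟩))).codRestrict ρ'.range hval)) y = z := by
    intro y z hyz
    have h2 : (((conjHom ρ'.range t₁).comp
        (ρ'.codRestrict ρ'.range (fun y => ⟨y, rfl⟩))).codRestrict ρ'.range hval) y
        = ⟨ρ' z, ⟨z, rfl⟩⟩ := Subtype.ext hyz
    show χ ((((conjHom ρ'.range t₁).comp
        (ρ'.codRestrict ρ'.range (fun y => ⟨y, rfl⟩))).codRestrict ρ'.range hval) y) = z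
    rw [h2, hχx]
  refine ⟨_, hm₂, fun x => ?_, fun c hc => ?_⟩
  · have h2 : t₁ * ρ' (Subgroup.inclusion le_sup_left x) * t₁⁻¹
        = ρ' (Subgroup.inclusion le_sup_left (a x)) := by
      rw [hρ'P, hρ'P, hρa]
    rw [heval _ _ h2]
    rfl
  · obtain ⟨q, hq⟩ := key c hc
    rw [heval _ _ hq]
    have h2 : (c : Ω)⁻¹ * ((c * Subgroup.inclusion le_sup_left q : ↥(P ⊔ centralizerIn S T)) : Ω)
        = (q : Ω) := by
      show (c : Ω)⁻¹ * ((c : Ω) * (q : Ω)) = q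
      group
    rw [h2]
    exact hPT q.2

end Cfsg.Agent.Lib.helper87.Craven
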