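import Cfsg.Agent.Lib.helper87.CravenA

/-!
Craven's theorem, step 2: the extension step. An automorphism `θ` of `Q C_S(T)` in the system that
is trivial on `Q` extends to `N_T(Q) C_S(T)`, up to elements of `Q`.
-/

set_option autoImplicit false

namespace Cfsg.Agent.Lib.helper87.Craven

open Cfsg Cfsg.FusionSystem
open Cfsg.Agent.Lib.helper88

variable {Ω : Type*} [Group Ω] {S : Subgroup Ω}

theorem ext_step [Finite S] {p : ℕ} [Fact p.Prime] (hS : IsPGroup p S) (F : FusionSystem S)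
    (hF : F.IsSaturated p) {T : Subgroup Ω} (hT : F.StronglyClosed T) {Q Q₁ : Subgroup Ω}
    (hQc : TCen F T Q) (hQQ₁ : Q ≤ Q₁) (hQ₁T : Q₁ ≤ T)
    (hnorm : Q₁ ≤ Subgroup.normalizer (Q : Set Ω))
    {θ : ↥(Q ⊔ centralizerIn S T) →* Ω} (hθ : θ ∈ F.Hom (Q ⊔ centralizerIn S T))
    (hθQ : ∀ y : ↥(Q ⊔ centralizerIn S T), (y : Ω) ∈ Q → θ y = y)
    (hθval : ∀ y : ↥(Q ⊔ centralizerIn S T), θ y ∈ Q ⊔ centralizerIn S T) :
    ∃ ω ∈ F.Hom (Q₁ ⊔ centralizerIn S T),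
      (∀ y : ↥(Q₁ ⊔ centralizerIn S T), (y : Ω) ∈ Q → ω y = y) ∧
      (∀ y : ↥(Q₁ ⊔ centralizerIn S T), (y : Ω) ∈ Q₁ → (y : Ω)⁻¹ * ω y ∈ Q) ∧
      ∀ (y : ↥(Q₁ ⊔ centralizerIn S T)) (hy : (y : Ω) ∈ centralizerIn S T),
        ω y = θ ⟨y, Subgroup.mem_sup_right hy⟩ := by
  classical
  have hTS := hT.1
  have hQT : Q ≤ T := hQc.1
  have hQpS : Q ⊔ centralizerIn S T ≤ S := sup_le (hQT.trans hTS) inf_le_left
  haveI : Finite ↥(Q ⊔ centralizerIn S T) := finite_of_le hQpS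
  obtain ⟨w₀, hw₀⟩ := Cfsg.Agent.Lib.helper89.exists_aut_of_mem F hθ hθval
  obtain ⟨R, hconj, hRfn⟩ := exists_fullyNormalized_conj F hQpS
  obtain ⟨ρ, hρ, hρR⟩ := exists_map_normalizer_of_fullyNormalized hS F hF hRfn hconj
  obtain ⟨hfa, hrec⟩ := fullyAutomized_receptive_of_fullyNormalized hS F hF hRfn
  have hRS := hRfn.1
  haveI : Finite R := finite_of_le hRS
  have hθN : ∀ x, θ x ∈ normalizerIn S (Q ⊔ centralizerIn S T) :=
    fun x => le_normalizerIn hQpS (hθval x)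
  obtain ⟨lam, hlamdef⟩ : ∃ lam : ↥(Q ⊔ centralizerIn S T) →* Ω,
      lam = ρ.comp (θ.codRestrict _ hθN) := ⟨_, rfl⟩
  have hlam : lam ∈ F.Hom (Q ⊔ centralizerIn S T) := by
    rw [hlamdef]
    exact F.comp_mem hθ hρ hθN
  have hlamx : ∀ x, lam x = ρ ⟨θ x, hθN x⟩ := by
    intro x
    rw [hlamdef]
    rfl
  have hlamQ : ∀ (x : ↥(Q ⊔ centralizerIn S T)) (_ : (x : Ω) ∈ Q),
      lam x = ρ ⟨x, le_normalizerIn hQpS x.2⟩ := by
    intro x hxQ
    rw [hlamx]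
    congr 1
    exact Subtype.ext (hθQ x hxQ)
  have hlamrange : lam.range = R := by
    rw [← hρR]
    ext y
    constructor
    · rintro ⟨x, rfl⟩
      rw [hlamx]
      exact ⟨_, Subgroup.mem_subgroupOf.mpr (hθval x), rfl⟩
    · rintro ⟨n, hn, rfl⟩
      have hn' : (n : Ω) ∈ Q ⊔ centralizerIn S T := Subgroup.mem_subgroupOf.mp hn
      refine ⟨w₀.symm ⟨n, hn'⟩, ?_⟩
      rw [hlamx]
      congr 1
      apply Subtype.ext
      show θ (w₀.symm ⟨n, hn'⟩) = n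
      rw [← hw₀, MulEquiv.apply_symm_apply]
  obtain ⟨e, he, hex⟩ := exists_isoEquiv F hlam hlamrange
  have hQ₁N : ∀ t ∈ Q₁,
      t ∈ Subgroup.normalizer ((Q ⊔ centralizerIn S T : Subgroup Ω) : Set Ω) := by
    intro t ht
    apply mem_normalizer_of_conj_mem
    have h0 : (Q ⊔ centralizerIn S T).map (MulAut.conj t).toMonoidHom
        ≤ Q ⊔ centralizerIn S T := by
      rw [Subgroup.map_sup]
      refine sup_le_sup ?_ ?_
      · rintro _ ⟨x, hx, rfl⟩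
        exact (Subgroup.mem_normalizer_iff.mp (hnorm ht) x).mp hx
      · rintro _ ⟨c, hc, rfl⟩
        have hc2 : c ∈ Subgroup.centralizer (T : Set Ω) := hc.2
        have h1 : t * c = c * t := Subgroup.mem_centralizer_iff.mp hc2 t (hQ₁T ht)
        have h2 : (MulAut.conj t).toMonoidHom c = c := by
          show t * c * t⁻¹ = c
          rw [h1]
          group
        rw [h2]
        exact hc
    intro x hx
    exact h0 ⟨x, hx, rfl⟩
  -- the extender condition for the elements of `Q₁`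
  have hext : ∀ g ∈ Q₁, g ∈ S ∧
      g ∈ Subgroup.normalizer ((Q ⊔ centralizerIn S T : Subgroup Ω) : Set Ω) ∧
      ∃ h ∈ S, ∀ (x : ↥(Q ⊔ centralizerIn S T)) (hx : g * (x : Ω) * g⁻¹ ∈ Q ⊔ centralizerIn S T),
        lam ⟨g * x * g⁻¹, hx⟩ = h * lam x * h⁻¹ := by
    intro t ht
    have htS : t ∈ S := hTS (hQ₁T ht)
    have htN := hQ₁N t ht
    have htNS : t ∈ normalizerIn S (Q ⊔ centralizerIn S T) := Subgroup.mem_inf.mpr ⟨htS, htN⟩
    obtain ⟨rt, hrt⟩ : ∃ rt : Ω, rt = ρ ⟨t, htNS⟩ := ⟨_, rfl⟩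
    have hrtT : rt ∈ T := by
      rw [hrt]
      exact sc_mem F hT hρ ⟨t, htNS⟩ (hQ₁T ht)
    have hrtS : rt ∈ S := hTS hrtT
    have hrtN : rt ∈ Subgroup.normalizer (R : Set Ω) := by
      apply mem_normalizer_of_conj_mem
      intro r hr
      rw [← hρR] at hr ⊢
      obtain ⟨n, hn, rfl⟩ := hr
      refine ⟨⟨t, htNS⟩ * n * ⟨t, htNS⟩⁻¹, ?_, by rw [map_mul, map_mul, map_inv, hrt]⟩
      rw [SetLike.mem_coe, Subgroup.mem_subgroupOf] at hn ⊢
      exact (Subgroup.mem_normalizer_iff.mp htN _).mp hn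
    obtain ⟨A, hAdef⟩ : ∃ A : MulAut R, A = conjAut R rt hrtN := ⟨_, rfl⟩
    have hA : A ∈ F.autGroup R := by
      rw [hAdef]
      exact autInducedBy_le_autGroup F hRS (conjAut_mem S R rt hrtN hrtS)
    obtain ⟨B, hBdef⟩ : ∃ B : MulAut R, B = MulAut.congr e (conjAut _ t htN) := ⟨_, rfl⟩
    have hB : B ∈ F.autGroup R := by
      rw [hBdef]
      exact he.congr_mem (autInducedBy_le_autGroup F hQpS (conjAut_mem S _ t htN htS))
    have hAx : ∀ r : R, ((A r : R) : Ω) = rt * r * rt⁻¹ := by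
      intro r
      rw [hAdef]
      rfl
    have hAinvx : ∀ r : R, ((A⁻¹ r : R) : Ω) = rt⁻¹ * r * rt := by
      intro r
      have h1 := hAx (A⁻¹ r)
      rw [MulAut.apply_inv_self] at h1
      rw [h1]
      group
    have hBx : ∀ x : ↥(Q ⊔ centralizerIn S T), B (e x) = e (conjAut _ t htN x) := by
      intro x
      rw [hBdef]
      show e (conjAut _ t htN (e.symm (e x))) = _
      rw [MulEquiv.symm_apply_apply]
    have hκ : B * A⁻¹ ∈ kSub F T R := by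
      refine ⟨mul_mem hB (inv_mem hA), fun r hr => ?_, fun r => ?_⟩
      · have hyT : ((e.symm r : ↥(Q ⊔ centralizerIn S T)) : Ω) ∈ T := sc_mem F hT he.2 r hr
        have hyQ : ((e.symm r : ↥(Q ⊔ centralizerIn S T)) : Ω) ∈ Q :=
          mem_of_mem_sup_of_mem hQT (hQc.2 Q (isConj_refl F (hQT.trans hTS))) (e.symm r).2 hyT
        have hzQ : t⁻¹ * ((e.symm r : ↥(Q ⊔ centralizerIn S T)) : Ω) * t ∈ Q := by
          apply (Subgroup.mem_normalizer_iff.mp (hnorm ht) _).mpr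
          have h0 : t * (t⁻¹ * ((e.symm r : ↥(Q ⊔ centralizerIn S T)) : Ω) * t) * t⁻¹
              = ((e.symm r : ↥(Q ⊔ centralizerIn S T)) : Ω) := by group
          rw [h0]
          exact hyQ
        obtain ⟨z, hz⟩ : ∃ z : ↥(Q ⊔ centralizerIn S T),
            (z : Ω) = t⁻¹ * ((e.symm r : ↥(Q ⊔ centralizerIn S T)) : Ω) * t :=
          ⟨⟨_, Subgroup.mem_sup_left hzQ⟩, rfl⟩
        have hzQ' : (z : Ω) ∈ Q := by
          rw [hz]
          exact hzQ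
        have h1 : A⁻¹ r = e z := by
          apply Subtype.ext
          rw [hAinvx, hex, hlamQ z hzQ']
          have h2 : (r : Ω) = ρ ⟨(e.symm r : ↥(Q ⊔ centralizerIn S T)),
              le_normalizerIn hQpS (e.symm r).2⟩ := by
            rw [← hlamQ (e.symm r) hyQ, ← hex, MulEquiv.apply_symm_apply]
          rw [h2, hrt, ← map_inv, ← map_mul, ← map_mul]
          congr 1
          exact Subtype.ext hz.symm
        show B (A⁻¹ r) = r
        rw [h1, hBx]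
        have h3 : conjAut _ t htN z = e.symm r := by
          apply Subtype.ext
          show t * (z : Ω) * t⁻¹ = _
          rw [hz]
          group
        rw [h3, MulEquiv.apply_symm_apply]
      · obtain ⟨y, hy⟩ : ∃ y : ↥(Q ⊔ centralizerIn S T), y = e.symm (A⁻¹ r) := ⟨_, rfl⟩
        have hyS : (y : Ω) ∈ S := hQpS y.2
        obtain ⟨v, hv⟩ : ∃ v : ↥(Q ⊔ centralizerIn S T), v = y⁻¹ * conjAut _ t htN y :=
          ⟨_, rfl⟩
        have hvT : (v : Ω) ∈ T := by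
          rw [hv]
          show (y : Ω)⁻¹ * (t * (y : Ω) * t⁻¹) ∈ T
          have h3 := conj_mem_of_sc F hT (S.inv_mem hyS) (hQ₁T ht)
          rw [inv_inv] at h3
          have h4 : (y : Ω)⁻¹ * (t * (y : Ω) * t⁻¹) = ((y : Ω)⁻¹ * t * (y : Ω)) * t⁻¹ := by
            group
          rw [h4]
          exact T.mul_mem h3 (T.inv_mem (hQ₁T ht))
        have h5 : (B * A⁻¹) r = A⁻¹ r * e v := by
          show B (A⁻¹ r) = _
          have h6 : A⁻¹ r = e y := by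
            rw [hy, MulEquiv.apply_symm_apply]
          rw [h6, hBx, ← map_mul, hv]
          congr 1
          group
        have hevT : ((e v : R) : Ω) ∈ T := by
          rw [hex]
          exact sc_mem F hT hlam v hvT
        rw [h5]
        show (r : Ω)⁻¹ * (((A⁻¹ r : R) : Ω) * ((e v : R) : Ω)) ∈ T
        rw [hAinvx]
        have h7 := conj_mem_of_sc F hT (S.inv_mem (hRS r.2)) (T.inv_mem hrtT)
        rw [inv_inv] at h7
        have h8 : (r : Ω)⁻¹ * (rt⁻¹ * (r : Ω) * rt * ((e v : R) : Ω))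
            = ((r : Ω)⁻¹ * rt⁻¹ * (r : Ω)) * rt * ((e v : R) : Ω) := by group
        rw [h8]
        exact T.mul_mem (T.mul_mem h7 hrtT) hevT
    obtain ⟨s, hs, hseq⟩ :=
      (mem_autInducedBy_iff S R _).mp (kSub_le_autInducedBy hS F hT hfa hκ)
    refine ⟨htS, htN, s * rt, S.mul_mem hs hrtS, fun x hx => ?_⟩
    have h1 : lam ⟨t * x * t⁻¹, hx⟩ = ((B (e x) : R) : Ω) := by
      rw [hBx, hex]
      rfl
    have h2 : B (e x) = (B * A⁻¹) (A (e x)) := by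
      show B (e x) = B (A⁻¹ (A (e x)))
      rw [MulAut.inv_apply_self]
    rw [h1, h2, hseq, hAx, hex]
    group
  -- extend `lam` to `Q₁ C_S(T)`
  obtain ⟨lam₀, hlam₀, hlam₀x⟩ := Cfsg.Agent.Lib.helper89.exists_extension_closure F hrec hlam
    hlamrange (((Q ⊔ centralizerIn S T : Subgroup Ω) : Set Ω) ∪ (Q₁ : Set Ω)) (by
      rintro g (hg | hg)
      · exact Cfsg.Agent.Lib.helper89.extender_cond_of_mem F hlam hg
      · exact hext g hg)
  have hle₁ : Q₁ ⊔ centralizerIn S T ≤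
      Subgroup.closure (((Q ⊔ centralizerIn S T : Subgroup Ω) : Set Ω) ∪ (Q₁ : Set Ω)) :=
    sup_le (fun x hx => Subgroup.subset_closure (Or.inr hx))
      (fun x hx => Subgroup.subset_closure (Or.inl (Subgroup.mem_sup_right hx)))
  obtain ⟨lam₁, hlam₁def⟩ : ∃ lam₁ : ↥(Q₁ ⊔ centralizerIn S T) →* Ω,
      lam₁ = lam₀.comp (Subgroup.inclusion hle₁) := ⟨_, rfl⟩
  have hlam₁ : lam₁ ∈ F.Hom (Q₁ ⊔ centralizerIn S T) := by
    rw [hlam₁def]
    exact restrict_mem F hle₁ hlam₀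
  have hlam₁x : ∀ (y : ↥(Q₁ ⊔ centralizerIn S T)) (hy : (y : Ω) ∈ Q ⊔ centralizerIn S T),
      lam₁ y = lam ⟨y, hy⟩ := by
    intro y hy
    rw [hlam₁def]
    exact hlam₀x y hy _
  have hle₂ : Q₁ ⊔ centralizerIn S T ≤ normalizerIn S (Q ⊔ centralizerIn S T) :=
    sup_le (fun x hx => Subgroup.mem_inf.mpr ⟨hTS (hQ₁T hx), hQ₁N x hx⟩)
      (fun x hx => le_normalizerIn hQpS (Subgroup.mem_sup_right hx))
  obtain ⟨ρ₁, hρ₁def⟩ : ∃ ρ₁ : ↥(Q₁ ⊔ centralizerIn S T) →* Ω,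
      ρ₁ = ρ.comp (Subgroup.inclusion hle₂) := ⟨_, rfl⟩
  have hρ₁ : ρ₁ ∈ F.Hom (Q₁ ⊔ centralizerIn S T) := by
    rw [hρ₁def]
    exact restrict_mem F hle₂ hρ
  have hρ₁x : ∀ y : ↥(Q₁ ⊔ centralizerIn S T), ρ₁ y = ρ ⟨y, hle₂ y.2⟩ := by
    intro y
    rw [hρ₁def]
    rfl
  have hQQp : Q ⊔ centralizerIn S T ≤ Q₁ ⊔ centralizerIn S T := sup_le_sup_right hQQ₁ _
  have K1 : ∀ (y : ↥(Q₁ ⊔ centralizerIn S T)) (hy : (y : Ω) ∈ Q ⊔ centralizerIn S T),
      lam₁ y = ρ₁ ⟨θ ⟨y, hy⟩, hQQp (hθval _)⟩ := by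
    intro y hy
    rw [hlam₁x y hy, hlamx, hρ₁x]
  have K2 : ∀ y : ↥(Q₁ ⊔ centralizerIn S T), (y : Ω) ∈ Q → lam₁ y = ρ₁ y := by
    intro y hy
    rw [K1 y (Subgroup.mem_sup_left hy)]
    congr 1
    exact Subtype.ext (hθQ _ hy)
  obtain ⟨ρQ, hρQdef⟩ : ∃ ρQ : Q →* Ω,
      ρQ = ρ₁.comp (Subgroup.inclusion (hQQ₁.trans le_sup_left)) := ⟨_, rfl⟩
  have hρQ : ρQ ∈ F.Hom Q := by
    rw [hρQdef]
    exact restrict_mem F _ hρ₁
  have hcen := hQc.2 ρQ.range ⟨ρQ, hρQ, rfl⟩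
  have K3 : ∀ y : ↥(Q₁ ⊔ centralizerIn S T), (y : Ω) ∈ Q₁ →
      ∃ z : ↥(Q₁ ⊔ centralizerIn S T), (z : Ω) ∈ Q ∧ lam₁ y = ρ₁ (y * z) := by
    intro y hy
    have hyT : (y : Ω) ∈ T := hQ₁T hy
    have hg : (ρ₁ y)⁻¹ * lam₁ y ∈ centralizerIn T ρQ.range := by
      refine Subgroup.mem_inf.mpr ⟨T.mul_mem (T.inv_mem (sc_mem F hT hρ₁ y hyT))
        (sc_mem F hT hlam₁ y hyT), ?_⟩
      rw [Subgroup.mem_centralizer_iff]
      rintro _ ⟨q, rfl⟩
      obtain ⟨q', hq'⟩ : ∃ q' : ↥(Q₁ ⊔ centralizerIn S T),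
          q' = Subgroup.inclusion (hQQ₁.trans le_sup_left) q := ⟨_, rfl⟩
      have hq'Q : (q' : Ω) ∈ Q := by
        rw [hq']
        exact q.2
      have hconjQ : ((y * q' * y⁻¹ : ↥(Q₁ ⊔ centralizerIn S T)) : Ω) ∈ Q :=
        (Subgroup.mem_normalizer_iff.mp (hnorm hy) _).mp hq'Q
      have h1 : lam₁ (y * q' * y⁻¹) = ρ₁ (y * q' * y⁻¹) := K2 _ hconjQ
      simp only [map_mul, map_inv] at h1
      rw [K2 q' hq'Q] at h1
      have h2 : ρQ q = ρ₁ q' := by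
        rw [hρQdef, hq']
        rfl
      rw [h2]
      generalize ρ₁ q' = X at h1 ⊢
      generalize lam₁ y = L at h1 ⊢
      generalize ρ₁ y = P' at h1 ⊢
      have h3 : P'⁻¹ * (L * X * L⁻¹) * L = P'⁻¹ * (P' * X * P'⁻¹) * L := by rw [h1]
      have h4 : P'⁻¹ * (L * X * L⁻¹) * L = P'⁻¹ * L * X := by group
      have h5 : P'⁻¹ * (P' * X * P'⁻¹) * L = X * (P'⁻¹ * L) := by group
      rw [h4, h5] at h3
      exact h3.symm
    obtain ⟨q₀, hq₀⟩ := hcen hg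
    refine ⟨Subgroup.inclusion (hQQ₁.trans le_sup_left) q₀, q₀.2, ?_⟩
    rw [map_mul]
    have h2 : ρ₁ (Subgroup.inclusion (hQQ₁.trans le_sup_left) q₀) = (ρ₁ y)⁻¹ * lam₁ y := by
      rw [← hq₀, hρQdef]
      rfl
    rw [h2]
    group
  obtain ⟨χ, hχ, hχx⟩ := F.inv_mem hρ₁
  have hval : ∀ y : ↥(Q₁ ⊔ centralizerIn S T), lam₁ y ∈ ρ₁.range := by
    refine sup_forall_mem _ _ ?_ ?_
    · intro y hy
      obtain ⟨z, -, hz⟩ := K3 y hy
      rw [hz]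
      exact ⟨_, rfl⟩
    · intro y hy
      rw [K1 y (Subgroup.mem_sup_right hy)]
      exact ⟨_, rfl⟩
  have hω := F.comp_mem hlam₁ hχ hval
  have heval : ∀ (y z : ↥(Q₁ ⊔ centralizerIn S T)), lam₁ y = ρ₁ z →
      (χ.comp (lam₁.codRestrict ρ₁.range hval)) y = z := by
    intro y z hyz
    have h2 : (lam₁.codRestrict ρ₁.range hval) y = ⟨ρ₁ z, ⟨z, rfl⟩⟩ := Subtype.ext hyz
    show χ ((lam₁.codRestrict ρ₁.range hval) y) = z
    rw [h2, hχx]
  refine ⟨_, hω, fun y hy => ?_, fun y hy => ?_, fun y hy => ?_⟩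
  · exact heval y y (K2 y hy)
  · obtain ⟨z, hzQ, hz⟩ := K3 y hy
    rw [heval y _ hz]
    have h0 : (y : Ω)⁻¹ * ((y * z : ↥(Q₁ ⊔ centralizerIn S T)) : Ω) = z := by
      show (y : Ω)⁻¹ * ((y : Ω) * (z : Ω)) = z
      group
    rw [h0]
    exact hzQ
  · rw [heval y _ (K1 y (Subgroup.mem_sup_right hy))]

end Cfsg.Agent.Lib.helper87.Craven
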