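import Cfsg.Agent.Lib.helper87.CravenB
import Cfsg.Agent.Lib.helper87.CravenC

/-!
Craven's theorem, step 3: an `E`-automorphism of `T` whose restriction to some `E`-centric
subgroup is good is good; hence the system of good maps contains the `p'`-residual subsystem, whose
automorphisms of `T` therefore satisfy the extension condition.
-/

set_option autoImplicit false

namespace Cfsg.Agent.Lib.helper87.Craven

open Cfsg Cfsg.FusionSystem
open Cfsg.Agent.Lib.helper88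

variable {Ω : Type*} [Group Ω] {S : Subgroup Ω}

/-- One step of the induction: from `Q` to a subgroup `Q₁ ≤ N_T(Q)`. -/
theorem good_step [Finite S] {p : ℕ} [Fact p.Prime] (hS : IsPGroup p S) (F : FusionSystem S)
    (hF : F.IsSaturated p) {T : Subgroup Ω} (E : FusionSystem T) (hEinv : E.IsInvariantIn F)
    {a : MulAut T} (ha : a ∈ E.autGroup T) {β : MulAut ↥(T ⊔ centralizerIn S T)}
    (hβ : β ∈ F.autGroup (T ⊔ centralizerIn S T))
    (hres : ∀ x : T, β (Subgroup.inclusion le_sup_left x) = Subgroup.inclusion le_sup_left (a x))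
    {n : ℕ} (hn : Nat.card T ∣ n) (hβn : β ^ n = β)
    {Q Q₁ : Subgroup Ω} (hQc : E.IsCentric Q) (hQQ₁ : Q ≤ Q₁) (hQ₁T : Q₁ ≤ T)
    (hnorm : Q₁ ≤ Subgroup.normalizer (Q : Set Ω))
    (hgood : Good F T Q
      ((T.subtype.comp a.toMonoidHom).comp (Subgroup.inclusion (hQQ₁.trans hQ₁T)))) :
    Good F T Q₁ ((T.subtype.comp a.toMonoidHom).comp (Subgroup.inclusion hQ₁T)) := by
  classical
  have hT := hEinv.2.1
  have hTS := hT.1
  haveI : Finite T := finite_of_le hTS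
  have hQT : Q ≤ T := hQQ₁.trans hQ₁T
  have hNS : T ⊔ centralizerIn S T ≤ S := sup_le hTS inf_le_left
  haveI : Finite ↥(T ⊔ centralizerIn S T) := finite_of_le hNS
  have haE : T.subtype.comp a.toMonoidHom ∈ E.Hom T := (mem_autGroup_iff' E le_rfl a).mp ha
  have haQ : (T.subtype.comp a.toMonoidHom).comp (Subgroup.inclusion hQT) ∈ E.Hom Q :=
    restrict_mem E hQT haE
  obtain ⟨ψ, hψ, hψQ, hψC⟩ := hgood
  have hu := good_u_mem E hQc haQ hψQ hψC
  have hβT : ∀ (b : MulAut ↥(T ⊔ centralizerIn S T)), b ∈ F.autGroup (T ⊔ centralizerIn S T) →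
      ∀ y : ↥(T ⊔ centralizerIn S T), (y : Ω) ∈ T →
        ((b y : ↥(T ⊔ centralizerIn S T)) : Ω) ∈ T := by
    intro b hb y hy
    exact sc_mem F hT ((mem_autGroup_iff' F hNS b).mp hb) y hy
  have hβinvC : ∀ y : ↥(T ⊔ centralizerIn S T), (y : Ω) ∈ centralizerIn S T →
      ((β⁻¹ y : ↥(T ⊔ centralizerIn S T)) : Ω) ∈ centralizerIn S T := by
    intro y hy
    refine Subgroup.mem_inf.mpr ⟨hNS (β⁻¹ y).2, ?_⟩
    rw [Subgroup.mem_centralizer_iff]
    intro t ht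
    have hy2 : (y : Ω) ∈ Subgroup.centralizer (T : Set Ω) := hy.2
    have h1 : β (Subgroup.inclusion le_sup_left (⟨t, ht⟩ : T)) * y
        = y * β (Subgroup.inclusion le_sup_left (⟨t, ht⟩ : T)) := by
      rw [hres]
      exact Subtype.ext (Subgroup.mem_centralizer_iff.mp hy2 _ (a ⟨t, ht⟩).2)
    have h2 : β⁻¹ (β (Subgroup.inclusion le_sup_left (⟨t, ht⟩ : T)) * y)
        = β⁻¹ (y * β (Subgroup.inclusion le_sup_left (⟨t, ht⟩ : T))) := by rw [h1]
    rw [map_mul, map_mul, MulAut.inv_apply_self] at h2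
    exact congrArg Subtype.val h2
  have hψval : ∀ y : ↥(Q ⊔ centralizerIn S T), ψ y ∈ T ⊔ centralizerIn S T := by
    refine sup_forall_mem ψ _ ?_ ?_
    · intro y hy
      have h1 : y = Subgroup.inclusion le_sup_left (⟨y, hy⟩ : Q) := rfl
      rw [h1, hψQ]
      exact Subgroup.mem_sup_left (a _).2
    · intro y hy
      have h1 : ψ y = (y : Ω) * ((y : Ω)⁻¹ * ψ y) := by group
      rw [h1]
      exact mul_mem (Subgroup.mem_sup_right hy) (Subgroup.mem_sup_left (hψC y hy))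
  have hβinvF : (T ⊔ centralizerIn S T).subtype.comp
      (β⁻¹ : MulAut ↥(T ⊔ centralizerIn S T)).toMonoidHom ∈ F.Hom (T ⊔ centralizerIn S T) :=
    (mem_autGroup_iff' F hNS _).mp (inv_mem hβ)
  obtain ⟨θ, hθdef⟩ : ∃ θ : ↥(Q ⊔ centralizerIn S T) →* Ω,
      θ = ((T ⊔ centralizerIn S T).subtype.comp
        (β⁻¹ : MulAut ↥(T ⊔ centralizerIn S T)).toMonoidHom).comp (ψ.codRestrict _ hψval) :=
    ⟨_, rfl⟩
  have hθ : θ ∈ F.Hom (Q ⊔ centralizerIn S T) := by
    rw [hθdef]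
    exact F.comp_mem hψ hβinvF hψval
  have hθx : ∀ y, θ y = ((β⁻¹ ⟨ψ y, hψval y⟩ : ↥(T ⊔ centralizerIn S T)) : Ω) := by
    intro y
    rw [hθdef]
    rfl
  have hθQ : ∀ y : ↥(Q ⊔ centralizerIn S T), (y : Ω) ∈ Q → θ y = y := by
    intro y hy
    rw [hθx]
    have h1 : (⟨ψ y, hψval y⟩ : ↥(T ⊔ centralizerIn S T))
        = β (Subgroup.inclusion le_sup_left (⟨y, hQT hy⟩ : T)) := by
      rw [hres]
      apply Subtype.ext
      exact hψQ ⟨y, hy⟩
    rw [h1, MulAut.inv_apply_self]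
    rfl
  have hθC : ∀ (c : ↥(Q ⊔ centralizerIn S T)) (_ : (c : Ω) ∈ centralizerIn S T),
      ∃ (c₁ : ↥(T ⊔ centralizerIn S T)) (q : Q), (c₁ : Ω) ∈ centralizerIn S T ∧
        ((β c₁ : ↥(T ⊔ centralizerIn S T)) : Ω) = (c : Ω) ∧ θ c = (c₁ : Ω) * (q : Ω) := by
    intro c hc
    obtain ⟨q, hq⟩ := hu c hc
    have hq' : ((a ⟨q, hQT q.2⟩ : T) : Ω) = (c : Ω)⁻¹ * ψ c := hq
    refine ⟨β⁻¹ ⟨c, Subgroup.mem_sup_right hc⟩, q, hβinvC _ hc, ?_, ?_⟩
    · rw [MulAut.apply_inv_self]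
    · rw [hθx]
      have h1 : (⟨ψ c, hψval c⟩ : ↥(T ⊔ centralizerIn S T))
          = ⟨c, Subgroup.mem_sup_right hc⟩
            * β (Subgroup.inclusion le_sup_left (⟨q, hQT q.2⟩ : T)) := by
        rw [hres]
        apply Subtype.ext
        show ψ c = (c : Ω) * ((a ⟨q, hQT q.2⟩ : T) : Ω)
        rw [hq']
        group
      rw [h1, map_mul, MulAut.inv_apply_self]
      rfl
  have hθval : ∀ y : ↥(Q ⊔ centralizerIn S T), θ y ∈ Q ⊔ centralizerIn S T := by
    refine sup_forall_mem θ _ ?_ ?_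
    · intro y hy
      rw [hθQ y hy]
      exact Subgroup.mem_sup_left hy
    · intro y hy
      obtain ⟨c₁, q, hc₁, -, h⟩ := hθC y hy
      rw [h]
      exact mul_mem (Subgroup.mem_sup_right hc₁) (Subgroup.mem_sup_left q.2)
  obtain ⟨ω, hω, hωQ, hωQ₁, hωC⟩ := ext_step hS F hF hT (tCen_of_isCentric hEinv hQc) hQQ₁ hQ₁T
    hnorm hθ hθQ hθval
  have hQ₁pS : Q₁ ⊔ centralizerIn S T ≤ S := sup_le (hQ₁T.trans hTS) inf_le_left
  haveI : Finite ↥(Q₁ ⊔ centralizerIn S T) := finite_of_le hQ₁pS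
  have hQQp : Q ⊔ centralizerIn S T ≤ Q₁ ⊔ centralizerIn S T := sup_le_sup_right hQQ₁ _
  have hωval : ∀ y : ↥(Q₁ ⊔ centralizerIn S T), ω y ∈ Q₁ ⊔ centralizerIn S T := by
    refine sup_forall_mem ω _ ?_ ?_
    · intro y hy
      have h1 : ω y = (y : Ω) * ((y : Ω)⁻¹ * ω y) := by group
      rw [h1]
      exact mul_mem (Subgroup.mem_sup_left hy) (Subgroup.mem_sup_left (hQQ₁ (hωQ₁ y hy)))
    · intro y hy
      rw [hωC y hy]
      exact hQQp (hθval _)
  obtain ⟨w, hw⟩ := Cfsg.Agent.Lib.helper89.exists_aut_of_mem F hω hωval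
  have hwF : w ∈ F.autGroup (Q₁ ⊔ centralizerIn S T) := by
    rw [mem_autGroup_iff' F hQ₁pS]
    have h1 : (Q₁ ⊔ centralizerIn S T).subtype.comp w.toMonoidHom = ω :=
      MonoidHom.ext fun y => hw y
    rw [h1]
    exact hω
  have W1 : ∀ (k : ℕ) (y : ↥(Q₁ ⊔ centralizerIn S T)), (y : Ω) ∈ Q → (w ^ k) y = y := by
    intro k
    induction k with
    | zero =>
      intro y _
      rfl
    | succ k ih =>
      intro y hy
      rw [pow_succ]
      show (w ^ k) (w y) = y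
      have h1 : w y = y := Subtype.ext ((hw y).trans (hωQ y hy))
      rw [h1, ih y hy]
  have W2 : ∀ (k : ℕ) (y : ↥(Q₁ ⊔ centralizerIn S T)), (y : Ω) ∈ Q₁ →
      (w ^ k) y = y * (y⁻¹ * w y) ^ k := by
    intro k
    induction k with
    | zero =>
      intro y _
      simp
    | succ k ih =>
      intro y hy
      have hz : ((y⁻¹ * w y : ↥(Q₁ ⊔ centralizerIn S T)) : Ω) ∈ Q := by
        show (y : Ω)⁻¹ * ((w y : ↥(Q₁ ⊔ centralizerIn S T)) : Ω) ∈ Q
        rw [hw]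
        exact hωQ₁ y hy
      rw [pow_succ]
      show (w ^ k) (w y) = _
      have h1 : w y = y * (y⁻¹ * w y) := by group
      conv_lhs => rw [h1]
      rw [map_mul, ih y hy, W1 k _ hz, pow_succ, mul_assoc]
  have W2' : ∀ y : ↥(Q₁ ⊔ centralizerIn S T), (y : Ω) ∈ Q₁ → (w ^ n) y = y := by
    intro y hy
    rw [W2 n y hy]
    have hz : ((y⁻¹ * w y : ↥(Q₁ ⊔ centralizerIn S T)) : Ω) ∈ T := by
      show (y : Ω)⁻¹ * ((w y : ↥(Q₁ ⊔ centralizerIn S T)) : Ω) ∈ T
      rw [hw]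
      exact hQT (hωQ₁ y hy)
    have h1 : (y⁻¹ * w y) ^ n = 1 := by
      obtain ⟨m, rfl⟩ := hn
      have h2 : (⟨_, hz⟩ : T) ^ Nat.card T = 1 := pow_card_eq_one'
      have h3 : ((y⁻¹ * w y : ↥(Q₁ ⊔ centralizerIn S T)) : Ω) ^ Nat.card T = 1 :=
        congrArg Subtype.val h2
      apply Subtype.ext
      rw [pow_mul]
      show (((y⁻¹ * w y : ↥(Q₁ ⊔ centralizerIn S T)) : Ω) ^ Nat.card T) ^ m = 1
      rw [h3, one_pow]
    rw [h1, mul_one]
  have hle : Q₁ ⊔ centralizerIn S T ≤ T ⊔ centralizerIn S T := sup_le_sup_right hQ₁T _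
  have W3 : ∀ (k : ℕ) (c : ↥(Q₁ ⊔ centralizerIn S T)), (c : Ω) ∈ centralizerIn S T →
      (c : Ω)⁻¹ * (((β ^ k) (Subgroup.inclusion hle ((w ^ k) c)) :
        ↥(T ⊔ centralizerIn S T)) : Ω) ∈ T := by
    intro k
    induction k with
    | zero =>
      intro c _
      show (c : Ω)⁻¹ * (c : Ω) ∈ T
      rw [inv_mul_cancel]
      exact one_mem _
    | succ k ih =>
      intro c hc
      obtain ⟨c₁, q, hc₁, hβc₁, hθc⟩ := hθC ⟨c, Subgroup.mem_sup_right hc⟩ hc
      have hβc₁' : ((β c₁ : ↥(T ⊔ centralizerIn S T)) : Ω) = (c : Ω) := hβc₁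
      obtain ⟨c₁', hc₁'⟩ : ∃ c₁' : ↥(Q₁ ⊔ centralizerIn S T), (c₁' : Ω) = c₁ :=
        ⟨⟨c₁, Subgroup.mem_sup_right hc₁⟩, rfl⟩
      obtain ⟨q', hq'⟩ : ∃ q' : ↥(Q₁ ⊔ centralizerIn S T), (q' : Ω) = q :=
        ⟨⟨q, Subgroup.mem_sup_left (hQQ₁ q.2)⟩, rfl⟩
      have hwc : w c = c₁' * q' := by
        apply Subtype.ext
        rw [hw, hωC c hc, hθc]
        show _ = (c₁' : Ω) * (q' : Ω)
        rw [hc₁', hq']
      have hc₁'C : (c₁' : Ω) ∈ centralizerIn S T := by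
        rw [hc₁']
        exact hc₁
      have hq'Q : (q' : Ω) ∈ Q := by
        rw [hq']
        exact q.2
      have ih' := ih c₁' hc₁'C
      have h1 : (w ^ (k + 1)) c = (w ^ k) c₁' * q' := by
        rw [pow_succ]
        show (w ^ k) (w c) = _
        rw [hwc, map_mul, W1 k q' hq'Q]
      have h2 : (β ^ (k + 1)) (Subgroup.inclusion hle ((w ^ (k + 1)) c))
          = β ((β ^ k) (Subgroup.inclusion hle ((w ^ k) c₁')))
            * (β ^ (k + 1)) (Subgroup.inclusion hle q') := by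
        rw [h1, map_mul, map_mul]
        congr 1
        rw [pow_succ']
        rfl
      obtain ⟨v, hv⟩ : ∃ v : ↥(T ⊔ centralizerIn S T), (v : Ω) = (c₁' : Ω)⁻¹ *
          (((β ^ k) (Subgroup.inclusion hle ((w ^ k) c₁')) : ↥(T ⊔ centralizerIn S T)) : Ω) :=
        ⟨⟨_, Subgroup.mem_sup_left ih'⟩, rfl⟩
      have hvT : (v : Ω) ∈ T := by
        rw [hv]
        exact ih'
      have h3 : (β ^ k) (Subgroup.inclusion hle ((w ^ k) c₁')) = c₁ * v := by
        apply Subtype.ext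
        show _ = (c₁ : Ω) * (v : Ω)
        rw [hv, hc₁']
        group
      rw [h2, h3, map_mul]
      show (c : Ω)⁻¹ * (((β c₁ : ↥(T ⊔ centralizerIn S T)) : Ω)
        * ((β v : ↥(T ⊔ centralizerIn S T)) : Ω)
        * (((β ^ (k + 1)) (Subgroup.inclusion hle q') : ↥(T ⊔ centralizerIn S T)) : Ω)) ∈ T
      rw [hβc₁']
      have h4 : (c : Ω)⁻¹ * ((c : Ω) * ((β v : ↥(T ⊔ centralizerIn S T)) : Ω)
          * (((β ^ (k + 1)) (Subgroup.inclusion hle q') : ↥(T ⊔ centralizerIn S T)) : Ω))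
          = ((β v : ↥(T ⊔ centralizerIn S T)) : Ω)
            * (((β ^ (k + 1)) (Subgroup.inclusion hle q') : ↥(T ⊔ centralizerIn S T)) : Ω) := by
        group
      rw [h4]
      exact T.mul_mem (hβT β hβ v hvT) (hβT _ (Subgroup.pow_mem _ hβ _) _ (hQT hq'Q))
  have hβF : (T ⊔ centralizerIn S T).subtype.comp β.toMonoidHom ∈ F.Hom (T ⊔ centralizerIn S T) :=
    (mem_autGroup_iff' F hNS _).mp hβ
  have hwnF : (Q₁ ⊔ centralizerIn S T).subtype.comp (w ^ n).toMonoidHom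
      ∈ F.Hom (Q₁ ⊔ centralizerIn S T) :=
    (mem_autGroup_iff' F hQ₁pS _).mp (Subgroup.pow_mem _ hwF n)
  have hwnval : ∀ y : ↥(Q₁ ⊔ centralizerIn S T),
      ((Q₁ ⊔ centralizerIn S T).subtype.comp (w ^ n).toMonoidHom) y ∈ T ⊔ centralizerIn S T :=
    fun y => hle ((w ^ n) y).2
  obtain ⟨Ψ, hΨdef⟩ : ∃ Ψ : ↥(Q₁ ⊔ centralizerIn S T) →* Ω,
      Ψ = ((T ⊔ centralizerIn S T).subtype.comp β.toMonoidHom).comp
        (((Q₁ ⊔ centralizerIn S T).subtype.comp (w ^ n).toMonoidHom).codRestrict _ hwnval) :=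
    ⟨_, rfl⟩
  have hΨ : Ψ ∈ F.Hom (Q₁ ⊔ centralizerIn S T) := by
    rw [hΨdef]
    exact F.comp_mem hwnF hβF hwnval
  have hΨx : ∀ y, Ψ y = ((β (Subgroup.inclusion hle ((w ^ n) y)) :
      ↥(T ⊔ centralizerIn S T)) : Ω) := by
    intro y
    rw [hΨdef]
    rfl
  refine ⟨Ψ, hΨ, fun x => ?_, fun c hc => ?_⟩
  · rw [hΨx, W2' _ x.2]
    have h1 : Subgroup.inclusion hle (Subgroup.inclusion le_sup_left x)
        = Subgroup.inclusion le_sup_left (⟨x, hQ₁T x.2⟩ : T) := rfl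
    rw [h1, hres]
    rfl
  · rw [hΨx]
    have h1 := W3 n c hc
    rw [hβn] at h1
    exact h1

/-- The induction: an automorphism `a` of `T` in `E` (with a suitable extension `β`) whose
restriction to an `E`-centric subgroup is good is good. -/
theorem good_top_of_good [Finite S] {p : ℕ} [Fact p.Prime] (hS : IsPGroup p S)
    (F : FusionSystem S) (hF : F.IsSaturated p) {T : Subgroup Ω} (E : FusionSystem T)
    (hEinv : E.IsInvariantIn F) {a : MulAut T} (ha : a ∈ E.autGroup T)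
    {β : MulAut ↥(T ⊔ centralizerIn S T)} (hβ : β ∈ F.autGroup (T ⊔ centralizerIn S T))
    (hres : ∀ x : T, β (Subgroup.inclusion le_sup_left x) = Subgroup.inclusion le_sup_left (a x))
    {n : ℕ} (hn : Nat.card T ∣ n) (hβn : β ^ n = β) :
    ∀ (m : ℕ) (Q : Subgroup Ω) (hQT : Q ≤ T), Nat.card T - Nat.card Q = m → E.IsCentric Q →
      Good F T Q ((T.subtype.comp a.toMonoidHom).comp (Subgroup.inclusion hQT)) →
      Good F T T (T.subtype.comp a.toMonoidHom) := by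
  classical
  have hT := hEinv.2.1
  have hTS := hT.1
  haveI : Finite T := finite_of_le hTS
  have hTp : IsPGroup p T := hS.to_le hTS
  have base : ∀ (Q : Subgroup Ω) (hQT : Q ≤ T), Q = T →
      Good F T Q ((T.subtype.comp a.toMonoidHom).comp (Subgroup.inclusion hQT)) →
      Good F T T (T.subtype.comp a.toMonoidHom) := by
    intro Q hQT hQ hgood
    subst hQ
    obtain ⟨ψ, hψ, h1, h2⟩ := hgood
    exact ⟨ψ, hψ, h1, h2⟩
  intro m
  induction m using Nat.strong_induction_on with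
  | _ m ih =>
    intro Q hQT hm hQc hgood
    by_cases hQ : Q = T
    · exact base Q hQT hQ hgood
    · obtain ⟨g, hgN, hgQ⟩ := exists_mem_normalizerIn_not_mem hTp hQT hQ
      have hQ₁T : normalizerIn T Q ≤ T := inf_le_left
      have hQQ₁ : Q ≤ normalizerIn T Q := le_normalizerIn hQT
      have hnorm : normalizerIn T Q ≤ Subgroup.normalizer (Q : Set Ω) := inf_le_right
      have hstep := good_step hS F hF E hEinv ha hβ hres hn hβn hQc hQQ₁ hQ₁T hnorm hgood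
      haveI : Finite (normalizerIn T Q) := finite_of_le hQ₁T
      have hlt : Nat.card Q < Nat.card (normalizerIn T Q) := by
        by_contra hcon
        have heq := Subgroup.eq_of_le_of_card_ge hQQ₁ (not_lt.mp hcon)
        rw [← heq] at hgN
        exact hgQ hgN
      have hle : Nat.card (normalizerIn T Q) ≤ Nat.card T := Subgroup.card_le_of_le hQ₁T
      exact ih (Nat.card T - Nat.card (normalizerIn T Q)) (by omega) _ hQ₁T rfl
        (IsCentric.of_le hQc hQQ₁ hQ₁T) hstep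

end Cfsg.Agent.Lib.helper87.Craven
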