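import Cfsg.Agent.Lib.helper87.ImgOf

/-!
Well placed subgroups of a fully automized receptive subgroup, and the surgery lemma: a map of the
system defined on `Q ⊵ P` (with the class of `Q` containing a fully automized receptive member) can be
replaced by maps defined on the normalizers of `Q` in `N_S(P)` and of its image.
-/

set_option autoImplicit false

namespace Cfsg.Agent.Lib.helper87

open Cfsg
open Cfsg.FusionSystem (normalizerIn centralizerIn extender)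

variable {Ω : Type*} [Group Ω] {S : Subgroup Ω}

theorem imgAut_self (Q : Subgroup Ω) (a : MulAut Q) : imgAut Q Q a = Q := by
  ext y
  rw [mem_imgAut]
  constructor
  · rintro ⟨x, -, rfl⟩
    exact (a x).2
  · intro hy
    refine ⟨a⁻¹ ⟨y, hy⟩, (a⁻¹ ⟨y, hy⟩).2, ?_⟩
    rw [MulAut.apply_inv_self]

theorem imgAut_inv_of_eq {Q P P' : Subgroup Ω} {a : MulAut Q} (h : imgAut Q P a = P') (hP : P ≤ Q) :
    imgAut Q P' a⁻¹ = P := by
  rw [← h, imgAut_mul, inv_mul_cancel, imgAut_one hP]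

theorem mem_stabAut_of_imgAut_eq {Q P : Subgroup Ω} {a : MulAut Q} (h : imgAut Q P a = P) :
    a ∈ stabAut Q P := by
  intro x
  have h1 := (apply_mem_imgAut_iff (Q := Q) (P := P) (α := a) x).symm
  rw [h] at h1
  exact h1

theorem imgAut_of_mem_stabAut {Q P : Subgroup Ω} {a : MulAut Q} (h : a ∈ stabAut Q P) (hP : P ≤ Q) :
    imgAut Q P a = P := by
  ext y
  rw [mem_imgAut]
  constructor
  · rintro ⟨x, hx, rfl⟩
    exact (h x).mp hx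
  · intro hy
    refine ⟨a⁻¹ ⟨y, hP hy⟩, ?_, ?_⟩
    · have h1 := h (a⁻¹ ⟨y, hP hy⟩)
      rw [MulAut.apply_inv_self] at h1
      exact h1.mpr hy
    · rw [MulAut.apply_inv_self]

theorem imgOf_eq_imgAut {K Q P₁ : Subgroup Ω} {εt : K →* Ω} {ε : MulAut Q}
    (hext : ∀ (x : Ω) (hx : x ∈ Q) (hK : x ∈ K), εt ⟨x, hK⟩ = ((ε ⟨x, hx⟩ : Q) : Ω))
    (hPQ : P₁ ≤ Q) (hPK : P₁ ≤ K) : imgOf εt P₁ = imgAut Q P₁ ε := by
  ext y
  rw [mem_imgOf, mem_imgAut]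
  constructor
  · rintro ⟨x, hx, rfl⟩
    exact ⟨⟨x, hPQ hx⟩, hx, (hext x (hPQ hx) x.2).symm⟩
  · rintro ⟨x, hx, rfl⟩
    exact ⟨⟨x, hPK hx⟩, hx, hext x x.2 (hPK hx)⟩

/-- `P` is well placed in `Q`: `Aut_S(Q) ∩ Stab(P)` is a Sylow `p`-subgroup of `Aut_F(Q) ∩ Stab(P)`. -/
def WellPlaced (F : FusionSystem S) (p : ℕ) (Q P : Subgroup Ω) : Prop :=
  ∃ R : Sylow p ↥(stabAut Q P ⊓ F.autGroup Q),
    (R : Subgroup ↥(stabAut Q P ⊓ F.autGroup Q)) =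
      (autInducedBy S Q ⊓ (stabAut Q P ⊓ F.autGroup Q)).subgroupOf (stabAut Q P ⊓ F.autGroup Q)

theorem finite_mulAut_of_le [Finite S] {Q : Subgroup Ω} (hQS : Q ≤ S) : Finite (MulAut Q) := by
  have : Finite Q := Cfsg.Agent.Lib.helper89.finite_of_le hQS
  exact Finite.of_injective (fun α : MulAut Q => (α : Q → Q)) (fun α β h => MulEquiv.ext (congrFun h))

/-- Every subgroup of a fully automized `Q` has a well placed image under `Aut_F(Q)`. -/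
theorem exists_wellPlaced [Finite S] {p : ℕ} [Fact p.Prime] (F : FusionSystem S) {Q : Subgroup Ω}
    (hfa : F.IsFullyAutomized p Q) (P₁ : Subgroup Ω) :
    ∃ a ∈ F.autGroup Q, WellPlaced F p Q (imgAut Q P₁ a) := by
  obtain ⟨hQS, hQsyl⟩ := hfa
  have : Finite (MulAut Q) := finite_mulAut_of_le hQS
  have hAS : autInducedBy S Q ≤ F.autGroup Q := Cfsg.Agent.Lib.helper89.autInducedBy_le_autGroup F hQS
  obtain ⟨n, hn, hsyl⟩ := exists_conj_sylowIn_inf hAS hQsyl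
    (inf_le_right : stabAut Q P₁ ⊓ F.autGroup Q ≤ F.autGroup Q)
  refine ⟨n, hn, ?_⟩
  have hH' : stabAut Q (imgAut Q P₁ n) ⊓ F.autGroup Q =
      (stabAut Q P₁ ⊓ F.autGroup Q).map (MulAut.conj n).toMonoidHom := by
    ext α
    rw [mem_map_conj, Subgroup.mem_inf, Subgroup.mem_inf, stabAut_imgAut, mem_map_conj]
    refine and_congr Iff.rfl ?_
    constructor
    · intro h
      exact (F.autGroup Q).mul_mem ((F.autGroup Q).mul_mem ((F.autGroup Q).inv_mem hn) h) hn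
    · intro h
      have h1 := (F.autGroup Q).mul_mem ((F.autGroup Q).mul_mem hn h) ((F.autGroup Q).inv_mem hn)
      have h2 : n * (n⁻¹ * α * n) * n⁻¹ = α := by group
      rwa [h2] at h1
  exact hsyl _ hH'

/-- If `Pst` is well placed in the receptive subgroup `Q`, then every subgroup `P''` in the
`Aut_F(Q)`-orbit of `Pst` is carried to `Pst` by an `F`-automorphism of `Q` that extends to
`N_S(P'') ∩ N_S(Q)`. -/
theorem exists_ext_wellPlaced [Finite S] {p : ℕ} [Fact p.Prime] (hS : IsPGroup p S) (F : FusionSystem S)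
    {Q Pst P'' : Subgroup Ω} (hQS : Q ≤ S) (hrec : F.IsReceptive Q) (hwp : WellPlaced F p Q Pst)
    (hPst : Pst ≤ Q) {c : MulAut Q} (hc : c ∈ F.autGroup Q) (hP'' : imgAut Q P'' c = Pst) :
    ∃ ε ∈ F.autGroup Q, imgAut Q P'' ε = Pst ∧
      ∃ εt ∈ F.Hom (normalizerIn S P'' ⊓ normalizerIn S Q),
        ∀ (x : Ω) (hx : x ∈ Q) (hN : x ∈ normalizerIn S P'' ⊓ normalizerIn S Q),
          εt ⟨x, hN⟩ = ((ε ⟨x, hx⟩ : Q) : Ω) := by
  have : Finite (MulAut Q) := finite_mulAut_of_le hQS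
  have hKS : normalizerIn S P'' ⊓ normalizerIn S Q ≤ S := inf_le_left.trans inf_le_left
  have hKp : IsPGroup p ↥(normalizerIn S P'' ⊓ normalizerIn S Q) := hS.to_le hKS
  have hV''p : IsPGroup p ↥(autInducedBy (normalizerIn S P'' ⊓ normalizerIn S Q) Q) :=
    Cfsg.Agent.Lib.helper88.isPGroup_autInducedBy hKp Q
  have hV''stab : autInducedBy (normalizerIn S P'' ⊓ normalizerIn S Q) Q ≤ stabAut Q P'' := by
    intro v hv
    obtain ⟨g, hg, hgv⟩ := (Cfsg.Agent.Lib.helper88.mem_autInducedBy_iff _ Q v).mp hv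
    intro x
    rw [hgv x]
    exact Subgroup.mem_normalizer_iff.mp hg.1.2 (x : Ω)
  have hV''A : autInducedBy (normalizerIn S P'' ⊓ normalizerIn S Q) Q ≤ F.autGroup Q := fun v hv =>
    Cfsg.Agent.Lib.helper89.autInducedBy_le_autGroup F hQS
      (Cfsg.Agent.Lib.helper88.autInducedBy_mono hKS Q hv)
  have hVp : IsPGroup p ↥((autInducedBy (normalizerIn S P'' ⊓ normalizerIn S Q) Q).map
      (MulAut.conj c).toMonoidHom) := isPGroup_map_conj c hV''p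
  have hVB : (autInducedBy (normalizerIn S P'' ⊓ normalizerIn S Q) Q).map (MulAut.conj c).toMonoidHom ≤
      stabAut Q Pst ⊓ F.autGroup Q := by
    rintro _ ⟨v, hv, rfl⟩
    refine Subgroup.mem_inf.mpr ⟨?_, ?_⟩
    · rw [← hP'', stabAut_imgAut]
      exact ⟨v, hV''stab hv, rfl⟩
    · exact (F.autGroup Q).mul_mem ((F.autGroup Q).mul_mem hc (hV''A hv)) ((F.autGroup Q).inv_mem hc)
  obtain ⟨n, hn, hle⟩ := exists_conj_le_of_sylowIn hwp hVB hVp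
  obtain ⟨hnstab, hnA⟩ := Subgroup.mem_inf.mp hn
  have hεA : n * c ∈ F.autGroup Q := (F.autGroup Q).mul_mem hnA hc
  refine ⟨n * c, hεA, ?_, ?_⟩
  · rw [← imgAut_mul, hP'']
    exact imgAut_of_mem_stabAut hnstab hPst
  · have hφ : Q.subtype.comp (n * c).toMonoidHom ∈ F.Hom Q :=
      (Cfsg.Agent.Lib.helper88.mem_autGroup_iff' F hQS _).mp hεA
    have hφR : (Q.subtype.comp (n * c).toMonoidHom).range = Q := by
      ext y
      constructor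
      · rintro ⟨x, rfl⟩
        exact ((n * c) x).2
      · intro hy
        refine ⟨(n * c)⁻¹ ⟨y, hy⟩, ?_⟩
        show (((n * c) ((n * c)⁻¹ ⟨y, hy⟩) : Q) : Ω) = y
        rw [MulAut.apply_inv_self]
    have hN : ∀ g ∈ normalizerIn S P'' ⊓ normalizerIn S Q, g ∈ S ∧ g ∈ Subgroup.normalizer (Q : Set Ω) ∧
        ∃ h ∈ S, ∀ (x : Q) (hx : g * (x : Ω) * g⁻¹ ∈ Q),
          (Q.subtype.comp (n * c).toMonoidHom) ⟨g * x * g⁻¹, hx⟩ =
            h * (Q.subtype.comp (n * c).toMonoidHom) x * h⁻¹ := by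
      intro g hg
      have hgN : g ∈ Subgroup.normalizer (Q : Set Ω) := hg.2.2
      refine ⟨hKS hg, hgN, ?_⟩
      have hcg : Cfsg.Agent.Lib.helper88.conjAut Q g hgN ∈
          autInducedBy (normalizerIn S P'' ⊓ normalizerIn S Q) Q :=
        Cfsg.Agent.Lib.helper88.conjAut_mem _ Q g hgN hg
      have h1 : (MulAut.conj n).toMonoidHom ((MulAut.conj c).toMonoidHom
          (Cfsg.Agent.Lib.helper88.conjAut Q g hgN)) ∈ autInducedBy S Q :=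
        (hle ⟨_, ⟨_, hcg, rfl⟩, rfl⟩).1
      obtain ⟨h, hh, hheq⟩ := (Cfsg.Agent.Lib.helper88.mem_autInducedBy_iff S Q _).mp h1
      refine ⟨h, hh, fun x hx => ?_⟩
      have h2 := hheq ((n * c) x)
      have h3 : ((MulAut.conj n).toMonoidHom ((MulAut.conj c).toMonoidHom
          (Cfsg.Agent.Lib.helper88.conjAut Q g hgN))) ((n * c) x) =
          (n * c) (Cfsg.Agent.Lib.helper88.conjAut Q g hgN x) := by
        show n (c (Cfsg.Agent.Lib.helper88.conjAut Q g hgN (c⁻¹ (n⁻¹ (n (c x)))))) =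
          n (c (Cfsg.Agent.Lib.helper88.conjAut Q g hgN x))
        rw [MulAut.inv_apply_self, MulAut.inv_apply_self]
      rw [h3] at h2
      have h4 : Cfsg.Agent.Lib.helper88.conjAut Q g hgN x = ⟨g * x * g⁻¹, hx⟩ :=
        Subtype.ext (Cfsg.Agent.Lib.helper88.conjAut_apply Q g hgN x)
      rw [h4] at h2
      exact h2
    obtain ⟨ψ, hψ, hψx⟩ := Cfsg.Agent.Lib.helper89.exists_extension F hrec hφ hφR _ hN
    exact ⟨ψ, hψ, fun x hx hN' => hψx x hx hN'⟩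

/-- The surgery lemma. -/
theorem exists_surgery [Finite S] {p : ℕ} [Fact p.Prime] (hS : IsPGroup p S) (F : FusionSystem S)
    {Q : Subgroup Ω} {φ : Q →* Ω} (hφ : φ ∈ F.Hom Q)
    (hsat : ∃ Qh, F.IsConj Q Qh ∧ F.IsFullyAutomized p Qh ∧ F.IsReceptive Qh)
    {P P' : Subgroup Ω} (hPQ : P ≤ Q) (hQN : Q ≤ normalizerIn S P) (hP' : imgOf φ P = P') :
    ∃ (Qh Pst : Subgroup Ω) (ρ : ↥(normalizerIn S P ⊓ normalizerIn S Q) →* Ω)
      (ρ' : ↥(normalizerIn S P' ⊓ normalizerIn S φ.range) →* Ω) (ξ : MulAut Qh),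
      F.IsFullyAutomized p Qh ∧ F.IsReceptive Qh ∧ Pst ≤ Qh ∧ WellPlaced F p Qh Pst ∧
      ρ ∈ F.Hom (normalizerIn S P ⊓ normalizerIn S Q) ∧
      ρ' ∈ F.Hom (normalizerIn S P' ⊓ normalizerIn S φ.range) ∧
      imgOf ρ P = Pst ∧ imgOf ρ' P' = Pst ∧ imgOf ρ Q = Qh ∧ imgOf ρ' φ.range = Qh ∧
      ξ ∈ F.autGroup Qh ∧ ξ ∈ stabAut Qh Pst ∧
      ∀ (x : Q) (h1 : (x : Ω) ∈ normalizerIn S P ⊓ normalizerIn S Q)
        (h2 : φ x ∈ normalizerIn S P' ⊓ normalizerIn S φ.range) (h3 : ρ ⟨x, h1⟩ ∈ Qh),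
        ρ' ⟨φ x, h2⟩ = ((ξ ⟨ρ ⟨x, h1⟩, h3⟩ : Qh) : Ω) := by
  obtain ⟨Qh, hconj, hfa, hrec⟩ := hsat
  have hQS : Q ≤ S := (F.le_of_mem hφ).1
  have hQhS : Qh ≤ S := hfa.1
  have hPS : P ≤ S := hPQ.trans hQS
  have hRS : φ.range ≤ S := range_le_S F hφ
  have hP'R : P' ≤ φ.range := by
    rw [← hP']
    exact imgOf_le_range φ P
  have hP'S : P' ≤ S := hP'R.trans hRS
  have hQNQ : Q ≤ normalizerIn S Q := Cfsg.Agent.Lib.helper89.le_normalizerIn hQS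
  have hRNR : φ.range ≤ normalizerIn S φ.range := Cfsg.Agent.Lib.helper89.le_normalizerIn hRS
  have hRNP' : φ.range ≤ normalizerIn S P' := by
    rw [← hP']
    exact range_le_normalizerIn F hφ hQN
  -- maps of the normalizers onto the normalizer of `Qh`
  obtain ⟨α, hα, hαQ⟩ := Cfsg.Agent.Lib.helper88.exists_map_normalizer hS F hfa hrec hconj
  have hαQ' : imgOf α Q = Qh := hαQ
  have hconj' : F.IsConj φ.range Qh :=
    Cfsg.Agent.Lib.helper88.isConj_trans F (Cfsg.Agent.Lib.helper88.isConj_symm F ⟨φ, hφ, rfl⟩) hconj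
  obtain ⟨β, hβ, hβQ⟩ := Cfsg.Agent.Lib.helper88.exists_map_normalizer hS F hfa hrec hconj'
  have hβQ' : imgOf β φ.range = Qh := hβQ
  have hαinj := F.injective_of_mem hα
  have hβinj := F.injective_of_mem hβ
  have hP₁ : imgOf α P ≤ Qh := by
    rw [← hαQ']
    exact imgOf_mono α hPQ
  have hP₂ : imgOf β P' ≤ Qh := by
    rw [← hβQ']
    exact imgOf_mono β hP'R
  -- the automorphism `γ = β φ α⁻¹` of `Qh`
  have hαres : α.comp (Subgroup.inclusion hQNQ) ∈ F.Hom Q := hom_comp_inclusion F hα hQNQ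
  have hαresR : (α.comp (Subgroup.inclusion hQNQ)).range = Qh := by
    rw [← imgOf_self, imgOf_restrict α hQNQ le_rfl]
    exact hαQ'
  obtain ⟨κ, hκ, hκx, hκimg⟩ := comp_mem' F hφ hβ hRNR
  obtain ⟨τ, hτ, hτx⟩ := exists_inv_comp F hαres hκ hαresR
  have hτR : τ.range = Qh := by
    rw [range_inv_comp hαresR hτx, ← imgOf_self, hκimg, imgOf_self]
    exact hβQ'
  have hτQh : ∀ y : Qh, τ y ∈ Qh := by
    intro y
    have h1 : τ y ∈ τ.range := ⟨y, rfl⟩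
    rw [hτR] at h1
    exact h1
  obtain ⟨γ, hγ⟩ := Cfsg.Agent.Lib.helper89.exists_aut_of_mem F hτ hτQh
  have hγA : γ ∈ F.autGroup Qh := by
    rw [Cfsg.Agent.Lib.helper88.mem_autGroup_iff' F hQhS]
    have h1 : Qh.subtype.comp γ.toMonoidHom = τ := MonoidHom.ext fun y => hγ y
    rw [h1]
    exact hτ
  -- `γ (α x) = β (φ x)` for `x ∈ Q`
  have hγrel : ∀ (x : Q) (h : α ⟨x, hQNQ x.2⟩ ∈ Qh),
      ((γ ⟨α ⟨x, hQNQ x.2⟩, h⟩ : Qh) : Ω) = β ⟨φ x, hRNR ⟨x, rfl⟩⟩ := by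
    intro x h
    rw [hγ]
    have h1 := hτx x h
    rw [hκx x (hRNR ⟨x, rfl⟩)] at h1
    exact h1
  have hαmem : ∀ x : Q, α ⟨x, hQNQ x.2⟩ ∈ Qh := by
    intro x
    rw [← hαQ']
    exact apply_mem_imgOf x.2
  have hγP : imgAut Qh (imgOf α P) γ = imgOf β P' := by
    ext y
    rw [mem_imgAut, mem_imgOf]
    constructor
    · rintro ⟨z, hz, rfl⟩
      obtain ⟨x', hx', hxz⟩ := mem_imgOf.mp hz
      have h1 : (⟨α ⟨(⟨x', hPQ hx'⟩ : Q), hQNQ (hPQ hx')⟩, hαmem ⟨x', hPQ hx'⟩⟩ : Qh) = z :=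
        Subtype.ext hxz
      rw [← h1, hγrel ⟨x', hPQ hx'⟩ (hαmem _)]
      refine ⟨⟨φ ⟨x', hPQ hx'⟩, hRNR ⟨_, rfl⟩⟩, ?_, rfl⟩
      show φ ⟨x', hPQ hx'⟩ ∈ P'
      rw [← hP']
      exact apply_mem_imgOf (x := (⟨x', hPQ hx'⟩ : Q)) hx'
    · rintro ⟨w, hw, rfl⟩
      have hw' : (w : Ω) ∈ imgOf φ P := by
        rw [hP']
        exact hw
      obtain ⟨x, hx, hxw⟩ := mem_imgOf.mp hw'
      refine ⟨⟨α ⟨x, hQNQ x.2⟩, hαmem x⟩, apply_mem_imgOf (x := (⟨x, hQNQ x.2⟩ : ↥(normalizerIn S Q))) hx, ?_⟩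
      rw [hγrel x (hαmem x)]
      have h1 : (⟨φ x, hRNR ⟨x, rfl⟩⟩ : ↥(normalizerIn S φ.range)) = w := Subtype.ext hxw
      rw [h1]
  -- a well placed image
  obtain ⟨a, ha, hwp⟩ := exists_wellPlaced F hfa (imgOf α P)
  have hPst : imgAut Qh (imgOf α P) a ≤ Qh := imgAut_le _ _ _
  obtain ⟨ε₁, hε₁, hε₁P, εt₁, hεt₁, hεt₁x⟩ :=
    exists_ext_wellPlaced hS F hQhS hrec hwp hPst ha rfl
  have hc₂ : imgAut Qh (imgOf β P') (a * γ⁻¹) = imgAut Qh (imgOf α P) a := by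
    rw [← imgAut_mul, imgAut_inv_of_eq hγP hP₁]
  obtain ⟨ε₂, hε₂, hε₂P, εt₂, hεt₂, hεt₂x⟩ :=
    exists_ext_wellPlaced hS F hQhS hrec hwp hPst
      ((F.autGroup Qh).mul_mem ha ((F.autGroup Qh).inv_mem hγA)) hc₂
  -- the maps `ρ`, `ρ'`
  have hD : normalizerIn S P ⊓ normalizerIn S Q ≤ normalizerIn S Q := inf_le_right
  have hD' : normalizerIn S P' ⊓ normalizerIn S φ.range ≤ normalizerIn S φ.range := inf_le_right
  have hαD : α.comp (Subgroup.inclusion hD) ∈ F.Hom (normalizerIn S P ⊓ normalizerIn S Q) :=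
    hom_comp_inclusion F hα hD
  have hβD : β.comp (Subgroup.inclusion hD') ∈ F.Hom (normalizerIn S P' ⊓ normalizerIn S φ.range) :=
    hom_comp_inclusion F hβ hD'
  have hαDr : (α.comp (Subgroup.inclusion hD)).range ≤
      normalizerIn S (imgOf α P) ⊓ normalizerIn S Qh := by
    rintro _ ⟨x, rfl⟩
    refine ⟨apply_mem_normalizerIn F hα (x := Subgroup.inclusion hD x) x.2.1, ?_⟩
    have h1 := apply_mem_normalizerIn F hα (P := Q) (x := Subgroup.inclusion hD x) x.2.2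
    rw [hαQ'] at h1
    exact h1
  have hβDr : (β.comp (Subgroup.inclusion hD')).range ≤
      normalizerIn S (imgOf β P') ⊓ normalizerIn S Qh := by
    rintro _ ⟨x, rfl⟩
    refine ⟨apply_mem_normalizerIn F hβ (x := Subgroup.inclusion hD' x) x.2.1, ?_⟩
    have h1 := apply_mem_normalizerIn F hβ (P := φ.range) (x := Subgroup.inclusion hD' x) x.2.2
    rw [hβQ'] at h1
    exact h1
  obtain ⟨ρ, hρ, hρx, hρimg⟩ := comp_mem' F hαD hεt₁ hαDr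
  obtain ⟨ρ', hρ', hρ'x, hρ'img⟩ := comp_mem' F hβD hεt₂ hβDr
  have hPD : P ≤ normalizerIn S P ⊓ normalizerIn S Q :=
    le_inf (Cfsg.Agent.Lib.helper89.le_normalizerIn hPS) (hPQ.trans hQNQ)
  have hQD : Q ≤ normalizerIn S P ⊓ normalizerIn S Q := le_inf hQN hQNQ
  have hP'D : P' ≤ normalizerIn S P' ⊓ normalizerIn S φ.range :=
    le_inf (Cfsg.Agent.Lib.helper89.le_normalizerIn hP'S) (hP'R.trans hRNR)
  have hRD : φ.range ≤ normalizerIn S P' ⊓ normalizerIn S φ.range := le_inf hRNP' hRNR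
  have hQhN₁ : Qh ≤ normalizerIn S (imgOf α P) ⊓ normalizerIn S Qh := by
    refine le_inf ?_ (Cfsg.Agent.Lib.helper89.le_normalizerIn hQhS)
    intro y hy
    rw [← hαQ'] at hy
    obtain ⟨x, hx, rfl⟩ := mem_imgOf.mp hy
    exact apply_mem_normalizerIn F hα (hQN hx)
  have hQhN₂ : Qh ≤ normalizerIn S (imgOf β P') ⊓ normalizerIn S Qh := by
    refine le_inf ?_ (Cfsg.Agent.Lib.helper89.le_normalizerIn hQhS)
    intro y hy
    rw [← hβQ'] at hy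
    obtain ⟨x, hx, rfl⟩ := mem_imgOf.mp hy
    exact apply_mem_normalizerIn F hβ (hRNP' hx)
  have hρP : imgOf ρ P = imgAut Qh (imgOf α P) a := by
    rw [hρimg, imgOf_restrict α hD hPD, imgOf_eq_imgAut hεt₁x hP₁ (hP₁.trans hQhN₁), hε₁P]
  have hρ'P : imgOf ρ' P' = imgAut Qh (imgOf α P) a := by
    rw [hρ'img, imgOf_restrict β hD' hP'D, imgOf_eq_imgAut hεt₂x hP₂ (hP₂.trans hQhN₂), hε₂P]
  have hρQ : imgOf ρ Q = Qh := by
    rw [hρimg, imgOf_restrict α hD hQD, hαQ', imgOf_eq_imgAut hεt₁x le_rfl hQhN₁, imgAut_self]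
  have hρ'Q : imgOf ρ' φ.range = Qh := by
    rw [hρ'img, imgOf_restrict β hD' hRD, hβQ', imgOf_eq_imgAut hεt₂x le_rfl hQhN₂, imgAut_self]
  -- the automorphism `ξ`
  have hξA : ε₂ * γ * ε₁⁻¹ ∈ F.autGroup Qh :=
    (F.autGroup Qh).mul_mem ((F.autGroup Qh).mul_mem hε₂ hγA) ((F.autGroup Qh).inv_mem hε₁)
  have hξstab : ε₂ * γ * ε₁⁻¹ ∈ stabAut Qh (imgAut Qh (imgOf α P) a) := by
    apply mem_stabAut_of_imgAut_eq
    rw [← imgAut_mul, ← imgAut_mul, imgAut_inv_of_eq hε₁P hP₁, hγP, hε₂P]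
  refine ⟨Qh, imgAut Qh (imgOf α P) a, ρ, ρ', ε₂ * γ * ε₁⁻¹, hfa, hrec, hPst, hwp, hρ, hρ', hρP, hρ'P,
    hρQ, hρ'Q, hξA, hξstab, ?_⟩
  intro x h1 h2 h3
  -- `ρ x = ε₁ (α x)`
  have hαx : α ⟨x, hQNQ x.2⟩ ∈ Qh := hαmem x
  have e1 : ρ ⟨x, h1⟩ = ((ε₁ ⟨α ⟨x, hQNQ x.2⟩, hαx⟩ : Qh) : Ω) := by
    rw [hρx ⟨x, h1⟩ (hαDr ⟨⟨x, h1⟩, rfl⟩)]
    exact hεt₁x _ hαx _
  have hβx : β ⟨φ x, hRNR ⟨x, rfl⟩⟩ ∈ Qh := by
    rw [← hβQ']
    exact apply_mem_imgOf (x := (⟨φ x, hRNR ⟨x, rfl⟩⟩ : ↥(normalizerIn S φ.range))) ⟨x, rfl⟩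
  have e2 : ρ' ⟨φ x, h2⟩ = ((ε₂ ⟨β ⟨φ x, hRNR ⟨x, rfl⟩⟩, hβx⟩ : Qh) : Ω) := by
    rw [hρ'x ⟨φ x, h2⟩ (hβDr ⟨⟨φ x, h2⟩, rfl⟩)]
    exact hεt₂x _ hβx _
  have e3 : (⟨ρ ⟨x, h1⟩, h3⟩ : Qh) = ε₁ ⟨α ⟨x, hQNQ x.2⟩, hαx⟩ := Subtype.ext e1
  have e4 : (γ ⟨α ⟨x, hQNQ x.2⟩, hαx⟩ : Qh) = ⟨β ⟨φ x, hRNR ⟨x, rfl⟩⟩, hβx⟩ :=
    Subtype.ext (hγrel x hαx)
  rw [e2, e3]
  show ((ε₂ ⟨β ⟨φ x, hRNR ⟨x, rfl⟩⟩, hβx⟩ : Qh) : Ω) =
    ((ε₂ (γ (ε₁⁻¹ (ε₁ ⟨α ⟨x, hQNQ x.2⟩, hαx⟩))) : Qh) : Ω)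
  rw [MulAut.inv_apply_self, e4]

end Cfsg.Agent.Lib.helper87
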