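import Cfsg.Agent.Lib.helper87.CravenD
import Cfsg.Agent.Lib.helper87.WellPlaced

/-!
Craven's theorem, conclusion: the system of good maps belongs to the family defining the
`p'`-residual subsystem; hence the automorphisms of `T` in the `p'`-residual subsystem of a weakly
normal subsystem satisfy the extension condition.
-/

set_option autoImplicit false

namespace Cfsg.Agent.Lib.helper87.Craven

open Cfsg Cfsg.FusionSystem
open Cfsg.Agent.Lib.helper88

variable {Ω : Type*} [Group Ω] {S : Subgroup Ω}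

theorem goodSys_mem_resFamily [Finite S] {p : ℕ} [Fact p.Prime] (hS : IsPGroup p S)
    (F : FusionSystem S) (hF : F.IsSaturated p) {T : Subgroup Ω} (E : FusionSystem T)
    (hEsat : E.IsSaturated p) (hEinv : E.IsInvariantIn F) :
    goodSys F E hEinv.2.1 ∈ Cfsg.Agent.Lib.helper87.resFamily E p := by
  classical
  have hT := hEinv.2.1
  have hTS := hT.1
  haveI : Finite T := finite_of_le hTS
  have hTp : IsPGroup p T := hS.to_le hTS
  have hTc : E.IsCentric T := Cfsg.Agent.Lib.helper87.isCentric_top E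
  have hprime : ∀ (P : Subgroup Ω), E.IsCentric P → ∀ (a : MulAut P), a ∈ E.autGroup P →
      ∀ k : ℕ, a ^ p ^ k = 1 → a ∈ (goodSys F E hT).autGroup P := by
    intro P hPc a ha k hk
    exact Subgroup.subset_closure ⟨(mem_autGroup_iff' E hPc.1 a).mp ha,
      fun _ => good_of_pElt hS F hF E hEsat hEinv hPc ha hk⟩
  refine ⟨?_, ?_⟩
  · intro P hPc
    rw [Subgroup.map_le_iff_le_comap, Subgroup.closure_le]
    rintro a ⟨k, hk⟩
    show (a : MulAut P) ∈ (goodSys F E hT).autGroup P
    refine hprime P hPc a a.2 k ?_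
    rw [← hk, ← Subgroup.orderOf_coe]
    exact pow_orderOf_eq_one _
  · intro α hα Q hQT hQc hαQ
    obtain ⟨a, ha⟩ := Cfsg.Agent.Lib.helper89.exists_aut_of_mem E hα
      (fun x => (E.le_of_mem hα).2 x)
    have haα : T.subtype.comp a.toMonoidHom = α := MonoidHom.ext fun x => ha x
    have haE : a ∈ E.autGroup T := by
      rw [mem_autGroup_iff' E le_rfl, haα]
      exact hα
    have haF : a ∈ F.autGroup T := autGroup_le_of_subsystem hEinv.1 T haE
    obtain ⟨β₀, hβ₀, hres₀⟩ := exists_ext_aut hS F hF hT haF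
    have hNS : T ⊔ centralizerIn S T ≤ S := sup_le hTS inf_le_left
    haveI : Finite ↥(T ⊔ centralizerIn S T) := finite_of_le hNS
    haveI : Finite (MulAut ↥(T ⊔ centralizerIn S T)) :=
      Cfsg.Agent.Lib.helper87.finite_mulAut_of_le hNS
    obtain ⟨j, hj⟩ := (IsPGroup.iff_card).mp hTp
    have ho : orderOf β₀ ≠ 0 := (orderOf_pos β₀).ne'
    obtain ⟨b, m', hm', hom⟩ :=
      Nat.exists_eq_pow_mul_and_not_dvd ho p (Fact.out : p.Prime).ne_one
    have hcopb : Nat.Coprime (p ^ b) m' :=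
      Nat.Coprime.pow_left _ ((Nat.Prime.coprime_iff_not_dvd Fact.out).mpr hm')
    have hcop : Nat.Coprime (p ^ (b + j)) m' :=
      Nat.Coprime.pow_left _ ((Nat.Prime.coprime_iff_not_dvd Fact.out).mpr hm')
    obtain ⟨n, hn0, hn1⟩ := Nat.chineseRemainder hcop 0 1
    have hpn : p ^ (b + j) ∣ n := (Nat.modEq_zero_iff_dvd).mp hn0
    have hTn : Nat.card T ∣ n := by
      rw [hj]
      exact (pow_dvd_pow p (Nat.le_add_left j b)).trans hpn
    have hbn : p ^ b ∣ n := (pow_dvd_pow p (Nat.le_add_right b j)).trans hpn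
    have hβn : (β₀ ^ n) ^ n = β₀ ^ n := by
      rw [← pow_mul, pow_eq_pow_iff_modEq, hom]
      apply (Nat.modEq_and_modEq_iff_modEq_mul hcopb).mp
      constructor
      · exact ((Nat.modEq_zero_iff_dvd).mpr (hbn.mul_right n)).trans
          ((Nat.modEq_zero_iff_dvd).mpr hbn).symm
      · have h1 : n * n ≡ 1 * 1 [MOD m'] := Nat.ModEq.mul hn1 hn1
        rw [one_mul] at h1
        exact h1.trans hn1.symm
    have hrespow : ∀ k : ℕ, ∀ x : T, (β₀ ^ k) (Subgroup.inclusion le_sup_left x)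
        = Subgroup.inclusion le_sup_left ((a ^ k) x) := by
      intro k
      induction k with
      | zero =>
        intro x
        rfl
      | succ k ih =>
        intro x
        rw [pow_succ, pow_succ]
        show (β₀ ^ k) (β₀ (Subgroup.inclusion le_sup_left x))
          = Subgroup.inclusion le_sup_left ((a ^ k) (a x))
        rw [hres₀, ih]
    have hao : a ^ orderOf β₀ = 1 := by
      refine MulEquiv.ext fun x => Subtype.ext ?_
      have h1 := hrespow (orderOf β₀) x
      rw [pow_orderOf_eq_one] at h1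
      exact (congrArg (fun z : ↥(T ⊔ centralizerIn S T) => (z : Ω)) h1).symm
    have ha₁ : (a * (a ^ n)⁻¹) ^ p ^ b = 1 := by
      have hc : Commute a (a ^ n)⁻¹ := ((Commute.refl a).pow_right n).inv_right
      rw [hc.mul_pow, inv_pow, ← pow_mul, mul_inv_eq_one, pow_eq_pow_iff_modEq]
      have hdvd : orderOf a ∣ orderOf β₀ := orderOf_dvd_of_pow_eq_one hao
      refine Nat.ModEq.of_dvd hdvd ?_
      rw [hom]
      apply (Nat.modEq_and_modEq_iff_modEq_mul hcopb).mp
      constructor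
      · exact ((Nat.modEq_zero_iff_dvd).mpr (dvd_refl _)).trans
          ((Nat.modEq_zero_iff_dvd).mpr (Dvd.intro_left n rfl)).symm
      · have h1 : n * p ^ b ≡ 1 * p ^ b [MOD m'] := Nat.ModEq.mul_right _ hn1
        rw [one_mul] at h1
        exact h1.symm
    have ha₁E : a * (a ^ n)⁻¹ ∈ E.autGroup T := mul_mem haE (inv_mem (pow_mem haE n))
    have ha₁G : a * (a ^ n)⁻¹ ∈ (goodSys F E hT).autGroup T := hprime T hTc _ ha₁E b ha₁
    have ha₂E : a ^ n ∈ E.autGroup T := pow_mem haE n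
    have hinvG : T.subtype.comp ((a * (a ^ n)⁻¹)⁻¹ : MulAut T).toMonoidHom
        ∈ (goodSys F E hT).Hom T := (mem_autGroup_iff' _ le_rfl _).mp (inv_mem ha₁G)
    have hαQT : ∀ x : Q, (α.comp (Subgroup.inclusion hQT)) x ∈ T :=
      fun x => (E.le_of_mem hα).2 _
    have hcomp := (goodSys F E hT).comp_mem hαQ hinvG hαQT
    have heq : (T.subtype.comp ((a * (a ^ n)⁻¹)⁻¹ : MulAut T).toMonoidHom).comp
        ((α.comp (Subgroup.inclusion hQT)).codRestrict T hαQT)
        = (T.subtype.comp (a ^ n).toMonoidHom).comp (Subgroup.inclusion hQT) := by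
      refine MonoidHom.ext fun x => ?_
      have h1 : ((α.comp (Subgroup.inclusion hQT)).codRestrict T hαQT) x
          = a (Subgroup.inclusion hQT x) := Subtype.ext (ha _).symm
      have h2 : (a * (a ^ n)⁻¹)⁻¹ * a = a ^ n := by
        rw [mul_inv_rev, inv_inv, mul_assoc, inv_mul_cancel, mul_one]
      show (((a * (a ^ n)⁻¹)⁻¹ (((α.comp (Subgroup.inclusion hQT)).codRestrict T hαQT) x) : T) : Ω)
        = (((a ^ n) (Subgroup.inclusion hQT x) : T) : Ω)
      have h3 : ∀ z : T, (a * (a ^ n)⁻¹)⁻¹ (a z) = (a ^ n) z :=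
        fun z => congrArg (fun f : MulAut T => f z) h2
      rw [h1, h3]
    rw [heq] at hcomp
    have hgoodQ := hcomp.2 hQc
    have hβF : β₀ ^ n ∈ F.autGroup (T ⊔ centralizerIn S T) := pow_mem hβ₀ n
    have htop := good_top_of_good hS F hF E hEinv ha₂E hβF (hrespow n) hTn hβn _ Q hQT rfl hQc
      hgoodQ
    have ha₂G : a ^ n ∈ (goodSys F E hT).autGroup T :=
      Subgroup.subset_closure ⟨(mem_autGroup_iff' E le_rfl _).mp ha₂E, fun _ => htop⟩
    have haG : a ∈ (goodSys F E hT).autGroup T := by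
      have h3 : a = (a * (a ^ n)⁻¹) * a ^ n := by group
      rw [h3]
      exact mul_mem ha₁G ha₂G
    have hfin := (mem_autGroup_iff' (goodSys F E hT) le_rfl a).mp haG
    rw [haα] at hfin
    exact hfin

/-- **Craven's theorem, extension condition.** For a weakly normal subsystem `E` of `F` over `T`,
every automorphism of `T` in the `p'`-residual subsystem `D` of `E` extends to an automorphism of
`T C_S(T)` in `F` acting trivially on `C_S(T)` modulo `Z(T)`. -/
theorem ext_cond_residual [Finite S] (p : ℕ) [Fact p.Prime] (hS : IsPGroup p S)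
    (F : FusionSystem S) (hF : F.IsSaturated p) {T : Subgroup Ω} (E : FusionSystem T)
    (hE : E.IsWeaklyNormalIn F p) (D : FusionSystem T) (hD : E.IsPPrimeResidual p D) :
    ∀ α ∈ D.autGroup T, ∃ β ∈ F.autGroup (T ⊔ centralizerIn S T),
      (∀ x : T, ((β (Subgroup.inclusion le_sup_left x) : ↥(T ⊔ centralizerIn S T)) : Ω)
        = ((α x : T) : Ω)) ∧
      ∀ c : ↥(T ⊔ centralizerIn S T), (c : Ω) ∈ centralizerIn S T →
        (c : Ω)⁻¹ * ((β c : ↥(T ⊔ centralizerIn S T)) : Ω)
          ∈ T ⊓ Subgroup.centralizer (T : Set Ω) := by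
  classical
  obtain ⟨hEsat, -, hEinv⟩ := hE
  have hT := hEinv.2.1
  have hTS := hT.1
  haveI : Finite T := finite_of_le hTS
  have hTp : IsPGroup p T := hS.to_le hTS
  have hNS : T ⊔ centralizerIn S T ≤ S := sup_le hTS inf_le_left
  haveI : Finite ↥(T ⊔ centralizerIn S T) := finite_of_le hNS
  have h1 : D.IsSubsystemOf (Cfsg.Agent.Lib.helper87.resSys E p) :=
    hD.2.2 _ (Cfsg.Agent.Lib.helper87.resSys_saturated hTp E hEsat)
      (Cfsg.Agent.Lib.helper87.exists_isPPrimeResidual hTp E hEsat).2.1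
  have h2 : (Cfsg.Agent.Lib.helper87.resSys E p).IsSubsystemOf (goodSys F E hT) :=
    Cfsg.Agent.Lib.helper87.resSys_le_of_mem (goodSys_mem_resFamily hS F hF E hEsat hEinv)
  intro α hα
  have hαD : T.subtype.comp α.toMonoidHom ∈ D.Hom T := (mem_autGroup_iff' D le_rfl α).mp hα
  have hαG := h2 T (h1 T hαD)
  obtain ⟨ψ, hψ, hψT, hψC⟩ := hαG.2 (Cfsg.Agent.Lib.helper87.isCentric_top E)
  have hval : ∀ y : ↥(T ⊔ centralizerIn S T), ψ y ∈ T ⊔ centralizerIn S T := by
    refine sup_forall_mem ψ _ ?_ ?_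
    · intro y hy
      have h3 : ψ y = ((α ⟨y, hy⟩ : T) : Ω) := hψT ⟨y, hy⟩
      rw [h3]
      exact Subgroup.mem_sup_left (α _).2
    · intro y hy
      have h3 : ψ y = (y : Ω) * ((y : Ω)⁻¹ * ψ y) := by group
      rw [h3]
      exact mul_mem (Subgroup.mem_sup_right hy) (Subgroup.mem_sup_left (hψC y hy))
  obtain ⟨β, hβ⟩ := Cfsg.Agent.Lib.helper89.exists_aut_of_mem F hψ hval
  refine ⟨β, ?_, fun x => ?_, fun c hc => ?_⟩
  · rw [mem_autGroup_iff' F hNS]
    have h3 : (T ⊔ centralizerIn S T).subtype.comp β.toMonoidHom = ψ :=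
      MonoidHom.ext fun y => hβ y
    rw [h3]
    exact hψ
  · rw [hβ, hψT]
    rfl
  · rw [hβ]
    refine Subgroup.mem_inf.mpr ⟨hψC c hc, ?_⟩
    rw [Subgroup.mem_centralizer_iff]
    intro t ht
    have hc2 : (c : Ω) ∈ Subgroup.centralizer (T : Set Ω) := hc.2
    have h3 : ψ (Subgroup.inclusion le_sup_left (α.symm ⟨t, ht⟩)) = t := by
      rw [hψT]
      show ((α (α.symm ⟨t, ht⟩) : T) : Ω) = t
      rw [MulEquiv.apply_symm_apply]
    have h4 : Subgroup.inclusion le_sup_left (α.symm ⟨t, ht⟩) * c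
        = c * Subgroup.inclusion le_sup_left (α.symm ⟨t, ht⟩) :=
      Subtype.ext (Subgroup.mem_centralizer_iff.mp hc2 _ (α.symm ⟨t, ht⟩).2)
    have h5 : t * ψ c = ψ c * t := by
      have h6 : ψ (Subgroup.inclusion le_sup_left (α.symm ⟨t, ht⟩)) * ψ c
          = ψ c * ψ (Subgroup.inclusion le_sup_left (α.symm ⟨t, ht⟩)) := by
        rw [← map_mul, ← map_mul, h4]
      rw [h3] at h6
      exact h6
    have h6 : t * (c : Ω) = (c : Ω) * t := Subgroup.mem_centralizer_iff.mp hc2 t ht
    have c1 : Commute t (c : Ω) := h6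
    have c2 : Commute t (ψ c) := h5
    exact c1.inv_right.mul_right c2

end Cfsg.Agent.Lib.helper87.Craven
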