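import Cfsg.Agent.Lib.helper88.CSE3
import Cfsg.Agent.Lib.helper87.WellPlaced
import Cfsg.Agent.Lib.helper53.PCore
import Cfsg.Agent.S5082
import Cfsg.Agent.S5097

/-!
Centralizers of normal subsystems (helper87): the largest subgroup `C_S(E)` of `C_S(T)` whose
centralizer system contains the normal subsystem `E` over `T`, from the key lemma `KLHyp`
(the elements `u⁻¹ ν(u)` of kernel maps `ν` on `P Y` are fixed by `Aut_E(P)`).

The candidate `cand` is the set of elements of `C_S(T)` fixed by every automorphism `ψ` in `F` of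
`P C_S(T)`, `P` centric in `E`, of order prime to `p`, restricting to an automorphism in `E` of `P`
and moving the elements of `C_S(T)` by elements of `Z(P)`.
-/

set_option autoImplicit false

namespace Cfsg.Agent.Lib.helper87.CseMax

open Cfsg Cfsg.FusionSystem
open Cfsg.Agent.Lib.helper88
open Cfsg.Agent.Lib.helper87.CenNormal
open Cfsg.Agent.Lib.helper87.Craven (sup_forall_mem)

variable {Ω : Type*} [Group Ω] {S : Subgroup Ω}

theorem eq_one_of_pow_coprime {G : Type*} [Group G] {p : ℕ} {x : G} {m k : ℕ} (hm : m.Coprime p)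
    (h1 : x ^ m = 1) (h2 : x ^ p ^ k = 1) : x = 1 := by
  have h3 : orderOf x ∣ Nat.gcd m (p ^ k) :=
    Nat.dvd_gcd (orderOf_dvd_of_pow_eq_one h1) (orderOf_dvd_of_pow_eq_one h2)
  have h4 : Nat.gcd m (p ^ k) = 1 := Nat.Coprime.pow_right k hm
  rw [h4, Nat.dvd_one] at h3
  exact orderOf_eq_one_iff.mp h3

/-- If every automorphism in `E` of `T` and of the essential subgroups of `E` lies in `C_F(Y)`,
then `E` is contained in `C_F(Y)` (Alperin–Goldschmidt). -/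
theorem le_cen_of_aut' [Finite S] {p : ℕ} [Fact p.Prime]
    (hS : IsPGroup p S) (F : FusionSystem S) {T : Subgroup Ω} (E : FusionSystem T)
    (hEsat : E.IsSaturated p) (hTS : T ≤ S) {Y : Subgroup Ω} (hY : Y ≤ centralizerIn S T)
    (h : ∀ P : Subgroup Ω, (P = T ∨ E.IsEssential p P) → ∀ a ∈ E.autGroup P,
      P.subtype.comp a.toMonoidHom ∈ F.centralizerHom Y P) :
    ∀ P : Subgroup Ω, E.Hom P ⊆ F.centralizerHom Y P := by
  classical
  have hfT : Finite T := finite_of_le hTS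
  have hTp : IsPGroup p T := hS.to_le hTS
  obtain ⟨C, hC⟩ := Cfsg.Agent.S5097.result F Y (hY.trans inf_le_left)
  have hTU : T ≤ centralizerIn S Y := by
    intro u hu
    refine Subgroup.mem_inf.mpr ⟨hTS hu, ?_⟩
    rw [Subgroup.mem_centralizer_iff]
    intro k hk
    have hk2 : k ∈ Subgroup.centralizer (T : Set Ω) := (hY hk).2
    exact (Subgroup.mem_centralizer_iff.mp hk2 u hu).symm
  have hle : E ≤ infSys E C hTU := by
    refine Cfsg.Agent.S5082.result p hTp E hEsat (infSys E C hTU) ?_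
    intro P hP a ha
    have hPT : P ≤ T := by
      rcases hP with rfl | hess
      · exact le_rfl
      · exact hess.1.1
    rw [mem_autGroup_iff' (infSys E C hTU) hPT]
    refine ⟨(mem_autGroup_iff' E hPT a).mp ha, ?_⟩
    rw [hC P]
    exact h P hP a ha
  intro P φ hφ
  have h1 := (hle P hφ).2
  rw [hC P] at h1
  exact h1

/-- A map of `F` extending `φ` and fixing `Y ≤ C_S(T)` elementwise puts `φ` in `C_F(Y)`. -/
theorem mem_cenHom_of_fix' (F : FusionSystem S) {T P R' Y : Subgroup Ω} (hTS : T ≤ S)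
    (hPT : P ≤ T) (hY : Y ≤ centralizerIn S T) {φ : P →* Ω} (hφ : φ ∈ F.Hom P)
    (hφT : ∀ x, φ x ∈ T) (hPR : P ≤ R') (hYR : Y ≤ R') {Ψ : R' →* Ω} (hΨ : Ψ ∈ F.Hom R')
    (hΨP : ∀ x : P, Ψ (Subgroup.inclusion hPR x) = φ x)
    (hΨY : ∀ y : Y, Ψ (Subgroup.inclusion hYR y) = y) :
    φ ∈ F.centralizerHom Y P := by
  have hcomm : ∀ u ∈ T, u ∈ centralizerIn S Y := by
    intro u hu
    refine Subgroup.mem_inf.mpr ⟨hTS hu, ?_⟩
    rw [Subgroup.mem_centralizer_iff]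
    intro h hh
    have hh2 : h ∈ Subgroup.centralizer (T : Set Ω) := (hY hh).2
    exact (Subgroup.mem_centralizer_iff.mp hh2 u hu).symm
  have hle : P ⊔ Y ≤ R' := sup_le hPR hYR
  refine ⟨hφ, fun u hu => hcomm u (hPT hu), fun x => hcomm _ (hφT x),
    Ψ.comp (Subgroup.inclusion hle), restrict_mem F hle hΨ, fun x => ?_, fun x => ?_⟩
  · exact hΨP x
  · exact hΨY x

/-- `ψ` is an automorphism in `F` of `P C_S(T)` extending the automorphism `a` in `E` of `P` and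
moving the elements of `C_S(T)` by elements of `Z(P)`. -/
def Gam (F : FusionSystem S) {T : Subgroup Ω} (E : FusionSystem T) (P : Subgroup Ω)
    (ψ : MulAut ↥(P ⊔ centralizerIn S T)) (a : MulAut P) : Prop :=
  ψ ∈ F.autGroup (P ⊔ centralizerIn S T) ∧ a ∈ E.autGroup P ∧
    (∀ x : P, ((ψ ⟨x, Subgroup.mem_sup_left x.2⟩ : ↥(P ⊔ centralizerIn S T)) : Ω) = a x) ∧
    ∀ c : ↥(P ⊔ centralizerIn S T), (c : Ω) ∈ centralizerIn S T →
      (c : Ω)⁻¹ * ((ψ c : ↥(P ⊔ centralizerIn S T)) : Ω) ∈ P ⊓ Subgroup.centralizer (P : Set Ω)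

theorem Gam.one (F : FusionSystem S) {T : Subgroup Ω} (E : FusionSystem T) (P : Subgroup Ω) :
    Gam F E P 1 1 := by
  refine ⟨Subgroup.one_mem _, Subgroup.one_mem _, fun x => rfl, fun c _ => ?_⟩
  show (c : Ω)⁻¹ * (c : Ω) ∈ _
  rw [inv_mul_cancel]
  exact Subgroup.one_mem _

theorem Gam.mul {F : FusionSystem S} {T : Subgroup Ω} {E : FusionSystem T} {P : Subgroup Ω}
    {ψ₁ ψ₂ : MulAut ↥(P ⊔ centralizerIn S T)} {a₁ a₂ : MulAut P} (h₁ : Gam F E P ψ₁ a₁)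
    (h₂ : Gam F E P ψ₂ a₂) : Gam F E P (ψ₁ * ψ₂) (a₁ * a₂) := by
  obtain ⟨h₁F, h₁E, h₁P, h₁C⟩ := h₁
  obtain ⟨h₂F, h₂E, h₂P, h₂C⟩ := h₂
  refine ⟨Subgroup.mul_mem _ h₁F h₂F, Subgroup.mul_mem _ h₁E h₂E, fun x => ?_, fun c hc => ?_⟩
  · have e1 : ψ₂ ⟨x, Subgroup.mem_sup_left x.2⟩
        = ⟨((a₂ x : P) : Ω), Subgroup.mem_sup_left (a₂ x).2⟩ := Subtype.ext (h₂P x)
    show ((ψ₁ (ψ₂ ⟨x, Subgroup.mem_sup_left x.2⟩) : ↥(P ⊔ centralizerIn S T)) : Ω) = a₁ (a₂ x)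
    rw [e1]
    exact h₁P (a₂ x)
  · have hζ := h₂C c hc
    have e1 : ψ₂ c = c * ⟨(c : Ω)⁻¹ * ((ψ₂ c : ↥(P ⊔ centralizerIn S T)) : Ω),
        Subgroup.mem_sup_left hζ.1⟩ := by
      apply Subtype.ext
      show ((ψ₂ c : ↥(P ⊔ centralizerIn S T)) : Ω)
        = (c : Ω) * ((c : Ω)⁻¹ * ((ψ₂ c : ↥(P ⊔ centralizerIn S T)) : Ω))
      group
    have e2 := h₁P ⟨(c : Ω)⁻¹ * ((ψ₂ c : ↥(P ⊔ centralizerIn S T)) : Ω), hζ.1⟩
    show (c : Ω)⁻¹ * ((ψ₁ (ψ₂ c) : ↥(P ⊔ centralizerIn S T)) : Ω) ∈ _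
    rw [e1, map_mul, Subgroup.coe_mul, e2, ← mul_assoc]
    refine Subgroup.mul_mem _ (h₁C c hc) (Subgroup.mem_inf.mpr ⟨(a₁ _).2, ?_⟩)
    exact aut_center_mem a₁ _ hζ.2

theorem Gam.pow {F : FusionSystem S} {T : Subgroup Ω} {E : FusionSystem T} {P : Subgroup Ω}
    {ψ : MulAut ↥(P ⊔ centralizerIn S T)} {a : MulAut P} (h : Gam F E P ψ a) (k : ℕ) :
    Gam F E P (ψ ^ k) (a ^ k) := by
  induction k with
  | zero =>
    rw [pow_zero, pow_zero]
    exact Gam.one F E P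
  | succ k ih =>
    rw [pow_succ, pow_succ]
    exact ih.mul h

/-- The candidate for `C_S(E)`. -/
def cand (p : ℕ) (F : FusionSystem S) {T : Subgroup Ω} (E : FusionSystem T) : Subgroup Ω where
  carrier := {x | x ∈ centralizerIn S T ∧
    ∀ (P : Subgroup Ω) (ψ : MulAut ↥(P ⊔ centralizerIn S T)) (a : MulAut P), E.IsCentric P →
      Gam F E P ψ a → (∃ m : ℕ, m.Coprime p ∧ ψ ^ m = 1) →
      ∀ hx : x ∈ P ⊔ centralizerIn S T, ψ ⟨x, hx⟩ = ⟨x, hx⟩}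
  mul_mem' := by
    rintro x y ⟨hx, hx'⟩ ⟨hy, hy'⟩
    refine ⟨Subgroup.mul_mem _ hx hy, fun P ψ a hP hG hm hxy => ?_⟩
    have e1 : (⟨x * y, hxy⟩ : ↥(P ⊔ centralizerIn S T))
        = ⟨x, Subgroup.mem_sup_right hx⟩ * ⟨y, Subgroup.mem_sup_right hy⟩ := rfl
    rw [e1, map_mul, hx' P ψ a hP hG hm, hy' P ψ a hP hG hm]
  one_mem' := by
    refine ⟨Subgroup.one_mem _, fun P ψ a hP hG hm h1 => ?_⟩
    exact map_one ψ
  inv_mem' := by
    rintro x ⟨hx, hx'⟩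
    refine ⟨Subgroup.inv_mem _ hx, fun P ψ a hP hG hm hxi => ?_⟩
    have e1 : (⟨x⁻¹, hxi⟩ : ↥(P ⊔ centralizerIn S T))
        = (⟨x, Subgroup.mem_sup_right hx⟩ : ↥(P ⊔ centralizerIn S T))⁻¹ := rfl
    rw [e1, map_inv, hx' P ψ a hP hG hm]

theorem cand_le (p : ℕ) (F : FusionSystem S) {T : Subgroup Ω} (E : FusionSystem T) :
    cand p F E ≤ centralizerIn S T := fun _ hx => hx.1

/-- The key lemma, as a hypothesis: the elements `u⁻¹ ν(u)` of kernel maps on `P X`, `P` centric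
in `E` and `X ≤ C_S(T)`, are fixed by `Aut_E(P)`. -/
def KLHyp (F : FusionSystem S) {T : Subgroup Ω} (E : FusionSystem T) : Prop :=
  ∀ P X : Subgroup Ω, E.IsCentric P → X ≤ centralizerIn S T → ∀ a ∈ E.autGroup P,
    ∀ z ∈ CSE.KSet F P X, ∀ hz : z ∈ P, ((a ⟨z, hz⟩ : P) : Ω) = z

/-- Every subgroup `Y` of `C_S(T)` with `E ≤ C_F(Y)` is contained in the candidate. -/
theorem le_cand [Finite S] {p : ℕ} [Fact p.Prime] (hS : IsPGroup p S) (F : FusionSystem S)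
    {T : Subgroup Ω} (E : FusionSystem T) (hTS : T ≤ S) (hKL : KLHyp F E)
    {Y : Subgroup Ω} (hY : Y ≤ centralizerIn S T)
    (hEY : ∀ P : Subgroup Ω, E.Hom P ⊆ F.centralizerHom Y P) : Y ≤ cand p F E := by
  intro y hy
  refine ⟨hY hy, fun P ψ a hPc hG hm hyU => ?_⟩
  obtain ⟨m, hmp, hψm⟩ := hm
  obtain ⟨hψF, haE, hψP, hψC⟩ := hG
  have hPT : P ≤ T := hPc.1
  have hPS : P ≤ S := hPT.trans hTS
  have hXS : centralizerIn S T ≤ S := inf_le_left
  have hUS : P ⊔ centralizerIn S T ≤ S := sup_le hPS hXS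
  have hVS : P ⊔ Y ≤ S := sup_le hPS (hY.trans hXS)
  have hVU : P ⊔ Y ≤ P ⊔ centralizerIn S T := sup_le_sup_left hY P
  have hφE : P.subtype.comp a.toMonoidHom ∈ E.Hom P := (mem_autGroup_iff' E hPT a).mp haE
  obtain ⟨-, -, -, θ₀, hθ₀, hθ₀P, hθ₀Y⟩ := hEY P hφE
  -- `θ`: the lift of `a` fixing `Y`, as an automorphism of `P Y`
  have hθ₀P' : ∀ (u : ↥(P ⊔ Y)) (hu : (u : Ω) ∈ P), θ₀ u = ((a ⟨u, hu⟩ : P) : Ω) := by
    intro u hu
    have e1 : u = Subgroup.inclusion le_sup_left (⟨u, hu⟩ : P) := Subtype.ext rfl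
    have h1 := hθ₀P ⟨u, hu⟩
    rw [← e1] at h1
    exact h1
  have hθ₀Y' : ∀ (u : ↥(P ⊔ Y)), (u : Ω) ∈ Y → θ₀ u = (u : Ω) := by
    intro u hu
    have e1 : u = Subgroup.inclusion le_sup_right (⟨u, hu⟩ : Y) := Subtype.ext rfl
    have h1 := hθ₀Y ⟨u, hu⟩
    rw [← e1] at h1
    exact h1
  have hθ₀maps : ∀ u : ↥(P ⊔ Y), θ₀ u ∈ P ⊔ Y := by
    refine sup_forall_mem θ₀ _ ?_ ?_
    · intro u hu
      rw [hθ₀P' u hu]
      exact Subgroup.mem_sup_left (a _).2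
    · intro u hu
      rw [hθ₀Y' u hu]
      exact Subgroup.mem_sup_right hu
  obtain ⟨θ, hθ, hθx⟩ := CSE.exists_aut_of_maps F hθ₀ hθ₀maps
  -- `ψ` restricted to `P Y`
  have hψhom : (P ⊔ centralizerIn S T).subtype.comp ψ.toMonoidHom
      ∈ F.Hom (P ⊔ centralizerIn S T) := (mem_autGroup_iff' F hUS ψ).mp hψF
  have hψ₁ := restrict_mem F hVU hψhom
  have hψP' : ∀ (u : ↥(P ⊔ Y)) (hu : (u : Ω) ∈ P),
      ((ψ (Subgroup.inclusion hVU u) : ↥(P ⊔ centralizerIn S T)) : Ω) = ((a ⟨u, hu⟩ : P) : Ω) := by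
    intro u hu
    have e1 : Subgroup.inclusion hVU u
        = ⟨((⟨u, hu⟩ : P) : Ω), Subgroup.mem_sup_left hu⟩ := Subtype.ext rfl
    rw [e1]
    exact hψP ⟨u, hu⟩
  have hψ₁maps : ∀ u : ↥(P ⊔ Y), (((P ⊔ centralizerIn S T).subtype.comp ψ.toMonoidHom).comp
      (Subgroup.inclusion hVU)) u ∈ P ⊔ Y := by
    refine sup_forall_mem _ _ ?_ ?_
    · intro u hu
      show ((ψ (Subgroup.inclusion hVU u) : ↥(P ⊔ centralizerIn S T)) : Ω) ∈ P ⊔ Y
      rw [hψP' u hu]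
      exact Subgroup.mem_sup_left (a _).2
    · intro u hu
      show ((ψ (Subgroup.inclusion hVU u) : ↥(P ⊔ centralizerIn S T)) : Ω) ∈ P ⊔ Y
      have h3 := (hψC (Subgroup.inclusion hVU u) (hY hu)).1
      have e2 : ((ψ (Subgroup.inclusion hVU u) : ↥(P ⊔ centralizerIn S T)) : Ω)
          = (u : Ω) * ((u : Ω)⁻¹
            * ((ψ (Subgroup.inclusion hVU u) : ↥(P ⊔ centralizerIn S T)) : Ω)) := by group
      rw [e2]
      exact Subgroup.mul_mem _ (Subgroup.mem_sup_right hu) (Subgroup.mem_sup_left h3)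
  obtain ⟨ψ', hψ', hψ'x⟩ := CSE.exists_aut_of_maps F hψ₁ hψ₁maps
  have hψ'x' : ∀ u : ↥(P ⊔ Y), ((ψ' u : ↥(P ⊔ Y)) : Ω)
      = ((ψ (Subgroup.inclusion hVU u) : ↥(P ⊔ centralizerIn S T)) : Ω) := hψ'x
  -- the kernel map `ψ' θ⁻¹`
  have hνA : ψ' * θ⁻¹ ∈ F.autGroup (P ⊔ Y) := Subgroup.mul_mem _ hψ' (Subgroup.inv_mem _ hθ)
  have hνF := (mem_autGroup_iff' F hVS _).mp hνA
  have hθinvP : ∀ (u : ↥(P ⊔ Y)) (hu : (u : Ω) ∈ P),
      θ⁻¹ u = ⟨((a⁻¹ ⟨u, hu⟩ : P) : Ω), Subgroup.mem_sup_left (a⁻¹ ⟨u, hu⟩).2⟩ := by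
    intro u hu
    rw [MulAut.inv_apply, MulEquiv.symm_apply_eq]
    apply Subtype.ext
    rw [hθx, hθ₀P' _ (a⁻¹ ⟨u, hu⟩).2]
    show (u : Ω) = ((a (a⁻¹ ⟨u, hu⟩) : P) : Ω)
    rw [MulAut.apply_inv_self]
  have hθinvY : ∀ (u : ↥(P ⊔ Y)), (u : Ω) ∈ Y → θ⁻¹ u = u := by
    intro u hu
    rw [MulAut.inv_apply, MulEquiv.symm_apply_eq]
    apply Subtype.ext
    rw [hθx, hθ₀Y' u hu]
  have hK : CSE.KMap F P Y ((P ⊔ Y).subtype.comp (ψ' * θ⁻¹).toMonoidHom) := by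
    refine ⟨hνF, ?_, ?_⟩
    · intro u hu
      show ((ψ' (θ⁻¹ u) : ↥(P ⊔ Y)) : Ω) = u
      rw [hθinvP u hu, hψ'x', hψP' _ (a⁻¹ ⟨u, hu⟩).2]
      show ((a (a⁻¹ ⟨u, hu⟩) : P) : Ω) = u
      rw [MulAut.apply_inv_self]
    · intro c hc
      show (c : Ω)⁻¹ * ((ψ' (θ⁻¹ c) : ↥(P ⊔ Y)) : Ω) ∈ P
      rw [hθinvY c hc, hψ'x']
      exact (hψC (Subgroup.inclusion hVU c) (hY hc)).1
  -- the element `ζ = y⁻¹ ψ(y)` is fixed by `a`
  have hyV : y ∈ P ⊔ Y := Subgroup.mem_sup_right hy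
  obtain ⟨ζ, hζdef⟩ : ∃ ζ : Ω, ζ = y⁻¹ * ((ψ ⟨y, hyU⟩ : ↥(P ⊔ centralizerIn S T)) : Ω) :=
    ⟨_, rfl⟩
  have hζP : ζ ∈ P := by
    rw [hζdef]
    exact (hψC ⟨y, hyU⟩ (hY hy)).1
  have hζK : ζ ∈ CSE.KSet F P Y := by
    refine ⟨_, hK, ⟨y, hyV⟩, ?_⟩
    show ζ = y⁻¹ * ((ψ' (θ⁻¹ ⟨y, hyV⟩) : ↥(P ⊔ Y)) : Ω)
    rw [hθinvY ⟨y, hyV⟩ hy, hψ'x', hζdef]
    rfl
  have haζ := hKL P Y hPc hY a haE ζ hζK hζP
  obtain ⟨zU, hzU⟩ : ∃ zU : ↥(P ⊔ centralizerIn S T), zU = ⟨ζ, Subgroup.mem_sup_left hζP⟩ :=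
    ⟨_, rfl⟩
  have hψζ : ψ zU = zU := by
    rw [hzU]
    apply Subtype.ext
    have h1 := hψP ⟨ζ, hζP⟩
    rw [haζ] at h1
    exact h1
  have hψy : ψ ⟨y, hyU⟩ = ⟨y, hyU⟩ * zU := by
    rw [hzU]
    apply Subtype.ext
    show ((ψ ⟨y, hyU⟩ : ↥(P ⊔ centralizerIn S T)) : Ω) = y * ζ
    rw [hζdef]
    group
  have hpow : ∀ k : ℕ, (ψ ^ k) ⟨y, hyU⟩ = ⟨y, hyU⟩ * zU ^ k := by
    intro k
    induction k with
    | zero => rw [pow_zero, pow_zero, mul_one, MulAut.one_apply]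
    | succ k ih =>
      rw [pow_succ' ψ k, MulAut.mul_apply, ih, map_mul, map_pow, hψy, hψζ, pow_succ' zU k,
        mul_assoc]
  have h1 := hpow m
  rw [hψm, MulAut.one_apply] at h1
  have h2 : zU ^ m = 1 := by
    have h3 : (⟨y, hyU⟩ : ↥(P ⊔ centralizerIn S T)) * zU ^ m = ⟨y, hyU⟩ * 1 := by
      rw [mul_one]
      exact h1.symm
    exact mul_left_cancel h3
  obtain ⟨k, hk⟩ := (hS.to_le hUS) zU
  have h4 : zU = 1 := eq_one_of_pow_coprime hmp h2 hk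
  rw [hψy, h4, mul_one]

/-- The automorphisms in `E` of `P` with a lift to `P C_S(T)` in `F` fixing `Y` elementwise. -/
def liftFix (F : FusionSystem S) {T : Subgroup Ω} (E : FusionSystem T) (P Y : Subgroup Ω) :
    Subgroup (E.autGroup P) where
  carrier := {b | ∃ ψ ∈ F.autGroup (P ⊔ centralizerIn S T),
    (∀ x : P, ((ψ ⟨x, Subgroup.mem_sup_left x.2⟩ : ↥(P ⊔ centralizerIn S T)) : Ω)
      = (b : MulAut P) x) ∧
    ∀ (y : Ω) (hy : y ∈ P ⊔ centralizerIn S T), y ∈ Y → ψ ⟨y, hy⟩ = ⟨y, hy⟩}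
  mul_mem' := by
    rintro b₁ b₂ ⟨ψ₁, h₁, h₁P, h₁Y⟩ ⟨ψ₂, h₂, h₂P, h₂Y⟩
    refine ⟨ψ₁ * ψ₂, Subgroup.mul_mem _ h₁ h₂, fun x => ?_, fun y hy hyY => ?_⟩
    · have e1 : ψ₂ ⟨x, Subgroup.mem_sup_left x.2⟩
          = ⟨(((b₂ : MulAut P) x : P) : Ω), Subgroup.mem_sup_left ((b₂ : MulAut P) x).2⟩ :=
        Subtype.ext (h₂P x)
      show ((ψ₁ (ψ₂ ⟨x, Subgroup.mem_sup_left x.2⟩) : ↥(P ⊔ centralizerIn S T)) : Ω)
        = (b₁ : MulAut P) ((b₂ : MulAut P) x)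
      rw [e1]
      exact h₁P _
    · rw [MulAut.mul_apply, h₂Y y hy hyY, h₁Y y hy hyY]
  one_mem' := ⟨1, Subgroup.one_mem _, fun x => rfl, fun y hy _ => rfl⟩
  inv_mem' := by
    rintro b ⟨ψ, h, hP, hY⟩
    refine ⟨ψ⁻¹, Subgroup.inv_mem _ h, fun x => ?_, fun y hy hyY => ?_⟩
    · have e1 : ψ⁻¹ ⟨x, Subgroup.mem_sup_left x.2⟩
          = ⟨((((b : MulAut P)⁻¹ x : P)) : Ω), Subgroup.mem_sup_left (((b : MulAut P)⁻¹ x)).2⟩ := by
        rw [MulAut.inv_apply, MulEquiv.symm_apply_eq]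
        apply Subtype.ext
        rw [hP]
        show (x : Ω) = (((b : MulAut P) ((b : MulAut P)⁻¹ x) : P) : Ω)
        rw [MulAut.apply_inv_self]
      rw [e1]
      rfl
    · rw [MulAut.inv_apply, MulEquiv.symm_apply_eq, hY y hy hyY]

/-- `E` is contained in the centralizer system of the candidate. -/
theorem cand_mem [Finite S] {p : ℕ} [Fact p.Prime] (hS : IsPGroup p S) (F : FusionSystem S)
    (hF : F.IsSaturated p) {T : Subgroup Ω} (E : FusionSystem T) (hE : E.IsNormalIn F p) :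
    ∀ P : Subgroup Ω, E.Hom P ⊆ F.centralizerHom (cand p F E) P := by
  classical
  have hEsat := hE.1.1
  have hEinv := hE.1.2.2
  have hT := hEinv.2.1
  have hTS := hT.1
  have hfT : Finite T := finite_of_le hTS
  have hTp : IsPGroup p T := hS.to_le hTS
  have hcX : cand p F E ≤ centralizerIn S T := cand_le p F E
  refine le_cen_of_aut' hS F E hEsat hTS hcX ?_
  intro P hP a ha
  have hPc : E.IsCentric P := by
    rcases hP with rfl | hess
    · exact Cfsg.Agent.Lib.helper87.isCentric_top E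
    · exact hess.1
  have hPfn : E.IsFullyNormalized P := by
    rcases hP with rfl | hess
    · refine ⟨le_rfl, fun Q' _ => ?_⟩
      have hfN : Finite ↥(normalizerIn P P) := finite_of_le (inf_le_left.trans hTS)
      exact Subgroup.card_le_of_le
        (fun y hy => Subgroup.mem_inf.mpr ⟨hy.1, Subgroup.le_normalizer hy.1⟩)
    · exact hess.2.1
  obtain ⟨⟨-, R, hR⟩, -⟩ := fullyAutomized_receptive_of_fullyNormalized hTp E hEsat hPfn
  have hPT : P ≤ T := hPc.1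
  have hPS : P ≤ S := hPT.trans hTS
  have hXS : centralizerIn S T ≤ S := inf_le_left
  have hUS : P ⊔ centralizerIn S T ≤ S := sup_le hPS hXS
  have : Finite P := finite_of_le hPS
  have : Finite ↥(P ⊔ centralizerIn S T) := finite_of_le hUS
  have : Finite (MulAut P) := Cfsg.Agent.Lib.helper87.finite_mulAut_of_le hPS
  have : Finite (MulAut ↥(P ⊔ centralizerIn S T)) :=
    Cfsg.Agent.Lib.helper87.finite_mulAut_of_le hUS
  have hsup := Cfsg.Agent.Lib.helper53.pResidual_sup_sylow R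
  have hB : (⊤ : Subgroup (E.autGroup P)) ≤ liftFix F E P (cand p F E) := by
    rw [← hsup]
    refine sup_le ?_ ?_
    · unfold Cfsg.pResidual
      rw [Subgroup.closure_le]
      intro b hb
      have hb : Nat.Coprime (orderOf b) p := hb
      have hbE : (b : MulAut P) ∈ E.autGroup P := b.2
      obtain ⟨ê, hê, hêP, hêX⟩ := CSE.exists_iso_lift hS F hF E hE hPc
        ((mem_autGroup_iff E hPT (b : MulAut P)).mp hbE) (le_refl (centralizerIn S T))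
      have hG : Gam F E P ê (b : MulAut P) := ⟨(mem_autGroup_iff F hUS ê).mpr hê, hbE, hêP, hêX⟩
      have hM0 : orderOf ê ≠ 0 := (orderOf_pos ê).ne'
      obtain ⟨e, m', hm', hM⟩ := Nat.exists_eq_pow_mul_and_not_dvd hM0 p
        (Nat.Prime.ne_one Fact.out)
      have hm'p : m'.Coprime p := ((Nat.Prime.coprime_iff_not_dvd Fact.out).mpr hm').symm
      rcases Nat.lt_or_ge 1 (orderOf b) with h1 | h1
      · obtain ⟨z, -, hz⟩ := Nat.exists_mul_mod_eq_one_of_coprime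
          (Nat.Coprime.pow_left e hb.symm) h1
        have hbk : b ^ (p ^ e * z) = b := by
          rw [← pow_mod_orderOf, hz, pow_one]
        have hbk' : (b : MulAut P) ^ (p ^ e * z) = (b : MulAut P) := by
          have h2 := congrArg (fun c : E.autGroup P => (c : MulAut P)) hbk
          simpa using h2
        have hGk := hG.pow (p ^ e * z)
        rw [hbk'] at hGk
        have hord : (ê ^ (p ^ e * z)) ^ m' = 1 := by
          rw [← pow_mul]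
          have e3 : p ^ e * z * m' = orderOf ê * z := by
            rw [hM]
            ring
          rw [e3, pow_mul, pow_orderOf_eq_one, one_pow]
        exact ⟨ê ^ (p ^ e * z), hGk.1, hGk.2.2.1, fun y hy hyc =>
          hyc.2 P _ _ hPc hGk ⟨m', hm'p, hord⟩ hy⟩
      · have h2 : orderOf b = 1 := le_antisymm h1 (orderOf_pos b)
        rw [orderOf_eq_one_iff] at h2
        rw [h2]
        exact Subgroup.one_mem _
    · rw [hR]
      intro b hb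
      have hb' : (b : MulAut P) ∈ autInducedBy T P := Subgroup.mem_subgroupOf.mp hb
      obtain ⟨t, ht, htx⟩ := (mem_autInducedBy_iff T P _).mp hb'
      have htN : t ∈ Subgroup.normalizer (P : Set Ω) := by
        apply mem_normalizer_of_conj_mem
        intro x hx
        rw [← htx ⟨x, hx⟩]
        exact ((b : MulAut P) ⟨x, hx⟩).2
      have htNU : t ∈ normalizerIn S (P ⊔ centralizerIn S T) :=
        CSE.normalizerIn_T_le hTS hPT (le_refl (centralizerIn S T))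
          (Subgroup.mem_inf.mpr ⟨ht, htN⟩)
      refine ⟨conjAut _ t htNU.2, autInducedBy_le_autGroup F hUS (conjAut_mem S _ t htNU.2 htNU.1),
        fun x => ?_, fun y hy hyc => ?_⟩
      · rw [conjAut_apply, htx]
      · apply Subtype.ext
        rw [conjAut_apply]
        show t * y * t⁻¹ = y
        have h3 := CSE.comm_of_mem (le_refl (centralizerIn S T)) hyc.1 ht
        rw [← h3, mul_inv_cancel_right]
  obtain ⟨ψ, hψ, hψP, hψY⟩ := hB (Subgroup.mem_top (⟨a, ha⟩ : E.autGroup P))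
  have hφF : P.subtype.comp a.toMonoidHom ∈ F.Hom P :=
    hEinv.1 P ((mem_autGroup_iff' E hPT a).mp ha)
  exact mem_cenHom_of_fix' F hTS hPT hcX hφF (fun x => hPT (a x).2) le_sup_left
    (hcX.trans le_sup_right) ((mem_autGroup_iff' F hUS ψ).mp hψ) (fun x => hψP x)
    (fun y => congrArg Subtype.val (hψY y _ y.2))

/-- From the key lemma: among the subgroups `Y` of `C_S(T)` with `E ≤ C_F(Y)` there is a
largest one. -/
theorem cse_exists [Finite S] (p : ℕ) [Fact p.Prime] (hS : IsPGroup p S) (F : FusionSystem S)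
    (hF : F.IsSaturated p) {T : Subgroup Ω} (E : FusionSystem T) (hE : E.IsNormalIn F p)
    (hKL : KLHyp F E) :
    ∃ C : Subgroup Ω, C ≤ centralizerIn S T ∧
      (∀ P : Subgroup Ω, E.Hom P ⊆ F.centralizerHom C P) ∧
      ∀ Y : Subgroup Ω, Y ≤ centralizerIn S T →
        (∀ P : Subgroup Ω, E.Hom P ⊆ F.centralizerHom Y P) → Y ≤ C :=
  ⟨cand p F E, cand_le p F E, cand_mem hS F hF E hE,
    fun _ hY hEY => le_cand hS F E hE.1.2.2.2.1.1 hKL hY hEY⟩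

end Cfsg.Agent.Lib.helper87.CseMax
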