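import Cfsg.Agent.Lib.helper87.ConjSystem
import Cfsg.Prelude.Def_TwoFusion

/-!
Saturated fusion systems over a direct product `S = S₁ × S₂` of strongly closed subgroups: the full
subsystem on `S₁` and the subsystem of maps extending trivially to `S₂`.
-/

set_option autoImplicit false

namespace Cfsg.Agent.Lib.helper87

open Cfsg Cfsg.FusionSystem

variable {Ω : Type*} [Group Ω] {S : Subgroup Ω}

/-- The full subsystem of a saturated system on a strongly closed subgroup `S₁` on which every element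
of `S` acts as an inner automorphism is saturated. -/
theorem fullSub_saturated [Finite S] {p : ℕ} [Fact p.Prime] (F : FusionSystem S)
    (hF : F.IsSaturated p) {S₁ : Subgroup Ω} (h₁ : F.StronglyClosed S₁)
    (hinn : ∀ g ∈ S, ∃ s ∈ S₁, ∀ x ∈ S₁, g * x * g⁻¹ = s * x * s⁻¹)
    (R : FusionSystem S₁) (hR : ∀ P : Subgroup Ω, P ≤ S₁ → R.Hom P = F.Hom P) : R.IsSaturated p := by
  intro P hP
  have hS₁S := h₁.1
  obtain ⟨Q, hPQ, hfa, hrec⟩ := hF P (hP.trans hS₁S)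
  have hQ : Q ≤ S₁ := Cfsg.Agent.Lib.helper88.stronglyClosed_isConj_le F h₁ hP hPQ
  refine ⟨Q, ?_, ?_, ?_⟩
  · obtain ⟨φ, hφ, hr⟩ := hPQ
    refine ⟨φ, ?_, hr⟩
    rw [hR P hP]
    exact hφ
  · have hAut : R.autGroup Q = F.autGroup Q := by
      unfold FusionSystem.autGroup
      rw [hR Q hQ]
    have hInd : autInducedBy S₁ Q = autInducedBy S Q := by
      apply le_antisymm (Cfsg.Agent.Lib.helper88.autInducedBy_mono hS₁S Q)
      intro a ha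
      obtain ⟨g, hg, hga⟩ := (Cfsg.Agent.Lib.helper88.mem_autInducedBy_iff S Q a).mp ha
      obtain ⟨s, hs, hsg⟩ := hinn g hg
      exact (Cfsg.Agent.Lib.helper88.mem_autInducedBy_iff S₁ Q a).mpr
        ⟨s, hs, fun x => (hga x).trans (hsg x (hQ x.2))⟩
    obtain ⟨-, R₀, hR₀⟩ := hfa
    refine ⟨hQ, ?_⟩
    rw [hAut, hInd]
    exact ⟨R₀, hR₀⟩
  · refine ⟨hQ, fun P' φ hφ hr => ?_⟩
    have hP' : P' ≤ S₁ := (R.le_of_mem hφ).1
    have hφF : φ ∈ F.Hom P' := by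
      rw [← hR P' hP']
      exact hφ
    obtain ⟨ψ, hψ, hψeq⟩ := hrec.2 P' φ hφF hr
    have hle : extender S₁ P' φ ≤ extender S P' φ := by
      refine (Subgroup.closure_le _).mpr ?_
      rintro g ⟨hgS, hgN, h, hh, hheq⟩
      exact Subgroup.subset_closure ⟨hS₁S hgS, hgN, h, hS₁S hh, hheq⟩
    have hextS₁ : extender S₁ P' φ ≤ S₁ :=
      (Cfsg.Agent.Lib.helper88.extender_le_normalizerIn S₁ P' φ).trans inf_le_left
    refine ⟨ψ.comp (Subgroup.inclusion hle), ?_, fun x hx hN => hψeq x hx (hle hN)⟩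
    rw [hR _ hextS₁]
    exact Cfsg.Agent.Lib.helper88.restrict_mem F hle hψ

/-- Transport of a map of `F` along an `F`-automorphism of a subgroup `T`. -/
theorem exists_transport (F : FusionSystem S) {T : Subgroup Ω} (hTS : T ≤ S) {α : MulAut T}
    (hα : α ∈ F.autGroup T) {P : Subgroup Ω} (hPT : P ≤ T) {φ : P →* Ω} (hφ : φ ∈ F.Hom P)
    (hφT : ∀ x : P, φ x ∈ T) : ∃ χ ∈ F.Hom (imgAut T P α), ConjRel α φ χ := by
  have hαF : T.subtype.comp α.toMonoidHom ∈ F.Hom T :=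
    (Cfsg.Agent.Lib.helper88.mem_autGroup_iff' F hTS α).mp hα
  have hres : (T.subtype.comp α.toMonoidHom).comp (Subgroup.inclusion hPT) ∈ F.Hom P :=
    hom_comp_inclusion F hαF hPT
  have hrange : ((T.subtype.comp α.toMonoidHom).comp (Subgroup.inclusion hPT)).range = imgAut T P α := by
    ext y
    rw [mem_imgAut]
    constructor
    · rintro ⟨x, rfl⟩
      exact ⟨⟨x, hPT x.2⟩, x.2, rfl⟩
    · rintro ⟨s, hs, rfl⟩
      exact ⟨⟨s, hs⟩, rfl⟩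
  obtain ⟨e, he, hex⟩ := Cfsg.Agent.Lib.helper88.exists_isoEquiv F hres hrange
  have h₁ : ∀ y : ↥(imgAut T P α), (P.subtype.comp e.symm.toMonoidHom) y ∈ P := fun y => (e.symm y).2
  have hc₁ := F.comp_mem he.2 hφ h₁
  have h₂ : ∀ y : ↥(imgAut T P α),
      (φ.comp ((P.subtype.comp e.symm.toMonoidHom).codRestrict P h₁)) y ∈ T := fun y => hφT _
  have hc₂ := F.comp_mem hc₁ hαF h₂
  refine ⟨_, hc₂, ?_⟩
  intro x y s t hs ht hy
  have hy' : y = e x := by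
    apply Subtype.ext
    rw [hy, hex x]
    have : s = ⟨x, hPT x.2⟩ := Subtype.ext hs
    rw [this]
    rfl
  have h3 : ((P.subtype.comp e.symm.toMonoidHom).codRestrict P h₁) y = x := by
    apply Subtype.ext
    show ((e.symm y : P) : Ω) = x
    rw [hy', MulEquiv.symm_apply_apply]
  have h4 : (⟨(φ.comp ((P.subtype.comp e.symm.toMonoidHom).codRestrict P h₁)) y, h₂ y⟩ : T) = t := by
    apply Subtype.ext
    show φ (((P.subtype.comp e.symm.toMonoidHom).codRestrict P h₁) y) = t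
    rw [h3, ht]
  show ((α ⟨(φ.comp ((P.subtype.comp e.symm.toMonoidHom).codRestrict P h₁)) y, h₂ y⟩ : T) : Ω) = α t
  rw [h4]

/-- If every element of `S` acts on the strongly closed subgroup `S₁` as an inner automorphism of `S₁`, every
`F`-automorphism of `S₁` extends to an `F`-automorphism of `S`. -/
theorem exists_aut_extension [Finite S] {p : ℕ} [Fact p.Prime] (hS : IsPGroup p S) (F : FusionSystem S)
    (hF : F.IsSaturated p) {S₁ : Subgroup Ω} (h₁ : F.StronglyClosed S₁)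
    (hinn : ∀ g ∈ S, ∃ s ∈ S₁, ∀ x ∈ S₁, g * x * g⁻¹ = s * x * s⁻¹) {α : MulAut S₁}
    (hα : α ∈ F.autGroup S₁) :
    ∃ β ∈ F.autGroup S, ∀ x : S₁, ((β ⟨x, h₁.1 x.2⟩ : S) : Ω) = α x := by
  have hS₁S := h₁.1
  have hrec : F.IsReceptive S₁ :=
    (Cfsg.Agent.Lib.helper88.fullyAutomized_receptive_of_fullyNormalized hS F hF
      (Cfsg.Agent.Lib.helper88.fullyNormalized_of_stronglyClosed F h₁)).2
  have hαF : S₁.subtype.comp α.toMonoidHom ∈ F.Hom S₁ :=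
    (Cfsg.Agent.Lib.helper88.mem_autGroup_iff' F hS₁S α).mp hα
  have hrange : (S₁.subtype.comp α.toMonoidHom).range = S₁ := by
    ext y
    constructor
    · rintro ⟨x, rfl⟩
      exact (α x).2
    · intro hy
      exact ⟨α⁻¹ ⟨y, hy⟩, by simp⟩
  obtain ⟨ψ, hψ, hψeq⟩ := Cfsg.Agent.Lib.helper89.exists_extension F hrec hαF hrange S (by
    intro g hg
    refine ⟨hg, ?_, ?_⟩
    · rw [Subgroup.mem_normalizer_iff]
      intro x
      constructor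
      · intro hx
        exact Cfsg.Agent.Lib.helper89.conj_mem_of_stronglyClosed F h₁ hg hx
      · intro hx
        have h1 := Cfsg.Agent.Lib.helper89.conj_mem_of_stronglyClosed F h₁ (S.inv_mem hg) hx
        have h2 : g⁻¹ * (g * x * g⁻¹) * g⁻¹⁻¹ = x := by group
        rwa [h2] at h1
    · obtain ⟨s, hs, hsg⟩ := hinn g hg
      refine ⟨((α ⟨s, hs⟩ : S₁) : Ω), hS₁S (α ⟨s, hs⟩).2, ?_⟩
      intro x hx
      have h1 : (⟨g * (x : Ω) * g⁻¹, hx⟩ : S₁) = ⟨s, hs⟩ * x * ⟨s, hs⟩⁻¹ :=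
        Subtype.ext (hsg x x.2)
      show ((α ⟨g * (x : Ω) * g⁻¹, hx⟩ : S₁) : Ω) = _
      rw [h1, map_mul, map_mul, map_inv]
      rfl)
  obtain ⟨β, hβ⟩ := Cfsg.Agent.Lib.helper89.exists_aut_of_mem F hψ (fun x => (F.le_of_mem hψ).2 x)
  refine ⟨β, ?_, fun x => ?_⟩
  · rw [Cfsg.Agent.Lib.helper88.mem_autGroup_iff' F le_rfl]
    have h1 : S.subtype.comp β.toMonoidHom = ψ := MonoidHom.ext fun x => hβ x
    rw [h1]
    exact hψ
  · rw [hβ]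
    exact hψeq x x.2 (hS₁S x.2)

section Prod

variable {S₁ S₂ : Subgroup Ω}

theorem idp_inner (hprod : IsInternalDirectProduct S₁ S₂ S) :
    ∀ g ∈ S, ∃ s ∈ S₁, ∀ x ∈ S₁, g * x * g⁻¹ = s * x * s⁻¹ := by
  obtain ⟨-, -, hcomm, -, hsup⟩ := hprod
  intro g hg
  rw [← hsup] at hg
  obtain ⟨s, hs, t, ht, rfl⟩ := Cfsg.Agent.Lib.helper89.exists_mul_of_mem_sup (T := S₁) (R := S₂)
    (by
      intro r hr t ht
      have h1 : r * t * r⁻¹ = t := by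
        rw [← hcomm t ht r hr, mul_inv_cancel_right]
      rw [h1]
      exact ht) hg
  refine ⟨s, hs, fun x hx => ?_⟩
  have h1 : t * x * t⁻¹ = x := by
    rw [← hcomm x hx t ht, mul_inv_cancel_right]
  calc s * t * x * (s * t)⁻¹ = s * (t * x * t⁻¹) * s⁻¹ := by group
    _ = s * x * s⁻¹ := by rw [h1]

theorem idp_le_centralizerIn (hprod : IsInternalDirectProduct S₁ S₂ S) : S₁ ≤ centralizerIn S S₂ := by
  obtain ⟨h1, -, hcomm, -, -⟩ := hprod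
  intro x hx
  refine ⟨h1 hx, ?_⟩
  show x ∈ Subgroup.centralizer (S₂ : Set Ω)
  rw [Subgroup.mem_centralizer_iff]
  intro b hb
  exact (hcomm x hx b hb).symm

/-- The subsystem of maps extending trivially to `S₂` is invariant under `Aut_F(S₁)`. -/
theorem centSub_autInvariant [Finite S] {p : ℕ} [Fact p.Prime] (hS : IsPGroup p S) (F : FusionSystem S)
    (hF : F.IsSaturated p) (hprod : IsInternalDirectProduct S₁ S₂ S) (h₁ : F.StronglyClosed S₁)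
    (h₂ : F.StronglyClosed S₂) (R' : FusionSystem S₁)
    (hR' : ∀ P : Subgroup Ω, P ≤ S₁ → R'.Hom P = F.centralizerHom S₂ P) :
    Cfsg.Agent.Lib.helper88.AutInvariant R' F := by
  have hS₁S := h₁.1
  have hS₂S := h₂.1
  have hS₁C := idp_le_centralizerIn hprod
  intro P hPT φ hφ α hα
  rw [hR' P hPT] at hφ
  obtain ⟨hφF, hPC, hφC, φ', hφ', hφ'P, hφ'S₂⟩ := hφ
  obtain ⟨β, hβ, hβα⟩ := exists_aut_extension hS F hF h₁ (idp_inner hprod) hα
  have hsupS : P ⊔ S₂ ≤ S := sup_le (hPT.trans hS₁S) hS₂S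
  have hφ'S : ∀ y, φ' y ∈ S := (F.le_of_mem hφ').2
  obtain ⟨χ, hχ, hrel⟩ := exists_transport F le_rfl hβ hsupS hφ' hφ'S
  have hle1 : imgAut S₁ P α ≤ imgAut S (P ⊔ S₂) β := by
    intro y hy
    obtain ⟨x, hx, rfl⟩ := mem_imgAut.mp hy
    exact mem_imgAut.mpr ⟨⟨x, hS₁S x.2⟩, Subgroup.mem_sup_left hx, hβα x⟩
  have hβinv : β⁻¹ ∈ F.autGroup S := inv_mem hβ
  have hβS₂ : ∀ (s : Ω) (hs : s ∈ S₂), ((β⁻¹ ⟨s, hS₂S hs⟩ : S) : Ω) ∈ S₂ := by
    intro s hs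
    have h1 : (S.subtype.comp (β⁻¹ : MulAut S).toMonoidHom).comp (Subgroup.inclusion hS₂S) ∈ F.Hom S₂ :=
      hom_comp_inclusion F ((Cfsg.Agent.Lib.helper88.mem_autGroup_iff' F le_rfl _).mp hβinv) hS₂S
    exact h₂.2 S₂ le_rfl _ h1 ⟨s, hs⟩
  have hle2 : S₂ ≤ imgAut S (P ⊔ S₂) β := by
    intro s hs
    refine mem_imgAut.mpr ⟨β⁻¹ ⟨s, hS₂S hs⟩, Subgroup.mem_sup_right (hβS₂ s hs), ?_⟩
    rw [MulAut.apply_inv_self]
  have hle : imgAut S₁ P α ⊔ S₂ ≤ imgAut S (P ⊔ S₂) β := sup_le hle1 hle2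
  have hφS₁ : ∀ x : P, φ x ∈ S₁ := fun x => h₁.2 P hPT φ hφF x
  -- the value of `χ` on `α x`
  have hval : ∀ (x : P) (hy : ((α ⟨x, hPT x.2⟩ : S₁) : Ω) ∈ imgAut S (P ⊔ S₂) β),
      χ ⟨(α ⟨x, hPT x.2⟩ : S₁), hy⟩ = ((α ⟨φ x, hφS₁ x⟩ : S₁) : Ω) := by
    intro x hy
    have h1 := hrel (Subgroup.inclusion le_sup_left x) ⟨(α ⟨x, hPT x.2⟩ : S₁), hy⟩
      ⟨x, hS₁S (hPT x.2)⟩ ⟨φ x, hS₁S (hφS₁ x)⟩ rfl (hφ'P x).symm (hβα ⟨x, hPT x.2⟩).symm
    rw [h1]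
    exact hβα ⟨φ x, hφS₁ x⟩
  show ∃ χ' ∈ R'.Hom (imgAut S₁ P α), ∀ (x : P) (hφx : φ x ∈ S₁)
      (hαx : ((α ⟨x, hPT x.2⟩ : S₁) : Ω) ∈ imgAut S₁ P α),
      χ' ⟨(α ⟨x, hPT x.2⟩ : S₁), hαx⟩ = ((α ⟨φ x, hφx⟩ : S₁) : Ω)
  refine ⟨χ.comp (Subgroup.inclusion hle1), ?_, ?_⟩
  · rw [hR' _ (imgAut_le S₁ P α)]
    refine ⟨Cfsg.Agent.Lib.helper88.restrict_mem F hle1 hχ, (imgAut_le S₁ P α).trans hS₁C, ?_,
      χ.comp (Subgroup.inclusion hle), Cfsg.Agent.Lib.helper88.restrict_mem F hle hχ,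
      fun x => rfl, ?_⟩
    · rintro ⟨y, hy⟩
      obtain ⟨x, hx, rfl⟩ := mem_imgAut.mp hy
      have h1 := hval ⟨x, hx⟩ (hle1 hy)
      show χ ⟨(α x : S₁), hle1 hy⟩ ∈ centralizerIn S S₂
      rw [h1]
      exact hS₁C (α _).2
    · intro s
      have hs' := hβS₂ s s.2
      have h1 := hrel ⟨((β⁻¹ ⟨s, hS₂S s.2⟩ : S) : Ω), Subgroup.mem_sup_right hs'⟩
        ⟨s, hle2 s.2⟩ (β⁻¹ ⟨s, hS₂S s.2⟩) (β⁻¹ ⟨s, hS₂S s.2⟩) rfl
        (hφ'S₂ ⟨((β⁻¹ ⟨s, hS₂S s.2⟩ : S) : Ω), hs'⟩).symm (by rw [MulAut.apply_inv_self])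
      show χ ⟨s, hle (Subgroup.mem_sup_right s.2)⟩ = s
      rw [h1, MulAut.apply_inv_self]
  · intro x hφx hαx
    exact hval x (hle1 hαx)

/-- For `Q ≤ S₁` fully normalized, `Aut_{R'}(Q)` is normal in `Aut_F(Q)`. -/
theorem centSub_conj_mem [Finite S] {p : ℕ} [Fact p.Prime] (hS : IsPGroup p S) (F : FusionSystem S)
    (hF : F.IsSaturated p) (hprod : IsInternalDirectProduct S₁ S₂ S) (h₁ : F.StronglyClosed S₁)
    (h₂ : F.StronglyClosed S₂) (R' : FusionSystem S₁)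
    (hR' : ∀ P : Subgroup Ω, P ≤ S₁ → R'.Hom P = F.centralizerHom S₂ P) {Q : Subgroup Ω} (hQ₁ : Q ≤ S₁)
    (hQfn : F.IsFullyNormalized Q) {a k : MulAut Q} (ha : a ∈ F.autGroup Q) (hk : k ∈ R'.autGroup Q) :
    a * k * a⁻¹ ∈ R'.autGroup Q := by
  have hS₁S := h₁.1
  have hS₂S := h₂.1
  have hS₁C := idp_le_centralizerIn hprod
  obtain ⟨-, -, hcomm, -, -⟩ := hprod
  have hQS : Q ≤ S := hQ₁.trans hS₁S
  have hsupS : Q ⊔ S₂ ≤ S := sup_le hQS hS₂S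
  have hrec : F.IsReceptive Q :=
    (Cfsg.Agent.Lib.helper88.fullyAutomized_receptive_of_fullyNormalized hS F hF hQfn).2
  have haF : Q.subtype.comp a.toMonoidHom ∈ F.Hom Q :=
    (Cfsg.Agent.Lib.helper88.mem_autGroup_iff' F hQS a).mp ha
  have hrange : (Q.subtype.comp a.toMonoidHom).range = Q := by
    ext y
    constructor
    · rintro ⟨x, rfl⟩
      exact (a x).2
    · intro hy
      exact ⟨a⁻¹ ⟨y, hy⟩, by simp⟩
  have hQcomm : ∀ t ∈ S₂, ∀ x ∈ Q, t * x * t⁻¹ = x := by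
    intro t ht x hx
    rw [← hcomm x (hQ₁ hx) t ht, mul_inv_cancel_right]
  obtain ⟨a', ha', ha'eq⟩ := Cfsg.Agent.Lib.helper89.exists_extension F hrec haF hrange (Q ⊔ S₂) (by
    intro g hg
    obtain ⟨q, hq, t, ht, rfl⟩ := Cfsg.Agent.Lib.helper89.exists_mul_of_mem_sup (T := Q) (R := S₂)
      (by
        intro r hr t ht
        rw [hQcomm r hr t ht]
        exact ht) hg
    have htN : t ∈ Subgroup.normalizer (Q : Set Ω) := by
      rw [Subgroup.mem_normalizer_iff]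
      intro x
      constructor
      · intro hx
        rw [hQcomm t ht x hx]
        exact hx
      · intro hx
        have h1 := hQcomm t ht _ hx
        have h2 : x = t * x * t⁻¹ := by
          have h3 : t * (t * x * t⁻¹) * t⁻¹ = t * x * t⁻¹ := h1
          exact mul_left_cancel (mul_right_cancel h3) |>.symm ▸ rfl
        rw [h2]
        exact hx
    refine ⟨hsupS hg, mul_mem (Subgroup.le_normalizer hq) htN, ((a ⟨q, hq⟩ : Q) : Ω), hQS (a ⟨q, hq⟩).2, ?_⟩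
    intro x hx
    have h1 : (⟨q * t * (x : Ω) * (q * t)⁻¹, hx⟩ : Q) = ⟨q, hq⟩ * x * ⟨q, hq⟩⁻¹ := by
      apply Subtype.ext
      show q * t * (x : Ω) * (q * t)⁻¹ = q * (x : Ω) * q⁻¹
      calc q * t * (x : Ω) * (q * t)⁻¹ = q * (t * (x : Ω) * t⁻¹) * q⁻¹ := by group
        _ = q * (x : Ω) * q⁻¹ := by rw [hQcomm t ht x x.2]
    show ((a ⟨q * t * (x : Ω) * (q * t)⁻¹, hx⟩ : Q) : Ω) = _
    rw [h1, map_mul, map_mul, map_inv]
    rfl)
  have hkR : Q.subtype.comp k.toMonoidHom ∈ R'.Hom Q :=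
    (Cfsg.Agent.Lib.helper88.mem_autGroup_iff' R' hQ₁ k).mp hk
  rw [hR' Q hQ₁] at hkR
  obtain ⟨hkF, hQC, -, k', hk', hk'Q, hk'S₂⟩ := hkR
  -- both extensions are automorphisms of `Q ⊔ S₂`
  have ha'val : ∀ y : ↥(Q ⊔ S₂), a' y ∈ Q ⊔ S₂ := by
    intro y
    refine sup_hom_mem a' _ (fun x => ?_) (fun x => ?_) y
    · have h1 := ha'eq x x.2 (Subgroup.mem_sup_left x.2)
      have h2 : a' (Subgroup.inclusion le_sup_left x) = ((a x : Q) : Ω) := h1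
      rw [h2]
      exact Subgroup.mem_sup_left (a x).2
    · have h1 : a'.comp (Subgroup.inclusion (le_sup_right : S₂ ≤ Q ⊔ S₂)) ∈ F.Hom S₂ :=
        hom_comp_inclusion F ha' le_sup_right
      exact Subgroup.mem_sup_right (h₂.2 S₂ le_rfl _ h1 x)
  have hk'val : ∀ y : ↥(Q ⊔ S₂), k' y ∈ Q ⊔ S₂ := by
    intro y
    refine sup_hom_mem k' _ (fun x => ?_) (fun x => ?_) y
    · rw [hk'Q x]
      exact Subgroup.mem_sup_left (k x).2
    · rw [hk'S₂ x]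
      exact Subgroup.mem_sup_right x.2
  have : Finite ↥(Q ⊔ S₂) := Cfsg.Agent.Lib.helper89.finite_of_le hsupS
  obtain ⟨A, hA⟩ := Cfsg.Agent.Lib.helper89.exists_aut_of_mem F ha' ha'val
  obtain ⟨K, hK⟩ := Cfsg.Agent.Lib.helper89.exists_aut_of_mem F hk' hk'val
  have hAF : A ∈ F.autGroup (Q ⊔ S₂) := by
    rw [Cfsg.Agent.Lib.helper88.mem_autGroup_iff' F hsupS]
    have h1 : (Q ⊔ S₂).subtype.comp A.toMonoidHom = a' := MonoidHom.ext fun x => hA x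
    rw [h1]
    exact ha'
  have hKF : K ∈ F.autGroup (Q ⊔ S₂) := by
    rw [Cfsg.Agent.Lib.helper88.mem_autGroup_iff' F hsupS]
    have h1 : (Q ⊔ S₂).subtype.comp K.toMonoidHom = k' := MonoidHom.ext fun x => hK x
    rw [h1]
    exact hk'
  have hCF : A * K * A⁻¹ ∈ F.autGroup (Q ⊔ S₂) := mul_mem (mul_mem hAF hKF) (inv_mem hAF)
  have hAQ : ∀ x : Q, A (Subgroup.inclusion le_sup_left x) = Subgroup.inclusion le_sup_left (a x) := by
    intro x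
    apply Subtype.ext
    rw [hA]
    exact ha'eq x x.2 (Subgroup.mem_sup_left x.2)
  have hKQ : ∀ x : Q, K (Subgroup.inclusion le_sup_left x) = Subgroup.inclusion le_sup_left (k x) := by
    intro x
    apply Subtype.ext
    rw [hK]
    exact hk'Q x
  have hAinvQ : ∀ x : Q, A⁻¹ (Subgroup.inclusion le_sup_left x) =
      Subgroup.inclusion le_sup_left (a⁻¹ x) := by
    intro x
    have h1 := hAQ (a⁻¹ x)
    rw [MulAut.apply_inv_self] at h1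
    rw [← h1, MulAut.inv_apply_self]
  have hAinvS₂ : ∀ s : S₂, ((A⁻¹ (Subgroup.inclusion le_sup_right s) : ↥(Q ⊔ S₂)) : Ω) ∈ S₂ := by
    intro s
    have h1 : ((Q ⊔ S₂).subtype.comp (A⁻¹ : MulAut ↥(Q ⊔ S₂)).toMonoidHom).comp
        (Subgroup.inclusion (le_sup_right : S₂ ≤ Q ⊔ S₂)) ∈ F.Hom S₂ :=
      hom_comp_inclusion F ((Cfsg.Agent.Lib.helper88.mem_autGroup_iff' F hsupS _).mp (inv_mem hAF))
        le_sup_right
    exact h₂.2 S₂ le_rfl _ h1 s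
  rw [Cfsg.Agent.Lib.helper88.mem_autGroup_iff' R' hQ₁, hR' Q hQ₁]
  refine ⟨(Cfsg.Agent.Lib.helper88.mem_autGroup_iff' F hQS _).mp
      (mul_mem (mul_mem ha ((Cfsg.Agent.Lib.helper88.mem_autGroup_iff' F hQS k).mpr hkF)) (inv_mem ha)),
    hQC, fun x => hS₁C (hQ₁ ((a * k * a⁻¹) x).2), (Q ⊔ S₂).subtype.comp (A * K * A⁻¹).toMonoidHom,
    (Cfsg.Agent.Lib.helper88.mem_autGroup_iff' F hsupS _).mp hCF, ?_, ?_⟩
  · intro x
    show (((A * K * A⁻¹) (Subgroup.inclusion le_sup_left x) : ↥(Q ⊔ S₂)) : Ω) = ((a * k * a⁻¹) x : Q)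
    have h1 : (A * K * A⁻¹) (Subgroup.inclusion le_sup_left x) =
        A (K (A⁻¹ (Subgroup.inclusion le_sup_left x))) := rfl
    rw [h1, hAinvQ, hKQ, hAQ]
    rfl
  · intro s
    show (((A * K * A⁻¹) (Subgroup.inclusion le_sup_right s) : ↥(Q ⊔ S₂)) : Ω) = s
    have h1 : (A * K * A⁻¹) (Subgroup.inclusion le_sup_right s) =
        A (K (A⁻¹ (Subgroup.inclusion le_sup_right s))) := rfl
    have h2 : K (A⁻¹ (Subgroup.inclusion le_sup_right s)) = A⁻¹ (Subgroup.inclusion le_sup_right s) := by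
      apply Subtype.ext
      rw [hK]
      exact hk'S₂ ⟨_, hAinvS₂ s⟩
    rw [h1, h2, MulAut.apply_inv_self]
    rfl

/-- The Frattini condition for the subsystem of maps extending trivially to `S₂`. -/
theorem centSub_frattini [Finite S] {p : ℕ} [Fact p.Prime] (hS : IsPGroup p S) (F : FusionSystem S)
    (hF : F.IsSaturated p) (hprod : IsInternalDirectProduct S₁ S₂ S) (h₁ : F.StronglyClosed S₁)
    (h₂ : F.StronglyClosed S₂) (R' : FusionSystem S₁)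
    (hR' : ∀ P : Subgroup Ω, P ≤ S₁ → R'.Hom P = F.centralizerHom S₂ P) :
    ∀ (P : Subgroup Ω), P ≤ S₁ → ∀ (φ : P →* Ω), φ ∈ F.Hom P →
      ∃ α ∈ F.autGroup S₁, ∃ φ₀ ∈ R'.Hom P,
        ∀ (x : P) (hx : φ₀ x ∈ S₁), φ x = ((α ⟨φ₀ x, hx⟩ : S₁) : Ω) := by
  have hsub : R'.IsSubsystemOf F := by
    intro P φ hφ
    rw [hR' P (R'.le_of_mem hφ).1] at hφ
    exact hφ.1
  refine Cfsg.Agent.Lib.helper88.frattini_of_normal_family hS F hF h₁ R' hsub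
    (centSub_autInvariant hS F hF hprod h₁ h₂ R' hR') ?_
  intro Q hQ hQfn
  exact ⟨R'.autGroup Q, le_rfl, Cfsg.Agent.Lib.helper89.autInducedBy_le_autGroup R' hQ,
    fun a ha k hk => centSub_conj_mem hS F hF hprod h₁ h₂ R' hR' hQ hQfn ha hk⟩

theorem aut_mem_centralizer {T : Subgroup Ω} (α : MulAut T) {s : T}
    (hs : (s : Ω) ∈ Subgroup.centralizer (T : Set Ω)) :
    ((α s : T) : Ω) ∈ Subgroup.centralizer (T : Set Ω) := by
  rw [Subgroup.mem_centralizer_iff]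
  intro y hy
  have h3 : α⁻¹ ⟨y, hy⟩ * s = s * α⁻¹ ⟨y, hy⟩ :=
    Subtype.ext ((Subgroup.mem_centralizer_iff.mp hs) _ (α⁻¹ ⟨y, hy⟩).2)
  have h4 : α (α⁻¹ ⟨y, hy⟩ * s) = α (s * α⁻¹ ⟨y, hy⟩) := by rw [h3]
  rw [map_mul, map_mul, MulAut.apply_inv_self] at h4
  exact congrArg Subtype.val h4

/-- The extension condition (in `F`) for the subsystem of maps extending trivially to `S₂`. -/
theorem centSub_ext [Finite S] (F : FusionSystem S) (hprod : IsInternalDirectProduct S₁ S₂ S)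
    (R' : FusionSystem S₁) (hR' : ∀ P : Subgroup Ω, P ≤ S₁ → R'.Hom P = F.centralizerHom S₂ P) :
    ∀ α ∈ R'.autGroup S₁, ∃ β ∈ F.autGroup (S₁ ⊔ centralizerIn S S₁),
      (∀ x : S₁, ((β (Subgroup.inclusion le_sup_left x) : ↥(S₁ ⊔ centralizerIn S S₁)) : Ω) =
        ((α x : S₁) : Ω)) ∧
      ∀ c : ↥(S₁ ⊔ centralizerIn S S₁), (c : Ω) ∈ centralizerIn S S₁ →
        (c : Ω)⁻¹ * ((β c : ↥(S₁ ⊔ centralizerIn S S₁)) : Ω) ∈
          S₁ ⊓ Subgroup.centralizer (S₁ : Set Ω) := by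
  have hprod' := hprod
  obtain ⟨hS₁S, hS₂S, hcomm, -, hsup⟩ := hprod
  intro α hα
  have hαR := (Cfsg.Agent.Lib.helper88.mem_autGroup_iff' R' le_rfl α).mp hα
  rw [hR' S₁ le_rfl] at hαR
  obtain ⟨hαF, -, -, ψ, hψ, hψS₁, hψS₂⟩ := hαR
  have hM : S₁ ⊔ centralizerIn S S₁ ≤ S₁ ⊔ S₂ := by
    rw [hsup]
    exact sup_le hS₁S inf_le_left
  have hMS : S₁ ⊔ centralizerIn S S₁ ≤ S := sup_le hS₁S inf_le_left
  have hψM := Cfsg.Agent.Lib.helper88.restrict_mem F hM hψ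
  have hS₂C : S₂ ≤ centralizerIn S S₁ := by
    intro t ht
    refine ⟨hS₂S ht, ?_⟩
    show t ∈ Subgroup.centralizer (S₁ : Set Ω)
    rw [Subgroup.mem_centralizer_iff]
    intro a ha
    exact hcomm a ha t ht
  have hSM : S ≤ S₁ ⊔ centralizerIn S S₁ :=
    hsup.symm.le.trans (sup_le_sup_left hS₂C S₁)
  obtain ⟨β, hβ⟩ := Cfsg.Agent.Lib.helper89.exists_aut_of_mem F hψM
    (fun y => hSM ((F.le_of_mem hψ).2 _))
  refine ⟨β, ?_, ?_, ?_⟩
  · rw [Cfsg.Agent.Lib.helper88.mem_autGroup_iff' F hMS]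
    have h1 : (S₁ ⊔ centralizerIn S S₁).subtype.comp β.toMonoidHom =
        ψ.comp (Subgroup.inclusion hM) := MonoidHom.ext fun x => hβ x
    rw [h1]
    exact hψM
  · intro x
    rw [hβ]
    exact hψS₁ x
  · intro c hc
    have hcS : (c : Ω) ∈ S₁ ⊔ S₂ := hM c.2
    obtain ⟨s, hs, t, ht, hst⟩ := Cfsg.Agent.Lib.helper89.exists_mul_of_mem_sup (T := S₁) (R := S₂)
      (by
        intro r hr t ht
        have h1 : r * t * r⁻¹ = t := by
          rw [← hcomm t ht r hr, mul_inv_cancel_right]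
        rw [h1]
        exact ht) hcS
    have htC : t ∈ Subgroup.centralizer (S₁ : Set Ω) := (hS₂C ht).2
    have hcC : (c : Ω) ∈ Subgroup.centralizer (S₁ : Set Ω) := hc.2
    have hsC : s ∈ Subgroup.centralizer (S₁ : Set Ω) := by
      have h1 : s = (c : Ω) * t⁻¹ := by
        rw [← hst, mul_inv_cancel_right]
      rw [h1]
      exact Subgroup.mul_mem _ hcC (Subgroup.inv_mem _ htC)
    have h1 : ((β c : ↥(S₁ ⊔ centralizerIn S S₁)) : Ω) = ((α ⟨s, hs⟩ : S₁) : Ω) * t := by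
      rw [hβ]
      have h2 : (Subgroup.inclusion hM c : ↥(S₁ ⊔ S₂)) =
          Subgroup.inclusion le_sup_left ⟨s, hs⟩ * Subgroup.inclusion le_sup_right ⟨t, ht⟩ :=
        Subtype.ext hst.symm
      show ψ (Subgroup.inclusion hM c) = _
      rw [h2, map_mul, hψS₁, hψS₂]
      rfl
    rw [h1, ← hst]
    have hmem : s⁻¹ * ((α ⟨s, hs⟩ : S₁) : Ω) ∈ S₁ := S₁.mul_mem (S₁.inv_mem hs) (α ⟨s, hs⟩).2
    have h2 : (s * t)⁻¹ * (((α ⟨s, hs⟩ : S₁) : Ω) * t) = s⁻¹ * ((α ⟨s, hs⟩ : S₁) : Ω) := by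
      have h3 := hcomm _ hmem t ht
      calc (s * t)⁻¹ * (((α ⟨s, hs⟩ : S₁) : Ω) * t)
          = t⁻¹ * ((s⁻¹ * ((α ⟨s, hs⟩ : S₁) : Ω)) * t) := by group
        _ = t⁻¹ * (t * (s⁻¹ * ((α ⟨s, hs⟩ : S₁) : Ω))) := by rw [h3]
        _ = s⁻¹ * ((α ⟨s, hs⟩ : S₁) : Ω) := by group
    rw [h2]
    exact ⟨hmem, Subgroup.mul_mem _ (Subgroup.inv_mem _ hsC)
      (aut_mem_centralizer α (s := ⟨s, hs⟩) hsC)⟩

/-- The extension condition inside a system `R` over `S₁` containing `R'`. -/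
theorem centSub_ext' [Finite S₁] (R R' : FusionSystem S₁) (hsub : R'.IsSubsystemOf R) :
    ∀ α ∈ R'.autGroup S₁, ∃ β ∈ R.autGroup (S₁ ⊔ centralizerIn S₁ S₁),
      (∀ x : S₁, ((β (Subgroup.inclusion le_sup_left x) : ↥(S₁ ⊔ centralizerIn S₁ S₁)) : Ω) =
        ((α x : S₁) : Ω)) ∧
      ∀ c : ↥(S₁ ⊔ centralizerIn S₁ S₁), (c : Ω) ∈ centralizerIn S₁ S₁ →
        (c : Ω)⁻¹ * ((β c : ↥(S₁ ⊔ centralizerIn S₁ S₁)) : Ω) ∈
          S₁ ⊓ Subgroup.centralizer (S₁ : Set Ω) := by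
  intro α hα
  have hαR : S₁.subtype.comp α.toMonoidHom ∈ R.Hom S₁ :=
    hsub _ ((Cfsg.Agent.Lib.helper88.mem_autGroup_iff' R' le_rfl α).mp hα)
  have hM : S₁ ⊔ centralizerIn S₁ S₁ ≤ S₁ := sup_le le_rfl inf_le_left
  have hψM := Cfsg.Agent.Lib.helper88.restrict_mem R hM hαR
  obtain ⟨β, hβ⟩ := Cfsg.Agent.Lib.helper89.exists_aut_of_mem R hψM
    (fun y => Subgroup.mem_sup_left (α _).2)
  refine ⟨β, ?_, ?_, ?_⟩
  · rw [Cfsg.Agent.Lib.helper88.mem_autGroup_iff' R hM]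
    have h1 : (S₁ ⊔ centralizerIn S₁ S₁).subtype.comp β.toMonoidHom =
        (S₁.subtype.comp α.toMonoidHom).comp (Subgroup.inclusion hM) := MonoidHom.ext fun x => hβ x
    rw [h1]
    exact hψM
  · intro x
    rw [hβ]
    rfl
  · intro c hc
    rw [hβ]
    show (c : Ω)⁻¹ * ((α ⟨c, hM c.2⟩ : S₁) : Ω) ∈ S₁ ⊓ Subgroup.centralizer (S₁ : Set Ω)
    have hcC : (c : Ω) ∈ Subgroup.centralizer (S₁ : Set Ω) := hc.2
    exact ⟨S₁.mul_mem (S₁.inv_mem (hM c.2)) (α _).2,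
      Subgroup.mul_mem _ (Subgroup.inv_mem _ hcC)
        (aut_mem_centralizer α (s := ⟨c, hM c.2⟩) hcC)⟩

end Prod

end Cfsg.Agent.Lib.helper87
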