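import Cfsg.Agent.Lib.helper87.QCore

/-!
A conjugation lemma inside the stabilizer of a well placed subgroup.
-/

set_option autoImplicit false

namespace Cfsg.Agent.Lib.helper87

open Cfsg
open Cfsg.FusionSystem (normalizerIn centralizerIn extender)

variable {Ω : Type*} [Group Ω] {S : Subgroup Ω}

/-- The automorphisms of `Q` fixing `P` elementwise. -/
def fixAut (Q P : Subgroup Ω) : Subgroup (MulAut Q) where
  carrier := {b | ∀ x : Q, (x : Ω) ∈ P → b x = x}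
  one_mem' := fun _ _ => rfl
  mul_mem' := by
    intro a b ha hb x hx
    show a (b x) = x
    rw [hb x hx, ha x hx]
  inv_mem' := by
    intro a ha x hx
    have h := ha x hx
    have h2 : a⁻¹ (a x) = x := by rw [MulAut.inv_apply_self]
    rw [h] at h2
    exact h2

theorem mem_fixAut {Q P : Subgroup Ω} {b : MulAut Q} :
    b ∈ fixAut Q P ↔ ∀ x : Q, (x : Ω) ∈ P → b x = x := Iff.rfl

theorem exists_fix_conj_core [Finite S] {p : ℕ} [Fact p.Prime] (hS : IsPGroup p S) (F : FusionSystem S)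
    {Qh Pst : Subgroup Ω} (hQhS : Qh ≤ S) (B U : Subgroup (MulAut Qh))
    (hBs : B ≤ stabAut Qh Pst) (hBA : B ≤ F.autGroup Qh)
    (hBmem : ∀ b, b ∈ stabAut Qh Pst → b ∈ F.autGroup Qh → b ∈ B)
    (hUB : U ≤ B) (hUS : U ≤ autInducedBy S Qh)
    (hsyl : ∃ R : Sylow p ↥B, (R : Subgroup ↥B) = U.subgroupOf B)
    {ξ : MulAut Qh} (hξB : ξ ∈ B) (D₀ : Subgroup Ω)
    (hD₀ : D₀ ≤ normalizerIn S Qh ⊓ normalizerIn S Pst)
    (hpt : ∀ g ∈ D₀, ∀ hg : g ∈ Subgroup.normalizer (Qh : Set Ω), ∃ u ∈ U, ∀ y : Qh, (y : Ω) ∈ Pst →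
      (ξ * Cfsg.Agent.Lib.helper88.conjAut Qh g hg * ξ⁻¹) y = u y) :
    ∃ z ∈ F.autGroup Qh, z ∈ fixAut Qh Pst ∧ ∀ g ∈ D₀, ∀ hg : g ∈ Subgroup.normalizer (Qh : Set Ω),
      (z * ξ) * Cfsg.Agent.Lib.helper88.conjAut Qh g hg * (z * ξ)⁻¹ ∈ autInducedBy S Qh := by
  have : Finite (MulAut Qh) := finite_mulAut_of_le hQhS
  have hcB : ∀ g ∈ D₀, ∀ hg : g ∈ Subgroup.normalizer (Qh : Set Ω),
      Cfsg.Agent.Lib.helper88.conjAut Qh g hg ∈ B := by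
    intro g hgD hg
    refine hBmem _ ?_ (Cfsg.Agent.Lib.helper89.autInducedBy_le_autGroup F hQhS
      (Cfsg.Agent.Lib.helper88.conjAut_mem S Qh g hg (hD₀ hgD).1.1))
    intro x
    exact Subgroup.mem_normalizer_iff.mp (hD₀ hgD).2.2 (x : Ω)
  have hZnorm : ∀ b ∈ B, ∀ z ∈ fixAut Qh Pst ⊓ B, b * z * b⁻¹ ∈ fixAut Qh Pst ⊓ B := by
    intro b hb z hz
    refine Subgroup.mem_inf.mpr ⟨?_, B.mul_mem (B.mul_mem hb hz.2) (B.inv_mem hb)⟩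
    intro x hx
    have hy : ((b⁻¹ x : Qh) : Ω) ∈ Pst := by
      have h1 := hBs hb (b⁻¹ x)
      rw [MulAut.apply_inv_self] at h1
      exact h1.mpr hx
    show b (z (b⁻¹ x)) = x
    rw [hz.1 _ hy, MulAut.apply_inv_self]
  have hkey : ∀ g ∈ D₀, ∀ hg : g ∈ Subgroup.normalizer (Qh : Set Ω),
      ξ * Cfsg.Agent.Lib.helper88.conjAut Qh g hg * ξ⁻¹ ∈ (fixAut Qh Pst ⊓ B) ⊔ U := by
    intro g hgD hg
    have hvB : ξ * Cfsg.Agent.Lib.helper88.conjAut Qh g hg * ξ⁻¹ ∈ B :=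
      B.mul_mem (B.mul_mem hξB (hcB g hgD hg)) (B.inv_mem hξB)
    obtain ⟨u, huU, hpt'⟩ := hpt g hgD hg
    have hz : ξ * Cfsg.Agent.Lib.helper88.conjAut Qh g hg * ξ⁻¹ * u⁻¹ ∈ fixAut Qh Pst ⊓ B := by
      refine Subgroup.mem_inf.mpr ⟨?_, B.mul_mem hvB (B.inv_mem (hUB huU))⟩
      intro x hx
      have hy : ((u⁻¹ x : Qh) : Ω) ∈ Pst := by
        have h1 := hBs (hUB huU) (u⁻¹ x)
        rw [MulAut.apply_inv_self] at h1
        exact h1.mpr hx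
      have h2 := hpt' (u⁻¹ x) hy
      rw [MulAut.apply_inv_self] at h2
      exact h2
    have h5 : ξ * Cfsg.Agent.Lib.helper88.conjAut Qh g hg * ξ⁻¹ =
        (ξ * Cfsg.Agent.Lib.helper88.conjAut Qh g hg * ξ⁻¹ * u⁻¹) * u := by group
    rw [h5]
    exact Subgroup.mul_mem _ (Subgroup.mem_sup_left hz) (Subgroup.mem_sup_right huU)
  have hD₀S : D₀ ≤ S := fun g hg => (hD₀ hg).1.1
  have hVp : IsPGroup p ↥((autInducedBy D₀ Qh).map (MulAut.conj ξ).toMonoidHom) :=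
    isPGroup_map_conj ξ (Cfsg.Agent.Lib.helper88.isPGroup_autInducedBy (hS.to_le hD₀S) Qh)
  have hVT : (autInducedBy D₀ Qh).map (MulAut.conj ξ).toMonoidHom ≤ (fixAut Qh Pst ⊓ B) ⊔ U := by
    rintro _ ⟨a, ha, rfl⟩
    obtain ⟨g, hgD, hga⟩ := (Cfsg.Agent.Lib.helper88.mem_autInducedBy_iff D₀ Qh a).mp ha
    have hg : g ∈ Subgroup.normalizer (Qh : Set Ω) := (hD₀ hgD).1.2
    have hac : a = Cfsg.Agent.Lib.helper88.conjAut Qh g hg := by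
      ext x
      rw [hga]
      rfl
    rw [hac]
    exact hkey g hgD hg
  have hsylT : ∃ R₁ : Sylow p ↥((fixAut Qh Pst ⊓ B) ⊔ U),
      (R₁ : Subgroup ↥((fixAut Qh Pst ⊓ B) ⊔ U)) = U.subgroupOf ((fixAut Qh Pst ⊓ B) ⊔ U) :=
    sylowIn_of_le le_sup_right (sup_le inf_le_right hUB) hsyl
  obtain ⟨t, ht, hle⟩ := exists_conj_le_of_sylowIn hsylT hVT hVp
  obtain ⟨z, hz, u, hu, hzu⟩ := Cfsg.Agent.Lib.helper89.exists_mul_of_mem_sup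
    (T := fixAut Qh Pst ⊓ B) (R := U) (fun r hr t ht => hZnorm r (hUB hr) t ht) ht
  have hz' : u⁻¹ * z * u ∈ fixAut Qh Pst ⊓ B := by
    have h1 := hZnorm u⁻¹ (B.inv_mem (hUB hu)) z hz
    rw [inv_inv] at h1
    exact h1
  refine ⟨u⁻¹ * z * u, hBA hz'.2, hz'.1, ?_⟩
  intro g hgD hg
  have hmem : (MulAut.conj t).toMonoidHom ((MulAut.conj ξ).toMonoidHom
      (Cfsg.Agent.Lib.helper88.conjAut Qh g hg)) ∈ U :=
    hle ⟨_, ⟨_, Cfsg.Agent.Lib.helper88.conjAut_mem D₀ Qh g hg hgD, rfl⟩, rfl⟩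
  have h1 : (u⁻¹ * z * u) * ξ * Cfsg.Agent.Lib.helper88.conjAut Qh g hg * ((u⁻¹ * z * u) * ξ)⁻¹ =
      u⁻¹ * ((MulAut.conj t).toMonoidHom ((MulAut.conj ξ).toMonoidHom
        (Cfsg.Agent.Lib.helper88.conjAut Qh g hg))) * u := by
    show (u⁻¹ * z * u) * ξ * Cfsg.Agent.Lib.helper88.conjAut Qh g hg * ((u⁻¹ * z * u) * ξ)⁻¹ =
      u⁻¹ * (t * (ξ * Cfsg.Agent.Lib.helper88.conjAut Qh g hg * ξ⁻¹) * t⁻¹) * u
    rw [← hzu]
    group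
  rw [h1]
  exact hUS (U.mul_mem (U.mul_mem (U.inv_mem hu) hmem) hu)

theorem exists_fix_conj_aux [Finite S] {p : ℕ} [Fact p.Prime] (hS : IsPGroup p S) (F : FusionSystem S)
    {Qh Pst : Subgroup Ω} (hQhS : Qh ≤ S) (hPst : Pst ≤ Qh) (B U : Subgroup (MulAut Qh))
    (hBs : B ≤ stabAut Qh Pst) (hBA : B ≤ F.autGroup Qh)
    (hBmem : ∀ b, b ∈ stabAut Qh Pst → b ∈ F.autGroup Qh → b ∈ B)
    (hUB : U ≤ B) (hUS : U ≤ autInducedBy S Qh)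
    (hsyl : ∃ R : Sylow p ↥B, (R : Subgroup ↥B) = U.subgroupOf B)
    {ξ : MulAut Qh} (hξB : ξ ∈ B) (D₀ : Subgroup Ω) (hD₀ : D₀ ≤ normalizerIn S Qh ⊓ qp F p Pst) :
    ∃ z ∈ F.autGroup Qh, z ∈ fixAut Qh Pst ∧ ∀ g ∈ D₀, ∀ hg : g ∈ Subgroup.normalizer (Qh : Set Ω),
      (z * ξ) * Cfsg.Agent.Lib.helper88.conjAut Qh g hg * (z * ξ)⁻¹ ∈ autInducedBy S Qh := by
  have : Finite (MulAut Qh) := finite_mulAut_of_le hQhS
  have hPstS : Pst ≤ S := hPst.trans hQhS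
  have : Finite (MulAut Pst) := finite_mulAut_of_le hPstS
  have hD₀' : D₀ ≤ normalizerIn S Qh ⊓ normalizerIn S Pst :=
    fun g hg => ⟨(hD₀ hg).1, qp_le_normalizerIn F p Pst (hD₀ hg).2⟩
  refine exists_fix_conj_core hS F hQhS B U hBs hBA hBmem hUB hUS hsyl hξB D₀ hD₀' ?_
  obtain ⟨R, hR⟩ := hsyl
  -- restriction to `Pst`
  obtain ⟨res, hres⟩ : ∃ res : ↥B →* MulAut Pst, ∀ (b : ↥B) (y : Pst),
      ((res b y : Pst) : Ω) = (((b : MulAut Qh) ⟨y, hPst y.2⟩ : Qh) : Ω) :=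
    ⟨(resAut Qh Pst hPst).comp (Subgroup.inclusion hBs), fun b y => rfl⟩
  obtain ⟨R', hR'⟩ := sylowIn_map_range res res.range ((U.subgroupOf B).map res) (U.subgroupOf B)
    rfl rfl R hR
  have hXA : res.range ≤ F.autGroup Pst := by
    rintro _ ⟨b, rfl⟩
    rw [Cfsg.Agent.Lib.helper88.mem_autGroup_iff' F hPstS]
    have h1 : Qh.subtype.comp (b : MulAut Qh).toMonoidHom ∈ F.Hom Qh :=
      (Cfsg.Agent.Lib.helper88.mem_autGroup_iff' F hQhS _).mp (hBA b.2)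
    exact hom_restrict F h1 hPst _ (fun x => hres b x)
  -- a normal `p`-subgroup of the image lies in the image of `U`
  have hKY : opAut F p Pst ⊓ res.range ≤ (U.subgroupOf B).map res := by
    have hKp : IsPGroup p ↥(opAut F p Pst ⊓ res.range) := (isPGroup_opAut F p Pst).to_le inf_le_left
    obtain ⟨n, hn, hle⟩ := exists_conj_le_of_sylowIn ⟨R', hR'⟩
      (inf_le_right : opAut F p Pst ⊓ res.range ≤ res.range) hKp
    intro k hk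
    have hk' : n⁻¹ * k * n ∈ opAut F p Pst ⊓ res.range := by
      refine ⟨?_, res.range.mul_mem (res.range.mul_mem (res.range.inv_mem hn) hk.2) hn⟩
      have h1 := conj_mem_opAut F p ((F.autGroup Pst).inv_mem (hXA hn)) hk.1
      rw [inv_inv] at h1
      exact h1
    have h2 := hle ⟨n⁻¹ * k * n, hk', rfl⟩
    have h3 : (MulAut.conj n).toMonoidHom (n⁻¹ * k * n) = k := by
      show n * (n⁻¹ * k * n) * n⁻¹ = k
      group
    rw [h3] at h2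
    exact h2
  have hcB : ∀ g ∈ D₀, ∀ hg : g ∈ Subgroup.normalizer (Qh : Set Ω),
      Cfsg.Agent.Lib.helper88.conjAut Qh g hg ∈ B := by
    intro g hgD hg
    refine hBmem _ ?_ (Cfsg.Agent.Lib.helper89.autInducedBy_le_autGroup F hQhS
      (Cfsg.Agent.Lib.helper88.conjAut_mem S Qh g hg (hD₀ hgD).1.1))
    intro x
    exact Subgroup.mem_normalizer_iff.mp (hD₀ hgD).2.2.1 (x : Ω)
  intro g hgD hg
  have hvB : ξ * Cfsg.Agent.Lib.helper88.conjAut Qh g hg * ξ⁻¹ ∈ B :=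
    B.mul_mem (B.mul_mem hξB (hcB g hgD hg)) (B.inv_mem hξB)
  obtain ⟨-, -, o, ho, hox⟩ := (hD₀ hgD).2
  have hresc : res ⟨Cfsg.Agent.Lib.helper88.conjAut Qh g hg, hcB g hgD hg⟩ = o := by
    ext y
    rw [hres, hox]
    rfl
  have hresv : res ⟨ξ * Cfsg.Agent.Lib.helper88.conjAut Qh g hg * ξ⁻¹, hvB⟩ ∈ opAut F p Pst := by
    have h1 : (⟨ξ * Cfsg.Agent.Lib.helper88.conjAut Qh g hg * ξ⁻¹, hvB⟩ : ↥B) =
        ⟨ξ, hξB⟩ * ⟨Cfsg.Agent.Lib.helper88.conjAut Qh g hg, hcB g hgD hg⟩ * ⟨ξ, hξB⟩⁻¹ := rfl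
    rw [h1, map_mul, map_mul, map_inv, hresc]
    exact conj_mem_opAut F p (hXA ⟨_, rfl⟩) ho
  obtain ⟨u, hu, hures⟩ := hKY ⟨hresv, ⟨_, rfl⟩⟩
  have huU : (u : MulAut Qh) ∈ U := Subgroup.mem_subgroupOf.mp hu
  refine ⟨(u : MulAut Qh), huU, fun y hy => ?_⟩
  have h1 := congrArg (fun f : MulAut Pst => ((f ⟨y, hy⟩ : Pst) : Ω)) hures
  have h2 := hres u ⟨y, hy⟩
  have h3 := hres ⟨ξ * Cfsg.Agent.Lib.helper88.conjAut Qh g hg * ξ⁻¹, hvB⟩ ⟨y, hy⟩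
  apply Subtype.ext
  rw [← h2, ← h3]
  exact h1.symm

/-- Let `Pst` be well placed in `Qh`, `ξ` an `F`-automorphism of `Qh` stabilizing `Pst`, and `D₀` a
subgroup of `N_S(Qh)` acting on `Pst` through `O_p(Aut_F(Pst))`. Then `ξ` can be modified by an
`F`-automorphism of `Qh` fixing `Pst` elementwise so that it conjugates `Aut_{D₀}(Qh)` into `Aut_S(Qh)`. -/
theorem exists_fix_conj [Finite S] {p : ℕ} [Fact p.Prime] (hS : IsPGroup p S) (F : FusionSystem S)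
    {Qh Pst : Subgroup Ω} (hQhS : Qh ≤ S) (hPst : Pst ≤ Qh) (hwp : WellPlaced F p Qh Pst)
    {ξ : MulAut Qh} (hξA : ξ ∈ F.autGroup Qh) (hξs : ξ ∈ stabAut Qh Pst) (D₀ : Subgroup Ω)
    (hD₀ : D₀ ≤ normalizerIn S Qh ⊓ qp F p Pst) :
    ∃ z ∈ F.autGroup Qh, z ∈ fixAut Qh Pst ∧ ∀ g ∈ D₀, ∀ hg : g ∈ Subgroup.normalizer (Qh : Set Ω),
      (z * ξ) * Cfsg.Agent.Lib.helper88.conjAut Qh g hg * (z * ξ)⁻¹ ∈ autInducedBy S Qh :=
  exists_fix_conj_aux hS F hQhS hPst (stabAut Qh Pst ⊓ F.autGroup Qh)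
    (autInducedBy S Qh ⊓ (stabAut Qh Pst ⊓ F.autGroup Qh)) inf_le_left inf_le_right
    (fun _ h1 h2 => Subgroup.mem_inf.mpr ⟨h1, h2⟩) inf_le_right inf_le_left hwp
    (Subgroup.mem_inf.mpr ⟨hξs, hξA⟩) D₀ hD₀

theorem fixAut_le_stabAut {Q P : Subgroup Ω} : fixAut Q P ≤ stabAut Q P := by
  intro b hb x
  constructor
  · intro hx
    rw [hb x hx]
    exact hx
  · intro hx
    have h1 := hb (b x) hx
    have h2 : b x = x := b.injective h1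
    rw [← h2]
    exact hx

theorem range_subtype_comp_aut (Q : Subgroup Ω) (a : MulAut Q) :
    (Q.subtype.comp a.toMonoidHom).range = Q := by
  ext y
  constructor
  · rintro ⟨x, rfl⟩
    exact (a x).2
  · intro hy
    refine ⟨a⁻¹ ⟨y, hy⟩, ?_⟩
    show ((a (a⁻¹ ⟨y, hy⟩) : Q) : Ω) = y
    rw [MulAut.apply_inv_self]

/-- If `Qh` is receptive and the `F`-automorphism `ξ'` of `Qh` conjugates `Aut_{D₀}(Qh)` into `Aut_S(Qh)`,
then `ξ'` extends to a map of the system defined on the subgroup generated by `Qh` and `D₀`. -/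
theorem exists_ext_of_conj [Finite S] (F : FusionSystem S) {Qh : Subgroup Ω} (hQhS : Qh ≤ S)
    (hrec : F.IsReceptive Qh) {ξ' : MulAut Qh} (hξ'A : ξ' ∈ F.autGroup Qh) (D₀ : Subgroup Ω)
    (hD₀ : D₀ ≤ normalizerIn S Qh)
    (hconj : ∀ g ∈ D₀, ∀ hg : g ∈ Subgroup.normalizer (Qh : Set Ω),
      ξ' * Cfsg.Agent.Lib.helper88.conjAut Qh g hg * ξ'⁻¹ ∈ autInducedBy S Qh) :
    ∃ ψe ∈ F.Hom (Subgroup.closure ((Qh : Set Ω) ∪ (D₀ : Set Ω))),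
      ∀ (x : Ω) (hx : x ∈ Qh) (hK : x ∈ Subgroup.closure ((Qh : Set Ω) ∪ (D₀ : Set Ω))),
        ψe ⟨x, hK⟩ = ((ξ' ⟨x, hx⟩ : Qh) : Ω) := by
  have hφ' : Qh.subtype.comp ξ'.toMonoidHom ∈ F.Hom Qh :=
    (Cfsg.Agent.Lib.helper88.mem_autGroup_iff' F hQhS _).mp hξ'A
  have hφ'R : (Qh.subtype.comp ξ'.toMonoidHom).range = Qh := range_subtype_comp_aut Qh _
  have hs : ∀ g ∈ ((Qh : Set Ω) ∪ (D₀ : Set Ω)), g ∈ S ∧ g ∈ Subgroup.normalizer (Qh : Set Ω) ∧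
      ∃ h ∈ S, ∀ (x : Qh) (hx : g * (x : Ω) * g⁻¹ ∈ Qh),
        (Qh.subtype.comp ξ'.toMonoidHom) ⟨g * x * g⁻¹, hx⟩ =
          h * (Qh.subtype.comp ξ'.toMonoidHom) x * h⁻¹ := by
    rintro g (hg | hg)
    · refine ⟨hQhS hg, Subgroup.le_normalizer hg, ((ξ' ⟨g, hg⟩ : Qh) : Ω),
        hQhS (ξ' ⟨g, hg⟩).2, fun x hx => ?_⟩
      have h1 : (⟨g * x * g⁻¹, hx⟩ : Qh) = ⟨g, hg⟩ * x * ⟨g, hg⟩⁻¹ := rfl
      show ((ξ' ⟨g * x * g⁻¹, hx⟩ : Qh) : Ω) =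
        ((ξ' ⟨g, hg⟩ : Qh) : Ω) * ((ξ' x : Qh) : Ω) * ((ξ' ⟨g, hg⟩ : Qh) : Ω)⁻¹
      rw [h1, map_mul, map_mul, map_inv]
      rfl
    · have hgN : g ∈ Subgroup.normalizer (Qh : Set Ω) := (hD₀ hg).2
      obtain ⟨h, hh, hheq⟩ := (Cfsg.Agent.Lib.helper88.mem_autInducedBy_iff S Qh _).mp (hconj g hg hgN)
      refine ⟨(hD₀ hg).1, hgN, h, hh, fun x hx => ?_⟩
      have h2 := hheq (ξ' x)
      have h3 : (ξ' * Cfsg.Agent.Lib.helper88.conjAut Qh g hgN * ξ'⁻¹) (ξ' x) =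
          ξ' (Cfsg.Agent.Lib.helper88.conjAut Qh g hgN x) := by
        show ξ' (Cfsg.Agent.Lib.helper88.conjAut Qh g hgN (ξ'⁻¹ (ξ' x))) =
          ξ' (Cfsg.Agent.Lib.helper88.conjAut Qh g hgN x)
        rw [MulAut.inv_apply_self]
      rw [h3] at h2
      have h4 : Cfsg.Agent.Lib.helper88.conjAut Qh g hgN x = ⟨g * x * g⁻¹, hx⟩ :=
        Subtype.ext (Cfsg.Agent.Lib.helper88.conjAut_apply Qh g hgN x)
      rw [h4] at h2
      exact h2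
  obtain ⟨ψe, hψe, hψex⟩ := Cfsg.Agent.Lib.helper89.exists_extension_closure F hrec hφ' hφ'R _ hs
  exact ⟨ψe, hψe, fun x hx hK => hψex x hx hK⟩

/-- In the situation of `exists_fix_conj`, with `Qh` receptive: `ξ` restricted to `Pst` extends to a map
of the system defined on a subgroup containing `Qh` and `D₀`. -/
theorem exists_ext_fix [Finite S] {p : ℕ} [Fact p.Prime] (hS : IsPGroup p S) (F : FusionSystem S)
    {Qh Pst : Subgroup Ω} (hQhS : Qh ≤ S) (hrec : F.IsReceptive Qh) (hPst : Pst ≤ Qh)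
    (hwp : WellPlaced F p Qh Pst) {ξ : MulAut Qh} (hξA : ξ ∈ F.autGroup Qh) (hξs : ξ ∈ stabAut Qh Pst)
    (D₀ : Subgroup Ω) (hD₀ : D₀ ≤ normalizerIn S Qh ⊓ qp F p Pst) (hQhN : Qh ≤ normalizerIn S Pst) :
    ∃ (M₁ : Subgroup Ω) (ψe : M₁ →* Ω), ψe ∈ F.Hom M₁ ∧ Qh ≤ M₁ ∧ D₀ ≤ M₁ ∧
      M₁ ≤ normalizerIn S Pst ∧ imgOf ψe Pst = Pst ∧
      ∀ (x : Qh) (hM : (x : Ω) ∈ M₁), (x : Ω) ∈ Pst → ψe ⟨x, hM⟩ = ((ξ x : Qh) : Ω) := by
  obtain ⟨z, hzA, hzfix, hzconj⟩ := exists_fix_conj hS F hQhS hPst hwp hξA hξs D₀ hD₀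
  have hξ'A : z * ξ ∈ F.autGroup Qh := (F.autGroup Qh).mul_mem hzA hξA
  have hξ's : z * ξ ∈ stabAut Qh Pst := (stabAut Qh Pst).mul_mem (fixAut_le_stabAut hzfix) hξs
  obtain ⟨ψe, hψe, hext⟩ := exists_ext_of_conj F hQhS hrec hξ'A D₀ (fun g hg => (hD₀ hg).1) hzconj
  have hQhM : Qh ≤ Subgroup.closure ((Qh : Set Ω) ∪ (D₀ : Set Ω)) :=
    fun x hx => Subgroup.subset_closure (Or.inl hx)
  have hD₀M : D₀ ≤ Subgroup.closure ((Qh : Set Ω) ∪ (D₀ : Set Ω)) :=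
    fun x hx => Subgroup.subset_closure (Or.inr hx)
  have hMN : Subgroup.closure ((Qh : Set Ω) ∪ (D₀ : Set Ω)) ≤ normalizerIn S Pst := by
    rw [Subgroup.closure_le]
    rintro g (hg | hg)
    · exact hQhN hg
    · exact qp_le_normalizerIn F p Pst (hD₀ hg).2
  refine ⟨_, ψe, hψe, hQhM, hD₀M, hMN, ?_, ?_⟩
  · rw [imgOf_eq_imgAut hext hPst (hPst.trans hQhM)]
    exact imgAut_of_mem_stabAut hξ's hPst
  · intro x hM hxP
    rw [hext x x.2 hM]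
    have h1 : ((ξ x : Qh) : Ω) ∈ Pst := (hξs x).mp hxP
    have h2 : z (ξ x) = ξ x := hzfix (ξ x) h1
    show ((z (ξ x) : Qh) : Ω) = ((ξ x : Qh) : Ω)
    rw [h2]

end Cfsg.Agent.Lib.helper87
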