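import Mathlib
import Cfsg.Prelude.Def_EvenType
import Cfsg.Agent.Lib.helper53.SPE
import Cfsg.Agent.Lib.helper89.StabChain
import Cfsg.Agent.Lib.helper92.Ess3a
import Cfsg.Agent.Lib.helper65.MetaInv
import Cfsg.Agent.Lib.helper3.PGroupFrattini

/-!
# Characteristic flags above the Frattini subgroup

If a finite `p`-group `H` has characteristic subgroups `Φ(H) ≤ M₂ ≤ M₁ ≤ H` such that every step of
the chain `H ≥ M₁ ≥ M₂ ≥ Φ(H)` has index `1` or `p`, then the stabilizer of the chain is a normal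
`p`-subgroup of `Aut(H)` with quotient of exponent dividing `p - 1`; hence no section of `Aut(H)`
has a strongly `p`-embedded subgroup (`no_spe_of_flag`).
-/

set_option autoImplicit false

namespace Cfsg.Agent.Lib.helper87.FlagKill

open Cfsg.Agent.Lib.helper89 (ActsTriviallyOn)

variable {H : Type*} [Group H]

theorem frattini_aut_mem (φ : MulAut H) {x : H} (hx : x ∈ frattini H) : φ x ∈ frattini H := by
  have h := (inferInstance : (frattini H).Characteristic).fixed φ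
  have h2 : x ∈ (frattini H).comap φ.toMonoidHom := by rw [h]; exact hx
  exact h2

/-- One step up a chain, modulo the Frattini subgroup. -/
theorem frat_step [Finite H] {p : ℕ} [Fact p.Prime] (hH : IsPGroup p H) (δ : MulAut H)
    (M' M : Subgroup H) (hle : M' ≤ M)
    (h' : ∃ k : ℕ, ∀ x ∈ M', x⁻¹ * (δ ^ (p ^ k)) x ∈ frattini H)
    (hstep : ∀ x ∈ M, x⁻¹ * δ x ∈ M') :
    ∃ k : ℕ, ∀ x ∈ M, x⁻¹ * (δ ^ (p ^ k)) x ∈ frattini H := by
  obtain ⟨k, hk⟩ := h'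
  have hδM : ∀ x ∈ M, δ x ∈ M := by
    intro x hx
    have : δ x = x * (x⁻¹ * δ x) := by group
    rw [this]
    exact M.mul_mem hx (hle (hstep x hx))
  have hpow : ∀ n : ℕ, ∀ x ∈ M, x⁻¹ * (δ ^ n) x ∈ M' := by
    intro n
    induction n with
    | zero => intro x _; simp
    | succ n ih =>
      intro x hx
      have e : x⁻¹ * (δ ^ (n + 1)) x = (x⁻¹ * δ x) * ((δ x)⁻¹ * (δ ^ n) (δ x)) := by
        rw [pow_succ, MulAut.mul_apply]; group
      rw [e]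
      exact M'.mul_mem (hstep x hx) (ih _ (hδM x hx))
  refine ⟨k + 1, fun x hx => ?_⟩
  obtain ⟨ε, hε⟩ : ∃ ε : MulAut H, ε = δ ^ (p ^ k) := ⟨_, rfl⟩
  have hm : x⁻¹ * ε x ∈ M' := by rw [hε]; exact hpow _ x hx
  have hmj : ∀ j : ℕ, x⁻¹ * (ε ^ j) x ∈ M' := by
    intro j
    rw [hε, ← pow_mul]
    exact hpow _ x hx
  have key : ∀ j : ℕ, ((x⁻¹ * (ε ^ j) x : H) : H ⧸ frattini H) = ((x⁻¹ * ε x : H) : H ⧸ frattini H) ^ j := by
    intro j
    induction j with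
    | zero => simp
    | succ j ih =>
      have e1 : x⁻¹ * (ε ^ (j + 1)) x = (x⁻¹ * ε x) * ε (x⁻¹ * (ε ^ j) x) := by
        rw [pow_succ', MulAut.mul_apply, map_mul, map_inv]; group
      have e2 : ((ε (x⁻¹ * (ε ^ j) x) : H) : H ⧸ frattini H) = ((x⁻¹ * (ε ^ j) x : H) : H ⧸ frattini H) := by
        rw [eq_comm, QuotientGroup.eq]
        have := hk _ (hmj j)
        rw [← hε] at this
        exact this
      rw [e1, QuotientGroup.mk_mul, e2, ih, pow_succ']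
  have h1 := key p
  rw [← QuotientGroup.mk_pow, QuotientGroup.eq] at h1
  have h2 : (x⁻¹ * ε x) ^ p ∈ frattini H :=
    Cfsg.Agent.Lib.helper3.pow_prime_mem_frattini hH _
  have h3 : x⁻¹ * (ε ^ p) x ∈ frattini H := by
    have : x⁻¹ * (ε ^ p) x = ((x⁻¹ * ε x) ^ p) * (((x⁻¹ * ε x) ^ p)⁻¹ * (x⁻¹ * (ε ^ p) x)) := by group
    rw [this]
    have h4 : ((x⁻¹ * ε x) ^ p)⁻¹ * (x⁻¹ * (ε ^ p) x) ∈ frattini H := by
      have h5 := (frattini H).inv_mem h1
      have e : ((x⁻¹ * (ε ^ p) x)⁻¹ * (x⁻¹ * ε x) ^ p)⁻¹ = ((x⁻¹ * ε x) ^ p)⁻¹ * (x⁻¹ * (ε ^ p) x) := by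
        group
      rw [e] at h5
      exact h5
    exact (frattini H).mul_mem h2 h4
  rw [pow_succ, pow_mul, ← hε]
  exact h3

/-- An automorphism some `p`-power of which is trivial modulo the Frattini subgroup has `p`-power
order. -/
theorem exists_pow_eq_one_of_frat [Finite H] {p : ℕ} [hp : Fact p.Prime] (hH : IsPGroup p H)
    (δ : MulAut H) (h : ∃ k : ℕ, ∀ x : H, x⁻¹ * (δ ^ (p ^ k)) x ∈ frattini H) :
    ∃ k : ℕ, δ ^ (p ^ k) = 1 := by
  obtain ⟨k, hk⟩ := h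
  obtain ⟨β, hβ⟩ : ∃ β : MulAut H, β = δ ^ (p ^ k) := ⟨_, rfl⟩
  have hN : (frattini H).Normal := inferInstance
  have hβ1 : ∀ x : H, β x * x⁻¹ ∈ frattini H := by
    intro x
    have h1 := hN.conj_mem _ (hk x) x
    rw [← hβ] at h1
    have e : x * (x⁻¹ * β x) * x⁻¹ = β x * x⁻¹ := by group
    rwa [e] at h1
  have hfin : IsOfFinOrder β := isOfFinOrder_of_finite β
  have hn0 : orderOf β ≠ 0 := (orderOf_pos_iff.mpr hfin).ne'
  obtain ⟨b, m, hm, hn⟩ := Nat.exists_eq_pow_mul_and_not_dvd hn0 p hp.out.ne_one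
  have hcop : m.Coprime p := ((Nat.Prime.coprime_iff_not_dvd hp.out).mpr hm).symm
  have h1 : (β ^ (p ^ b)) ^ m = 1 := by rw [← pow_mul, ← hn, pow_orderOf_eq_one]
  have h2 := Cfsg.Agent.Lib.helper65.mulAut_eq_one_of_coprime_trivial_mod_frattini hH (β ^ (p ^ b)) m
    hcop h1 (Cfsg.Agent.Lib.helper65.pow_trivial_mod_frattini β hβ1 (p ^ b))
  refine ⟨k + b, ?_⟩
  rw [pow_add, pow_mul, ← hβ]
  exact h2

/-- **Flag lemma.** A finite `p`-group with characteristic subgroups `Φ(H) ≤ M₂ ≤ M₁` such that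
every step of `H ≥ M₁ ≥ M₂ ≥ Φ(H)` has index `1` or `p`: no section of `Aut(H)` has a strongly
`p`-embedded subgroup. -/
theorem no_spe_of_flag [Finite H] (p : ℕ) [Fact p.Prime] (hH : IsPGroup p H)
    (M₁ M₂ : Subgroup H) (h21 : M₂ ≤ M₁) (hΦ : frattini H ≤ M₂)
    (hc1 : ∀ φ : MulAut H, ∀ x ∈ M₁, φ x ∈ M₁) (hc2 : ∀ φ : MulAut H, ∀ x ∈ M₂, φ x ∈ M₂)
    (hi0 : Nat.card H = p * Nat.card M₁ ∨ M₁ = ⊤)
    (hi1 : Nat.card M₁ = p * Nat.card M₂ ∨ M₁ = M₂)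
    (hi2 : Nat.card M₂ = p * Nat.card (frattini H) ∨ M₂ = frattini H)
    (A : Subgroup (MulAut H)) (N : Subgroup A) [N.Normal] (E : Subgroup (A ⧸ N)) :
    ¬ Cfsg.IsStronglyPEmbedded p E := by
  have hp : p.Prime := Fact.out
  have hc3 : ∀ φ : MulAut H, ∀ x ∈ frattini H, φ x ∈ frattini H := fun φ x hx => frattini_aut_mem φ hx
  have hiff : ∀ (M : Subgroup H), (∀ φ : MulAut H, ∀ x ∈ M, φ x ∈ M) →
      ∀ φ : MulAut H, ∀ x, φ x ∈ M ↔ x ∈ M := by
    intro M hc φ x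
    refine ⟨fun h => ?_, hc φ x⟩
    have := hc φ⁻¹ _ h
    simpa using this
  have hnorm : ∀ (M : Subgroup H), (∀ φ : MulAut H, ∀ x ∈ M, φ x ∈ M) →
      ∀ b : H, ∀ a ∈ M, b * a * b⁻¹ ∈ M := by
    intro M hc b a ha
    simpa using hc (MulAut.conj b) a ha
  -- the stabilizer of the chain
  let K : Subgroup (MulAut H) :=
    { carrier := {φ | ActsTriviallyOn φ ⊤ M₁ ∧ ActsTriviallyOn φ M₁ M₂ ∧
        ActsTriviallyOn φ M₂ (frattini H)}
      one_mem' := ⟨Cfsg.Agent.Lib.helper89.actsTriviallyOn_one _ _,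
        Cfsg.Agent.Lib.helper89.actsTriviallyOn_one _ _,
        Cfsg.Agent.Lib.helper89.actsTriviallyOn_one _ _⟩
      mul_mem' := by
        rintro φ ψ ⟨a1, a2, a3⟩ ⟨b1, b2, b3⟩
        exact ⟨a1.mul (fun x hx => Subgroup.mem_top _) b1, a2.mul (hc1 ψ) b2, a3.mul (hc2 ψ) b3⟩
      inv_mem' := by
        rintro φ ⟨a1, a2, a3⟩
        exact ⟨a1.inv (fun x hx => Subgroup.mem_top _), a2.inv (hc1 φ⁻¹), a3.inv (hc2 φ⁻¹)⟩ }
  have hKn : K.Normal := ⟨by
    rintro φ ⟨a1, a2, a3⟩ ψ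
    exact ⟨a1.conj (fun x hx => Subgroup.mem_top _) (hc1 ψ), a2.conj (hc1 ψ⁻¹) (hc2 ψ),
      a3.conj (hc2 ψ⁻¹) (hc3 ψ)⟩⟩
  have hKpg : IsPGroup p K := by
    rintro ⟨φ, a1, a2, a3⟩
    have h0 : ∃ k : ℕ, ∀ x ∈ frattini H, x⁻¹ * (φ ^ (p ^ k)) x ∈ frattini H :=
      ⟨0, fun x hx => by
        rw [pow_zero, pow_one]
        exact (frattini H).mul_mem ((frattini H).inv_mem hx) (hc3 φ x hx)⟩
    have h1 := frat_step hH φ (frattini H) M₂ hΦ h0 a3
    have h2 := frat_step hH φ M₂ M₁ h21 h1 a2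
    obtain ⟨k, hk⟩ := frat_step hH φ M₁ ⊤ le_top h2 a1
    obtain ⟨j, hj⟩ := exists_pow_eq_one_of_frat hH φ ⟨k, fun x => hk x (Subgroup.mem_top x)⟩
    exact ⟨j, Subtype.ext hj⟩
  have hsec : ∀ (A' B : Subgroup H), A' ≤ B → (∀ φ : MulAut H, ∀ x ∈ A', φ x ∈ A') →
      (∀ φ : MulAut H, ∀ x ∈ B, φ x ∈ B) → (Nat.card B = p * Nat.card A' ∨ B = A') →
      ∀ φ : MulAut H, ActsTriviallyOn (φ ^ (p - 1)) B A' := by
    intro A' B hAB hcA hcB hcard φ
    rcases hcard with hcard | rfl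
    · exact Cfsg.Agent.Lib.helper92.aut_section_pow p A' B hAB
        (fun b _ a ha => hnorm A' hcA b a ha) hcard φ (hiff A' hcA φ) (hiff B hcB φ)
    · intro x hx
      exact B.mul_mem (B.inv_mem hx) (hcB _ x hx)
  have hpm : ∀ φ : MulAut H, φ ^ (p - 1) ∈ K := by
    intro φ
    refine ⟨?_, ?_, ?_⟩
    · refine hsec M₁ ⊤ le_top hc1 (fun _ _ _ => Subgroup.mem_top _) ?_ φ
      rcases hi0 with h | h
      · left; rw [Subgroup.card_top]; exact h
      · right; exact h.symm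
    · exact hsec M₂ M₁ h21 hc2 hc1 hi1 φ
    · exact hsec (frattini H) M₂ hΦ hc3 hc2 hi2 φ
  intro hE
  obtain ⟨P, hPne, hPE, hkey⟩ := Cfsg.Agent.Lib.helper53.spe_exists_sylow hE
  apply hE.2.1
  let R : Subgroup (A ⧸ N) := (K.subgroupOf A).map (QuotientGroup.mk' N)
  have hRn : R.Normal :=
    Subgroup.Normal.map (hKn.subgroupOf A) _ (QuotientGroup.mk'_surjective N)
  have hRp : IsPGroup p R := IsPGroup.map hKpg.comap_subtype _
  have hPR : (P : Subgroup (A ⧸ N)) ≤ R := by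
    intro x hx
    obtain ⟨k, hk⟩ := P.2 ⟨x, hx⟩
    have hxk : x ^ (p ^ k) = 1 := by simpa using congrArg Subtype.val hk
    obtain ⟨a, rfl⟩ := QuotientGroup.mk_surjective x
    have h1 : (a : A ⧸ N) ^ (p - 1) ∈ R := by
      refine ⟨a ^ (p - 1), ?_, rfl⟩
      rw [SetLike.mem_coe, Subgroup.mem_subgroupOf]
      simpa using hpm (a : MulAut H)
    rcases Nat.eq_zero_or_pos k with rfl | hkpos
    · rw [pow_zero, pow_one] at hxk
      rw [hxk]; exact R.one_mem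
    · have hcop : Nat.Coprime (p - 1) (p ^ k) := by
        apply Nat.Coprime.pow_right
        have h2 : Nat.Coprime p (p - 1) :=
          (Nat.Prime.coprime_iff_not_dvd hp).mpr
            (Nat.not_dvd_of_pos_of_lt (by have := hp.two_le; omega) (by have := hp.two_le; omega))
        exact h2.symm
      obtain ⟨m, -, hm⟩ := Nat.exists_mul_mod_eq_one_of_coprime hcop
        (Nat.one_lt_pow hkpos.ne' hp.one_lt)
      have h3 : (a : A ⧸ N) = ((a : A ⧸ N) ^ (p - 1)) ^ m := by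
        rw [← pow_mul, pow_eq_pow_mod _ hxk, hm, pow_one]
      rw [h3]
      exact R.pow_mem h1 m
  have hPeq : R = (P : Subgroup (A ⧸ N)) := P.3 hRp hPR
  have hPn : (P : Subgroup (A ⧸ N)).Normal := hPeq ▸ hRn
  have h4 := hkey P le_rfl hPne
  rw [Subgroup.normalizer_eq_top_iff.mpr hPn] at h4
  exact top_le_iff.mp h4

end Cfsg.Agent.Lib.helper87.FlagKill
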