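import Cfsg.Agent.Lib.helper87.StabAut
import Cfsg.Agent.Lib.helper87.ConjSystem
import Cfsg.Agent.Lib.helper88.Saturated

/-!
Images of subgroups under maps of a fusion system, and a small calculus for composing, inverting and
restricting maps of a fusion system.
-/

set_option autoImplicit false

namespace Cfsg.Agent.Lib.helper87

open Cfsg
open Cfsg.FusionSystem (normalizerIn centralizerIn extender)

variable {Ω : Type*} [Group Ω]

/-- The image of (the part inside `M` of) `P` under a homomorphism defined on `M`. -/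
def imgOf {M : Subgroup Ω} (φ : M →* Ω) (P : Subgroup Ω) : Subgroup Ω := (P.subgroupOf M).map φ

theorem mem_imgOf {M : Subgroup Ω} {φ : M →* Ω} {P : Subgroup Ω} {y : Ω} :
    y ∈ imgOf φ P ↔ ∃ x : M, (x : Ω) ∈ P ∧ φ x = y := by
  constructor
  · rintro ⟨x, hx, rfl⟩
    exact ⟨x, Subgroup.mem_subgroupOf.mp hx, rfl⟩
  · rintro ⟨x, hx, rfl⟩
    exact ⟨x, Subgroup.mem_subgroupOf.mpr hx, rfl⟩

theorem apply_mem_imgOf {M : Subgroup Ω} {φ : M →* Ω} {P : Subgroup Ω} {x : M} (hx : (x : Ω) ∈ P) :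
    φ x ∈ imgOf φ P :=
  mem_imgOf.mpr ⟨x, hx, rfl⟩

theorem apply_mem_imgOf_iff {M : Subgroup Ω} {φ : M →* Ω} (hφ : Function.Injective φ) {P : Subgroup Ω}
    {x : M} : φ x ∈ imgOf φ P ↔ (x : Ω) ∈ P := by
  constructor
  · intro h
    obtain ⟨y, hy, hxy⟩ := mem_imgOf.mp h
    have : y = x := hφ hxy
    rwa [← this]
  · exact apply_mem_imgOf

theorem imgOf_le_range {M : Subgroup Ω} (φ : M →* Ω) (P : Subgroup Ω) : imgOf φ P ≤ φ.range := by
  rintro _ ⟨x, -, rfl⟩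
  exact ⟨x, rfl⟩

theorem imgOf_self {M : Subgroup Ω} (φ : M →* Ω) : imgOf φ M = φ.range := by
  ext y
  rw [mem_imgOf]
  constructor
  · rintro ⟨x, -, rfl⟩
    exact ⟨x, rfl⟩
  · rintro ⟨x, rfl⟩
    exact ⟨x, x.2, rfl⟩

theorem imgOf_mono {M : Subgroup Ω} (φ : M →* Ω) {P P' : Subgroup Ω} (h : P ≤ P') :
    imgOf φ P ≤ imgOf φ P' := by
  intro y hy
  obtain ⟨x, hx, rfl⟩ := mem_imgOf.mp hy
  exact apply_mem_imgOf (h hx)

theorem card_imgOf {M : Subgroup Ω} {φ : M →* Ω} (hφ : Function.Injective φ) {P : Subgroup Ω}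
    (hP : P ≤ M) : Nat.card (imgOf φ P) = Nat.card P := by
  unfold imgOf
  rw [Subgroup.card_map_of_injective hφ]
  exact Nat.card_congr (Subgroup.subgroupOfEquivOfLe hP).toEquiv

theorem card_range {M : Subgroup Ω} {φ : M →* Ω} (hφ : Function.Injective φ) :
    Nat.card φ.range = Nat.card M := by
  rw [← imgOf_self, card_imgOf hφ le_rfl]

theorem imgOf_restrict {M M₀ : Subgroup Ω} (φ : M →* Ω) (h : M₀ ≤ M) {P : Subgroup Ω} (hP : P ≤ M₀) :
    imgOf (φ.comp (Subgroup.inclusion h)) P = imgOf φ P := by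
  ext y
  rw [mem_imgOf, mem_imgOf]
  constructor
  · rintro ⟨x, hx, rfl⟩
    exact ⟨Subgroup.inclusion h x, hx, rfl⟩
  · rintro ⟨x, hx, rfl⟩
    exact ⟨⟨x, hP hx⟩, hx, rfl⟩

theorem imgOf_comp {M M' : Subgroup Ω} (φ : M →* Ω) (ψ : M' →* Ω) (h : ∀ x : M, φ x ∈ M')
    (P : Subgroup Ω) : imgOf (ψ.comp (φ.codRestrict M' h)) P = imgOf ψ (imgOf φ P) := by
  ext y
  rw [mem_imgOf, mem_imgOf]
  constructor
  · rintro ⟨x, hx, rfl⟩
    exact ⟨⟨φ x, h x⟩, apply_mem_imgOf hx, rfl⟩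
  · rintro ⟨z, hz, rfl⟩
    obtain ⟨x, hx, hxz⟩ := mem_imgOf.mp hz
    refine ⟨x, hx, ?_⟩
    have h1 : (⟨φ x, h x⟩ : M') = z := Subtype.ext hxz
    show ψ ⟨φ x, h x⟩ = ψ z
    rw [h1]

theorem apply_mem_normalizer {M : Subgroup Ω} (φ : M →* Ω) {P : Subgroup Ω} {x : M}
    (hx : (x : Ω) ∈ Subgroup.normalizer (P : Set Ω)) :
    φ x ∈ Subgroup.normalizer ((imgOf φ P : Subgroup Ω) : Set Ω) := by
  rw [Subgroup.mem_normalizer_iff]
  intro h
  constructor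
  · intro hh
    obtain ⟨y, hy, rfl⟩ := mem_imgOf.mp hh
    have h1 : φ x * φ y * (φ x)⁻¹ = φ (x * y * x⁻¹) := by rw [map_mul, map_mul, map_inv]
    rw [h1]
    exact apply_mem_imgOf ((Subgroup.mem_normalizer_iff.mp hx y).mp hy)
  · intro hh
    obtain ⟨y, hy, hyx⟩ := mem_imgOf.mp hh
    have h1 : h = φ (x⁻¹ * y * x) := by
      rw [map_mul, map_mul, map_inv, hyx]
      group
    rw [h1]
    refine apply_mem_imgOf ?_
    have h2 := (Subgroup.mem_normalizer_iff.mp (Subgroup.inv_mem _ hx) y).mp hy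
    rw [inv_inv] at h2
    exact h2

section Fus

variable {S : Subgroup Ω}

theorem imgOf_le_S (F : FusionSystem S) {M : Subgroup Ω} {φ : M →* Ω} (hφ : φ ∈ F.Hom M)
    (P : Subgroup Ω) : imgOf φ P ≤ S := by
  rintro _ ⟨x, -, rfl⟩
  exact (F.le_of_mem hφ).2 x

theorem range_le_S (F : FusionSystem S) {M : Subgroup Ω} {φ : M →* Ω} (hφ : φ ∈ F.Hom M) :
    φ.range ≤ S := by
  rintro _ ⟨x, rfl⟩
  exact (F.le_of_mem hφ).2 x

theorem apply_mem_normalizerIn (F : FusionSystem S) {M : Subgroup Ω} {φ : M →* Ω} (hφ : φ ∈ F.Hom M)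
    {P : Subgroup Ω} {x : M} (hx : (x : Ω) ∈ normalizerIn S P) : φ x ∈ normalizerIn S (imgOf φ P) :=
  ⟨(F.le_of_mem hφ).2 x, apply_mem_normalizer φ hx.2⟩

theorem range_le_normalizerIn (F : FusionSystem S) {M : Subgroup Ω} {φ : M →* Ω} (hφ : φ ∈ F.Hom M)
    {P : Subgroup Ω} (hM : M ≤ normalizerIn S P) : φ.range ≤ normalizerIn S (imgOf φ P) := by
  rintro _ ⟨x, rfl⟩
  exact apply_mem_normalizerIn F hφ (hM x.2)

/-- The image of `P` under a map of the system defined on a subgroup containing `P` is conjugate to `P`. -/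
theorem isConj_imgOf (F : FusionSystem S) {M : Subgroup Ω} {φ : M →* Ω} (hφ : φ ∈ F.Hom M)
    {P : Subgroup Ω} (hP : P ≤ M) : F.IsConj P (imgOf φ P) := by
  refine ⟨φ.comp (Subgroup.inclusion hP), hom_comp_inclusion F hφ hP, ?_⟩
  rw [← imgOf_self, imgOf_restrict φ hP le_rfl]

/-- Composition of maps of the system. -/
theorem comp_mem' (F : FusionSystem S) {M M' : Subgroup Ω} {φ : M →* Ω} {ψ : M' →* Ω}
    (hφ : φ ∈ F.Hom M) (hψ : ψ ∈ F.Hom M') (h : φ.range ≤ M') :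
    ∃ κ ∈ F.Hom M, (∀ (x : M) (hx : φ x ∈ M'), κ x = ψ ⟨φ x, hx⟩) ∧
      ∀ P : Subgroup Ω, imgOf κ P = imgOf ψ (imgOf φ P) := by
  have h' : ∀ x : M, φ x ∈ M' := fun x => h ⟨x, rfl⟩
  exact ⟨ψ.comp (φ.codRestrict M' h'), F.comp_mem hφ hψ h', fun x hx => rfl,
    fun P => imgOf_comp φ ψ h' P⟩

/-- For two maps `φ`, `σ` of the system with the same source there is a map of the system defined on
the image of `φ` sending `φ x` to `σ x`. -/
theorem exists_inv_comp (F : FusionSystem S) {M B : Subgroup Ω} {φ σ : M →* Ω} (hφ : φ ∈ F.Hom M)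
    (hσ : σ ∈ F.Hom M) (hB : φ.range = B) :
    ∃ τ ∈ F.Hom B, ∀ (x : M) (h : φ x ∈ B), τ ⟨φ x, h⟩ = σ x := by
  subst hB
  obtain ⟨ψ, hψ, hψx⟩ := F.inv_mem hφ
  have h : ∀ y : φ.range, ψ y ∈ M := by
    rintro ⟨_, x, rfl⟩
    rw [hψx]
    exact x.2
  refine ⟨σ.comp (ψ.codRestrict M h), F.comp_mem hψ hσ h, fun x hx => ?_⟩
  have h1 : (⟨ψ ⟨φ x, hx⟩, h ⟨φ x, hx⟩⟩ : M) = x := Subtype.ext (hψx x)
  show σ ⟨ψ ⟨φ x, hx⟩, h ⟨φ x, hx⟩⟩ = σ x
  rw [h1]

theorem imgOf_inv_comp {M B : Subgroup Ω} {φ σ : M →* Ω} {τ : B →* Ω} (hB : φ.range = B)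
    (hτ : ∀ (x : M) (h : φ x ∈ B), τ ⟨φ x, h⟩ = σ x) (P : Subgroup Ω) :
    imgOf τ (imgOf φ P) = imgOf σ P := by
  ext y
  rw [mem_imgOf, mem_imgOf]
  constructor
  · rintro ⟨z, hz, rfl⟩
    obtain ⟨x, hx, hxz⟩ := mem_imgOf.mp hz
    refine ⟨x, hx, ?_⟩
    have hmem : φ x ∈ B := by
      rw [hxz]
      exact z.2
    have h1 : (⟨φ x, hmem⟩ : B) = z := Subtype.ext hxz
    rw [← hτ x hmem, h1]
  · rintro ⟨x, hx, rfl⟩
    have hmem : φ x ∈ B := by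
      rw [← hB]
      exact ⟨x, rfl⟩
    exact ⟨⟨φ x, hmem⟩, apply_mem_imgOf hx, hτ x hmem⟩

theorem range_inv_comp {M B : Subgroup Ω} {φ σ : M →* Ω} {τ : B →* Ω} (hB : φ.range = B)
    (hτ : ∀ (x : M) (h : φ x ∈ B), τ ⟨φ x, h⟩ = σ x) : τ.range = σ.range := by
  have h1 := imgOf_inv_comp hB hτ M
  rw [imgOf_self φ, hB, imgOf_self τ, imgOf_self σ] at h1
  exact h1

/-- In a finite `p`-group, a proper subgroup of `R` is properly contained in its normalizer in `R`. -/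
theorem lt_inf_normalizer [Finite S] {p : ℕ} [Fact p.Prime] (hS : IsPGroup p S) {P R : Subgroup Ω}
    (hPR : P < R) (hRS : R ≤ S) : P < R ⊓ Subgroup.normalizer (P : Set Ω) := by
  have : Finite R := Cfsg.Agent.Lib.helper89.finite_of_le hRS
  exact Cfsg.Agent.Lib.helper89.lt_normalizerIn (hS.to_le hRS) hPR

end Fus

end Cfsg.Agent.Lib.helper87
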