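/-
Piece M of the characterisation of the rank-24 lattice (statement S0406): behaviour of frames,
coordinate maps and binary codes under a permutation of the frame together with sign changes.
-/
import Mathlib
import Cfsg.Agent.Lib.helper9.LcDefs

set_option autoImplicit false
open Matrix

namespace Cfsg.Agent.Lib.helper87

open Cfsg Cfsg.Agent.Lib.helper9

theorem lc_frame_perm (B : Matrix (Fin 24) (Fin 24) ℤ) (v : GolayPt → Fin 24 → ℤ)
    (hv : LcFrame B v) (π : Equiv.Perm GolayPt) (ε : GolayPt → ℤ)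
    (hε : ∀ p, ε p = 1 ∨ ε p = -1) : LcFrame B (fun p => ε p • v (π p)) := by
  obtain ⟨h1, h2⟩ := hv
  refine ⟨?_, ?_⟩
  · intro p q
    show (ε p • v (π p)) ⬝ᵥ (B *ᵥ (ε q • v (π q))) = _
    rw [Matrix.mulVec_smul, smul_dotProduct, dotProduct_smul, h1 (π p) (π q)]
    by_cases hpq : p = q
    · subst hpq
      simp only [if_true]
      rcases hε p with h | h <;> rw [h] <;> norm_num
    · have : π p ≠ π q := fun h => hpq (π.injective h)
      simp [hpq, this]
  · intro p q k
    have h := h2 (π p) (π q) k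
    simp only [Pi.sub_apply, Pi.smul_apply, smul_eq_mul] at h ⊢
    rcases hε p with hp | hp <;> rcases hε q with hq | hq <;> rw [hp, hq]
    · simpa using h
    · have : (1 : ℤ) * v (π p) k - -1 * v (π q) k = (v (π p) k - v (π q) k) + 2 * v (π q) k := by
        ring
      rw [this]
      exact dvd_add h (dvd_mul_right _ _)
    · have : (-1 : ℤ) * v (π p) k - 1 * v (π q) k = -(v (π p) k - v (π q) k) - 2 * v (π q) k := by
        ring
      rw [this]
      exact dvd_sub (h.neg_right) (dvd_mul_right _ _)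
    · have : (-1 : ℤ) * v (π p) k - -1 * v (π q) k = -(v (π p) k - v (π q) k) := by ring
      rw [this]
      exact h.neg_right

theorem lc_map_perm (B : Matrix (Fin 24) (Fin 24) ℤ) (v : GolayPt → Fin 24 → ℤ)
    (π : Equiv.Perm GolayPt) (ε : GolayPt → ℤ) (x : Fin 24 → ℤ) (p : GolayPt) :
    lcMap B (fun p => ε p • v (π p)) x p = ε p * lcMap B v x (π p) := by
  rw [lcMap_apply, lcMap_apply]
  show x ⬝ᵥ (B *ᵥ (ε p • v (π p))) = _
  rw [Matrix.mulVec_smul, dotProduct_smul, smul_eq_mul]

theorem lc_code_perm (L L' : AddSubgroup (GolayPt → ℤ)) (π : Equiv.Perm GolayPt)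
    (ε : GolayPt → ℤ) (hε : ∀ p, ε p = 1 ∨ ε p = -1)
    (h : ∀ u : GolayPt → ℤ, u ∈ L' ↔ ∃ w ∈ L, u = fun p => ε p * w (π p))
    (s : GolayPt → ZMod 2) :
    s ∈ lcCode L' ↔ ∃ t ∈ lcCode L, s = fun p => t (π p) := by
  have hεε : ∀ p, ε p * ε p = 1 := by
    intro p
    rcases hε p with h | h <;> rw [h] <;> norm_num
  have hcast : ∀ p, ((ε p : ℤ) : ZMod 2) = 1 := by
    intro p
    rcases hε p with h | h <;> rw [h]
    · simp
    · decide
  constructor
  · rintro ⟨hh, hmem, rfl⟩
    obtain ⟨w, hw, hwe⟩ := (h _).mp hmem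
    -- w q = 2 * (ε (π⁻¹ q) * hh (π⁻¹ q))
    have hwq : ∀ p, w (π p) = 2 * (ε p * hh p) := by
      intro p
      have := congrFun hwe p
      simp only [Pi.smul_apply, smul_eq_mul] at this
      calc w (π p) = (ε p * ε p) * w (π p) := by rw [hεε, one_mul]
        _ = ε p * (ε p * w (π p)) := by ring
        _ = ε p * (2 * hh p) := by rw [← this]
        _ = 2 * (ε p * hh p) := by ring
    refine ⟨fun q => (((ε (π.symm q) * hh (π.symm q) : ℤ)) : ZMod 2), ?_, ?_⟩
    · refine ⟨fun q => ε (π.symm q) * hh (π.symm q), ?_, rfl⟩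
      have : (2 : ℤ) • (fun q => ε (π.symm q) * hh (π.symm q)) = w := by
        funext q
        have := hwq (π.symm q)
        simp only [Equiv.apply_symm_apply] at this
        simp only [Pi.smul_apply, smul_eq_mul]
        rw [this]
      rw [this]
      exact hw
    · funext p
      simp only [Equiv.symm_apply_apply]
      push_cast
      rw [hcast, one_mul]
  · rintro ⟨t, ⟨k, hk, rfl⟩, rfl⟩
    refine ⟨fun p => ε p * k (π p), ?_, ?_⟩
    · rw [h]
      refine ⟨(2 : ℤ) • k, hk, ?_⟩
      funext p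
      simp only [Pi.smul_apply, smul_eq_mul]
      ring
    · funext p
      push_cast
      rw [hcast, one_mul]

end Cfsg.Agent.Lib.helper87
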