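import Mathlib

/-!
# Upper central series of a `p`-group of maximal class

For a group `G` of order `p ^ n` (`n ≥ 4`) and nilpotency class `n - 1` the centre has order `p`,
the second centre has order `p ^ 2`, and the centralizer of the second centre has index `p`.
-/

set_option autoImplicit false

namespace Cfsg.Agent.Lib.helper87

variable {G : Type*} [Group G]

/-- in a finite `p`-group a strict inclusion of subgroups multiplies the order by at least `p`. -/
theorem mcu_card_mul_le_of_lt [Finite G] {p : ℕ} [hp : Fact p.Prime] (hG : IsPGroup p G)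
    {H K : Subgroup G} (h : H < K) : p * Nat.card H ≤ Nat.card K := by
  obtain ⟨a, ha⟩ := (hG.to_subgroup H).exists_card_eq
  obtain ⟨b, hb⟩ := (hG.to_subgroup K).exists_card_eq
  have hlt : Nat.card H < Nat.card K := by
    by_contra hcon
    push Not at hcon
    exact h.ne (Subgroup.eq_of_le_of_card_ge h.le hcon)
  rw [ha, hb] at hlt ⊢
  have hab : a < b := (Nat.pow_lt_pow_iff_right hp.out.one_lt).mp hlt
  calc p * p ^ a = p ^ (a + 1) := by ring
    _ ≤ p ^ b := Nat.pow_le_pow_right hp.out.pos hab

/-- if `G / Z_{k+1}(G)` is cyclic then `Z_{k+1}(G) = G`. -/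
theorem mcu_upper_eq_top_of_cyclic (k : ℕ)
    (hcyc : IsCyclic (G ⧸ Subgroup.upperCentralSeries G (k + 1))) :
    Subgroup.upperCentralSeries G (k + 1) = ⊤ := by
  have hle : Subgroup.upperCentralSeries G k ≤
      (Subgroup.upperCentralSeries G (k + 1)).comap (MonoidHom.id G) :=
    Subgroup.upperCentralSeries_mono G (Nat.le_succ k)
  obtain ⟨f, hf⟩ : ∃ f : G ⧸ Subgroup.upperCentralSeries G k →*
      G ⧸ Subgroup.upperCentralSeries G (k + 1),
      f = QuotientGroup.map _ _ (MonoidHom.id G) hle := ⟨_, rfl⟩
  have hker : f.ker ≤ Subgroup.center (G ⧸ Subgroup.upperCentralSeries G k) := by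
    intro q hq
    obtain ⟨g, rfl⟩ := QuotientGroup.mk_surjective q
    rw [MonoidHom.mem_ker, hf, QuotientGroup.map_mk, MonoidHom.id_apply,
      QuotientGroup.eq_one_iff] at hq
    rw [Subgroup.mem_center_iff]
    intro r
    obtain ⟨y, rfl⟩ := QuotientGroup.mk_surjective r
    have h1 := (Subgroup.mem_upperCentralSeries_succ_iff).mp hq y
    rw [commutatorElement_def] at h1
    have h2 : ((g * y * g⁻¹ * y⁻¹ : G) : G ⧸ Subgroup.upperCentralSeries G k) = 1 :=
      (QuotientGroup.eq_one_iff _).mpr h1
    have h3 : ((g : G) : G ⧸ Subgroup.upperCentralSeries G k) * (y : G) =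
        ((g * y * g⁻¹ * y⁻¹ : G) : G ⧸ Subgroup.upperCentralSeries G k) * ((y : G) * (g : G)) := by
      rw [← QuotientGroup.mk_mul, ← QuotientGroup.mk_mul, ← QuotientGroup.mk_mul]
      congr 1
      group
    rw [h3, h2, one_mul]
  rw [eq_top_iff]
  intro g _
  rw [Subgroup.mem_upperCentralSeries_succ_iff]
  intro y
  rw [commutatorElement_def]
  have h1 := commutative_of_cyclic_center_quotient f hker
    ((g : G) : G ⧸ Subgroup.upperCentralSeries G k) (y : G)
  rw [← QuotientGroup.eq_one_iff]
  have h2 : ((g * y * g⁻¹ * y⁻¹ : G) : G ⧸ Subgroup.upperCentralSeries G k) =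
      (QuotientGroup.mk g : G ⧸ Subgroup.upperCentralSeries G k) * QuotientGroup.mk y *
        (QuotientGroup.mk g : G ⧸ Subgroup.upperCentralSeries G k)⁻¹ *
        (QuotientGroup.mk y : G ⧸ Subgroup.upperCentralSeries G k)⁻¹ := rfl
  rw [h2, h1]
  group

/-- orders of the first two terms of the upper central series of a `p`-group of maximal class. -/
theorem mcu_card_upper [Finite G] {p n : ℕ} [hp : Fact p.Prime] (hG : Nat.card G = p ^ n)
    (hn : 4 ≤ n) (hcl : (⊤ : Subgroup G).lowerCentralSeries (n - 2) ≠ ⊥) :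
    Nat.card (Subgroup.center G) = p ∧ Nat.card (Subgroup.upperCentralSeries G 2) = p ^ 2 := by
  have hPG : IsPGroup p G := IsPGroup.of_card hG
  have hnil : Group.IsNilpotent G := hPG.isNilpotent
  have hp1 : 1 < p := hp.out.one_lt
  have hc : n - 1 ≤ Group.nilpotencyClass G := by
    by_contra hcon
    push Not at hcon
    apply hcl
    rw [Subgroup.lowerCentralSeries_eq_bot_iff_nilpotencyClass_le]
    omega
  obtain ⟨c, hcdef⟩ : ∃ c, c = Group.nilpotencyClass G := ⟨_, rfl⟩
  rw [← hcdef] at hc
  have hstrict : ∀ i, i < c → Subgroup.upperCentralSeries G i < Subgroup.upperCentralSeries G (i + 1) := by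
    intro i hi
    apply Subgroup.upperCentralSeries.StrictMonoOn G
    · rw [Set.mem_Iic, ← hcdef]; omega
    · rw [Set.mem_Iic, ← hcdef]; omega
    · exact Nat.lt_succ_self i
  have hstep : ∀ i, i < c → p * Nat.card (Subgroup.upperCentralSeries G i) ≤
      Nat.card (Subgroup.upperCentralSeries G (i + 1)) :=
    fun i hi => mcu_card_mul_le_of_lt hPG (hstrict i hi)
  have hlow : ∀ i, i ≤ c → p ^ i ≤ Nat.card (Subgroup.upperCentralSeries G i) := by
    intro i
    induction i with
    | zero => intro _; simp
    | succ i ih =>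
      intro hi
      calc p ^ (i + 1) = p * p ^ i := by ring
        _ ≤ p * Nat.card (Subgroup.upperCentralSeries G i) :=
            Nat.mul_le_mul_left p (ih (by omega))
        _ ≤ _ := hstep i (by omega)
  have hchain : ∀ j i, i + j ≤ c → Nat.card (Subgroup.upperCentralSeries G i) * p ^ j ≤
      Nat.card (Subgroup.upperCentralSeries G (i + j)) := by
    intro j
    induction j with
    | zero => intro i _; simp
    | succ j ih =>
      intro i hi
      calc Nat.card (Subgroup.upperCentralSeries G i) * p ^ (j + 1)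
          = p * (Nat.card (Subgroup.upperCentralSeries G i) * p ^ j) := by ring
        _ ≤ p * Nat.card (Subgroup.upperCentralSeries G (i + j)) :=
            Nat.mul_le_mul_left p (ih i (by omega))
        _ ≤ Nat.card (Subgroup.upperCentralSeries G (i + j + 1)) := hstep (i + j) (by omega)
  have hc3 : 3 ≤ c := by omega
  obtain ⟨m, hm⟩ : ∃ m, c = m + 2 := ⟨c - 2, by omega⟩
  -- the term `Z_{c-1}` has index at least `p ^ 2`
  have hne : Subgroup.upperCentralSeries G (m + 1) ≠ ⊤ := by
    intro h
    have h1 := hstrict (m + 1) (by omega)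
    rw [h] at h1
    exact lt_irrefl _ (lt_of_lt_of_le h1 le_top)
  have hidx : p ^ 2 * Nat.card (Subgroup.upperCentralSeries G (m + 1)) ≤ p ^ n := by
    obtain ⟨a, ha⟩ := (hPG.to_subgroup (Subgroup.upperCentralSeries G (m + 1))).exists_card_eq
    have hmul := Subgroup.card_mul_index (Subgroup.upperCentralSeries G (m + 1))
    rw [hG, ha] at hmul
    have hdvd : (Subgroup.upperCentralSeries G (m + 1)).index ∣ p ^ n := Dvd.intro_left _ hmul
    obtain ⟨b, -, hb⟩ := (Nat.dvd_prime_pow hp.out).mp hdvd
    rw [hb, ← pow_add] at hmul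
    have hab : a + b = n := Nat.pow_right_injective hp1 hmul
    have hb0 : b ≠ 0 := by
      intro h0
      rw [h0, pow_zero] at hb
      exact hne (Subgroup.index_eq_one.mp hb)
    have hb1 : b ≠ 1 := by
      intro h1
      rw [h1, pow_one] at hb
      have hcard : Nat.card (G ⧸ Subgroup.upperCentralSeries G (m + 1)) = p := by
        rw [← Subgroup.index_eq_card]; exact hb
      have hcyc : IsCyclic (G ⧸ Subgroup.upperCentralSeries G (m + 1)) :=
        isCyclic_of_prime_card hcard
      exact hne (mcu_upper_eq_top_of_cyclic m hcyc)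
    rw [ha, ← pow_add]
    exact Nat.pow_le_pow_right hp.out.pos (by omega)
  -- the class is exactly `n - 1`
  have hcn : m + 3 ≤ n := by
    have h1 := hlow (m + 1) (by omega)
    have h2 : p ^ (m + 3) ≤ p ^ n :=
      calc p ^ (m + 3) = p ^ 2 * p ^ (m + 1) := by ring
        _ ≤ p ^ 2 * Nat.card (Subgroup.upperCentralSeries G (m + 1)) := Nat.mul_le_mul_left _ h1
        _ ≤ p ^ n := hidx
    exact (Nat.pow_le_pow_iff_right hp1).mp h2
  have hmn : m + 3 = n := by omega
  have hup : ∀ i, i ≤ m + 1 → Nat.card (Subgroup.upperCentralSeries G i) ≤ p ^ i := by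
    intro i hi
    have h1 := hchain (m + 1 - i) i (by omega)
    rw [show i + (m + 1 - i) = m + 1 by omega] at h1
    have h2 : Nat.card (Subgroup.upperCentralSeries G i) * p ^ (m + 1 - i + 2) ≤ p ^ i * p ^ (m + 1 - i + 2) :=
      calc Nat.card (Subgroup.upperCentralSeries G i) * p ^ (m + 1 - i + 2)
          = p ^ 2 * (Nat.card (Subgroup.upperCentralSeries G i) * p ^ (m + 1 - i)) := by ring
        _ ≤ p ^ 2 * Nat.card (Subgroup.upperCentralSeries G (m + 1)) := Nat.mul_le_mul_left _ h1
        _ ≤ p ^ n := hidx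
        _ = p ^ i * p ^ (m + 1 - i + 2) := by
            rw [← pow_add]; congr 1; omega
    exact Nat.le_of_mul_le_mul_right h2 (Nat.pow_pos hp.out.pos)
  refine ⟨?_, ?_⟩
  · rw [← Subgroup.upperCentralSeries_one]
    have h1 := hup 1 (by omega)
    have h2 := hlow 1 (by omega)
    rw [pow_one] at h1 h2
    exact le_antisymm h1 h2
  · exact le_antisymm (hup 2 (by omega)) (hlow 2 (by omega))

/-- the centralizer of the second centre has index `p` when `|Z(G)| = p` and `|Z₂(G)| = p ^ 2`. -/
theorem mcu_index_centralizer [Finite G] {p : ℕ} [hp : Fact p.Prime] (hPG : IsPGroup p G)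
    (h1 : Nat.card (Subgroup.center G) = p)
    (h2 : Nat.card (Subgroup.upperCentralSeries G 2) = p ^ 2) :
    (Subgroup.centralizer ((Subgroup.upperCentralSeries G 2 : Subgroup G) : Set G)).index = p := by
  have hp1 : 1 < p := hp.out.one_lt
  have hZle : Subgroup.center G ≤ Subgroup.upperCentralSeries G 2 := by
    rw [← Subgroup.upperCentralSeries_one]
    exact Subgroup.upperCentralSeries_mono G (by omega)
  obtain ⟨t, ht2, htZ⟩ : ∃ t ∈ Subgroup.upperCentralSeries G 2, t ∉ Subgroup.center G := by
    by_contra hcon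
    push Not at hcon
    have hle : Subgroup.upperCentralSeries G 2 ≤ Subgroup.center G := fun x hx => hcon x hx
    have := Nat.le_of_dvd (by rw [h1]; exact hp.out.pos) (Subgroup.card_dvd_of_le hle)
    rw [h1, h2] at this
    nlinarith
  have hu : ∀ y : G, y * t * y⁻¹ * t⁻¹ ∈ Subgroup.center G := by
    intro y
    have h3 := (Subgroup.mem_upperCentralSeries_succ_iff (n := 1)).mp ht2 y
    rw [Subgroup.upperCentralSeries_one, commutatorElement_def] at h3
    have h4 := (Subgroup.center G).inv_mem h3
    have h5 : (t * y * t⁻¹ * y⁻¹)⁻¹ = y * t * y⁻¹ * t⁻¹ := by group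
    rwa [h5] at h4
  obtain ⟨f, hf⟩ : ∃ f : G →* G, ∀ g, f g = g * t * g⁻¹ * t⁻¹ := by
    refine ⟨MonoidHom.mk' (fun g => g * t * g⁻¹ * t⁻¹) ?_, fun g => rfl⟩
    intro g h
    have e1 : g * (h * t * h⁻¹ * t⁻¹) = (h * t * h⁻¹ * t⁻¹) * g :=
      Subgroup.mem_center_iff.mp (hu h) g
    have e2 : (g * t * g⁻¹ * t⁻¹) * (h * t * h⁻¹ * t⁻¹) = (h * t * h⁻¹ * t⁻¹) * (g * t * g⁻¹ * t⁻¹) :=
      Subgroup.mem_center_iff.mp (hu h) _
    calc g * h * t * (g * h)⁻¹ * t⁻¹ = g * (h * t * h⁻¹ * t⁻¹) * (t * g⁻¹ * t⁻¹) := by group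
      _ = (h * t * h⁻¹ * t⁻¹) * g * (t * g⁻¹ * t⁻¹) := by rw [e1]
      _ = (h * t * h⁻¹ * t⁻¹) * (g * t * g⁻¹ * t⁻¹) := by group
      _ = (g * t * g⁻¹ * t⁻¹) * (h * t * h⁻¹ * t⁻¹) := e2.symm
  have hker : f.ker = Subgroup.centralizer ({t} : Set G) := by
    ext g
    rw [MonoidHom.mem_ker, hf, Subgroup.mem_centralizer_iff]
    constructor
    · intro h x hx
      rw [Set.mem_singleton_iff] at hx
      subst hx
      have : g * x = x * g := by
        have h3 : g * x = (g * x * g⁻¹ * x⁻¹) * (x * g) := by group
        rw [h3, h, one_mul]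
      exact this.symm
    · intro h
      have h3 := h t (Set.mem_singleton t)
      rw [← h3]
      group
  have hrange : f.range ≤ Subgroup.center G := by
    rintro _ ⟨g, rfl⟩
    rw [hf]
    exact hu g
  have hidx : (Subgroup.centralizer ({t} : Set G)).index = p := by
    rw [← hker, Subgroup.index_ker]
    have hdvd : Nat.card f.range ∣ p := h1 ▸ Subgroup.card_dvd_of_le hrange
    rcases (Nat.dvd_prime hp.out).mp hdvd with h | h
    · exfalso
      have hbot : f.range = ⊥ := Subgroup.card_eq_one.mp h
      apply htZ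
      rw [Subgroup.mem_center_iff]
      intro g
      have h3 : f g = 1 := by
        have : f g ∈ f.range := ⟨g, rfl⟩
        rwa [hbot, Subgroup.mem_bot] at this
      rw [hf] at h3
      have h4 : g * t = (g * t * g⁻¹ * t⁻¹) * (t * g) := by group
      rw [h4, h3, one_mul]
    · exact h
  have hcent : Subgroup.centralizer ((Subgroup.upperCentralSeries G 2 : Subgroup G) : Set G) =
      Subgroup.centralizer ({t} : Set G) := by
    apply le_antisymm
    · exact Subgroup.centralizer_le (Set.singleton_subset_iff.mpr ht2)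
    · intro g hg
      have hsup : Subgroup.center G ⊔ Subgroup.zpowers t = Subgroup.upperCentralSeries G 2 := by
        have hle : Subgroup.center G ⊔ Subgroup.zpowers t ≤ Subgroup.upperCentralSeries G 2 :=
          sup_le hZle ((Subgroup.zpowers_le).mpr ht2)
        apply Subgroup.eq_of_le_of_card_ge hle
        have hlt : Subgroup.center G < Subgroup.center G ⊔ Subgroup.zpowers t := by
          apply lt_of_le_of_ne le_sup_left
          intro heq
          apply htZ
          rw [heq]
          exact le_sup_right (α := Subgroup G) (Subgroup.mem_zpowers t)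
        have := mcu_card_mul_le_of_lt hPG hlt
        rw [h1] at this
        rw [h2]
        calc p ^ 2 = p * p := by ring
          _ ≤ _ := this
      have hle : Subgroup.upperCentralSeries G 2 ≤ Subgroup.centralizer ({g} : Set G) := by
        rw [← hsup]
        refine sup_le ?_ ?_
        · intro z hz
          rw [Subgroup.mem_centralizer_iff]
          intro x hx
          rw [Set.mem_singleton_iff] at hx
          subst hx
          exact Subgroup.mem_center_iff.mp hz x
        · rw [Subgroup.zpowers_le, Subgroup.mem_centralizer_iff]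
          intro x hx
          rw [Set.mem_singleton_iff] at hx
          subst hx
          have h3 := (Subgroup.mem_centralizer_iff.mp hg) t (Set.mem_singleton t)
          exact h3.symm
      rw [Subgroup.mem_centralizer_iff]
      intro u hu2
      have h3 := (Subgroup.mem_centralizer_iff.mp (hle hu2)) g (Set.mem_singleton g)
      exact h3.symm
  rw [hcent, hidx]

end Cfsg.Agent.Lib.helper87
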