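import Mathlib
import Cfsg.Agent.Lib.helper85.McLDefs

/-!
# S5075, piece QUOT: the quotient module `X = [V,K] / W0` and the action of `K` on it (helper87)
-/

set_option autoImplicit false

open Cfsg.Agent.Lib.helper85.McL

namespace Cfsg.Agent.Lib.helper87.McL

universe u

variable {p : ℕ} [Fact p.Prime] {V : Type u} [AddCommGroup V] [Module (ZMod p) V]

/-- `[V,K]` is `K`-invariant. -/
theorem commSub_inv (K : Subgroup (V ≃ₗ[ZMod p] V)) {k : V ≃ₗ[ZMod p] V} (hk : k ∈ K) {w : V}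
    (hw : w ∈ commSub K) : k w ∈ commSub K := by
  have h1 : (commSub K).map (k : V →ₗ[ZMod p] V) ≤ commSub K := by
    unfold commSub
    rw [Submodule.map_span]
    apply Submodule.span_le.mpr
    rintro _ ⟨w, ⟨k', hk', v, rfl⟩, rfl⟩
    apply Submodule.subset_span
    refine ⟨k * k' * k⁻¹, K.mul_mem (K.mul_mem hk hk') (K.inv_mem hk), k v, ?_⟩
    simp [LinearEquiv.mul_apply]
  exact h1 (Submodule.mem_map_of_mem hw)

theorem sub_mem_commSub (K : Subgroup (V ≃ₗ[ZMod p] V)) {k : V ≃ₗ[ZMod p] V} (hk : k ∈ K) (v : V) :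
    k v - v ∈ commSub K :=
  Submodule.subset_span ⟨k, hk, v, rfl⟩

theorem radSub_le_commSub (K : Subgroup (V ≃ₗ[ZMod p] V)) : radSub K ≤ commSub K := inf_le_left

theorem radSub_fix (K : Subgroup (V ≃ₗ[ZMod p] V)) {k : V ≃ₗ[ZMod p] V} (hk : k ∈ K) {u : V}
    (hu : u ∈ radSub K) : k u = u :=
  (Submodule.mem_inf.mp hu).2 k hk

/-- `W0` as a submodule of `↥[V,K]`. -/
def rad' (K : Subgroup (V ≃ₗ[ZMod p] V)) : Submodule (ZMod p) ↥(commSub K) :=
  (radSub K).comap (commSub K).subtype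

theorem mem_rad' (K : Subgroup (V ≃ₗ[ZMod p] V)) (w : ↥(commSub K)) :
    w ∈ rad' K ↔ (w : V) ∈ radSub K := Iff.rfl

/-- The quotient module `X = [V,K] / W0`. -/
abbrev QX (K : Subgroup (V ≃ₗ[ZMod p] V)) : Type u := ↥(commSub K) ⧸ rad' K

/-- The restriction of `k ∈ K` to `[V,K]`. -/
def restr (K : Subgroup (V ≃ₗ[ZMod p] V)) (k : ↥K) : ↥(commSub K) →ₗ[ZMod p] ↥(commSub K) :=
  ((k : V ≃ₗ[ZMod p] V) : V →ₗ[ZMod p] V).restrict (fun _ hw => commSub_inv K k.2 hw)

theorem restr_coe (K : Subgroup (V ≃ₗ[ZMod p] V)) (k : ↥K) (w : ↥(commSub K)) :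
    ((restr K k w : ↥(commSub K)) : V) = (k : V ≃ₗ[ZMod p] V) (w : V) := rfl

theorem rad'_le_comap (K : Subgroup (V ≃ₗ[ZMod p] V)) (k : ↥K) :
    rad' K ≤ (rad' K).comap (restr K k) := by
  intro w hw
  have h1 : (w : V) ∈ radSub K := hw
  rw [Submodule.mem_comap, mem_rad', restr_coe, radSub_fix K k.2 h1]
  exact h1

/-- The map induced by `k ∈ K` on `X`. -/
def qmap (K : Subgroup (V ≃ₗ[ZMod p] V)) (k : ↥K) : QX K →ₗ[ZMod p] QX K :=
  (rad' K).mapQ (rad' K) (restr K k) (rad'_le_comap K k)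

theorem qmap_mk (K : Subgroup (V ≃ₗ[ZMod p] V)) (k : ↥K) (w : ↥(commSub K)) :
    qmap K k (Submodule.Quotient.mk w) = Submodule.Quotient.mk (restr K k w) := rfl

/-- `k ↦ qmap k` as a monoid homomorphism into the endomorphisms of `X`. -/
def qhom (K : Subgroup (V ≃ₗ[ZMod p] V)) : ↥K →* Module.End (ZMod p) (QX K) where
  toFun := qmap K
  map_one' := by
    apply LinearMap.ext
    intro y
    obtain ⟨w, rfl⟩ := Submodule.Quotient.mk_surjective _ y
    rw [qmap_mk]
    congr 1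
  map_mul' := by
    intro a b
    apply LinearMap.ext
    intro y
    obtain ⟨w, rfl⟩ := Submodule.Quotient.mk_surjective _ y
    rw [Module.End.mul_apply, qmap_mk, qmap_mk, qmap_mk]
    congr 1

/-- The action of `K` on `X`. -/
noncomputable def rho (K : Subgroup (V ≃ₗ[ZMod p] V)) : ↥K →* (QX K ≃ₗ[ZMod p] QX K) :=
  (LinearMap.GeneralLinearGroup.generalLinearEquiv (ZMod p) (QX K)).toMonoidHom.comp
    (qhom K).toHomUnits

theorem rho_mk (K : Subgroup (V ≃ₗ[ZMod p] V)) (k : ↥K) (w : ↥(commSub K)) :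
    rho K k (Submodule.Quotient.mk w) = Submodule.Quotient.mk (restr K k w) := rfl

/-- Every element of `H` preserves `[V,K]` and fixes `W0` pointwise (from `Comp.fixW`). -/
theorem comp_inv {H : Subgroup (V ≃ₗ[ZMod p] V)} {C : Set (V ≃ₗ[ZMod p] V)} (hC : Comp H C)
    {h : V ≃ₗ[ZMod p] V} (hh : h ∈ H) :
    (∀ w ∈ commSub (Subgroup.closure C), h w ∈ commSub (Subgroup.closure C)) ∧
      ∀ u ∈ radSub (Subgroup.closure C), h u = u := by
  obtain ⟨k, hk, hkw⟩ := hC.fixW h hh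
  refine ⟨fun w hw => ?_, fun u hu => ?_⟩
  · rw [hkw w hw]; exact commSub_inv _ hk hw
  · rw [hkw u (radSub_le_commSub _ hu)]; exact radSub_fix _ hk hu

theorem closure_le_of_comp {H : Subgroup (V ≃ₗ[ZMod p] V)} {C : Set (V ≃ₗ[ZMod p] V)}
    (hC : Comp H C) : Subgroup.closure C ≤ H := (Subgroup.closure_le H).mpr hC.sub

/-- `K = ⟨C⟩` acts faithfully on `[V,K]/W0`. -/
theorem faithful_of {H : Subgroup (V ≃ₗ[ZMod p] V)} (hU : UnipHyp H)
    {C : Set (V ≃ₗ[ZMod p] V)} (hC : Comp H C) : Faithful (Subgroup.closure C) := by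
  intro k hk hkw
  exact hU (radSub (Subgroup.closure C)) (commSub (Subgroup.closure C))
    (fun h hh u hu => by rw [(comp_inv hC hh).2 u hu]; exact hu)
    (fun h hh u hu => (comp_inv hC hh).1 u hu) k (closure_le_of_comp hC hk)
    (fun v => sub_mem_commSub _ hk v) hkw (fun u hu => radSub_fix _ hk hu)

/-- A transvection `t = τ(c, φ)` of `V` lying in a faithful `K`. -/
theorem tv_data {K : Subgroup (V ≃ₗ[ZMod p] V)} (hf : Faithful K) {t : V ≃ₗ[ZMod p] V}
    (ht : t ∈ K) {c : V} {φ : Module.Dual (ZMod p) V} (hc : c ≠ 0) (hφ : φ ≠ 0)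
    (htx : ∀ x, t x = x + φ x • c) :
    c ∈ commSub K ∧ (∀ u ∈ radSub K, φ u = 0) ∧ c ∉ radSub K ∧ ∃ w ∈ commSub K, φ w ≠ 0 := by
  obtain ⟨v, hv⟩ : ∃ v, φ v ≠ 0 := by
    by_contra h
    push Not at h
    exact hφ (LinearMap.ext h)
  have hcW : c ∈ commSub K := by
    have h1 := sub_mem_commSub K ht v
    rw [htx v, add_sub_cancel_left] at h1
    have h2 := (commSub K).smul_mem (φ v)⁻¹ h1
    rwa [smul_smul, inv_mul_cancel₀ hv, one_smul] at h2
  have hφ0 : ∀ u ∈ radSub K, φ u = 0 := by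
    intro u hu
    have h1 := radSub_fix K ht hu
    rw [htx u] at h1
    have h2 : φ u • c = 0 := by simpa using h1
    rcases smul_eq_zero.mp h2 with h3 | h3
    · exact h3
    · exact absurd h3 hc
  have ht1 : t ≠ 1 := by
    intro h1
    have h2 := htx v
    rw [h1] at h2
    have h3 : φ v • c = 0 := by simpa using h2.symm
    rcases smul_eq_zero.mp h3 with h4 | h4
    · exact hv h4
    · exact hc h4
  refine ⟨hcW, hφ0, ?_, ?_⟩
  · intro hc0
    apply ht1
    apply hf t ht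
    intro w _
    rw [htx w, add_sub_cancel_left]
    exact (radSub K).smul_mem _ hc0
  · by_contra hcon
    push Not at hcon
    apply ht1
    apply hf t ht
    intro w hw
    rw [htx w, hcon w hw, zero_smul, add_zero, sub_self]
    exact (radSub K).zero_mem

/-- The functional induced on `X` by a functional of `V` vanishing on `W0`. -/
def dualQ (K : Subgroup (V ≃ₗ[ZMod p] V)) (ξ : Module.Dual (ZMod p) V)
    (h : ∀ u ∈ radSub K, ξ u = 0) : Module.Dual (ZMod p) (QX K) :=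
  (rad' K).liftQ (ξ ∘ₗ (commSub K).subtype) (fun _ hw => h _ hw)

theorem dualQ_mk (K : Subgroup (V ≃ₗ[ZMod p] V)) (ξ : Module.Dual (ZMod p) V)
    (h : ∀ u ∈ radSub K, ξ u = 0) (w : ↥(commSub K)) :
    dualQ K ξ h (Submodule.Quotient.mk w) = ξ (w : V) := rfl

/-- The element of `GL(X)` induced by a transvection of `V` in `K`. -/
theorem rho_tv {K : Subgroup (V ≃ₗ[ZMod p] V)} (hf : Faithful K) (t : ↥K) {c : V}
    {φ : Module.Dual (ZMod p) V} (hc : c ≠ 0) (hφ : φ ≠ 0) (hφc : φ c = 0)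
    (htx : ∀ x, (t : V ≃ₗ[ZMod p] V) x = x + φ x • c) :
    ∃ (hcW : c ∈ commSub K) (hφ0 : ∀ u ∈ radSub K, φ u = 0),
      (Submodule.Quotient.mk ⟨c, hcW⟩ : QX K) ≠ 0 ∧ dualQ K φ hφ0 ≠ 0 ∧
      dualQ K φ hφ0 (Submodule.Quotient.mk ⟨c, hcW⟩) = 0 ∧
      ∀ y : QX K, rho K t y = y + dualQ K φ hφ0 y • (Submodule.Quotient.mk ⟨c, hcW⟩ : QX K) := by
  obtain ⟨hcW, hφ0, hc0, w, hw, hφw⟩ := tv_data hf t.2 hc hφ htx
  refine ⟨hcW, hφ0, ?_, ?_, ?_, ?_⟩
  · intro h
    rw [Submodule.Quotient.mk_eq_zero] at h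
    exact hc0 h
  · intro h
    have h1 : dualQ K φ hφ0 (Submodule.Quotient.mk ⟨w, hw⟩) = 0 := by rw [h]; rfl
    rw [dualQ_mk] at h1
    exact hφw h1
  · rw [dualQ_mk]; exact hφc
  · intro y
    obtain ⟨w, rfl⟩ := Submodule.Quotient.mk_surjective _ y
    rw [rho_mk, dualQ_mk, ← Submodule.Quotient.mk_smul, ← Submodule.Quotient.mk_add]
    congr 1
    apply Subtype.ext
    rw [restr_coe, htx]
    rfl

theorem rho_isTv {K : Subgroup (V ≃ₗ[ZMod p] V)} (hf : Faithful K) (t : ↥K)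
    (ht : IsTv (t : V ≃ₗ[ZMod p] V)) : IsTv (rho K t) := by
  obtain ⟨c, φ, hc, hφ, hφc, htx⟩ := ht
  obtain ⟨hcW, hφ0, h1, h2, h3, h4⟩ := rho_tv hf t hc hφ hφc htx
  exact ⟨_, _, h1, h2, h3, h4⟩

theorem isTv_conj {t : V ≃ₗ[ZMod p] V} (g : V ≃ₗ[ZMod p] V) (ht : IsTv t) : IsTv (g * t * g⁻¹) := by
  obtain ⟨c, φ, hc, hφ, hφc, htx⟩ := ht
  refine ⟨g c, φ ∘ₗ ((g⁻¹ : V ≃ₗ[ZMod p] V) : V →ₗ[ZMod p] V), ?_, ?_, ?_, ?_⟩
  · intro h
    exact hc (g.map_eq_zero_iff.mp h)
  · intro h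
    apply hφ
    apply LinearMap.ext
    intro x
    have h1 := congrArg (fun f : Module.Dual (ZMod p) V => f (g x)) h
    simpa using h1
  · simp [hφc]
  · intro x
    simp [LinearEquiv.mul_apply, htx]

/-- The statement of sub-piece QUOT-IRR for `C`. -/
def QIrr (C : Set (V ≃ₗ[ZMod p] V)) : Prop :=
  ∀ U : Submodule (ZMod p) V, radSub (Subgroup.closure C) ≤ U →
    U ≤ commSub (Subgroup.closure C) → (∀ k ∈ Subgroup.closure C, ∀ u ∈ U, k u ∈ U) →
    U = radSub (Subgroup.closure C) ∨ U = commSub (Subgroup.closure C)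

/-- The statement of sub-piece QUOT-ORB for spaces in the universe `u`. -/
def QOrb (p : ℕ) [Fact p.Prime] : Prop :=
  ∀ (X : Type u) [AddCommGroup X] [Module (ZMod p) X] [FiniteDimensional (ZMod p) X],
    3 ≤ Module.finrank (ZMod p) X → ∀ S : Set (X × Module.Dual (ZMod p) X),
    (∀ c φ, (c, φ) ∈ S → ∀ (d : X) (η : Module.Dual (ZMod p) X), η d = 0 →
      (c + η c • d, φ - φ d • η) ∈ S) →
    ∀ (c₀ : X) (φ₀ : Module.Dual (ZMod p) X), (c₀, φ₀) ∈ S → c₀ ≠ 0 → φ₀ ≠ 0 → φ₀ c₀ = 0 →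
    ∀ (x : X) (ξ : Module.Dual (ZMod p) X), x ≠ 0 → ξ ≠ 0 → ξ x = 0 → (x, ξ) ∈ S

theorem hasNeg_of {K : Subgroup (V ≃ₗ[ZMod p] V)}
    (h : (LinearEquiv.neg (ZMod p) : QX K ≃ₗ[ZMod p] QX K) ∈ (rho K).range) : HasNeg K := by
  obtain ⟨z, hz⟩ := h
  refine ⟨z, z.2, fun w hw => ?_⟩
  have h1 : rho K z (Submodule.Quotient.mk ⟨w, hw⟩) =
      - (Submodule.Quotient.mk ⟨w, hw⟩ : QX K) := by rw [hz]; rfl
  rw [rho_mk, ← Submodule.Quotient.mk_neg, Submodule.Quotient.eq] at h1
  have h2 : ((restr K z ⟨w, hw⟩ - -⟨w, hw⟩ : ↥(commSub K)) : V) ∈ radSub K := h1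
  simpa [restr_coe] using h2

/-- Piece QUOT from the two sub-pieces QUOT-IRR and QUOT-ORB. -/
theorem quot_struct_of [Finite V] (hIRR : IrrThm.{u} p) (horb : QOrb.{u} p)
    (H : Subgroup (V ≃ₗ[ZMod p] V)) (hU : UnipHyp H) (C : Set (V ≃ₗ[ZMod p] V)) (hC : Comp H C)
    (hirr : QIrr C) :
    Faithful (Subgroup.closure C) ∧
      (HasNeg (Subgroup.closure C) ∨ HasLift (Subgroup.closure C)) := by
  classical
  have hf := faithful_of hU hC
  refine ⟨hf, ?_⟩
  obtain ⟨K, hK⟩ : ∃ K : Subgroup (V ≃ₗ[ZMod p] V), K = Subgroup.closure C := ⟨_, rfl⟩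
  rw [← hK] at hf ⊢
  obtain ⟨t₀, ht₀C⟩ := hC.ne
  have ht₀K : t₀ ∈ K := by rw [hK]; exact Subgroup.subset_closure ht₀C
  obtain ⟨c₀, φ₀, hc₀, hφ₀, hφc₀, ht₀x⟩ := hC.tv t₀ ht₀C
  obtain ⟨hc₀W, hφ₀0, hx₀, hξ₀, hξx₀, hρ₀⟩ := rho_tv hf ⟨t₀, ht₀K⟩ hc₀ hφ₀ hφc₀ ht₀x
  obtain ⟨y₀, hy₀⟩ : ∃ y, dualQ K φ₀ hφ₀0 y ≠ 0 := by
    by_contra h
    push Not at h
    exact hξ₀ (LinearMap.ext h)
  have hgen : (rho K).range = Subgroup.closure {g | g ∈ (rho K).range ∧ IsTv g} := by
    apply le_antisymm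
    · have htop : (⊤ : Subgroup ↥K) = Subgroup.closure {t : ↥K | (t : V ≃ₗ[ZMod p] V) ∈ C} := by
        subst hK
        exact (Subgroup.closure_closure_coe_preimage (k := C)).symm
      rw [MonoidHom.range_eq_map, htop, MonoidHom.map_closure]
      refine Subgroup.closure_mono ?_
      rintro _ ⟨t, ht, rfl⟩
      exact ⟨Subgroup.subset_closure ⟨t, ht, rfl⟩, rho_isTv hf t (hC.tv _ ht)⟩
    · exact (Subgroup.closure_le _).mpr (fun g hg => hg.1)
  have hne : (rho K).range ≠ ⊥ := by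
    intro hb
    have h1 : rho K ⟨t₀, ht₀K⟩ ∈ (rho K).range := ⟨_, rfl⟩
    rw [hb, Subgroup.mem_bot] at h1
    have h2 := hρ₀ y₀
    rw [h1] at h2
    have h3 : dualQ K φ₀ hφ₀0 y₀ • (Submodule.Quotient.mk ⟨c₀, hc₀W⟩ : QX K) = 0 := by
      simpa using h2.symm
    rcases smul_eq_zero.mp h3 with h4 | h4
    · exact hy₀ h4
    · exact hx₀ h4
  have hirrX : ∀ U' : Submodule (ZMod p) (QX K),
      (∀ g ∈ (rho K).range, ∀ x ∈ U', g x ∈ U') → U' = ⊥ ∨ U' = ⊤ := by
    intro U' hU'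
    have hUle : (U'.comap (rad' K).mkQ).map (commSub K).subtype ≤ commSub K :=
      Submodule.map_subtype_le _ _
    have h0 : radSub K ≤ (U'.comap (rad' K).mkQ).map (commSub K).subtype := by
      intro u hu
      refine ⟨⟨u, radSub_le_commSub K hu⟩, ?_, rfl⟩
      have h1 : (rad' K).mkQ ⟨u, radSub_le_commSub K hu⟩ = 0 := by
        rw [Submodule.mkQ_apply, Submodule.Quotient.mk_eq_zero]; exact hu
      show (rad' K).mkQ ⟨u, radSub_le_commSub K hu⟩ ∈ U'
      rw [h1]; exact U'.zero_mem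
    have hinv : ∀ k ∈ K, ∀ u ∈ (U'.comap (rad' K).mkQ).map (commSub K).subtype,
        k u ∈ (U'.comap (rad' K).mkQ).map (commSub K).subtype := by
      rintro k hk _ ⟨w, hw, rfl⟩
      refine ⟨restr K ⟨k, hk⟩ w, ?_, rfl⟩
      exact hU' (rho K ⟨k, hk⟩) ⟨_, rfl⟩ _ hw
    have hirr' := hirr ((U'.comap (rad' K).mkQ).map (commSub K).subtype)
    rw [← hK] at hirr'
    rcases hirr' h0 hUle hinv with h | h
    · left
      rw [eq_bot_iff]
      intro y hy
      obtain ⟨w, rfl⟩ := Submodule.Quotient.mk_surjective _ y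
      have h1 : (w : V) ∈ (U'.comap (rad' K).mkQ).map (commSub K).subtype := ⟨w, hy, rfl⟩
      rw [h] at h1
      rw [Submodule.mem_bot, Submodule.Quotient.mk_eq_zero]
      exact h1
    · right
      rw [eq_top_iff]
      intro y _
      obtain ⟨w, rfl⟩ := Submodule.Quotient.mk_surjective _ y
      have h1 : (w : V) ∈ (U'.comap (rad' K).mkQ).map (commSub K).subtype := by
        rw [h]; exact w.2
      obtain ⟨w', hw', hww⟩ := h1
      have h2 : w' = w := Subtype.ext hww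
      rw [← h2]; exact hw'
  have hfin : Finite (QX K) :=
    Finite.of_surjective _ (Submodule.Quotient.mk_surjective (rad' K))
  have hSL := hIRR (QX K) (rho K).range hgen hne hirrX
  rcases hSL with hSL | ⟨B, -, -, hSp⟩
  · by_cases h3 : 3 ≤ Module.finrank (ZMod p) (QX K)
    · right
      refine ⟨?_, ?_⟩
      · have h1 := Submodule.finrank_quotient_add_finrank (rad' K)
        have h2 : Module.finrank (ZMod p) ↥(rad' K) = Module.finrank (ZMod p) ↥(radSub K) :=
          (Submodule.comapSubtypeEquivOfLe (radSub_le_commSub K)).finrank_eq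
        have h1' : Module.finrank (ZMod p) (QX K) + Module.finrank (ZMod p) ↥(rad' K) =
            Module.finrank (ZMod p) ↥(commSub K) := h1
        rw [h2] at h1'
        omega
      · intro w hw hw0 ξ hξw hξ0 hξW
        obtain ⟨u₁, hu₁, hξu₁⟩ := hξW
        obtain ⟨S, hSdef⟩ : ∃ S : Set (QX K × Module.Dual (ZMod p) (QX K)),
            S = {q | ∃ t : ↥K, IsTv (t : V ≃ₗ[ZMod p] V) ∧ ∀ y, rho K t y = y + q.2 y • q.1} :=
          ⟨_, rfl⟩
        have hSmem : ∀ c φ, (c, φ) ∈ S ↔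
            ∃ t : ↥K, IsTv (t : V ≃ₗ[ZMod p] V) ∧ ∀ y, rho K t y = y + φ y • c := by
          intro c φ; rw [hSdef]; rfl
        have hS : ∀ c φ, (c, φ) ∈ S → ∀ (d : QX K) (η : Module.Dual (ZMod p) (QX K)),
            η d = 0 → (c + η c • d, φ - φ d • η) ∈ S := by
          intro c φ hcφ d η hηd
          obtain ⟨t, htv, hty⟩ := (hSmem c φ).mp hcφ
          have he : LinearEquiv.transvection hηd ∈ (rho K).range := by
            have h1 : LinearEquiv.transvection hηd ∈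
                ((rho K).range : Set (QX K ≃ₗ[ZMod p] QX K)) := by
              rw [hSL]
              show LinearMap.det _ = 1
              rw [LinearEquiv.transvection.coe_toLinearMap, LinearMap.transvection.det, hηd,
                add_zero]
            exact h1
          obtain ⟨g, hg⟩ := he
          rw [hSmem]
          refine ⟨g * t * g⁻¹, ?_, ?_⟩
          · exact isTv_conj (g : V ≃ₗ[ZMod p] V) htv
          · intro y
            have hinv : (LinearEquiv.transvection hηd)⁻¹ y = y - η y • d := by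
              apply (LinearEquiv.transvection hηd).injective
              rw [← LinearEquiv.mul_apply, mul_inv_cancel, LinearEquiv.transvection.apply]
              simp [hηd]
            rw [map_mul, map_mul, map_inv, hg, LinearEquiv.mul_apply, LinearEquiv.mul_apply, hinv,
              hty, LinearEquiv.transvection.apply]
            simp only [map_add, map_sub, map_smul, hηd, smul_eq_mul, mul_zero, sub_zero,
              LinearMap.sub_apply, LinearMap.smul_apply]
            module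
        have h0S : ((Submodule.Quotient.mk ⟨c₀, hc₀W⟩ : QX K), dualQ K φ₀ hφ₀0) ∈ S :=
          (hSmem _ _).mpr ⟨⟨t₀, ht₀K⟩, hC.tv t₀ ht₀C, hρ₀⟩
        have hxbar : (Submodule.Quotient.mk ⟨w, hw⟩ : QX K) ≠ 0 := by
          intro h
          rw [Submodule.Quotient.mk_eq_zero] at h
          exact hw0 h
        have hξbar : dualQ K ξ hξ0 ≠ 0 := by
          intro h
          have h1 : dualQ K ξ hξ0 (Submodule.Quotient.mk ⟨u₁, hu₁⟩) = 0 := by rw [h]; rfl
          rw [dualQ_mk] at h1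
          exact hξu₁ h1
        have hmem := horb (QX K) h3 S hS _ _ h0S hx₀ hξ₀ hξx₀ _ (dualQ K ξ hξ0) hxbar hξbar
          (by rw [dualQ_mk]; exact hξw)
        obtain ⟨t, htv, hty⟩ := (hSmem _ _).mp hmem
        obtain ⟨c, φ, hc, hφ, hφc, htx⟩ := htv
        obtain ⟨hcW, hφ0, h1, -, -, h4⟩ := rho_tv hf t hc hφ hφc htx
        have hcmp : ∀ y : QX K, dualQ K φ hφ0 y • (Submodule.Quotient.mk ⟨c, hcW⟩ : QX K) =
            dualQ K ξ hξ0 y • (Submodule.Quotient.mk ⟨w, hw⟩ : QX K) := by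
          intro y
          have h5 := h4 y
          rw [hty y] at h5
          exact (add_left_cancel h5).symm
        obtain ⟨y₁, hy₁⟩ : ∃ y, dualQ K ξ hξ0 y = 1 := by
          obtain ⟨y, hy⟩ : ∃ y, dualQ K ξ hξ0 y ≠ 0 := by
            by_contra h
            push Not at h
            exact hξbar (LinearMap.ext h)
          exact ⟨(dualQ K ξ hξ0 y)⁻¹ • y, by rw [map_smul, smul_eq_mul, inv_mul_cancel₀ hy]⟩
        obtain ⟨b, hb⟩ : ∃ b : ZMod p, b = dualQ K φ hφ0 y₁ := ⟨_, rfl⟩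
        have hbw : b • (Submodule.Quotient.mk ⟨c, hcW⟩ : QX K) = Submodule.Quotient.mk ⟨w, hw⟩ := by
          have h5 := hcmp y₁
          rw [hy₁, one_smul, ← hb] at h5
          exact h5
        have hb0 : b ≠ 0 := by
          intro h
          rw [h, zero_smul] at hbw
          exact hxbar hbw.symm
        have hφξ : ∀ y, dualQ K φ hφ0 y = b * dualQ K ξ hξ0 y := by
          intro y
          have h6 := hcmp y
          rw [← hbw, smul_smul] at h6
          have h7 : (dualQ K φ hφ0 y - dualQ K ξ hξ0 y * b) •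
              (Submodule.Quotient.mk ⟨c, hcW⟩ : QX K) = 0 := by rw [sub_smul, h6, sub_self]
          rcases smul_eq_zero.mp h7 with h8 | h8
          · rw [sub_eq_zero] at h8
            rw [h8, mul_comm]
          · exact absurd h8 h1
        refine ⟨b • c, b⁻¹ • φ, t, t.2, ?_, ?_, ?_⟩
        · intro x
          rw [htx x, LinearMap.smul_apply, smul_eq_mul, smul_smul, mul_assoc, mul_comm _ b,
            ← mul_assoc, inv_mul_cancel₀ hb0, one_mul]
        · have h9 : (Submodule.Quotient.mk (b • (⟨c, hcW⟩ : ↥(commSub K))) : QX K) =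
              Submodule.Quotient.mk ⟨w, hw⟩ := by
            rw [Submodule.Quotient.mk_smul]; exact hbw
          rw [Submodule.Quotient.eq] at h9
          exact h9
        · intro u hu
          have h10 := hφξ (Submodule.Quotient.mk ⟨u, hu⟩)
          rw [dualQ_mk, dualQ_mk] at h10
          rw [LinearMap.smul_apply, smul_eq_mul, h10, ← mul_assoc, inv_mul_cancel₀ hb0, one_mul]
    · left
      have h2 : ¬ Module.finrank (ZMod p) (QX K) ≤ 1 := by
        intro hle
        obtain ⟨v, hv⟩ := finrank_le_one_iff.mp hle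
        obtain ⟨a, ha⟩ := hv (Submodule.Quotient.mk ⟨c₀, hc₀W⟩)
        obtain ⟨b, hb⟩ := hv y₀
        have ha0 : a ≠ 0 := by
          rintro rfl
          rw [zero_smul] at ha
          exact hx₀ ha.symm
        have h5 : y₀ = (b * a⁻¹) • (Submodule.Quotient.mk ⟨c₀, hc₀W⟩ : QX K) := by
          rw [← ha, smul_smul, mul_assoc, inv_mul_cancel₀ ha0, mul_one, hb]
        apply hy₀
        rw [h5, map_smul, hξx₀, smul_zero]
      have h2' : Module.finrank (ZMod p) (QX K) = 2 := by omega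
      apply hasNeg_of
      have h1 : (LinearEquiv.neg (ZMod p) : QX K ≃ₗ[ZMod p] QX K) ∈
          ((rho K).range : Set (QX K ≃ₗ[ZMod p] QX K)) := by
        rw [hSL]
        show LinearMap.det _ = 1
        have h6 : ((LinearEquiv.neg (ZMod p) : QX K ≃ₗ[ZMod p] QX K) : QX K →ₗ[ZMod p] QX K) =
            (-1 : ZMod p) • LinearMap.id := by
          apply LinearMap.ext
          intro x
          simp
        rw [h6, LinearMap.det_smul, h2', LinearMap.det_id]
        ring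
      exact h1
  · left
    apply hasNeg_of
    have h1 : (LinearEquiv.neg (ZMod p) : QX K ≃ₗ[ZMod p] QX K) ∈
        ((rho K).range : Set (QX K ≃ₗ[ZMod p] QX K)) := by
      rw [hSp]
      intro x y
      simp
    exact h1

end Cfsg.Agent.Lib.helper87.McL
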