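import Mathlib
import Cfsg.Agent.Lib.helper85.McLDefs
import Cfsg.Agent.Lib.helper87.McLQuotA
import Cfsg.Agent.Lib.helper25.McLQuotIrr
import Cfsg.Agent.Lib.helper41.McLQuotOrb

/-!
# S5075 piece QUOT: `quot_struct`

Assembly of `quot_struct_of` (helper87.McLQuotA) with the sub-pieces
QUOT-IRR (helper25) and QUOT-ORB (helper41).
-/

set_option autoImplicit false

open Cfsg.Agent.Lib.helper85.McL

namespace Cfsg.Agent.Lib.helper87.McL

universe u

variable {p : ℕ} [Fact p.Prime] {V : Type u} [AddCommGroup V] [Module (ZMod p) V]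

/-- PIECE QUOT. -/
theorem quot_struct (hp : p ≠ 2) [Finite V] (hIRR : IrrThm.{u} p) (H : Subgroup (V ≃ₗ[ZMod p] V))
    (hU : UnipHyp H) (C : Set (V ≃ₗ[ZMod p] V)) (hC : Comp H C) :
    Faithful (Subgroup.closure C) ∧ (HasNeg (Subgroup.closure C) ∨ HasLift (Subgroup.closure C)) := by
  have _ := hp
  exact quot_struct_of hIRR
    (fun X _ _ _ h3 S hS c₀ φ₀ h0 hc₀ hφ₀ hφc x ξ hx hξ hξx =>
      Cfsg.Agent.Lib.helper41.McL.tv_orbit h3 S hS c₀ φ₀ h0 hc₀ hφ₀ hφc x ξ hx hξ hξx)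
    H hU C hC
    (fun U h0 h1 hinv => Cfsg.Agent.Lib.helper25.McL.quot_irr H hU C hC U h0 h1 hinv)

end Cfsg.Agent.Lib.helper87.McL
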