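import Cfsg.Agent.Lib.helper87.NSGroupB
import Cfsg.Agent.Lib.helper87.Centric
import Cfsg.Agent.Lib.helper88.NormalSub
import Cfsg.Agent.Lib.helper88.GroupSat
import Cfsg.Agent.Lib.helper88.Invariant

/-!
Normal subsystems of the fusion system of a constrained group (helper87), part C: the subgroups
`H₀` (preimage of `Aut_E(R)`), `M₁` (trivial action on `C_G(R)/Z(R)`), `H₁ = H₀ ∩ M₁`, and the
key lemmas: elements of order prime to `p` inducing a map of `E` on `T` and acting trivially on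
`C_U(T)` modulo `Z(R)` lie in `M₁`; every automorphism in `E` of `T` of order prime to `p` is
induced by an element of `H₁` of order prime to `p`.
-/

set_option autoImplicit false
set_option linter.unusedSectionVars false

namespace Cfsg.Agent.Lib.helper87.NS

open Cfsg Cfsg.FusionSystem
open Cfsg.Agent.Lib.helper88

variable {G : Type*} [Group G] [Finite G] {p : ℕ} [Fact p.Prime] {S : Sylow p G}
  {T : Subgroup G} {E : FusionSystem T}

/-- The hypotheses: `G` constrained, `E` normal in `F_S(G)` over `T`. -/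
structure FHyp (p : ℕ) [Fact p.Prime] (S : Sylow p G) (T : Subgroup G) (E : FusionSystem T) :
    Prop where
  cons : Subgroup.centralizer ((Cfsg.pCore p G : Subgroup G) : Set G) ≤ Cfsg.pCore p G
  hTS : T ≤ S
  nrm : E.IsNormalIn (groupFusionSystem (S : Subgroup G)) p

theorem RR_le_T (p : ℕ) (T : Subgroup G) : RR p T ≤ T := inf_le_left

namespace FHyp

theorem sat (D : FHyp p S T E) : E.IsSaturated p := D.nrm.1.1

theorem inv (D : FHyp p S T E) : E.IsInvariantIn (groupFusionSystem (S : Subgroup G)) :=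
  D.nrm.1.2.2

theorem hTp (D : FHyp p S T E) : IsPGroup p T := S.2.to_le D.hTS

theorem finT (D : FHyp p S T E) : Finite T := finite_of_le D.hTS

theorem toG (D : FHyp p S T E) : GHyp p S T := by
  refine ⟨D.cons, D.hTS, ?_⟩
  intro t ht g hg
  have hsc := D.inv.2.1
  have hP : Subgroup.zpowers t ≤ T := Subgroup.zpowers_le.mpr ht
  have hφ : conjHom (Subgroup.zpowers t) g ∈
      (groupFusionSystem (S : Subgroup G)).Hom (Subgroup.zpowers t) := by
    refine ⟨hP.trans D.hTS, ?_, g, fun x => rfl⟩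
    rintro ⟨x, hx⟩
    obtain ⟨k, rfl⟩ := Subgroup.mem_zpowers_iff.mp hx
    show g * t ^ k * g⁻¹ ∈ (S : Subgroup G)
    rw [← conj_zpow]
    exact zpow_mem hg k
  exact hsc.2 _ hP _ hφ ⟨t, Subgroup.mem_zpowers t⟩

theorem hom_conj (D : FHyp p S T E) {P : Subgroup G} {φ : P →* G} (hφ : φ ∈ E.Hom P) :
    ∃ g : G, ∀ x : P, φ x = g * x * g⁻¹ := by
  obtain ⟨-, -, g, hg⟩ := D.inv.1 P hφ
  exact ⟨g, hg⟩

theorem R_sc (D : FHyp p S T E) : E.StronglyClosed (RR p T) := by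
  refine ⟨RR_le_T p T, fun P hP φ hφ x => ?_⟩
  obtain ⟨g, hg⟩ := D.hom_conj hφ
  rw [hg]
  exact D.toG.RR_normal.conj_mem _ (hP x.2) g

theorem R_fa_rec (D : FHyp p S T E) :
    E.IsFullyAutomized p (RR p T) ∧ E.IsReceptive (RR p T) := by
  have : Finite T := D.finT
  exact fullyAutomized_receptive_of_fullyNormalized D.hTp E D.sat
    (fullyNormalized_of_stronglyClosed E D.R_sc)

theorem R_centric (D : FHyp p S T E) : E.IsCentric (RR p T) := by
  refine ⟨RR_le_T p T, ?_⟩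
  rintro R' ⟨φ, hφ, rfl⟩
  obtain ⟨g, hg⟩ := D.hom_conj hφ
  have hRn := D.toG.RR_normal
  have hrange : φ.range = RR p T := by
    apply le_antisymm
    · rintro _ ⟨x, rfl⟩
      rw [hg]
      exact hRn.conj_mem _ x.2 g
    · intro y hy
      have hy' : g⁻¹ * y * g ∈ RR p T := by simpa using hRn.conj_mem y hy g⁻¹
      refine ⟨⟨_, hy'⟩, ?_⟩
      rw [hg]
      show g * (g⁻¹ * y * g) * g⁻¹ = y
      group
  rw [hrange]
  intro w hw
  exact (D.toG.T_inf_CR hw).1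

/-- `H₀`: the elements of `G` inducing on `R` an automorphism in `E`. -/
def H0 (D : FHyp p S T E) : Subgroup G :=
  (E.autGroup (RR p T)).comap (@MulAut.conjNormal G _ (RR p T) D.toG.RR_normal)

theorem mem_H0 (D : FHyp p S T E) {g : G} :
    g ∈ H0 D ↔ conjHom (RR p T) g ∈ E.Hom (RR p T) := by
  have hRn := D.toG.RR_normal
  show (@MulAut.conjNormal G _ (RR p T) hRn g) ∈ E.autGroup (RR p T) ↔ _
  rw [mem_autGroup_iff' E (RR_le_T p T)]
  have e : (RR p T).subtype.comp (@MulAut.conjNormal G _ (RR p T) hRn g).toMonoidHom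
      = conjHom (RR p T) g := by
    ext x
    exact MulAut.conjNormal_apply g x
  rw [e]

theorem H0_normal (D : FHyp p S T E) : (H0 D).Normal := by
  have hRn := D.toG.RR_normal
  constructor
  intro h hh g
  show (@MulAut.conjNormal G _ (RR p T) hRn (g * h * g⁻¹)) ∈ E.autGroup (RR p T)
  rw [map_mul, map_mul, map_inv]
  refine conj_mem_autGroup_of_invariant D.inv (RR_le_T p T) ?_ hh
  rw [mem_autGroup_groupFusionSystem GHyp.RR_le_S]
  exact ⟨g, fun x => MulAut.conjNormal_apply g x⟩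

theorem T_le_H0 (D : FHyp p S T E) : T ≤ H0 D :=
  fun _ ht => D.mem_H0.mpr (E.conj_mem (RR_le_T p T) ht)

/-- `M₁`: the elements of `G` acting trivially on `C_G(R)` modulo `Z(R)`. -/
def M1 (D : FHyp p S T E) : Subgroup G := commStab (CR p T) (ZR p T) D.toG.ZR_normal

theorem M1_normal (D : FHyp p S T E) : (M1 D).Normal :=
  commStab_normal _ _ D.toG.CR_normal D.toG.ZR_normal

/-- `H₁ = H₀ ∩ M₁`. -/
def H1 (D : FHyp p S T E) : Subgroup G := H0 D ⊓ M1 D

theorem H1_normal (D : FHyp p S T E) : (H1 D).Normal := by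
  have := D.H0_normal
  have := D.M1_normal
  unfold H1
  infer_instance

theorem T_le_H1 (D : FHyp p S T E) : T ≤ H1 D := le_inf D.T_le_H0 D.toG.T_le_M1

/-- The key lemma. -/
theorem mem_M1_of_pprime (D : FHyp p S T E) {g : G} {m : ℕ} (hm : g ^ m = 1) (hpm : ¬ p ∣ m)
    (hgT : conjHom T g ∈ E.Hom T)
    (hgU : g ∈ commStab (UU p T ⊓ Subgroup.centralizer (T : Set G)) (ZR p T) D.toG.ZR_normal) :
    g ∈ M1 D := by
  have DG := D.toG
  have hZn := DG.ZR_normal
  have hUn := DG.UU_normal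
  have hCn := DG.CR_normal
  have hRn := DG.RR_normal
  have hTS := D.hTS
  have : Finite T := D.finT
  have hgN : g ∈ Subgroup.normalizer (T : Set G) := by
    apply Cfsg.Agent.Lib.helper87.mem_normalizer_of_conj_mem_fin
    intro q hq
    exact (E.le_of_mem hgT).2 ⟨q, hq⟩
  have haE : conjAut T g hgN ∈ E.autGroup T := by
    rw [mem_autGroup_iff' E le_rfl]
    have e : T.subtype.comp (conjAut T g hgN).toMonoidHom = conjHom T g := by
      ext x
      rfl
    rw [e]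
    exact hgT
  have hPN : T ≤ Subgroup.normalizer (RR p T : Set G) := by
    rw [Subgroup.normalizer_eq_top_iff.mpr hRn]
    exact le_top
  have hstep3 : g ∈ commStab (UU p T) (ZR p T) hZn := by
    intro u hu
    have hkU : g * u * g⁻¹ * u⁻¹ ∈ UU p T := mul_mem (hUn.conj_mem u hu g) (inv_mem hu)
    have huS : u ∈ (S : Subgroup G) := GHyp.UU_le_S hu
    have huN : u ∈ Subgroup.normalizer (T : Set G) := by
      apply Cfsg.Agent.Lib.helper87.mem_normalizer_of_conj_mem_fin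
      intro q hq
      exact DG.T_normal huS hq
    have hkS : g * u * g⁻¹ * u⁻¹ ∈ (S : Subgroup G) := GHyp.UU_le_S hkU
    have hkN : g * u * g⁻¹ * u⁻¹ ∈ Subgroup.normalizer (T : Set G) := by
      apply Cfsg.Agent.Lib.helper87.mem_normalizer_of_conj_mem_fin
      intro q hq
      exact DG.T_normal hkS hq
    have hbF : conjAut T u huN ∈ (groupFusionSystem (S : Subgroup G)).autGroup T := by
      rw [mem_autGroup_groupFusionSystem hTS]
      exact ⟨u, fun x => rfl⟩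
    have h1 : conjAut T u huN * (conjAut T g hgN)⁻¹ * (conjAut T u huN)⁻¹ ∈ E.autGroup T :=
      conj_mem_autGroup_of_invariant D.inv le_rfl hbF ((E.autGroup T).inv_mem haE)
    have h2 : conjAut T (g * u * g⁻¹ * u⁻¹) hkN
        = conjAut T g hgN * (conjAut T u huN * (conjAut T g hgN)⁻¹ * (conjAut T u huN)⁻¹) := by
      apply MulEquiv.ext
      intro x
      apply Subtype.ext
      show (g * u * g⁻¹ * u⁻¹) * (x : G) * (g * u * g⁻¹ * u⁻¹)⁻¹
        = g * (u * (g⁻¹ * (u⁻¹ * (x : G) * u) * g) * u⁻¹) * g⁻¹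
      group
    have hkE : conjAut T (g * u * g⁻¹ * u⁻¹) hkN ∈ E.autGroup T := by
      rw [h2]
      exact mul_mem haE h1
    have hψ : conjHom T (g * u * g⁻¹ * u⁻¹) ∈ E.Hom T := by
      have h3 := (mem_autGroup_iff' E le_rfl _).mp hkE
      have e : T.subtype.comp (conjAut T (g * u * g⁻¹ * u⁻¹) hkN).toMonoidHom
          = conjHom T (g * u * g⁻¹ * u⁻¹) := by
        ext x
        rfl
      rw [e] at h3
      exact h3
    have hid : ∀ x : T, (x : G) ∈ RR p T → conjHom T (g * u * g⁻¹ * u⁻¹) x = x := by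
      intro x hx
      have hc : (x : G) * (g * u * g⁻¹ * u⁻¹) = (g * u * g⁻¹ * u⁻¹) * x :=
        Subgroup.mem_centralizer_iff.mp hkU.2 _ hx
      show (g * u * g⁻¹ * u⁻¹) * (x : G) * (g * u * g⁻¹ * u⁻¹)⁻¹ = x
      rw [← hc, mul_inv_cancel_right]
    obtain ⟨z, hzR, hzC, hz⟩ := Cfsg.Agent.Lib.helper87.centric_normal_case D.hTp E D.sat
      (RR_le_T p T) hPN D.R_centric hψ hid
    have hzZ : (z : G) ∈ ZR p T := ⟨hzR, hzC⟩
    have hc'U : (z : G)⁻¹ * (g * u * g⁻¹ * u⁻¹) ∈ UU p T :=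
      mul_mem (inv_mem (GHyp.ZR_le_UU hzZ)) hkU
    have hc'T : (z : G)⁻¹ * (g * u * g⁻¹ * u⁻¹) ∈ Subgroup.centralizer (T : Set G) := by
      rw [Subgroup.mem_centralizer_iff]
      intro y hy
      have h3 : (g * u * g⁻¹ * u⁻¹) * y * (g * u * g⁻¹ * u⁻¹)⁻¹ = (z : G) * y * (z : G)⁻¹ :=
        hz ⟨y, hy⟩
      have h4 : (g * u * g⁻¹ * u⁻¹) * y = (z : G) * y * (z : G)⁻¹ * (g * u * g⁻¹ * u⁻¹) := by
        rw [← h3]
        group
      calc y * ((z : G)⁻¹ * (g * u * g⁻¹ * u⁻¹))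
          = (z : G)⁻¹ * ((z : G) * y * (z : G)⁻¹ * (g * u * g⁻¹ * u⁻¹)) := by group
        _ = (z : G)⁻¹ * ((g * u * g⁻¹ * u⁻¹) * y) := by rw [h4]
        _ = (z : G)⁻¹ * (g * u * g⁻¹ * u⁻¹) * y := by group
    have h5 := hgU _ ⟨hc'U, hc'T⟩
    obtain ⟨j, hj⟩ := pow_of_mem_Q hkU.1
    refine comm_mem_of_coprime (ZR p T) hZn g u m hm hpm j (by rw [hj]; exact one_mem _) ?_
    have e : g * (g * u * g⁻¹ * u⁻¹) * g⁻¹ * (g * u * g⁻¹ * u⁻¹)⁻¹
        = (g * (z : G) * g⁻¹) * (g * ((z : G)⁻¹ * (g * u * g⁻¹ * u⁻¹)) * g⁻¹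
          * ((z : G)⁻¹ * (g * u * g⁻¹ * u⁻¹))⁻¹) * (z : G)⁻¹ := by group
    rw [e]
    exact mul_mem (mul_mem (hZn.conj_mem _ hzZ g) h5) (inv_mem hzZ)
  intro c hc
  have hSUn := commStab_normal (UU p T) (ZR p T) hUn hZn
  have h1 : c * g⁻¹ * c⁻¹ ∈ commStab (UU p T) (ZR p T) hZn :=
    hSUn.conj_mem _ (inv_mem hstep3) c
  have e : g * c * g⁻¹ * c⁻¹ = g * (c * g⁻¹ * c⁻¹) := by group
  have h2 : g * c * g⁻¹ * c⁻¹ ∈ commStab (UU p T) (ZR p T) hZn := by
    rw [e]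
    exact mul_mem hstep3 h1
  have h3 : g * c * g⁻¹ * c⁻¹ ∈ CR p T := mul_mem (hCn.conj_mem c hc g) (inv_mem hc)
  have h4 : g * c * g⁻¹ * c⁻¹ ∈ UU p T := ⟨DG.stabU_le ⟨h2, h3⟩, h3⟩
  obtain ⟨j, hj⟩ := pow_of_mem_Q h4.1
  exact comm_mem_of_coprime (ZR p T) hZn g c m hm hpm j (by rw [hj]; exact one_mem _)
    (hstep3 _ h4)

/-- Every automorphism in `E` of `T` of order prime to `p` is induced by an element of `H₁` of
order prime to `p`. -/
theorem lift_pprime (D : FHyp p S T E) {a : MulAut T} (ha : a ∈ E.autGroup T) {m : ℕ}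
    (hm : a ^ m = 1) (hpm : m.Coprime p) :
    ∃ g : G, g ∈ H1 D ∧ (∃ m' : ℕ, m'.Coprime p ∧ g ^ m' = 1) ∧
      ∀ x : T, ((a x : T) : G) = g * x * g⁻¹ := by
  have DG := D.toG
  have hZn := DG.ZR_normal
  have hTS := D.hTS
  have : Finite T := D.finT
  have hpp : p.Prime := Fact.out
  obtain ⟨β, hβ, hβT, hβC⟩ := D.nrm.2 a ha
  have hNS : T ⊔ centralizerIn (S : Subgroup G) T ≤ S := sup_le hTS inf_le_left
  obtain ⟨g, hg⟩ := (mem_autGroup_groupFusionSystem hNS β).mp hβ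
  have hgT : ∀ x : T, ((a x : T) : G) = g * x * g⁻¹ := by
    intro x
    rw [← hβT x]
    exact hg _
  have hgN : g ∈ Subgroup.normalizer (T : Set G) := by
    apply Cfsg.Agent.Lib.helper87.mem_normalizer_of_conj_mem_fin
    intro q hq
    rw [← hgT ⟨q, hq⟩]
    exact (a ⟨q, hq⟩).2
  have hconj : conjAut T g hgN = a := by
    apply MulEquiv.ext
    intro x
    apply Subtype.ext
    exact (hgT x).symm
  have hgW : g ∈ commStab (UU p T ⊓ Subgroup.centralizer (T : Set G)) (ZR p T) hZn := by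
    intro c hc
    have hcX : c ∈ centralizerIn (S : Subgroup G) T := ⟨GHyp.UU_le_S hc.1, hc.2⟩
    have h1 := hβC ⟨c, Subgroup.mem_sup_right hcX⟩ hcX
    rw [hg] at h1
    have hcen : c⁻¹ * (g * c * g⁻¹) ∈ CR p T := by
      have hsub : ((RR p T : Subgroup G) : Set G) ⊆ (T : Set G) := fun _ h => h.1
      exact Subgroup.centralizer_le hsub h1.2
    have h2 : c⁻¹ * (g * c * g⁻¹) ∈ ZR p T := DG.T_inf_CR ⟨h1.1, hcen⟩
    have e : g * c * g⁻¹ * c⁻¹ = c * (c⁻¹ * (g * c * g⁻¹)) * c⁻¹ := by group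
    rw [e]
    exact hZn.conj_mem _ h2 c
  have hpos : orderOf g ≠ 0 := (orderOf_pos g).ne'
  obtain ⟨e, m', hm', hn⟩ := Nat.exists_eq_pow_mul_and_not_dvd hpos p hpp.ne_one
  have hcop : Nat.Coprime (p ^ e) m := Nat.Coprime.pow_left e hpm.symm
  have hb : (1 : ℤ) = ((p ^ e : ℕ) : ℤ) * Nat.gcdA (p ^ e) m + (m : ℤ) * Nat.gcdB (p ^ e) m := by
    have h1 := Nat.gcd_eq_gcd_ab (p ^ e) m
    rw [Nat.Coprime.gcd_eq_one hcop] at h1
    simpa using h1
  obtain ⟨z, hzdef⟩ : ∃ z : ℤ, z = ((p ^ e : ℕ) : ℤ) * Nat.gcdA (p ^ e) m := ⟨_, rfl⟩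
  have haz : a ^ z = a := by
    have h1 : z = 1 - (m : ℤ) * Nat.gcdB (p ^ e) m := by
      rw [hzdef]
      linarith
    rw [h1, zpow_sub, zpow_one, zpow_mul, zpow_natCast, hm, one_zpow, inv_one, mul_one]
  have hg'N : g ^ z ∈ Subgroup.normalizer (T : Set G) := zpow_mem hgN z
  have hca : conjAutHom T (⟨g, hgN⟩ ^ z) = a := by
    rw [map_zpow]
    show (conjAut T g hgN) ^ z = a
    rw [hconj]
    exact haz
  have hg'T : ∀ x : T, ((a x : T) : G) = g ^ z * x * (g ^ z)⁻¹ := by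
    intro x
    have h1 := conjAutHom_apply T (⟨g, hgN⟩ ^ z) x
    rw [hca, Subgroup.coe_zpow] at h1
    exact h1
  have hg'E : conjHom T (g ^ z) ∈ E.Hom T := by
    have h1 := (mem_autGroup_iff' E le_rfl a).mp ha
    have e1 : T.subtype.comp a.toMonoidHom = conjHom T (g ^ z) := by
      ext x
      exact hg'T x
    rw [e1] at h1
    exact h1
  have hg'm : (g ^ z) ^ m' = 1 := by
    rw [← zpow_natCast, ← zpow_mul]
    have h1 : z * (m' : ℤ) = ((p ^ e * m' : ℕ) : ℤ) * Nat.gcdA (p ^ e) m := by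
      rw [hzdef]
      push_cast
      ring
    rw [h1, zpow_mul, zpow_natCast, ← hn, pow_orderOf_eq_one, one_zpow]
  have hM1 : g ^ z ∈ M1 D := D.mem_M1_of_pprime hg'm hm' hg'E (zpow_mem hgW z)
  have hH0 : g ^ z ∈ H0 D := by
    rw [D.mem_H0]
    have h1 := restrict_mem E (RR_le_T p T) hg'E
    have e1 : (conjHom T (g ^ z)).comp (Subgroup.inclusion (RR_le_T p T))
        = conjHom (RR p T) (g ^ z) := by
      ext x
      rfl
    rw [e1] at h1
    exact h1
  exact ⟨g ^ z, ⟨hH0, hM1⟩, ⟨m', ((Nat.Prime.coprime_iff_not_dvd hpp).mpr hm').symm, hg'm⟩,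
    hg'T⟩

end FHyp

end Cfsg.Agent.Lib.helper87.NS
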