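import Cfsg.Agent.Lib.helper87.NSFusA
import Cfsg.Agent.Lib.helper88.Saturated2

/-!
Normal subsystems of the fusion system of a constrained group (helper87), part D: the subgroup
`H = O^p(H₁) T`.  It is normal in `G` and `T` is a Sylow `p`-subgroup of it.
-/

set_option autoImplicit false
set_option linter.unusedSectionVars false

namespace Cfsg.Agent.Lib.helper87.NS

open Cfsg Cfsg.FusionSystem
open Cfsg.Agent.Lib.helper88

variable {G : Type*} [Group G] [Finite G] {p : ℕ} [Fact p.Prime] {S : Sylow p G}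
  {T : Subgroup G} {E : FusionSystem T}

namespace FHyp

/-- `N = O^p(H₁)`. -/
def NN (D : FHyp p S T E) : Subgroup G := resOf p (H1 D)

/-- `H = O^p(H₁) T`. -/
def HH (D : FHyp p S T E) : Subgroup G := NN D ⊔ T

theorem NN_normal (D : FHyp p S T E) : (NN D).Normal := resOf_normal p _ D.H1_normal

theorem NN_le_H1 (D : FHyp p S T E) : NN D ≤ H1 D := resOf_le p _

theorem NN_le_HH (D : FHyp p S T E) : NN D ≤ HH D := le_sup_left

theorem T_le_HH (D : FHyp p S T E) : T ≤ HH D := le_sup_right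

theorem HH_le_H1 (D : FHyp p S T E) : HH D ≤ H1 D := sup_le D.NN_le_H1 D.T_le_H1

/-- `S ∩ H₁ = T (M₁ ∩ C_G(R))`. -/
theorem S_inf_H1 (D : FHyp p S T E) {s : G} (hsS : s ∈ (S : Subgroup G)) (hs : s ∈ H1 D) :
    ∃ t ∈ T, t⁻¹ * s ∈ M1 D ⊓ CR p T := by
  have DG := D.toG
  have hRn := DG.RR_normal
  have : Finite T := D.finT
  obtain ⟨hfa, -⟩ := D.R_fa_rec
  obtain ⟨R₀, hR₀⟩ := hfa.2
  have hQ'p : IsPGroup p ((autInducedBy (S : Subgroup G) (RR p T)).subgroupOf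
      (E.autGroup (RR p T))) := (isPGroup_autInducedBy S.2 (RR p T)).comap_subtype
  have hle : (R₀ : Subgroup (E.autGroup (RR p T))) ≤
      (autInducedBy (S : Subgroup G) (RR p T)).subgroupOf (E.autGroup (RR p T)) := by
    rw [hR₀]
    intro α hα
    rw [Subgroup.mem_subgroupOf] at hα ⊢
    obtain ⟨t, ht, h⟩ := (mem_autInducedBy_iff T (RR p T) _).mp hα
    exact (mem_autInducedBy_iff _ _ _).mpr ⟨t, D.hTS ht, h⟩
  have heq := R₀.is_maximal' hQ'p hle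
  have hsE : (@MulAut.conjNormal G _ (RR p T) hRn s) ∈ E.autGroup (RR p T) := hs.1
  have hsS' : (@MulAut.conjNormal G _ (RR p T) hRn s) ∈
      autInducedBy (S : Subgroup G) (RR p T) :=
    (mem_autInducedBy_iff _ _ _).mpr ⟨s, hsS, fun x => MulAut.conjNormal_apply s x⟩
  have h1 : (⟨_, hsE⟩ : E.autGroup (RR p T)) ∈
      (autInducedBy (S : Subgroup G) (RR p T)).subgroupOf (E.autGroup (RR p T)) :=
    Subgroup.mem_subgroupOf.mpr hsS'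
  rw [heq] at h1
  have h1' : (⟨_, hsE⟩ : E.autGroup (RR p T)) ∈ (R₀ : Subgroup (E.autGroup (RR p T))) := h1
  rw [hR₀, Subgroup.mem_subgroupOf] at h1'
  obtain ⟨t, ht, h⟩ := (mem_autInducedBy_iff T (RR p T) _).mp h1'
  refine ⟨t, ht, ?_, ?_⟩
  · exact (M1 D).mul_mem ((M1 D).inv_mem (DG.T_le_M1 ht)) hs.2
  · show t⁻¹ * s ∈ Subgroup.centralizer (RR p T : Set G)
    rw [Subgroup.mem_centralizer_iff]
    intro r hr
    have h2 : s * r * s⁻¹ = t * r * t⁻¹ := by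
      have h3 := h ⟨r, hr⟩
      rw [← h3]
      exact (MulAut.conjNormal_apply s ⟨r, hr⟩).symm
    calc r * (t⁻¹ * s) = t⁻¹ * (t * r * t⁻¹) * s := by group
      _ = t⁻¹ * (s * r * s⁻¹) * s := by rw [h2]
      _ = t⁻¹ * s * r := by group

theorem sylow_H1 (D : FHyp p S T E) : ∃ R : Sylow p ↥(H1 D),
    (R : Subgroup (H1 D)) = ((S : Subgroup G) ⊓ H1 D).subgroupOf (H1 D) := by
  have := D.H1_normal
  exact Cfsg.Agent.Lib.helper87.sylowIn_inf_normal S (H1 D)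

/-- `O^p(H₁) ∩ S ≤ T` (focal subgroup theorem). -/
theorem NN_inf_S (D : FHyp p S T E) : NN D ⊓ (S : Subgroup G) ≤ T := by
  have DG := D.toG
  have h : resOf p (H1 D) ⊓ ((S : Subgroup G) ⊓ H1 D) ≤ T := by
    refine resOf_inf_le (p := p) D.sylow_H1 (le_inf D.hTS D.T_le_H1) ?_
    intro x hx _ u hu hw
    obtain ⟨t, ht, hy⟩ := D.S_inf_H1 (inv_mem hx.1) (inv_mem hx.2)
    have hyU : t⁻¹ * x⁻¹ ∈ UU p T := DG.Y_le hy
    have hyS : t⁻¹ * x⁻¹ ∈ (S : Subgroup G) := GHyp.UU_le_S hyU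
    have hz : u * (t⁻¹ * x⁻¹) * u⁻¹ * (t⁻¹ * x⁻¹)⁻¹ ∈ ZR p T := hu.2 _ hy.2
    have hzT : u * (t⁻¹ * x⁻¹) * u⁻¹ * (t⁻¹ * x⁻¹)⁻¹ ∈ T := GHyp.ZR_le_T hz
    have h1 : u * x⁻¹ * u⁻¹ ∈ (S : Subgroup G) := by
      have e : u * x⁻¹ * u⁻¹ = x⁻¹ * (x * u * x⁻¹ * u⁻¹) := by group
      rw [e]
      exact mul_mem (inv_mem hx.1) hw.1
    have h2 : u * t * u⁻¹ ∈ (S : Subgroup G) := by
      have e : u * t * u⁻¹ = (u * x⁻¹ * u⁻¹)
          * ((u * (t⁻¹ * x⁻¹) * u⁻¹ * (t⁻¹ * x⁻¹)⁻¹) * (t⁻¹ * x⁻¹))⁻¹ := by group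
      rw [e]
      exact mul_mem h1 (inv_mem (mul_mem (D.hTS hzT) hyS))
    have h3 : u * t * u⁻¹ ∈ T := DG.sc t ht u h2
    have e : x * u * x⁻¹ * u⁻¹ = (t⁻¹ * x⁻¹)⁻¹
        * (t⁻¹ * (u * t * u⁻¹) * (u * (t⁻¹ * x⁻¹) * u⁻¹ * (t⁻¹ * x⁻¹)⁻¹)) * (t⁻¹ * x⁻¹)⁻¹⁻¹ := by
      group
    rw [e]
    exact DG.T_normal (inv_mem hyS) (mul_mem (mul_mem (inv_mem ht) h3) hzT)
  intro g hg
  exact h ⟨hg.1, hg.2, resOf_le p _ hg.1⟩

theorem HH_inf_S (D : FHyp p S T E) : HH D ⊓ (S : Subgroup G) ≤ T := by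
  have := D.NN_normal
  intro h hh
  obtain ⟨n, hn, t, ht, rfl⟩ := Subgroup.mem_sup_of_normal_left.mp hh.1
  have hnS : n ∈ (S : Subgroup G) := by
    have e : n = (n * t) * t⁻¹ := by group
    rw [e]
    exact mul_mem hh.2 (inv_mem (D.hTS ht))
  exact mul_mem (D.NN_inf_S ⟨hn, hnS⟩) ht

theorem conj_T_mem (D : FHyp p S T E) (g : G) {t : G} (ht : t ∈ T) : g * t * g⁻¹ ∈ HH D := by
  have DG := D.toG
  have hH1n := D.H1_normal
  have hNn := D.NN_normal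
  have hT'le : T.map (MulAut.conj g).toMonoidHom ≤ H1 D := by
    rintro _ ⟨x, hx, rfl⟩
    exact hH1n.conj_mem x (D.T_le_H1 hx) g
  have hT'p : IsPGroup p (T.map (MulAut.conj g).toMonoidHom) := D.hTp.map _
  obtain ⟨h, hh, hle⟩ := Cfsg.Agent.Lib.helper87.exists_conj_le_of_sylowIn D.sylow_H1 hT'le hT'p
  have h1 : h * (g * t * g⁻¹) * h⁻¹ ∈ (S : Subgroup G) :=
    (hle ⟨g * t * g⁻¹, ⟨t, ht, rfl⟩, rfl⟩).1
  have h2 : (h * g) * t * (h * g)⁻¹ ∈ T := by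
    apply DG.sc t ht
    have e : (h * g) * t * (h * g)⁻¹ = h * (g * t * g⁻¹) * h⁻¹ := by group
    rw [e]
    exact h1
  have h3 : h⁻¹ ∈ NN D ⊔ ((S : Subgroup G) ⊓ H1 D) := le_resOf_sup D.sylow_H1 (inv_mem hh)
  obtain ⟨n, hn, s, hs, hns⟩ := Subgroup.mem_sup_of_normal_left.mp h3
  have e : g * t * g⁻¹ = n * (s * ((h * g) * t * (h * g)⁻¹) * s⁻¹) * n⁻¹ := by
    calc g * t * g⁻¹ = h⁻¹ * ((h * g) * t * (h * g)⁻¹) * h⁻¹⁻¹ := by group
      _ = (n * s) * ((h * g) * t * (h * g)⁻¹) * (n * s)⁻¹ := by rw [hns]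
      _ = n * (s * ((h * g) * t * (h * g)⁻¹) * s⁻¹) * n⁻¹ := by group
  rw [e]
  have h4 : s * ((h * g) * t * (h * g)⁻¹) * s⁻¹ ∈ T := DG.T_normal hs.1 h2
  exact mul_mem (mul_mem (D.NN_le_HH hn) (D.T_le_HH h4)) (inv_mem (D.NN_le_HH hn))

theorem HH_normal (D : FHyp p S T E) : (HH D).Normal := by
  have hNn := D.NN_normal
  constructor
  intro h hh g
  obtain ⟨n, hn, t, ht, rfl⟩ := Subgroup.mem_sup_of_normal_left.mp hh
  have e : g * (n * t) * g⁻¹ = (g * n * g⁻¹) * (g * t * g⁻¹) := by group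
  rw [e]
  exact mul_mem (D.NN_le_HH (hNn.conj_mem n hn g)) (D.conj_T_mem g ht)

theorem T_sylow_HH (D : FHyp p S T E) :
    ∃ R : Sylow p ↥(HH D), (R : Subgroup (HH D)) = T.subgroupOf (HH D) := by
  have := D.HH_normal
  obtain ⟨R, hR⟩ := Cfsg.Agent.Lib.helper87.sylowIn_inf_normal S (HH D)
  refine ⟨R, ?_⟩
  rw [hR]
  ext x
  rw [Subgroup.mem_subgroupOf, Subgroup.mem_subgroupOf]
  constructor
  · intro hx
    exact D.HH_inf_S ⟨x.2, hx.1⟩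
  · intro hx
    exact ⟨D.hTS hx, x.2⟩

end FHyp

end Cfsg.Agent.Lib.helper87.NS
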