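import Cfsg.Agent.Lib.helper87.NSFusB
import Cfsg.Agent.Lib.helper87.CenNormal

/-!
Normal subsystems of the fusion system of a constrained group (helper87), part E: with
`H = O^p(H₁) T`, the fusion system of `H` on `T` is `E`, and `H` is the only normal subgroup of
`G` with Sylow `p`-subgroup `T` and this property.
-/

set_option autoImplicit false
set_option linter.unusedSectionVars false

namespace Cfsg.Agent.Lib.helper87.NS

open Cfsg Cfsg.FusionSystem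
open Cfsg.Agent.Lib.helper88

variable {G : Type*} [Group G] [Finite G] {p : ℕ} [Fact p.Prime] {S : Sylow p G}
  {T : Subgroup G} {E : FusionSystem T}

namespace FHyp

/-- Automorphisms in `E` of `p`-power order are induced by elements of `H`. -/
theorem pElt (D : FHyp p S T E) {P : Subgroup G} (hPT : P ≤ T) {c : MulAut P}
    (hc : c ∈ E.autGroup P) {k : ℕ} (hk : c ^ p ^ k = 1) :
    ∃ h ∈ HH D, ∀ y : P, ((c y : P) : G) = h * y * h⁻¹ := by
  have : Finite T := D.finT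
  obtain ⟨P₂, σ, -, hσ, hB⟩ := exists_isoEquiv_conj_into_autInducedBy D.hTp E D.sat hPT
    (Subgroup.zpowers c) (isPGroup_zpowers_of_pow_eq_one hk)
    (by rw [Subgroup.zpowers_le]; exact hc)
  have h1 : MulAut.congr σ c ∈ autInducedBy T P₂ := hB ⟨c, Subgroup.mem_zpowers c, rfl⟩
  obtain ⟨t, ht, hteq⟩ := (mem_autInducedBy_iff T P₂ _).mp h1
  have hσa : ∀ y : P, ((σ (c y) : P₂) : G) = t * ((σ y : P₂) : G) * t⁻¹ := by
    intro y
    have h2 := hteq (σ y)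
    have h3 : MulAut.congr σ c (σ y) = σ (c y) := by
      show σ (c (σ.symm (σ y))) = σ (c y)
      rw [MulEquiv.symm_apply_apply]
    rw [h3] at h2
    exact h2
  obtain ⟨g₀, hg₀⟩ := D.hom_conj hσ.1
  have hσx : ∀ y : P, ((σ y : P₂) : G) = g₀ * y * g₀⁻¹ := fun y => hg₀ y
  refine ⟨g₀⁻¹ * t * g₀, ?_, fun y => ?_⟩
  · have h2 := D.HH_normal.conj_mem t (D.T_le_HH ht) g₀⁻¹
    simpa using h2
  · have h2 := hσa y
    rw [hσx, hσx] at h2
    calc ((c y : P) : G) = g₀⁻¹ * (g₀ * ((c y : P) : G) * g₀⁻¹) * g₀ := by group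
      _ = g₀⁻¹ * (t * (g₀ * y * g₀⁻¹) * t⁻¹) * g₀ := by rw [h2]
      _ = g₀⁻¹ * t * g₀ * y * (g₀⁻¹ * t * g₀)⁻¹ := by group

/-- Every automorphism in `E` of `T` is induced by an element of `H`. -/
theorem autT (D : FHyp p S T E) {a : MulAut T} (ha : a ∈ E.autGroup T) :
    ∃ h ∈ HH D, ∀ x : T, ((a x : T) : G) = h * x * h⁻¹ := by
  have : Finite T := D.finT
  have hpp : p.Prime := Fact.out
  have : Finite (MulAut T) := Cfsg.Agent.Lib.helper87.finite_mulAut_of_le (le_refl T)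
  have hpos : orderOf a ≠ 0 := (orderOf_pos a).ne'
  obtain ⟨e, m, hm, hn⟩ := Nat.exists_eq_pow_mul_and_not_dvd hpos p hpp.ne_one
  have hmc : m.Coprime p := ((Nat.Prime.coprime_iff_not_dvd hpp).mpr hm).symm
  have hcop : Nat.Coprime (p ^ e) m := Nat.Coprime.pow_left e hmc.symm
  have hb : (1 : ℤ) = ((p ^ e : ℕ) : ℤ) * Nat.gcdA (p ^ e) m + (m : ℤ) * Nat.gcdB (p ^ e) m := by
    have h1 := Nat.gcd_eq_gcd_ab (p ^ e) m
    rw [Nat.Coprime.gcd_eq_one hcop] at h1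
    simpa using h1
  obtain ⟨b, hbdef⟩ : ∃ b : MulAut T, b = a ^ (((p ^ e : ℕ) : ℤ) * Nat.gcdA (p ^ e) m) :=
    ⟨_, rfl⟩
  obtain ⟨c, hcdef⟩ : ∃ c : MulAut T, c = a ^ ((m : ℤ) * Nat.gcdB (p ^ e) m) := ⟨_, rfl⟩
  have hab : a = b * c := by
    rw [hbdef, hcdef, ← zpow_add, ← hb, zpow_one]
  have hbm : b ^ m = 1 := by
    rw [hbdef, ← zpow_natCast (a ^ (((p ^ e : ℕ) : ℤ) * Nat.gcdA (p ^ e) m)) m, ← zpow_mul]
    have h1 : ((p ^ e : ℕ) : ℤ) * Nat.gcdA (p ^ e) m * (m : ℤ)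
        = ((p ^ e * m : ℕ) : ℤ) * Nat.gcdA (p ^ e) m := by
      push_cast
      ring
    rw [h1, zpow_mul, zpow_natCast, ← hn, pow_orderOf_eq_one, one_zpow]
  have hcp : c ^ p ^ e = 1 := by
    rw [hcdef, ← zpow_natCast (a ^ ((m : ℤ) * Nat.gcdB (p ^ e) m)) (p ^ e), ← zpow_mul]
    have h1 : (m : ℤ) * Nat.gcdB (p ^ e) m * ((p ^ e : ℕ) : ℤ)
        = ((p ^ e * m : ℕ) : ℤ) * Nat.gcdB (p ^ e) m := by
      push_cast
      ring
    rw [h1, zpow_mul, zpow_natCast, ← hn, pow_orderOf_eq_one, one_zpow]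
  have hbE : b ∈ E.autGroup T := by
    rw [hbdef]
    exact zpow_mem ha _
  have hcE : c ∈ E.autGroup T := by
    rw [hcdef]
    exact zpow_mem ha _
  obtain ⟨g, hgH1, ⟨m', hm', hgm'⟩, hg⟩ := D.lift_pprime hbE hbm hmc
  obtain ⟨h, hh, hhc⟩ := D.pElt le_rfl hcE hcp
  refine ⟨g * h, mul_mem (D.NN_le_HH (mem_resOf_of_pow hgH1 hm' hgm')) hh, fun x => ?_⟩
  rw [hab]
  show ((b (c x) : T) : G) = _
  rw [hg, hhc]
  group

/-- `E ⊆ F_T(H)`. -/
theorem E_le (D : FHyp p S T E) {P : Subgroup G} {φ : P →* G} (hφ : φ ∈ E.Hom P) :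
    ∃ h ∈ HH D, ∀ x : P, φ x = h * x * h⁻¹ := by
  classical
  have : Finite T := D.finT
  have hTp := D.hTp
  have hEsat := D.sat
  have hPT : P ≤ T := (E.le_of_mem hφ).1
  have hmemfam : fusionSystemOfSubgroup (HH D) T D.T_le_HH ∈
      Cfsg.Agent.Lib.helper87.resFamily E p := by
    constructor
    · intro P' hP'
      have hP'T : P' ≤ T := hP'.1
      rw [Subgroup.map_le_iff_le_comap, Subgroup.closure_le]
      rintro α ⟨k, hk⟩
      have h1 : (α : MulAut P') ^ p ^ k = 1 := by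
        have h2 := pow_orderOf_eq_one α
        rw [hk] at h2
        have h3 := congrArg Subtype.val h2
        simpa using h3
      obtain ⟨h, hh, hhα⟩ := D.pElt hP'T α.2 h1
      show (α : MulAut P') ∈ (fusionSystemOfSubgroup (HH D) T D.T_le_HH).autGroup P'
      rw [mem_autGroup_iff' _ hP'T]
      exact ⟨hP'T, fun x => hP'T ((α : MulAut P') x).2, h, hh, hhα⟩
    · intro α hα Q hQT hQ hαQ
      obtain ⟨a, ha⟩ := Cfsg.Agent.Lib.helper89.exists_aut_of_mem E hα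
        (fun x => (E.le_of_mem hα).2 x)
      have haE : a ∈ E.autGroup T := by
        rw [mem_autGroup_iff' E le_rfl]
        have e : T.subtype.comp a.toMonoidHom = α := by
          ext x
          exact ha x
        rw [e]
        exact hα
      obtain ⟨h, hh, hha⟩ := D.autT haE
      exact ⟨le_rfl, fun x => (E.le_of_mem hα).2 x, h, hh, fun x => by rw [← ha x]; exact hha x⟩
  have hres := Cfsg.Agent.Lib.helper87.exists_isPPrimeResidual hTp E hEsat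
  have hwn := Cfsg.Agent.Lib.helper90.residual_weaklyNormal p hTp E hEsat E
    ⟨hEsat, hEsat, Cfsg.Agent.Lib.helper87.CenNormal.invariant_self E⟩ _ hres
  obtain ⟨α, hα, φ₀, hφ₀, hfr⟩ := hwn.2.2.2.2.2 P hPT φ hφ
  have h2 := Cfsg.Agent.Lib.helper87.resSys_le_of_mem hmemfam P hφ₀
  obtain ⟨-, hφ₀T, h₀, hh₀, hφ₀eq⟩ := h2
  obtain ⟨h', hh', hαeq⟩ := D.autT hα
  refine ⟨h' * h₀, mul_mem hh' hh₀, fun x => ?_⟩
  rw [hfr x (hφ₀T x), hαeq]
  show h' * φ₀ x * h'⁻¹ = _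
  rw [hφ₀eq]
  group

theorem conj_range (D : FHyp p S T E) (g : G) : (conjHom (RR p T) g).range = RR p T := by
  have hRn := D.toG.RR_normal
  apply le_antisymm
  · rintro _ ⟨x, rfl⟩
    exact hRn.conj_mem _ x.2 g
  · intro y hy
    have hy' : g⁻¹ * y * g ∈ RR p T := by simpa using hRn.conj_mem y hy g⁻¹
    refine ⟨⟨_, hy'⟩, ?_⟩
    show g * (g⁻¹ * y * g) * g⁻¹ = y
    group

/-- `F_T(H) ⊆ E`. -/
theorem le_E (D : FHyp p S T E) {P : Subgroup G} (hPT : P ≤ T) {h : G} (hh : h ∈ HH D)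
    (hval : ∀ x : P, h * x * h⁻¹ ∈ T) : conjHom P h ∈ E.Hom P := by
  have DG := D.toG
  have hRn := DG.RR_normal
  have hH0 : h ∈ H0 D := (D.HH_le_H1 hh).1
  have hφR : conjHom (RR p T) h ∈ E.Hom (RR p T) := D.mem_H0.mp hH0
  obtain ⟨-, hrec⟩ := D.R_fa_rec
  obtain ⟨ψ, hψ, hψx⟩ := hrec.2 (RR p T) _ hφR (D.conj_range h)
  have hPN : P ≤ extender T (RR p T) (conjHom (RR p T) h) := by
    intro g hg
    apply Subgroup.subset_closure
    refine ⟨hPT hg, ?_, h * g * h⁻¹, hval ⟨g, hg⟩, fun x hx => ?_⟩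
    · rw [Subgroup.normalizer_eq_top_iff.mpr hRn]
      trivial
    · show h * (g * x * g⁻¹) * h⁻¹ = h * g * h⁻¹ * (h * x * h⁻¹) * (h * g * h⁻¹)⁻¹
      group
  have hRN : RR p T ≤ extender T (RR p T) (conjHom (RR p T) h) := le_extender E hφR
  obtain ⟨h', hh', hψeq⟩ := D.E_le hψ
  have hk'C : h * h'⁻¹ ∈ CR p T := by
    show _ ∈ Subgroup.centralizer (RR p T : Set G)
    rw [Subgroup.mem_centralizer_iff]
    intro r hr
    have hy : h'⁻¹ * r * h' ∈ RR p T := by simpa using hRn.conj_mem r hr h'⁻¹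
    have h1 := hψx _ hy (hRN hy)
    rw [hψeq] at h1
    have h2 : h' * (h'⁻¹ * r * h') * h'⁻¹ = h * (h'⁻¹ * r * h') * h⁻¹ := h1
    have h3 : r = h * h'⁻¹ * r * (h * h'⁻¹)⁻¹ := by
      calc r = h' * (h'⁻¹ * r * h') * h'⁻¹ := by group
        _ = h * (h'⁻¹ * r * h') * h⁻¹ := h2
        _ = h * h'⁻¹ * r * (h * h'⁻¹)⁻¹ := by group
    calc r * (h * h'⁻¹) = (h * h'⁻¹ * r * (h * h'⁻¹)⁻¹) * (h * h'⁻¹) :=
          congrArg (fun w => w * (h * h'⁻¹)) h3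
      _ = h * h'⁻¹ * r := by group
  have hk'H : h * h'⁻¹ ∈ HH D := (HH D).mul_mem hh ((HH D).inv_mem hh')
  have hk'M : h * h'⁻¹ ∈ M1 D := (D.HH_le_H1 hk'H).2
  have hk'U : h * h'⁻¹ ∈ UU p T := DG.Y_le ⟨hk'M, hk'C⟩
  have hk'T : h * h'⁻¹ ∈ T := D.HH_inf_S ⟨hk'H, GHyp.UU_le_S hk'U⟩
  have hψP := restrict_mem E hPN hψ
  have hvalψ : ∀ x : P, (ψ.comp (Subgroup.inclusion hPN)) x ∈ T :=
    fun x => (E.le_of_mem hψP).2 x
  have hcomp := E.comp_mem hψP (E.conj_mem le_rfl hk'T) hvalψ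
  have e : (conjHom T (h * h'⁻¹)).comp
      ((ψ.comp (Subgroup.inclusion hPN)).codRestrict T hvalψ) = conjHom P h := by
    ext x
    show (h * h'⁻¹) * ψ (Subgroup.inclusion hPN x) * (h * h'⁻¹)⁻¹ = h * x * h⁻¹
    rw [hψeq]
    show (h * h'⁻¹) * (h' * (x : G) * h'⁻¹) * (h * h'⁻¹)⁻¹ = h * x * h⁻¹
    group
  rw [e] at hcomp
  exact hcomp

/-- Uniqueness. -/
theorem unique (D : FHyp p S T E) {H' : Subgroup G} (hTH' : T ≤ H') (hH'n : H'.Normal)
    (hR' : ∃ R : Sylow p H', (R : Subgroup H') = T.subgroupOf H')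
    (hE' : ∀ P : Subgroup G, E.Hom P = (fusionSystemOfSubgroup H' T hTH').Hom P) :
    H' = HH D := by
  have DG := D.toG
  have hRn := DG.RR_normal
  have hCn := DG.CR_normal
  have hQn := Cfsg.Agent.Lib.helper53.pCore_normal p G
  have hu1 : H' ⊓ (S : Subgroup G) ≤ T := by
    obtain ⟨R, hR⟩ := hR'
    intro x hx
    have hp : IsPGroup p (((S : Subgroup G) ⊓ H').subgroupOf H') :=
      (S.2.to_le inf_le_left).comap_subtype
    have hle : (R : Subgroup H') ≤ ((S : Subgroup G) ⊓ H').subgroupOf H' := by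
      rw [hR]
      intro y hy
      exact Subgroup.mem_subgroupOf.mpr ⟨D.hTS (Subgroup.mem_subgroupOf.mp hy), y.2⟩
    have heq := R.is_maximal' hp hle
    have h1 : (⟨x, hx.1⟩ : H') ∈ ((S : Subgroup G) ⊓ H').subgroupOf H' :=
      Subgroup.mem_subgroupOf.mpr ⟨hx.2, hx.1⟩
    rw [heq] at h1
    have h1' : (⟨x, hx.1⟩ : H') ∈ (R : Subgroup H') := h1
    rw [hR] at h1'
    exact Subgroup.mem_subgroupOf.mp h1'
  have hu2 : H' ⊓ CR p T ≤ ZR p T := by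
    intro x hx
    have hst : x ∈ commStab (Cfsg.pCore p G) (RR p T) hRn := by
      intro q hq
      have hq1 : x * q * x⁻¹ * q⁻¹ ∈ Cfsg.pCore p G :=
        (Cfsg.pCore p G).mul_mem (hQn.conj_mem q hq x) ((Cfsg.pCore p G).inv_mem hq)
      have hq2 : x * q * x⁻¹ * q⁻¹ ∈ H' := by
        have e : x * q * x⁻¹ * q⁻¹ = x * (q * x⁻¹ * q⁻¹) := by group
        rw [e]
        exact H'.mul_mem hx.1 (hH'n.conj_mem _ (H'.inv_mem hx.1) q)
      exact ⟨hu1 ⟨hq2, Q_le_S S hq1⟩, hq1⟩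
    have hxQ := DG.stabQ_le ⟨hst, hx.2⟩
    exact ⟨⟨hu1 ⟨hx.1, Q_le_S S hxQ⟩, hxQ⟩, hx.2⟩
  have hu3 : H' ≤ M1 D := by
    intro h hh c hc
    refine hu2 ⟨?_, (CR p T).mul_mem (hCn.conj_mem c hc h) ((CR p T).inv_mem hc)⟩
    have e : h * c * h⁻¹ * c⁻¹ = h * (c * h⁻¹ * c⁻¹) := by group
    rw [e]
    exact H'.mul_mem hh (hH'n.conj_mem _ (H'.inv_mem hh) c)
  have hu4 : H' ≤ H0 D := by
    intro h hh
    rw [D.mem_H0, hE']
    exact ⟨RR_le_T p T, fun x => (RR_le_T p T) (hRn.conj_mem _ x.2 h), h, hh, fun x => rfl⟩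
  have hu5 : ∀ g ∈ H1 D, ∀ m : ℕ, m.Coprime p → g ^ m = 1 → g ∈ H' := by
    intro g hg m hm hgm
    have h1 := D.mem_H0.mp hg.1
    rw [hE'] at h1
    obtain ⟨-, -, h, hh, hheq⟩ := h1
    have hcC : h⁻¹ * g ∈ CR p T := by
      show _ ∈ Subgroup.centralizer (RR p T : Set G)
      rw [Subgroup.mem_centralizer_iff]
      intro r hr
      have h2 : g * r * g⁻¹ = h * r * h⁻¹ := hheq ⟨r, hr⟩
      calc r * (h⁻¹ * g) = h⁻¹ * (h * r * h⁻¹) * g := by group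
        _ = h⁻¹ * (g * r * g⁻¹) * g := by rw [h2]
        _ = h⁻¹ * g * r := by group
    have hcM : h⁻¹ * g ∈ M1 D := (M1 D).mul_mem ((M1 D).inv_mem (hu3 hh)) hg.2
    have hcU := DG.Y_le ⟨hcM, hcC⟩
    obtain ⟨k, hk⟩ := pow_of_mem_Q hcU.1
    exact mem_of_coprime_of_mul H' hH'n (by group : g = h * (h⁻¹ * g)) hh hk hm hgm
  apply le_antisymm
  · have h1 : H' ≤ resOf p H' ⊔ T := le_resOf_sup (p := p) hR'
    refine h1.trans (sup_le_sup ?_ le_rfl)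
    apply resOf_le_of
    intro g hg m hm hgm
    exact mem_resOf_of_pow ⟨hu4 hg, hu3 hg⟩ hm hgm
  · exact sup_le (resOf_le_of hu5) hTH'

end FHyp

end Cfsg.Agent.Lib.helper87.NS
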