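import Cfsg.Agent.Lib.helper87.NormalConstrained
import Cfsg.Agent.Lib.helper87.SylowIn2
import Cfsg.Agent.Lib.helper87.SubgroupSystem
import Cfsg.Agent.Lib.helper53.PCore
import Mathlib.GroupTheory.Focal

/-!
Normal subsystems of the fusion system of a constrained group (helper87), part A: pure group theory.

* `commStab A B`: the elements acting trivially on `A` modulo the normal subgroup `B`;
* `le_pCore_of_stab`: a normal subgroup stabilizing a chain `A ≥ B ≥ 1` with `B` a `p`-group and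
  whose elements centralizing `A` are `p`-elements lies in `O_p`;
* `comm_mem_of_coprime`: coprime action on a chain, modulo a normal subgroup;
* `residual_inf_sylow_le`: `O^p(L) ∩ P ≤ T₀` when the focal subgroup of the Sylow subgroup `P`
  lies in `T₀` (via the focal subgroup theorem);
* `resOf p K`: `O^p(K)` as a subgroup of the ambient group.
-/

set_option autoImplicit false

namespace Cfsg.Agent.Lib.helper87.NS

open Cfsg

variable {G : Type*} [Group G]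

/-- The elements acting trivially on `A` modulo the normal subgroup `B`. -/
def commStab (A B : Subgroup G) (hB : B.Normal) : Subgroup G where
  carrier := {g | ∀ a ∈ A, g * a * g⁻¹ * a⁻¹ ∈ B}
  one_mem' := by
    intro a _
    have e : (1 : G) * a * (1 : G)⁻¹ * a⁻¹ = 1 := by group
    rw [e]
    exact B.one_mem
  mul_mem' := by
    intro x y hx hy a ha
    have e : x * y * a * (x * y)⁻¹ * a⁻¹
        = x * (y * a * y⁻¹ * a⁻¹) * x⁻¹ * (x * a * x⁻¹ * a⁻¹) := by group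
    rw [e]
    exact B.mul_mem (hB.conj_mem _ (hy a ha) x) (hx a ha)
  inv_mem' := by
    intro x hx a ha
    have e : x⁻¹ * a * x⁻¹⁻¹ * a⁻¹ = x⁻¹ * (x * a * x⁻¹ * a⁻¹)⁻¹ * x⁻¹⁻¹ := by group
    rw [e]
    exact hB.conj_mem _ (B.inv_mem (hx a ha)) x⁻¹

theorem mem_commStab {A B : Subgroup G} {hB : B.Normal} {g : G} :
    g ∈ commStab A B hB ↔ ∀ a ∈ A, g * a * g⁻¹ * a⁻¹ ∈ B := Iff.rfl

theorem commStab_normal (A B : Subgroup G) (hA : A.Normal) (hB : B.Normal) :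
    (commStab A B hB).Normal := by
  constructor
  intro x hx g a ha
  have e : g * x * g⁻¹ * a * (g * x * g⁻¹)⁻¹ * a⁻¹
      = g * (x * (g⁻¹ * a * g) * x⁻¹ * (g⁻¹ * a * g)⁻¹) * g⁻¹ := by group
  rw [e]
  have h1 : g⁻¹ * a * g ∈ A := by
    have := hA.conj_mem a ha g⁻¹
    simpa using this
  exact hB.conj_mem _ (hx _ h1) g

theorem commStab_mono {A A' B : Subgroup G} (hB : B.Normal) (h : A' ≤ A) :
    commStab A B hB ≤ commStab A' B hB :=
  fun _ hg a ha => hg a (h ha)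

/-- `c⁻¹ g c g⁻¹ ∈ B` for `g` acting trivially on `A ∋ c` modulo `B`. -/
theorem commStab_left {A B : Subgroup G} {hB : B.Normal} {g : G} (hg : g ∈ commStab A B hB)
    {c : G} (hc : c ∈ A) : c⁻¹ * g * c * g⁻¹ ∈ B := by
  have h1 := hg c hc
  have e : c⁻¹ * g * c * g⁻¹ = c⁻¹ * (g * c * g⁻¹ * c⁻¹) * c⁻¹⁻¹ := by group
  rw [e]
  exact hB.conj_mem _ h1 c⁻¹

theorem le_pCore_of_stab [Finite G] {p : ℕ} [Fact p.Prime] (A B K : Subgroup G) (hB : B.Normal)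
    (hKn : K.Normal) (hBp : IsPGroup p B) (hKB : K ≤ Subgroup.centralizer (B : Set G))
    (hKA : K ≤ commStab A B hB)
    (hC : ∀ x ∈ K, x ∈ Subgroup.centralizer (A : Set G) → ∃ k : ℕ, x ^ p ^ k = 1) :
    K ≤ Cfsg.pCore p G := by
  apply Cfsg.Agent.Lib.helper53.le_pCore hKn
  obtain ⟨j, hj⟩ := IsPGroup.iff_card.mp hBp
  rintro ⟨x, hx⟩
  have hcen : x ^ p ^ j ∈ Subgroup.centralizer (A : Set G) := by
    rw [Subgroup.mem_centralizer_iff]
    intro a ha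
    have hb : x * a * x⁻¹ * a⁻¹ ∈ B := hKA hx a ha
    have hxb : x * (x * a * x⁻¹ * a⁻¹) = (x * a * x⁻¹ * a⁻¹) * x :=
      (Subgroup.mem_centralizer_iff.mp (hKB hx) _ hb).symm
    have hu : x * a * x⁻¹ = (x * a * x⁻¹ * a⁻¹) * a := by group
    have h1 := Cfsg.Agent.Lib.helper87.pow_conj_trick x a _ hxb hu (p ^ j)
    have h2 : (x * a * x⁻¹ * a⁻¹) ^ p ^ j = 1 := by
      have h3 : (⟨_, hb⟩ : B) ^ Nat.card B = 1 := pow_card_eq_one'
      rw [hj] at h3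
      have h4 := congrArg Subtype.val h3
      simpa using h4
    rw [h2, one_mul] at h1
    exact (mul_inv_eq_iff_eq_mul.mp h1).symm
  obtain ⟨k, hk⟩ := hC _ (K.pow_mem hx _) hcen
  refine ⟨j + k, Subtype.ext ?_⟩
  show x ^ p ^ (j + k) = 1
  rw [pow_add, pow_mul]
  exact hk

/-- Coprime action on a chain, modulo a normal subgroup `Z`. -/
theorem comm_mem_of_coprime {p : ℕ} [Fact p.Prime] (Z : Subgroup G) (hZ : Z.Normal) (g u : G)
    (m : ℕ) (hm : g ^ m = 1) (hpm : ¬ p ∣ m) (j : ℕ) (hk : (g * u * g⁻¹ * u⁻¹) ^ p ^ j ∈ Z)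
    (hgk : g * (g * u * g⁻¹ * u⁻¹) * g⁻¹ * (g * u * g⁻¹ * u⁻¹)⁻¹ ∈ Z) :
    g * u * g⁻¹ * u⁻¹ ∈ Z := by
  have := hZ
  rw [← QuotientGroup.eq_one_iff]
  refine Cfsg.Agent.Lib.helper87.eq_one_of_conj_eq_mul (p := p) (QuotientGroup.mk g : G ⧸ Z)
    (QuotientGroup.mk u) _ ?_ ?_ m ?_ hpm j ?_
  · have h1 : (QuotientGroup.mk g : G ⧸ Z) * QuotientGroup.mk (g * u * g⁻¹ * u⁻¹)
        * (QuotientGroup.mk g)⁻¹ * (QuotientGroup.mk (g * u * g⁻¹ * u⁻¹))⁻¹ = 1 :=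
      (QuotientGroup.eq_one_iff _).mpr hgk
    exact mul_inv_eq_iff_eq_mul.mp (mul_inv_eq_one.mp h1)
  · have e : g * u * g⁻¹ = (g * u * g⁻¹ * u⁻¹) * u := by group
    exact congrArg (QuotientGroup.mk : G → G ⧸ Z) e
  · rw [← QuotientGroup.mk_pow, hm]
    rfl
  · rw [← QuotientGroup.mk_pow]
    exact (QuotientGroup.eq_one_iff _).mpr hk

/-- An element `g = h c` with `h` in the normal subgroup `H'`, `c` a `p`-element and `g` of order
prime to `p` lies in `H'`. -/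
theorem mem_of_coprime_of_mul {p : ℕ} (H' : Subgroup G) (hH' : H'.Normal) {g h c : G}
    (hg : g = h * c) (hh : h ∈ H') {k : ℕ} (hc : c ^ p ^ k = 1) {m : ℕ} (hm : m.Coprime p)
    (hgm : g ^ m = 1) : g ∈ H' := by
  have := hH'
  rw [← QuotientGroup.eq_one_iff]
  have e1 : (QuotientGroup.mk g : G ⧸ H') = QuotientGroup.mk c := by
    rw [hg, QuotientGroup.mk_mul, (QuotientGroup.eq_one_iff h).mpr hh, one_mul]
  have h1 : (QuotientGroup.mk g : G ⧸ H') ^ m = 1 := by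
    rw [← QuotientGroup.mk_pow, hgm]
    rfl
  have h2 : (QuotientGroup.mk g : G ⧸ H') ^ p ^ k = 1 := by
    rw [e1, ← QuotientGroup.mk_pow, hc]
    rfl
  have hd1 : orderOf (QuotientGroup.mk g : G ⧸ H') ∣ m := orderOf_dvd_of_pow_eq_one h1
  have hd2 : orderOf (QuotientGroup.mk g : G ⧸ H') ∣ p ^ k := orderOf_dvd_of_pow_eq_one h2
  have hcop : Nat.Coprime m (p ^ k) := Nat.Coprime.pow_right k hm
  exact orderOf_eq_one_iff.mp (Nat.eq_one_of_dvd_coprimes hcop hd1 hd2)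

/-- If the focal subgroup of the Sylow `p`-subgroup `P` of `L` lies in `T₀ ≤ P`, then
`O^p(L) ∩ P ≤ T₀`. -/
theorem residual_inf_sylow_le {L : Type*} [Group L] [Finite L] {p : ℕ} [Fact p.Prime]
    (P : Sylow p L) (T₀ : Subgroup L) (hT₀ : T₀ ≤ P)
    (hfoc : ∀ x ∈ (P : Subgroup L), ∀ u : L, x * u * x⁻¹ * u⁻¹ ∈ (P : Subgroup L) →
      x * u * x⁻¹ * u⁻¹ ∈ T₀) :
    Cfsg.pResidual p L ⊓ (P : Subgroup L) ≤ T₀ := by
  classical
  have hfocal : (P : Subgroup L).focalSubgroup ≤ T₀ := by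
    rw [Subgroup.focalSubgroup_def, Subgroup.closure_le]
    rintro g ⟨hg, x, hx, u, rfl⟩
    exact hfoc x hx u hg
  have hcomm : commutator L ⊓ (P : Subgroup L) ≤ T₀ := by
    rw [Subgroup.commutator_inf_eq_focalSubgroup]
    exact hfocal
  obtain ⟨B, hBdef⟩ : ∃ B : Subgroup (Abelianization L), B = T₀.map Abelianization.of :=
    ⟨_, rfl⟩
  obtain ⟨ρ, hρdef⟩ : ∃ ρ : L →* Abelianization L ⧸ B,
      ρ = (QuotientGroup.mk' B).comp Abelianization.of := ⟨_, rfl⟩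
  have h1 : ∀ x ∈ Cfsg.pResidual p L, ∃ m : ℕ, m.Coprime p ∧ (ρ x) ^ m = 1 := by
    intro x hx
    unfold Cfsg.pResidual at hx
    induction hx using Subgroup.closure_induction with
    | mem g hg => exact ⟨orderOf g, hg, by rw [← map_pow, pow_orderOf_eq_one, map_one]⟩
    | one => exact ⟨1, Nat.coprime_one_left p, by simp⟩
    | mul a b _ _ iha ihb =>
      obtain ⟨m, hm, hma⟩ := iha
      obtain ⟨m', hm', hmb⟩ := ihb
      refine ⟨m * m', Nat.Coprime.mul_left hm hm', ?_⟩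
      rw [map_mul, mul_pow, pow_mul, hma, one_pow, one_mul, mul_comm m m', pow_mul, hmb, one_pow]
    | inv a _ iha =>
      obtain ⟨m, hm, hma⟩ := iha
      exact ⟨m, hm, by rw [map_inv, inv_pow, hma, inv_one]⟩
  rintro s ⟨hs1, hs2⟩
  obtain ⟨m, hm, hms⟩ := h1 s hs1
  obtain ⟨k, hk⟩ := P.2 ⟨s, hs2⟩
  have hk' : s ^ p ^ k = 1 := by
    have := congrArg Subtype.val hk
    simpa using this
  have hρk : (ρ s) ^ p ^ k = 1 := by rw [← map_pow, hk', map_one]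
  have hρ1 : ρ s = 1 := by
    have hd1 : orderOf (ρ s) ∣ m := orderOf_dvd_of_pow_eq_one hms
    have hd2 : orderOf (ρ s) ∣ p ^ k := orderOf_dvd_of_pow_eq_one hρk
    have hcop : Nat.Coprime m (p ^ k) := Nat.Coprime.pow_right k hm
    exact orderOf_eq_one_iff.mp (Nat.eq_one_of_dvd_coprimes hcop hd1 hd2)
  have h2 : Abelianization.of s ∈ B := by
    rw [hρdef] at hρ1
    exact (QuotientGroup.eq_one_iff _).mp hρ1
  rw [hBdef] at h2
  obtain ⟨t, ht, hts⟩ := h2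
  have h3 : t⁻¹ * s ∈ commutator L := by
    rw [← Abelianization.ker_of, MonoidHom.mem_ker, map_mul, map_inv, hts, inv_mul_cancel]
  have h4 : t⁻¹ * s ∈ (P : Subgroup L) := mul_mem (inv_mem (hT₀ ht)) hs2
  have h5 := hcomm ⟨h3, h4⟩
  have e : s = t * (t⁻¹ * s) := by group
  rw [e]
  exact mul_mem ht h5

/-- `O^p(K)` as a subgroup of the ambient group. -/
def resOf (p : ℕ) (K : Subgroup G) : Subgroup G := (Cfsg.pResidual p ↥K).map K.subtype

theorem resOf_le (p : ℕ) (K : Subgroup G) : resOf p K ≤ K := Subgroup.map_subtype_le _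

theorem mem_resOf_of_pow {p : ℕ} {K : Subgroup G} {g : G} (hg : g ∈ K) {m : ℕ}
    (hm : m.Coprime p) (hgm : g ^ m = 1) : g ∈ resOf p K := by
  refine ⟨⟨g, hg⟩, Subgroup.subset_closure ?_, rfl⟩
  show (orderOf (⟨g, hg⟩ : K)).Coprime p
  have h1 : (⟨g, hg⟩ : K) ^ m = 1 := Subtype.ext hgm
  exact Nat.Coprime.coprime_dvd_left (orderOf_dvd_of_pow_eq_one h1) hm

theorem resOf_le_of {p : ℕ} {K H' : Subgroup G}
    (h : ∀ g ∈ K, ∀ m : ℕ, m.Coprime p → g ^ m = 1 → g ∈ H') : resOf p K ≤ H' := by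
  unfold resOf Cfsg.pResidual
  rw [MonoidHom.map_closure, Subgroup.closure_le]
  rintro _ ⟨g, hg, rfl⟩
  refine h _ g.2 (orderOf g) hg ?_
  show ((g : K) : G) ^ orderOf g = 1
  rw [← Subgroup.coe_pow, pow_orderOf_eq_one]
  rfl

theorem resOf_normal (p : ℕ) (K : Subgroup G) (hK : K.Normal) : (resOf p K).Normal := by
  have := hK
  have : (Cfsg.pResidual p ↥K).Characteristic :=
    Cfsg.Agent.Lib.helper53.pResidual_characteristic p ↥K
  exact ConjAct.normal_of_characteristic_of_normal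

theorem le_resOf_sup [Finite G] {p : ℕ} [Fact p.Prime] {K P₁ : Subgroup G}
    (hP₁ : ∃ R : Sylow p ↥K, (R : Subgroup K) = P₁.subgroupOf K) : K ≤ resOf p K ⊔ P₁ := by
  obtain ⟨R, hR⟩ := hP₁
  have h1 := Cfsg.Agent.Lib.helper53.pResidual_sup_sylow R
  intro g hg
  have h2 : (⟨g, hg⟩ : K) ∈ Cfsg.pResidual p ↥K ⊔ (R : Subgroup K) := by
    rw [h1]
    trivial
  have h3 : K.subtype ⟨g, hg⟩ ∈ (Cfsg.pResidual p ↥K ⊔ (R : Subgroup K)).map K.subtype :=
    Subgroup.mem_map_of_mem _ h2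
  rw [Subgroup.map_sup] at h3
  have h4 : (Cfsg.pResidual p ↥K).map K.subtype ⊔ (R : Subgroup K).map K.subtype
      ≤ resOf p K ⊔ P₁ := by
    refine sup_le_sup le_rfl ?_
    rw [hR]
    rintro _ ⟨x, hx, rfl⟩
    exact Subgroup.mem_subgroupOf.mp hx
  exact h4 h3

theorem resOf_inf_le [Finite G] {p : ℕ} [Fact p.Prime] {K P₁ T₀ : Subgroup G}
    (hP₁ : ∃ R : Sylow p ↥K, (R : Subgroup K) = P₁.subgroupOf K) (hT₀ : T₀ ≤ P₁)
    (hfoc : ∀ x ∈ P₁, x ∈ K → ∀ u ∈ K, x * u * x⁻¹ * u⁻¹ ∈ P₁ → x * u * x⁻¹ * u⁻¹ ∈ T₀) :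
    resOf p K ⊓ P₁ ≤ T₀ := by
  obtain ⟨R, hR⟩ := hP₁
  rintro g ⟨⟨x, hx, rfl⟩, hg2⟩
  have h1 : Cfsg.pResidual p ↥K ⊓ (R : Subgroup K) ≤ T₀.subgroupOf K := by
    apply residual_inf_sylow_le R
    · rw [hR]
      intro y hy
      exact Subgroup.mem_subgroupOf.mpr (hT₀ (Subgroup.mem_subgroupOf.mp hy))
    · intro y hy u hyu
      rw [hR] at hy hyu
      exact Subgroup.mem_subgroupOf.mpr (hfoc _ (Subgroup.mem_subgroupOf.mp hy) y.2 _ u.2
        (Subgroup.mem_subgroupOf.mp hyu))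
  have h2 : x ∈ (R : Subgroup K) := by
    rw [hR]
    exact Subgroup.mem_subgroupOf.mpr hg2
  exact Subgroup.mem_subgroupOf.mp (h1 ⟨hx, h2⟩)

end Cfsg.Agent.Lib.helper87.NS
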