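import Cfsg.Agent.Lib.helper87.NSGroupA

/-!
Normal subsystems of the fusion system of a constrained group (helper87), part B: the group
theoretic setting.  `G` is finite with `C_G(O_p(G)) ≤ O_p(G)`, `S` is a Sylow `p`-subgroup and
`T ≤ S` is strongly closed in `S` with respect to `G`.  With `R = T ∩ O_p(G)`:

* `R`, `C_G(R)`, `Z(R)`, `U = C_{O_p(G)}(R)` are normal in `G`;
* normal subgroups stabilizing suitable chains lie in `O_p(G)` (`cen_le`, `stabU_le`, `stabQ_le`);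
* `C_T(R) ≤ Z(R)`;
* `T` acts trivially on `C_G(R)` modulo `Z(R)` (`T_le_M1`).
-/

set_option autoImplicit false
set_option linter.unusedSectionVars false

namespace Cfsg.Agent.Lib.helper87.NS

open Cfsg

variable {G : Type*} [Group G]

/-- `R = T ∩ O_p(G)`. -/
def RR (p : ℕ) (T : Subgroup G) : Subgroup G := T ⊓ Cfsg.pCore p G

/-- `C_G(R)`. -/
def CR (p : ℕ) (T : Subgroup G) : Subgroup G := Subgroup.centralizer (RR p T : Set G)

/-- `Z(R)`. -/
def ZR (p : ℕ) (T : Subgroup G) : Subgroup G := RR p T ⊓ CR p T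

/-- `U = C_{O_p(G)}(R)`. -/
def UU (p : ℕ) (T : Subgroup G) : Subgroup G := Cfsg.pCore p G ⊓ CR p T

theorem Q_le_S [Finite G] {p : ℕ} [Fact p.Prime] (S : Sylow p G) :
    Cfsg.pCore p G ≤ (S : Subgroup G) := Cfsg.Agent.Lib.helper53.pCore_le_sylow S

theorem pow_of_mem_Q {p : ℕ} {x : G} (hx : x ∈ Cfsg.pCore p G) : ∃ k : ℕ, x ^ p ^ k = 1 := by
  obtain ⟨k, hk⟩ := Cfsg.Agent.Lib.helper53.pCore_isPGroup p G ⟨x, hx⟩
  refine ⟨k, ?_⟩
  have := congrArg Subtype.val hk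
  simpa using this

/-- The group theoretic hypotheses. -/
structure GHyp [Finite G] (p : ℕ) [Fact p.Prime] (S : Sylow p G) (T : Subgroup G) : Prop where
  cons : Subgroup.centralizer ((Cfsg.pCore p G : Subgroup G) : Set G) ≤ Cfsg.pCore p G
  hTS : T ≤ S
  sc : ∀ t ∈ T, ∀ g : G, g * t * g⁻¹ ∈ (S : Subgroup G) → g * t * g⁻¹ ∈ T

namespace GHyp

variable [Finite G] {p : ℕ} [Fact p.Prime] {S : Sylow p G} {T : Subgroup G}

theorem T_normal (D : GHyp p S T) {s t : G} (hs : s ∈ (S : Subgroup G)) (ht : t ∈ T) :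
    s * t * s⁻¹ ∈ T :=
  D.sc t ht s (mul_mem (mul_mem hs (D.hTS ht)) (inv_mem hs))

theorem RR_normal (D : GHyp p S T) : (RR p T).Normal := by
  have hQn := Cfsg.Agent.Lib.helper53.pCore_normal p G
  constructor
  intro r hr g
  have h1 : g * r * g⁻¹ ∈ Cfsg.pCore p G := hQn.conj_mem r hr.2 g
  exact ⟨D.sc r hr.1 g (Q_le_S S h1), h1⟩

theorem CR_normal (D : GHyp p S T) : (CR p T).Normal := by
  have := D.RR_normal
  unfold CR
  infer_instance

theorem ZR_normal (D : GHyp p S T) : (ZR p T).Normal := by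
  have := D.RR_normal
  have := D.CR_normal
  unfold ZR
  infer_instance

theorem UU_normal (D : GHyp p S T) : (UU p T).Normal := by
  have := Cfsg.Agent.Lib.helper53.pCore_normal p G
  have := D.CR_normal
  unfold UU
  infer_instance

theorem ZR_le_T : ZR p T ≤ T := fun _ h => h.1.1

theorem ZR_le_UU : ZR p T ≤ UU p T := fun _ h => ⟨h.1.2, h.2⟩

theorem ZR_le_RR : ZR p T ≤ RR p T := fun _ h => h.1

theorem UU_le_S : UU p T ≤ (S : Subgroup G) := fun _ h => Q_le_S S h.1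

theorem RR_le_S : RR p T ≤ (S : Subgroup G) := fun _ h => Q_le_S S h.2

theorem cen_le (D : GHyp p S T) :
    CR p T ⊓ Subgroup.centralizer (UU p T : Set G) ≤ Cfsg.pCore p G := by
  have hRn := D.RR_normal
  have hCn := D.CR_normal
  have hUn := D.UU_normal
  have hQn := Cfsg.Agent.Lib.helper53.pCore_normal p G
  have hKn : (CR p T ⊓ Subgroup.centralizer (UU p T : Set G)).Normal := inferInstance
  refine le_pCore_of_stab (Cfsg.pCore p G) (UU p T) _ hUn hKn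
    ((Cfsg.Agent.Lib.helper53.pCore_isPGroup p G).to_le inf_le_left) inf_le_right ?_ ?_
  · intro x hx q hq
    refine ⟨(Cfsg.pCore p G).mul_mem (hQn.conj_mem q hq x) ((Cfsg.pCore p G).inv_mem hq), ?_⟩
    show _ ∈ Subgroup.centralizer (RR p T : Set G)
    rw [Subgroup.mem_centralizer_iff]
    intro r hr
    have hx1 : ∀ r ∈ RR p T, r * x = x * r := Subgroup.mem_centralizer_iff.mp hx.1
    have hr' : q⁻¹ * r * q ∈ RR p T := by simpa using hRn.conj_mem r hr q⁻¹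
    have c1 : Commute r x := hx1 r hr
    have c2 : Commute (q⁻¹ * r * q) x := hx1 _ hr'
    have c3 : Commute r (q * x⁻¹ * q⁻¹) := by
      have h := c2.inv_right.eq
      show r * (q * x⁻¹ * q⁻¹) = q * x⁻¹ * q⁻¹ * r
      calc r * (q * x⁻¹ * q⁻¹) = q * (q⁻¹ * r * q * x⁻¹) * q⁻¹ := by group
        _ = q * (x⁻¹ * (q⁻¹ * r * q)) * q⁻¹ := by rw [h]
        _ = q * x⁻¹ * q⁻¹ * r := by group
    have c4 : Commute r (x * (q * x⁻¹ * q⁻¹)) := c1.mul_right c3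
    have e : x * q * x⁻¹ * q⁻¹ = x * (q * x⁻¹ * q⁻¹) := by group
    rw [e]
    exact c4.eq
  · intro x _ hxQ
    exact pow_of_mem_Q (D.cons hxQ)

theorem stabU_le (D : GHyp p S T) :
    commStab (UU p T) (ZR p T) D.ZR_normal ⊓ CR p T ≤ Cfsg.pCore p G := by
  have hSn := commStab_normal (UU p T) (ZR p T) D.UU_normal D.ZR_normal
  have hCn := D.CR_normal
  have hKn : (commStab (UU p T) (ZR p T) D.ZR_normal ⊓ CR p T).Normal := inferInstance
  refine le_pCore_of_stab (UU p T) (ZR p T) _ D.ZR_normal hKn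
    ((Cfsg.Agent.Lib.helper53.pCore_isPGroup p G).to_le (fun _ h => h.1.2)) ?_ inf_le_left ?_
  · intro x hx
    have h1 : ((ZR p T : Subgroup G) : Set G) ⊆ (RR p T : Set G) := fun _ h => h.1
    exact Subgroup.centralizer_le h1 hx.2
  · intro x hx hxU
    exact pow_of_mem_Q (D.cen_le ⟨hx.2, hxU⟩)

theorem stabQ_le (D : GHyp p S T) :
    commStab (Cfsg.pCore p G) (RR p T) D.RR_normal ⊓ CR p T ≤ Cfsg.pCore p G := by
  have hSn := commStab_normal (Cfsg.pCore p G) (RR p T)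
    (Cfsg.Agent.Lib.helper53.pCore_normal p G) D.RR_normal
  have hCn := D.CR_normal
  have hKn : (commStab (Cfsg.pCore p G) (RR p T) D.RR_normal ⊓ CR p T).Normal := inferInstance
  refine le_pCore_of_stab (Cfsg.pCore p G) (RR p T) _ D.RR_normal hKn
    ((Cfsg.Agent.Lib.helper53.pCore_isPGroup p G).to_le inf_le_right) inf_le_right inf_le_left ?_
  intro x _ hxQ
  exact pow_of_mem_Q (D.cons hxQ)

theorem T_inf_CR (D : GHyp p S T) : T ⊓ CR p T ≤ ZR p T := by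
  have hQn := Cfsg.Agent.Lib.helper53.pCore_normal p G
  intro w hw
  have hst : w ∈ commStab (Cfsg.pCore p G) (RR p T) D.RR_normal := by
    intro q hq
    refine ⟨?_, (Cfsg.pCore p G).mul_mem (hQn.conj_mem q hq w) ((Cfsg.pCore p G).inv_mem hq)⟩
    have e : w * q * w⁻¹ * q⁻¹ = w * (q * w⁻¹ * q⁻¹) := by group
    rw [e]
    exact mul_mem hw.1 (D.T_normal (Q_le_S S hq) (inv_mem hw.1))
  have hwQ : w ∈ Cfsg.pCore p G := D.stabQ_le ⟨hst, hw.2⟩
  exact ⟨⟨hw.1, hwQ⟩, hw.2⟩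

theorem T_le_SU (D : GHyp p S T) : T ≤ commStab (UU p T) (ZR p T) D.ZR_normal := by
  have hQn := Cfsg.Agent.Lib.helper53.pCore_normal p G
  have hCn := D.CR_normal
  intro t ht u hu
  have h1 : t * u * t⁻¹ * u⁻¹ ∈ T := by
    have e : t * u * t⁻¹ * u⁻¹ = t * (u * t⁻¹ * u⁻¹) := by group
    rw [e]
    exact mul_mem ht (D.T_normal (Q_le_S S hu.1) (inv_mem ht))
  have h2 : t * u * t⁻¹ * u⁻¹ ∈ Cfsg.pCore p G := mul_mem (hQn.conj_mem u hu.1 t) (inv_mem hu.1)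
  have h3 : t * u * t⁻¹ * u⁻¹ ∈ CR p T := mul_mem (hCn.conj_mem u hu.2 t) (inv_mem hu.2)
  exact ⟨⟨h1, h2⟩, h3⟩

/-- `T` acts trivially on `C_G(R)` modulo `Z(R)`. -/
theorem T_le_M1 (D : GHyp p S T) : T ≤ commStab (CR p T) (ZR p T) D.ZR_normal := by
  have hSUn := commStab_normal (UU p T) (ZR p T) D.UU_normal D.ZR_normal
  have hCn := D.CR_normal
  intro t ht c hc
  have h1 : c * t⁻¹ * c⁻¹ ∈ commStab (UU p T) (ZR p T) D.ZR_normal :=
    hSUn.conj_mem _ (inv_mem (D.T_le_SU ht)) c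
  have e : t * c * t⁻¹ * c⁻¹ = t * (c * t⁻¹ * c⁻¹) := by group
  have h2 : t * c * t⁻¹ * c⁻¹ ∈ commStab (UU p T) (ZR p T) D.ZR_normal := by
    rw [e]
    exact mul_mem (D.T_le_SU ht) h1
  have h3 : t * c * t⁻¹ * c⁻¹ ∈ CR p T := mul_mem (hCn.conj_mem c hc t) (inv_mem hc)
  have h4 : t * c * t⁻¹ * c⁻¹ ∈ Cfsg.pCore p G := D.stabU_le ⟨h2, h3⟩
  have h5 : c * t⁻¹ * c⁻¹ ∈ (S : Subgroup G) := by
    have e2 : c * t⁻¹ * c⁻¹ = t⁻¹ * (t * c * t⁻¹ * c⁻¹) := by group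
    rw [e2]
    exact mul_mem (inv_mem (D.hTS ht)) (Q_le_S S h4)
  have h6 : c * t⁻¹ * c⁻¹ ∈ T := D.sc _ (inv_mem ht) c h5
  have h7 : t * c * t⁻¹ * c⁻¹ ∈ T := by
    rw [e]
    exact mul_mem ht h6
  exact ⟨⟨h7, h4⟩, h3⟩

/-- `Y = M₁ ∩ C_G(R) ≤ U`. -/
theorem Y_le (D : GHyp p S T) :
    commStab (CR p T) (ZR p T) D.ZR_normal ⊓ CR p T ≤ UU p T := by
  intro y hy
  have h1 : y ∈ commStab (UU p T) (ZR p T) D.ZR_normal :=
    commStab_mono _ (inf_le_right : UU p T ≤ CR p T) hy.1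
  exact ⟨D.stabU_le ⟨h1, hy.2⟩, hy.2⟩

end GHyp

end Cfsg.Agent.Lib.helper87.NS
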