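import Mathlib
import Cfsg.Agent.Lib.helper68.HallPet
import Cfsg.Agent.Lib.helper79.PearlX

/-!
S5239 NONUNIF sub-piece (b) (Y-shift), racing copy by helper87 (prefixed names).
-/

set_option autoImplicit false

namespace Cfsg.Agent.Lib.helper79.P3

open Cfsg.Agent.Lib.helper68

variable {G : Type*} [Group G] [Finite G]

omit [Finite G] in
theorem h87_nu_key (hab : ∀ a ∈ gam G 2, ∀ b ∈ gam G 2, a * b = b * a) (x h v : G)
    (hv : v ∈ gam G 2) : com (com v x) h = com (com v h) x := by
  have h1 : ∀ g : G, g ∈ gam G 1 := fun g => by simp [gam]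
  have ha : com v x ∈ gam G 2 := gam_antitone (by omega) (com_mem hv (h1 x))
  have hb : com v h ∈ gam G 2 := gam_antitone (by omega) (com_mem hv (h1 h))
  have hc : com h x ∈ gam G 2 := com_mem (h1 h) (h1 x)
  have ht : v * com v (x * h) ∈ gam G 2 :=
    (gam G 2).mul_mem hv (gam_antitone (by omega) (com_mem hv (h1 (x * h))))
  have hct := hab _ hc _ ht
  have E1 : h⁻¹ * (x⁻¹ * v * x) * h = v * com v h * com v x * com (com v x) h := by
    unfold com; group
  have E2 : x⁻¹ * (h⁻¹ * v * h) * x = v * com v x * com v h * com (com v h) x := by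
    unfold com; group
  have E3 : x⁻¹ * (h⁻¹ * v * h) * x = h⁻¹ * (x⁻¹ * v * x) * h := by
    have e1 : x⁻¹ * (h⁻¹ * v * h) * x = (com h x)⁻¹ * (v * com v (x * h)) * com h x := by
      unfold com; group
    have e2 : h⁻¹ * (x⁻¹ * v * x) * h = v * com v (x * h) := by
      unfold com; group
    rw [e1, e2, mul_assoc, ← hct, inv_mul_cancel_left]
  have hab' := hab _ ha _ hb
  rw [E1, E2] at E3
  have e4 : v * com v x * com v h = v * com v h * com v x := by
    rw [mul_assoc, hab', ← mul_assoc]
  rw [e4] at E3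
  exact (mul_left_cancel E3).symm

/-- NONUNIF (b), racing copy (helper60's interface). -/
theorem h87_p3_nonunif_b (n : ℕ) (hn : 4 ≤ n) (hG : Nat.card G = 3 ^ n) (x : G)
    (hx : x ^ 3 = 1) (hC : Nat.card (Subgroup.centralizer ({x} : Set G)) = 3 ^ 2)
    (hab : ∀ a ∈ gam G 2, ∀ b ∈ gam G 2, a * b = b * a) (h u : G) (hu : u ∈ gam G 2)
    (hu' : u ∉ gam G (n - 1)) (huh : u * h = h * u) :
    ∀ j, 2 ≤ j → ∀ v ∈ gam G j, com v h ∈ gam G (j + 2) := by
  have : Fact (Nat.Prime 3) := ⟨Nat.prime_three⟩
  have h1 : ∀ g : G, g ∈ gam G 1 := fun g => by simp [gam]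
  have hcard : ∀ i, 2 ≤ i → i ≤ n → Nat.card (gam G i) = 3 ^ (n - i) :=
    fun i hi hin => Cfsg.Agent.Lib.helper79.h79_px_card 3 n hG x hC (by omega) i hi hin
  have hbot : gam G n = ⊥ := by
    apply Subgroup.eq_bot_of_card_eq
    rw [hcard n (by omega) le_rfl, Nat.sub_self, pow_zero]
  have hcom1 : ∀ a b : G, a * b = b * a → com a b = 1 := by
    intro a b hab'
    unfold com
    have e : a⁻¹ * b⁻¹ * a * b = a⁻¹ * b⁻¹ * (a * b) := by group
    rw [e, hab']
    group
  have hcomm : ∀ a b : G, com a b = 1 → a * b = b * a := by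
    intro a b hc
    unfold com at hc
    have e : a * b = b * a * (a⁻¹ * b⁻¹ * a * b) := by group
    rw [e, hc, mul_one]
  have hR : ∀ d m, 2 ≤ m → m + d = n - 1 → ∀ w ∈ gam G m, w ∉ gam G (n - 1) → w * h = h * w →
      ∃ w' ∈ gam G (n - 2), w' ∉ gam G (n - 1) ∧ w' * h = h * w' := by
    intro d
    induction d with
    | zero =>
      intro m hm hmd w hw hw' _
      rw [add_zero] at hmd
      rw [hmd] at hw
      exact absurd hw hw'
    | succ d ih =>
      intro m hm hmd w hw hw' hwh
      by_cases hw1 : w ∈ gam G (m + 1)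
      · exact ih (m + 1) (by omega) (by omega) w hw1 hw' hwh
      · by_cases hmn : m = n - 2
        · subst hmn
          refine ⟨w, hw, ?_, hwh⟩
          rw [show n - 1 = n - 2 + 1 by omega]
          exact hw1
        · have hun := Cfsg.Agent.Lib.helper79.h79_px_unis 3 n hG x hC (by omega) m hm (by omega)
            w hw hw1
          have hw2 : w ∈ gam G 2 := gam_antitone hm hw
          have hk : com (com w x) h = 1 := by
            rw [h87_nu_key hab x h w hw2, hcom1 w h hwh]
            unfold com; group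
          refine ih (m + 1) (by omega) (by omega) (com w x) hun.1 ?_ (hcomm _ _ hk)
          intro hcon
          exact hun.2 (gam_antitone (by omega) hcon)
  obtain ⟨w, hw, hw', hwh⟩ := hR (n - 3) 2 le_rfl (by omega) u hu hu' huh
  have hcen : ∀ z ∈ gam G (n - 1), ∀ g : G, z * g = g * z := by
    intro z hz g
    apply hcomm
    have hmem := com_mem hz (h1 g)
    rw [show n - 1 + 1 = n by omega, hbot, Subgroup.mem_bot] at hmem
    exact hmem
  have hK : gam G (n - 2) ≤ Subgroup.centralizer ({h} : Set G) := by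
    obtain ⟨K, hKdef⟩ : ∃ K : Subgroup G, K = Subgroup.centralizer ({h} : Set G) ⊓ gam G (n - 2) :=
      ⟨_, rfl⟩
    have hle : K ≤ gam G (n - 2) := by rw [hKdef]; exact inf_le_right
    have hle2 : gam G (n - 1) ≤ K := by
      rw [hKdef]
      intro z hz
      refine Subgroup.mem_inf.mpr ⟨?_, gam_antitone (by omega) hz⟩
      rw [Subgroup.mem_centralizer_iff]
      intro y hy
      rw [Set.mem_singleton_iff] at hy
      subst hy
      exact (hcen z hz y).symm
    have hc2 : Nat.card (gam G (n - 2)) = 3 ^ 2 := by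
      rw [hcard (n - 2) (by omega) (by omega), show n - (n - 2) = 2 by omega]
    have hc1 : Nat.card (gam G (n - 1)) = 3 := by
      rw [hcard (n - 1) (by omega) (by omega), show n - (n - 1) = 1 by omega, pow_one]
    have hd1 := Subgroup.card_dvd_of_le hle
    have hd2 := Subgroup.card_dvd_of_le hle2
    rw [hc2] at hd1
    rw [hc1] at hd2
    have hwK : w ∈ K := by
      rw [hKdef]
      refine Subgroup.mem_inf.mpr ⟨?_, hw⟩
      rw [Subgroup.mem_centralizer_iff]
      intro y hy
      rw [Set.mem_singleton_iff] at hy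
      subst hy
      exact hwh.symm
    have hne : Nat.card K ≠ 3 := by
      intro h3
      have hKeq : gam G (n - 1) = K := Subgroup.eq_of_le_of_card_ge hle2 (by rw [h3, hc1])
      rw [← hKeq] at hwK
      exact hw' hwK
    have h9 : Nat.card K = 3 ^ 2 := by
      obtain ⟨k, hk, hk'⟩ := (Nat.dvd_prime_pow Nat.prime_three).1 hd1
      interval_cases k
      · rw [hk'] at hd2
        norm_num at hd2
      · rw [pow_one] at hk'
        exact absurd hk' hne
      · exact hk'
    have heq : K = gam G (n - 2) := Subgroup.eq_of_le_of_card_ge hle (by rw [h9, hc2])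
    rw [← heq, hKdef]
    exact inf_le_left
  have hY1 : ∀ v ∈ gam G (n - 2), com v h = 1 := by
    intro v hv
    apply hcom1
    have hmem := hK hv
    rw [Subgroup.mem_centralizer_iff] at hmem
    exact (hmem h (Set.mem_singleton h)).symm
  have hT : ∀ d j, 2 ≤ j → n - 2 ≤ j + d → ∀ v ∈ gam G j, com v h ∈ gam G (j + 2) := by
    intro d
    induction d with
    | zero =>
      intro j hj hjd v hv
      rw [hY1 v (gam_antitone (by omega) hv)]
      exact Subgroup.one_mem _
    | succ d ih =>
      intro j hj hjd v hv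
      by_cases hjn : n - 2 ≤ j
      · rw [hY1 v (gam_antitone hjn hv)]
        exact Subgroup.one_mem _
      · by_contra hcon
        have hYv : com v h ∈ gam G (j + 1) := com_mem hv (h1 h)
        have hun := Cfsg.Agent.Lib.helper79.h79_px_unis 3 n hG x hC (by omega) (j + 1) (by omega)
          (by omega) (com v h) hYv (show com v h ∉ gam G (j + 1 + 1) from hcon)
        have hXv : com v x ∈ gam G (j + 1) := com_mem hv (h1 x)
        have h2 := ih (j + 1) (by omega) (by omega) (com v x) hXv
        rw [h87_nu_key hab x h v (gam_antitone hj hv)] at h2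
        exact hun.2 h2
  intro j hj v hv
  exact hT n j hj (by omega) v hv

end Cfsg.Agent.Lib.helper79.P3
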