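import Mathlib

/-!
# Auxiliary lemmas: splitting off a central cyclic factor of prime order
-/

set_option autoImplicit false

namespace Cfsg.Agent.Lib.helper87.P4

variable {G : Type*} [Group G]

theorem mem_zpowers_of_ne_one' {p : ℕ} [Fact p.Prime] {z c : G} (hz : z ^ p = 1)
    (hc : c ∈ Subgroup.zpowers z) (hc1 : c ≠ 1) : z ∈ Subgroup.zpowers c := by
  have hz1 : z ≠ 1 := by
    rintro rfl
    rw [Subgroup.zpowers_one_eq_bot, Subgroup.mem_bot] at hc
    exact hc1 hc
  have hcard : Nat.card (Subgroup.zpowers z) = p := by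
    rw [Nat.card_zpowers]; exact orderOf_eq_prime hz hz1
  have h1 : Subgroup.zpowers (⟨c, hc⟩ : Subgroup.zpowers z) = ⊤ :=
    zpowers_eq_top_of_prime_card hcard (fun h => hc1 (congrArg Subtype.val h))
  have h2 : (⟨z, Subgroup.mem_zpowers z⟩ : Subgroup.zpowers z) ∈
      Subgroup.zpowers (⟨c, hc⟩ : Subgroup.zpowers z) := by
    rw [h1]; trivial
  obtain ⟨k, hk⟩ := Subgroup.mem_zpowers_iff.mp h2
  exact Subgroup.mem_zpowers_iff.mpr ⟨k, by simpa using congrArg Subtype.val hk⟩

theorem card_zpowers_prime {p : ℕ} [Fact p.Prime] {z : G} (hz : z ^ p = 1) (hz1 : z ≠ 1) :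
    Nat.card (Subgroup.zpowers z) = p := by
  rw [Nat.card_zpowers]; exact orderOf_eq_prime hz hz1

/-- Subgroups of a group of order `p ^ n` have order `p ^ k`, `k ≤ n`. -/
theorem exists_card_pow [Finite G] {p n : ℕ} [hp : Fact p.Prime] (hG : Nat.card G = p ^ n)
    (M : Subgroup G) : ∃ k ≤ n, Nat.card M = p ^ k := by
  have h := Subgroup.card_subgroup_dvd_card M
  rw [hG] at h
  exact (Nat.dvd_prime_pow hp.out).mp h

/-- A strict inclusion of subgroups of a group of prime power order. -/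
theorem card_mul_le_of_lt [Finite G] {p n : ℕ} [hp : Fact p.Prime] (hG : Nat.card G = p ^ n)
    {A B : Subgroup G} (h : A < B) : Nat.card A * p ≤ Nat.card B := by
  obtain ⟨a, -, ha⟩ := exists_card_pow hG A
  obtain ⟨b, -, hb⟩ := exists_card_pow hG B
  have hlt : Nat.card A < Nat.card B := by
    by_contra hge
    push Not at hge
    exact h.ne (Subgroup.eq_of_le_of_card_ge h.le hge)
  rw [ha, hb] at hlt ⊢
  have hab : a < b := (Nat.pow_lt_pow_iff_right hp.out.one_lt).mp hlt
  calc p ^ a * p = p ^ (a + 1) := (pow_succ p a).symm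
    _ ≤ p ^ b := Nat.pow_le_pow_right hp.out.pos hab

/-- The product map `K × ⟨z⟩ → G` for a central element `z`. -/
def dpHom (K : Subgroup G) (z : G) (hz : ∀ g : G, g * z = z * g) :
    K × Subgroup.zpowers z →* G :=
  MonoidHom.noncommCoprod K.subtype (Subgroup.zpowers z).subtype (by
    rintro k ⟨w, hw⟩
    obtain ⟨n, rfl⟩ := Subgroup.mem_zpowers_iff.mp hw
    exact (show Commute (k : G) z from hz k).zpow_right n)

theorem dpHom_apply (K : Subgroup G) (z : G) (hz : ∀ g : G, g * z = z * g)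
    (x : K × Subgroup.zpowers z) : dpHom K z hz x = (x.1 : G) * (x.2 : G) := rfl

theorem dpHom_injective {p : ℕ} [Fact p.Prime] (K : Subgroup G) (z : G)
    (hz : ∀ g : G, g * z = z * g) (hzp : z ^ p = 1) (hzK : z ∉ K) :
    Function.Injective (dpHom K z hz) := by
  rw [injective_iff_map_eq_one]
  rintro ⟨k, w⟩ h
  rw [dpHom_apply] at h
  have hw : (w : G) = (k : G)⁻¹ := by
    rw [eq_inv_iff_mul_eq_one, mul_eq_one_iff_eq_inv, ← mul_eq_one_iff_eq_inv']
    · exact h
  have hwK : (w : G) ∈ K := by rw [hw]; exact K.inv_mem k.2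
  have hw1 : (w : G) = 1 := by
    by_contra hne
    exact hzK ((Subgroup.zpowers_le.mpr hwK) (mem_zpowers_of_ne_one' hzp w.2 hne))
  have hk1 : (k : G) = 1 := by
    rw [hw1] at hw
    exact inv_eq_one.mp hw.symm
  exact Prod.ext (Subtype.ext hk1) (Subtype.ext hw1)

theorem dpHom_range (K : Subgroup G) (z : G) (hz : ∀ g : G, g * z = z * g) :
    (dpHom K z hz).range = K ⊔ Subgroup.zpowers z := by
  apply le_antisymm
  · rintro _ ⟨x, rfl⟩
    rw [dpHom_apply]
    exact Subgroup.mul_mem _ (Subgroup.mem_sup_left x.1.2) (Subgroup.mem_sup_right x.2.2)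
  · rw [sup_le_iff]
    constructor
    · intro k hk
      exact ⟨(⟨k, hk⟩, 1), by rw [dpHom_apply]; simp⟩
    · intro w hw
      exact ⟨(1, ⟨w, hw⟩), by rw [dpHom_apply]; simp⟩

/-- `|K ⟨z⟩| = p |K|` for a central element `z ∉ K` of order `p`. -/
theorem card_sup_zpowers [Finite G] {p : ℕ} [Fact p.Prime] (K : Subgroup G) (z : G)
    (hz : ∀ g : G, g * z = z * g) (hzp : z ^ p = 1) (hzK : z ∉ K) :
    Nat.card (K ⊔ Subgroup.zpowers z : Subgroup G) = Nat.card K * p := by
  have hz1 : z ≠ 1 := fun h => hzK (h ▸ K.one_mem)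
  rw [← dpHom_range K z hz]
  rw [← Nat.card_congr (MonoidHom.ofInjective (dpHom_injective K z hz hzp hzK)).toEquiv]
  rw [Nat.card_prod, card_zpowers_prime hzp hz1]

/-- A group with a subgroup `K` of index `p` and a central element `z ∉ K` of order `p` is
`K × C_p`. -/
theorem nonempty_prod_equiv [Finite G] {p : ℕ} [Fact p.Prime] (K : Subgroup G) (z : G)
    (hz : ∀ g : G, g * z = z * g) (hzp : z ^ p = 1) (hzK : z ∉ K)
    (hcard : Nat.card G = Nat.card K * p) :
    Nonempty (G ≃* K × Multiplicative (ZMod p)) := by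
  have hz1 : z ≠ 1 := fun h => hzK (h ▸ K.one_mem)
  have hinj := dpHom_injective K z hz hzp hzK
  have hc : Nat.card (K × Subgroup.zpowers z) = Nat.card G := by
    rw [Nat.card_prod, card_zpowers_prime hzp hz1, hcard]
  have hbij : Function.Bijective (dpHom K z hz) :=
    (Nat.bijective_iff_injective_and_card _).mpr ⟨hinj, hc⟩
  have e1 : K × Subgroup.zpowers z ≃* G := MulEquiv.ofBijective _ hbij
  have e2 : Subgroup.zpowers z ≃* Multiplicative (ZMod p) :=
    mulEquivOfPrimeCardEq (p := p) (card_zpowers_prime hzp hz1)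
      (by show Nat.card (ZMod p) = p; exact Nat.card_zmod p)
  exact ⟨e1.symm.trans (MulEquiv.prodCongr (MulEquiv.refl _) e2)⟩

end Cfsg.Agent.Lib.helper87.P4
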