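import Mathlib
import Cfsg.Agent.Lib.helper87.P4Aux
import Cfsg.Agent.Lib.helper87.FlagKill
import Cfsg.Agent.Lib.helper3.PGroupFrattini
import Cfsg.Agent.Lib.helper3.PGroupNormal
import Cfsg.Agent.Lib.helper30.RankTwoC
import Cfsg.Agent.Lib.helper90.SmallOrder

/-!
# Nonabelian groups of order `p ^ 4` with Frattini quotient of order `p ^ 2`

Such a group has a characteristic maximal subgroup (`exists_char_max_of_frattini_sq`).
-/

set_option autoImplicit false

namespace Cfsg.Agent.Lib.helper87.P4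

open scoped commutatorElement

variable {H : Type*} [Group H]

theorem comm_mul_right_of_central (x y y' : H) (hc : ∀ z : H, z * ⁅x, y'⁆ = ⁅x, y'⁆ * z) :
    ⁅x, y * y'⁆ = ⁅x, y⁆ * ⁅x, y'⁆ := by
  have e : ⁅x, y * y'⁆ = ⁅x, y⁆ * (y * ⁅x, y'⁆) * y⁻¹ := by
    simp only [commutatorElement_def]; group
  rw [e, hc y]; group

theorem comm_mul_left_of_central (x x' y : H) (hc : ∀ z : H, z * ⁅x', y⁆ = ⁅x', y⁆ * z) :
    ⁅x * x', y⁆ = ⁅x, y⁆ * ⁅x', y⁆ := by
  have e : ⁅x * x', y⁆ = (x * ⁅x', y⁆) * x⁻¹ * ⁅x, y⁆ := by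
    simp only [commutatorElement_def]; group
  rw [e, hc x, hc ⁅x, y⁆]; group

theorem comm_inv_right_of_central (x y : H) (hc : ∀ z : H, z * ⁅x, y⁆ = ⁅x, y⁆ * z) :
    ⁅x, y⁻¹⁆ = ⁅x, y⁆⁻¹ := by
  have e : ⁅x, y⁻¹⁆ = y⁻¹ * (⁅x, y⁆⁻¹ * y) := by
    simp only [commutatorElement_def]; group
  have h2 : ⁅x, y⁆⁻¹ * y = y * ⁅x, y⁆⁻¹ := by
    have := hc y
    rw [eq_comm, ← mul_inv_eq_iff_eq_mul, mul_assoc, ← eq_inv_mul_iff_mul_eq] at this
    rw [this]
  rw [e, h2]; group

theorem comm_inv_left_of_central (x y : H) (hc : ∀ z : H, z * ⁅x, y⁆ = ⁅x, y⁆ * z) :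
    ⁅x⁻¹, y⁆ = ⁅x, y⁆⁻¹ := by
  have e : ⁅x⁻¹, y⁆ = x⁻¹ * (⁅x, y⁆⁻¹ * x) := by
    simp only [commutatorElement_def]; group
  have h2 : ⁅x, y⁆⁻¹ * x = x * ⁅x, y⁆⁻¹ := by
    have := hc x
    rw [eq_comm, ← mul_inv_eq_iff_eq_mul, mul_assoc, ← eq_inv_mul_iff_mul_eq] at this
    rw [this]
  rw [e, h2]; group

/-- In a group generated by `a`, `b` with central commutators, all commutators are powers of
`[a, b]`. -/
theorem comm_mem_zpowers_of_gen (a b : H) (hgen : Subgroup.closure ({a, b} : Set H) = ⊤)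
    (hcen : ∀ x y z : H, z * ⁅x, y⁆ = ⁅x, y⁆ * z) (x y : H) :
    ⁅x, y⁆ ∈ Subgroup.zpowers ⁅a, b⁆ := by
  have hx : x ∈ Subgroup.closure ({a, b} : Set H) := by rw [hgen]; trivial
  have hy : y ∈ Subgroup.closure ({a, b} : Set H) := by rw [hgen]; trivial
  refine Subgroup.closure_induction₂ (G := H) (k := ({a, b} : Set H))
    (p := fun (x y : H) _ _ => (⁅x, y⁆ : H) ∈ Subgroup.zpowers (⁅a, b⁆ : H))
    ?_ ?_ ?_ ?_ ?_ ?_ ?_ hx hy
  · rintro x y (rfl | rfl) (rfl | rfl)
    · rw [commutatorElement_self]; exact Subgroup.one_mem _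
    · exact Subgroup.mem_zpowers _
    · rw [← commutatorElement_inv y x]
      exact Subgroup.inv_mem (Subgroup.zpowers ⁅y, x⁆) (Subgroup.mem_zpowers ⁅y, x⁆)
    · rw [commutatorElement_self]; exact Subgroup.one_mem _
  · intro x _; rw [commutatorElement_one_left]; exact Subgroup.one_mem _
  · intro x _; rw [commutatorElement_one_right]; exact Subgroup.one_mem _
  · intro x y z _ _ _ h1 h2
    rw [comm_mul_left_of_central x y z (hcen y z)]
    exact Subgroup.mul_mem _ h1 h2
  · intro y z x _ _ _ h1 h2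
    rw [comm_mul_right_of_central x y z (hcen x z)]
    exact Subgroup.mul_mem _ h1 h2
  · intro x y _ _ h
    rw [comm_inv_left_of_central x y (hcen x y)]
    exact Subgroup.inv_mem _ h
  · intro x y _ _ h
    rw [comm_inv_right_of_central x y (hcen x y)]
    exact Subgroup.inv_mem _ h

/-- A noncommutative group of order `p ^ 4` with Frattini subgroup of order `p ^ 2` is generated
by two elements. -/
theorem exists_two_gen [Finite H] {p : ℕ} [hp : Fact p.Prime] (hcard : Nat.card H = p ^ 4)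
    (hΦ : Nat.card (frattini H) = p ^ 2) (hna : ∃ a b : H, a * b ≠ b * a) :
    ∃ a b : H, Subgroup.closure ({a, b} : Set H) = ⊤ := by
  have hΦtop : frattini H ≠ ⊤ := by
    intro h
    have h1 := hΦ
    rw [h, Subgroup.card_top, hcard] at h1
    have := hp.out.one_lt
    exact absurd (Nat.pow_right_injective hp.out.two_le h1) (by norm_num)
  obtain ⟨a, ha⟩ : ∃ a : H, a ∉ frattini H := by
    by_contra hcon
    push Not at hcon
    exact hΦtop (eq_top_iff.mpr fun x _ => hcon x)
  have h1 : frattini H < Subgroup.zpowers a ⊔ frattini H :=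
    lt_of_le_of_ne le_sup_right (fun h => ha (h ▸ Subgroup.mem_sup_left (Subgroup.mem_zpowers a)))
  have hC1 : Subgroup.zpowers a ⊔ frattini H ≠ ⊤ := by
    intro h
    have h2 : Subgroup.zpowers a = ⊤ := frattini_nongenerating h
    obtain ⟨x, y, hxy⟩ := hna
    apply hxy
    have hx : x ∈ Subgroup.zpowers a := by rw [h2]; trivial
    have hy : y ∈ Subgroup.zpowers a := by rw [h2]; trivial
    obtain ⟨i, rfl⟩ := Subgroup.mem_zpowers_iff.mp hx
    obtain ⟨j, rfl⟩ := Subgroup.mem_zpowers_iff.mp hy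
    rw [← zpow_add, ← zpow_add, add_comm]
  obtain ⟨b, hb⟩ : ∃ b : H, b ∉ Subgroup.zpowers a ⊔ frattini H := by
    by_contra hcon
    push Not at hcon
    exact hC1 (eq_top_iff.mpr fun x _ => hcon x)
  have h2 : Subgroup.zpowers a ⊔ frattini H < (Subgroup.zpowers a ⊔ frattini H) ⊔ Subgroup.zpowers b :=
    lt_of_le_of_ne le_sup_left (fun h => hb (h ▸ Subgroup.mem_sup_right (Subgroup.mem_zpowers b)))
  have c1 := card_mul_le_of_lt hcard h1
  have c2 := card_mul_le_of_lt hcard h2
  have h3 : (Subgroup.zpowers a ⊔ frattini H) ⊔ Subgroup.zpowers b = ⊤ := by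
    apply Subgroup.eq_top_of_le_card
    rw [hcard]
    rw [hΦ] at c1
    calc p ^ 4 = p ^ 2 * p * p := by ring
      _ ≤ Nat.card (Subgroup.zpowers a ⊔ frattini H : Subgroup H) * p := Nat.mul_le_mul_right p c1
      _ ≤ _ := c2
  refine ⟨a, b, frattini_nongenerating ?_⟩
  rw [eq_top_iff, ← h3]
  refine sup_le (sup_le ?_ le_sup_right) ?_
  · exact le_sup_of_le_left (Subgroup.zpowers_le.mpr (Subgroup.subset_closure (by simp)))
  · exact le_sup_of_le_left (Subgroup.zpowers_le.mpr (Subgroup.subset_closure (by simp)))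

/-- Case `Φ(H) ≤ Z(H)`. -/
theorem exists_char_max_of_frattini_central [Finite H] {p : ℕ} [hp : Fact p.Prime]
    (hcard : Nat.card H = p ^ 4) (hΦ : Nat.card (frattini H) = p ^ 2)
    (hna : ∃ a b : H, a * b ≠ b * a) (hΦZ : frattini H ≤ Subgroup.center H) :
    ∃ M : Subgroup H, frattini H ≤ M ∧ (∀ φ : MulAut H, ∀ x ∈ M, φ x ∈ M) ∧
      Nat.card M = p ^ 3 := by
  have hH : IsPGroup p H := IsPGroup.of_card hcard
  have hcomΦ : commutator H ≤ frattini H := Cfsg.Agent.Lib.helper3.commutator_le_frattini hH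
  have hcen : ∀ x y z : H, z * ⁅x, y⁆ = ⁅x, y⁆ * z := by
    intro x y z
    have h1 : ⁅x, y⁆ ∈ commutator H := by
      rw [commutator_def]
      exact Subgroup.commutator_mem_commutator (Subgroup.mem_top x) (Subgroup.mem_top y)
    exact (Subgroup.mem_center_iff.mp (hΦZ (hcomΦ h1)) z)
  obtain ⟨a, b, hgen⟩ := exists_two_gen hcard hΦ hna
  obtain ⟨c, hc⟩ : ∃ c : H, c = ⁅a, b⁆ := ⟨_, rfl⟩
  have hcp : c ^ p = 1 := by
    have h1 := Cfsg.Agent.Lib.helper90.comm_pow_of_comm a b (by
      have := hcen a b a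
      rw [commutatorElement_def] at this
      exact this.symm) p
    have h2 : a ^ p ∈ Subgroup.center H :=
      hΦZ (Cfsg.Agent.Lib.helper3.pow_prime_mem_frattini hH a)
    have h3 : a ^ p * b = b * a ^ p := (Subgroup.mem_center_iff.mp h2 b).symm
    rw [hc, commutatorElement_def, ← h1, h3]; group
  have hcomm_le : commutator H ≤ Subgroup.zpowers c := by
    rw [commutator_def, Subgroup.commutator_le]
    intro x _ y _
    rw [hc]
    exact comm_mem_zpowers_of_gen a b hgen hcen x y
  have hc1 : c ≠ 1 := by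
    intro h
    obtain ⟨x, y, hxy⟩ := hna
    apply hxy
    have h1 := comm_mem_zpowers_of_gen a b hgen hcen x y
    rw [← hc, h, Subgroup.zpowers_one_eq_bot, Subgroup.mem_bot] at h1
    exact commutatorElement_eq_one_iff_mul_comm.mp h1
  have hcmem : c ∈ commutator H := by
    rw [hc, commutator_def]
    exact Subgroup.commutator_mem_commutator (Subgroup.mem_top a) (Subgroup.mem_top b)
  have hcomm_eq : commutator H = Subgroup.zpowers c :=
    le_antisymm hcomm_le (Subgroup.zpowers_le.mpr hcmem)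
  have hcomm_card : Nat.card (commutator H) = p := by
    rw [hcomm_eq]; exact card_zpowers_prime hcp hc1
  -- the subgroup of elements whose `p`-th power is a commutator
  let f : H →* Abelianization H := (powMonoidHom p).comp Abelianization.of
  have hfmem : ∀ x : H, x ∈ f.ker ↔ x ^ p ∈ commutator H := by
    intro x
    rw [MonoidHom.mem_ker, ← Abelianization.ker_of, MonoidHom.mem_ker, map_pow]
    rfl
  have hrange : f.range ≤ (frattini H).map Abelianization.of := by
    rintro _ ⟨x, rfl⟩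
    refine ⟨x ^ p, Cfsg.Agent.Lib.helper3.pow_prime_mem_frattini hH x, ?_⟩
    show Abelianization.of (x ^ p) = (Abelianization.of x) ^ p
    rw [map_pow]
  have hmapcard : Nat.card ((frattini H).map (Abelianization.of : H →* Abelianization H)) = p := by
    rw [← Subgroup.relIndex_ker, Abelianization.ker_of]
    have h1 := Cfsg.Agent.Lib.helper30.card_mul_relIndex_of_le hcomΦ
    rw [hcomm_card, hΦ] at h1
    have : p * (commutator H).relIndex (frattini H) = p * p := by rw [h1]; ring
    exact Nat.eq_of_mul_eq_mul_left hp.out.pos this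
  have hrc : Nat.card f.range ∣ p := by
    rw [← hmapcard]; exact Subgroup.card_dvd_of_le hrange
  have hTtop : f.ker ≠ ⊤ := by
    intro h
    have h1 : frattini H ≤ commutator H :=
      Cfsg.Agent.Lib.helper3.frattini_le_of_pow_mem_of_commutator_le (commutator H)
        (fun x => (hfmem x).mp (h ▸ Subgroup.mem_top x)) le_rfl
    have h2 := Subgroup.card_le_of_le h1
    rw [hΦ, hcomm_card] at h2
    have := hp.out.one_lt
    nlinarith
  have hidx : f.ker.index = p := by
    rw [Subgroup.index_ker]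
    rcases (Nat.dvd_prime hp.out).mp hrc with h | h
    · exfalso
      apply hTtop
      rw [← Subgroup.index_eq_one, Subgroup.index_ker]; exact h
    · exact h
  have hTcard : Nat.card f.ker = p ^ 3 := by
    have h1 := Subgroup.card_mul_index f.ker
    rw [hidx, hcard] at h1
    have : Nat.card f.ker * p = p ^ 3 * p := by rw [h1]; ring
    exact Nat.eq_of_mul_eq_mul_right hp.out.pos this
  refine ⟨f.ker, ?_, ?_, hTcard⟩
  · intro x hx
    rw [hfmem]
    have h1 : (⟨Abelianization.of x, Subgroup.mem_map_of_mem _ hx⟩ :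
        (frattini H).map (Abelianization.of : H →* Abelianization H)) ^ p = 1 := by
      have := pow_card_eq_one' (G := ((frattini H).map (Abelianization.of : H →* Abelianization H)))
        (x := ⟨Abelianization.of x, Subgroup.mem_map_of_mem _ hx⟩)
      rwa [hmapcard] at this
    have h2 : (Abelianization.of x) ^ p = 1 := by simpa using congrArg Subtype.val h1
    rw [← Abelianization.ker_of, MonoidHom.mem_ker, map_pow]
    exact h2
  · intro φ x hx
    rw [hfmem] at hx ⊢
    rw [← map_pow]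
    have h := (inferInstance : (commutator H).Characteristic).fixed φ
    have h2 : x ^ p ∈ (commutator H).comap φ.toMonoidHom := by rw [h]; exact hx
    exact h2

/-- Case `Φ(H) ≰ Z(H)`. -/
theorem exists_char_max_of_frattini_noncentral [Finite H] {p : ℕ} [hp : Fact p.Prime]
    (hcard : Nat.card H = p ^ 4) (hΦ : Nat.card (frattini H) = p ^ 2)
    (hΦZ : ¬ frattini H ≤ Subgroup.center H) :
    ∃ M : Subgroup H, frattini H ≤ M ∧ (∀ φ : MulAut H, ∀ x ∈ M, φ x ∈ M) ∧
      Nat.card M = p ^ 3 := by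
  have hH : IsPGroup p H := IsPGroup.of_card hcard
  have hΦab : ∀ u ∈ frattini H, ∀ v ∈ frattini H, u * v = v * u := by
    intro u hu v hv
    have := IsPGroup.commutative_of_card_eq_prime_sq hΦ ⟨u, hu⟩ ⟨v, hv⟩
    simpa using congrArg Subtype.val this
  have hΦbot : frattini H ≠ ⊥ := by
    intro h
    rw [h, Subgroup.card_bot] at hΦ
    have := hp.out.one_lt
    nlinarith
  obtain ⟨z, hzΦ, hzZ, hz1, hzp⟩ :=
    Cfsg.Agent.Lib.helper3.exists_central_of_normal_ne_bot hH (frattini H) hΦbot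
  have hzc : ∀ g : H, g * z = z * g := Subgroup.mem_center_iff.mp hzZ
  have hWcard : Nat.card (Subgroup.zpowers z) = p := card_zpowers_prime hzp hz1
  have hWΦ : Subgroup.zpowers z ≤ frattini H := Subgroup.zpowers_le.mpr hzΦ
  have hWZ : ∀ w ∈ Subgroup.zpowers z, ∀ g : H, g * w = w * g := by
    intro w hw g
    obtain ⟨n, rfl⟩ := Subgroup.mem_zpowers_iff.mp hw
    exact ((show Commute g z from hzc g).zpow_right n)
  have hnormW : ∀ g : H, g ∈ Subgroup.normalizer (Subgroup.zpowers z : Set H) := by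
    intro g
    rw [Subgroup.mem_normalizer_iff]
    intro w
    constructor
    · intro hw
      have : g * w * g⁻¹ = w := by rw [hWZ w hw g]; group
      rw [this]; exact hw
    · intro hw
      have h1 := hWZ _ hw g⁻¹
      have : w = g * w * g⁻¹ := by
        have h2 : g⁻¹ * (g * w * g⁻¹) = w * g⁻¹ := by group
        rw [h2] at h1
        exact mul_right_cancel h1
      rw [this]; exact hw
  have hidxW : (Subgroup.zpowers z).relIndex (frattini H) = p := by
    have h1 := Cfsg.Agent.Lib.helper30.card_mul_relIndex_of_le hWΦ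
    rw [hWcard, hΦ] at h1
    have : p * (Subgroup.zpowers z).relIndex (frattini H) = p * p := by rw [h1]; ring
    exact Nat.eq_of_mul_eq_mul_left hp.out.pos this
  have hcop : Nat.Coprime (p ^ 4) (p - 1) := by
    apply Nat.Coprime.pow_left
    exact (Nat.Prime.coprime_iff_not_dvd hp.out).mpr
      (Nat.not_dvd_of_pos_of_lt (by have := hp.out.two_le; omega) (by have := hp.out.two_le; omega))
  have hkey : ∀ h : H, ∀ u ∈ frattini H, h * u * h⁻¹ * u⁻¹ ∈ Subgroup.zpowers z := by
    intro h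
    exact Cfsg.Agent.Lib.helper30.section_trivial_of_card_dvd_prime p (p ^ 4) hcop (frattini H)
      (Subgroup.zpowers z) hWΦ (fun u _ => hnormW u) (by rw [hidxW]) h
      (by rw [Subgroup.normalizer_eq_top]; trivial) (hnormW h)
      (by rw [← hcard]; exact pow_card_eq_one')
  obtain ⟨y, hyΦ, hyZ⟩ := SetLike.not_le_iff_exists.mp hΦZ
  let κ : H →* H := MonoidHom.mk' (fun h => h * y * h⁻¹ * y⁻¹) (by
    intro h h'
    have hw := hWZ _ (hkey h' y hyΦ)
    show h * h' * y * (h * h')⁻¹ * y⁻¹ = (h * y * h⁻¹ * y⁻¹) * (h' * y * h'⁻¹ * y⁻¹)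
    have e : h * h' * y * (h * h')⁻¹ * y⁻¹ = (h * (h' * y * h'⁻¹ * y⁻¹)) * y * h⁻¹ * y⁻¹ := by
      group
    rw [e, hw h, hw (h * y * h⁻¹ * y⁻¹)]
    group)
  have hκ : ∀ h : H, κ h = h * y * h⁻¹ * y⁻¹ := fun h => rfl
  have hκker : ∀ h : H, h ∈ κ.ker ↔ h * y = y * h := by
    intro h
    rw [MonoidHom.mem_ker, hκ]
    constructor
    · intro e
      have : h * y = (h * y * h⁻¹ * y⁻¹) * (y * h) := by group
      rw [this, e, one_mul]
    · intro e
      have : h * y * h⁻¹ * y⁻¹ = (h * y) * (y * h)⁻¹ := by group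
      rw [this, e, mul_inv_cancel]
  have hκrange : κ.range ≤ Subgroup.zpowers z := by
    rintro _ ⟨h, rfl⟩
    exact hkey h y hyΦ
  have hidx : κ.ker.index ∣ p := by
    rw [Subgroup.index_ker, ← hWcard]
    exact Subgroup.card_dvd_of_le hκrange
  have hyW : y ∉ Subgroup.zpowers z := fun h => hyZ (Subgroup.mem_center_iff.mpr (hWZ y h))
  have hsup : Subgroup.zpowers z ⊔ Subgroup.zpowers y = frattini H := by
    have hle : Subgroup.zpowers z ⊔ Subgroup.zpowers y ≤ frattini H :=
      sup_le hWΦ (Subgroup.zpowers_le.mpr hyΦ)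
    have hlt : Subgroup.zpowers z < Subgroup.zpowers z ⊔ Subgroup.zpowers y :=
      lt_of_le_of_ne le_sup_left
        (fun h => hyW (h ▸ Subgroup.mem_sup_right (Subgroup.mem_zpowers y)))
    have c1 := card_mul_le_of_lt hcard hlt
    rw [hWcard] at c1
    apply Subgroup.eq_of_le_of_card_ge hle
    rw [hΦ]
    calc p ^ 2 = p * p := by ring
      _ ≤ _ := c1
  have hker_le : κ.ker ≤ Subgroup.centralizer (frattini H : Set H) := by
    intro h hh
    rw [hκker] at hh
    rw [Subgroup.mem_centralizer_iff]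
    have h1 : frattini H ≤ Subgroup.centralizer ({h} : Set H) := by
      rw [← hsup]
      refine sup_le ?_ ?_
      · rw [Subgroup.zpowers_le, Subgroup.mem_centralizer_iff]
        intro g hg
        rw [Set.mem_singleton_iff] at hg
        rw [hg]; exact hzc h
      · rw [Subgroup.zpowers_le, Subgroup.mem_centralizer_iff]
        intro g hg
        rw [Set.mem_singleton_iff] at hg
        rw [hg]; exact hh
    intro u hu
    have := Subgroup.mem_centralizer_iff.mp (h1 hu) h rfl
    exact this.symm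
  have hMtop : Subgroup.centralizer (frattini H : Set H) ≠ ⊤ := by
    intro h
    apply hyZ
    rw [Subgroup.mem_center_iff]
    intro g
    have hg : g ∈ Subgroup.centralizer (frattini H : Set H) := by rw [h]; trivial
    exact (Subgroup.mem_centralizer_iff.mp hg y hyΦ).symm
  obtain ⟨k, hk4, hk⟩ := exists_card_pow hcard (Subgroup.centralizer (frattini H : Set H))
  have hkercard : p ^ 3 ≤ Nat.card κ.ker := by
    have h1 := Subgroup.card_mul_index κ.ker
    rw [hcard] at h1
    have h2 : κ.ker.index ≤ p := Nat.le_of_dvd hp.out.pos hidx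
    by_contra hlt
    push Not at hlt
    have h3 : Nat.card κ.ker * κ.ker.index < p ^ 3 * p := by
      calc Nat.card κ.ker * κ.ker.index ≤ Nat.card κ.ker * p := Nat.mul_le_mul_left _ h2
        _ < p ^ 3 * p := Nat.mul_lt_mul_of_pos_right hlt hp.out.pos
    rw [h1] at h3
    have e : p ^ 3 * p = p ^ 4 := by ring
    omega
  have hMge : p ^ 3 ≤ p ^ k := by
    rw [← hk]; exact hkercard.trans (Subgroup.card_le_of_le hker_le)
  have hk3 : 3 ≤ k := (Nat.pow_le_pow_iff_right hp.out.one_lt).mp hMge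
  have hk4' : k ≠ 4 := by
    intro h
    apply hMtop
    apply Subgroup.eq_top_of_card_eq
    rw [hk, h, hcard]
  have hk3' : k = 3 := by omega
  refine ⟨Subgroup.centralizer (frattini H : Set H), ?_, ?_, by rw [hk, hk3']⟩
  · intro x hx
    rw [Subgroup.mem_centralizer_iff]
    intro u hu
    exact hΦab u hu x hx
  · intro φ x hx
    rw [Subgroup.mem_centralizer_iff] at hx ⊢
    intro u hu
    have h1 := hx (φ⁻¹ u) (Cfsg.Agent.Lib.helper87.FlagKill.frattini_aut_mem φ⁻¹ hu)
    have h2 := congrArg φ h1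
    simpa using h2

/-- A noncommutative group of order `p ^ 4` whose Frattini subgroup has order `p ^ 2` has a
characteristic maximal subgroup. -/
theorem exists_char_max_of_frattini_sq [Finite H] {p : ℕ} [hp : Fact p.Prime]
    (hcard : Nat.card H = p ^ 4) (hΦ : Nat.card (frattini H) = p ^ 2)
    (hna : ∃ a b : H, a * b ≠ b * a) :
    ∃ M : Subgroup H, frattini H ≤ M ∧ (∀ φ : MulAut H, ∀ x ∈ M, φ x ∈ M) ∧
      Nat.card M = p ^ 3 := by
  by_cases hΦZ : frattini H ≤ Subgroup.center H
  · exact exists_char_max_of_frattini_central hcard hΦ hna hΦZ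
  · exact exists_char_max_of_frattini_noncentral hcard hΦ hΦZ

end Cfsg.Agent.Lib.helper87.P4
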