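import Mathlib
import Cfsg.Prelude.Def_Transfer
import Cfsg.Agent.Lib.helper87.P4Two
import Cfsg.Agent.Lib.helper1.BurnsideBasis
import Cfsg.Agent.Lib.helper65.GenExtraB
import Cfsg.Agent.Lib.helper73.Quaternion
import Cfsg.Agent.Lib.helper92.Ess3b

/-!
# Nonabelian groups of order `p ^ 4` with Frattini subgroup of order `p`
-/

set_option autoImplicit false

namespace Cfsg.Agent.Lib.helper87.P4

open scoped commutatorElement

variable {H : Type*} [Group H]

theorem le_card_of_index_le [Finite H] {p n : ℕ} [hp : Fact p.Prime] (hcard : Nat.card H = p ^ n)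
    (C : Subgroup H) (j : ℕ) (hj : j ≤ n) (h : C.index ≤ p ^ j) : p ^ (n - j) ≤ Nat.card C := by
  have h1 := Subgroup.card_mul_index C
  rw [hcard] at h1
  have h2 : p ^ (n - j) * p ^ j = p ^ n := by rw [← pow_add]; congr 1; omega
  have h3 : p ^ (n - j) * p ^ j ≤ Nat.card C * p ^ j := by
    rw [h2, ← h1]; exact Nat.mul_le_mul_left _ h
  exact Nat.le_of_mul_le_mul_right h3 (pow_pos hp.out.pos j)

theorem frattini_le_center_of_card [Finite H] {p : ℕ} [hp : Fact p.Prime]
    (hcard : Nat.card H = p ^ 4) (hΦ : Nat.card (frattini H) = p) :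
    frattini H ≤ Subgroup.center H := by
  have hH : IsPGroup p H := IsPGroup.of_card hcard
  have hΦbot : frattini H ≠ ⊥ := by
    intro h
    rw [h, Subgroup.card_bot] at hΦ
    exact hp.out.one_lt.ne hΦ
  obtain ⟨z, hzΦ, hzZ, hz1, hzp⟩ :=
    Cfsg.Agent.Lib.helper3.exists_central_of_normal_ne_bot hH (frattini H) hΦbot
  have h1 : Subgroup.zpowers z = frattini H := by
    apply Subgroup.eq_of_le_of_card_ge (Subgroup.zpowers_le.mpr hzΦ)
    rw [hΦ, card_zpowers_prime hzp hz1]
  intro x hx
  rw [← h1] at hx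
  obtain ⟨n, rfl⟩ := Subgroup.mem_zpowers_iff.mp hx
  exact Subgroup.zpow_mem _ hzZ n

theorem comm_mem_frattini [Finite H] {p : ℕ} [hp : Fact p.Prime]
    (hcard : Nat.card H = p ^ 4) (x y : H) : ⁅x, y⁆ ∈ frattini H := by
  have hH : IsPGroup p H := IsPGroup.of_card hcard
  apply Cfsg.Agent.Lib.helper3.commutator_le_frattini hH
  rw [commutator_def]
  exact Subgroup.commutator_mem_commutator (Subgroup.mem_top x) (Subgroup.mem_top y)

theorem comm_central_of_card [Finite H] {p : ℕ} [hp : Fact p.Prime]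
    (hcard : Nat.card H = p ^ 4) (hΦ : Nat.card (frattini H) = p) (x y z : H) :
    z * ⁅x, y⁆ = ⁅x, y⁆ * z :=
  Subgroup.mem_center_iff.mp (frattini_le_center_of_card hcard hΦ (comm_mem_frattini hcard x y)) z

theorem pow_eq_one_of_mem_frattini [Finite H] {p : ℕ} (hΦ : Nat.card (frattini H) = p)
    {x : H} (hx : x ∈ frattini H) : x ^ p = 1 := by
  have := pow_card_eq_one' (G := frattini H) (x := ⟨x, hx⟩)
  rw [hΦ] at this
  simpa using congrArg Subtype.val this

/-- Centralizers of elements have index dividing `p`. -/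
theorem exists_centralizer_index [Finite H] {p : ℕ} [hp : Fact p.Prime]
    (hcard : Nat.card H = p ^ 4) (hΦ : Nat.card (frattini H) = p) (y : H) :
    ∃ C : Subgroup H, (∀ h : H, h ∈ C ↔ h * y = y * h) ∧ C.index ∣ p := by
  let κ : H →* H := MonoidHom.mk' (fun h => ⁅h, y⁆)
    (fun h h' => comm_mul_left_of_central h h' y (fun z => comm_central_of_card hcard hΦ h' y z))
  refine ⟨κ.ker, ?_, ?_⟩
  · intro h
    rw [MonoidHom.mem_ker]
    show ⁅h, y⁆ = 1 ↔ _
    exact commutatorElement_eq_one_iff_mul_comm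
  · rw [Subgroup.index_ker, ← hΦ]
    apply Subgroup.card_dvd_of_le
    rintro _ ⟨h, rfl⟩
    exact comm_mem_frattini hcard h y

/-- The subgroup generated by two noncommuting elements. -/
theorem exists_E [Finite H] {p : ℕ} [hp : Fact p.Prime] (hcard : Nat.card H = p ^ 4)
    (hΦ : Nat.card (frattini H) = p) (a b : H) (hab : a * b ≠ b * a) :
    Nat.card (Subgroup.closure ({a, b} : Set H)) = p ^ 3 ∧
    frattini H ≤ Subgroup.closure ({a, b} : Set H) ∧
    Nat.card (Subgroup.center H ⊓ Subgroup.closure ({a, b} : Set H) : Subgroup H) ≤ p ∧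
    ∃ z : H, (∀ g : H, g * z = z * g) ∧ z ∉ Subgroup.closure ({a, b} : Set H) := by
  classical
  have hp1 := hp.out.one_lt
  have hH : IsPGroup p H := IsPGroup.of_card hcard
  have hΦZ := frattini_le_center_of_card hcard hΦ
  obtain ⟨E, hE⟩ : ∃ E : Subgroup H, E = Subgroup.closure ({a, b} : Set H) := ⟨_, rfl⟩
  rw [← hE]
  have haE : a ∈ E := by rw [hE]; exact Subgroup.subset_closure (by simp)
  have hbE : b ∈ E := by rw [hE]; exact Subgroup.subset_closure (by simp)
  have hcΦ : ⁅a, b⁆ ∈ frattini H := comm_mem_frattini hcard a b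
  have hc1 : ⁅a, b⁆ ≠ 1 := fun h => hab (commutatorElement_eq_one_iff_mul_comm.mp h)
  have hcE : ⁅a, b⁆ ∈ E := by
    rw [commutatorElement_def]
    exact E.mul_mem (E.mul_mem (E.mul_mem haE hbE) (E.inv_mem haE)) (E.inv_mem hbE)
  have hΦE : frattini H ≤ E := by
    have h1 : Subgroup.zpowers ⁅a, b⁆ = frattini H := by
      apply Subgroup.eq_of_le_of_card_ge (Subgroup.zpowers_le.mpr hcΦ)
      rw [hΦ, card_zpowers_prime (pow_eq_one_of_mem_frattini hΦ hcΦ) hc1]
    rw [← h1]; exact Subgroup.zpowers_le.mpr hcE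
  have hle : Nat.card E ≤ p ^ 3 := by
    have h1 := Cfsg.Agent.Lib.helper1.card_closure_sup_frattini_le p hH ({a, b} : Finset H)
    have h2 : Subgroup.closure ((({a, b} : Finset H)) : Set H) ⊔ frattini H = E := by
      rw [Finset.coe_insert, Finset.coe_singleton, ← hE]
      exact sup_eq_left.mpr hΦE
    rw [h2, hΦ] at h1
    calc Nat.card E ≤ p * p ^ ({a, b} : Finset H).card := h1
      _ ≤ p * p ^ 2 := Nat.mul_le_mul_left _ (Nat.pow_le_pow_right hp.out.pos Finset.card_le_two)
      _ = p ^ 3 := by ring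
  have haΦ : a ∉ frattini H := fun h => hab ((Subgroup.mem_center_iff.mp (hΦZ h) b).symm)
  have h1 : frattini H < frattini H ⊔ Subgroup.zpowers a :=
    lt_of_le_of_ne le_sup_left
      (fun h => haΦ (h ▸ Subgroup.mem_sup_right (Subgroup.mem_zpowers a)))
  have hb' : b ∉ frattini H ⊔ Subgroup.zpowers a := by
    intro h
    have h2 : frattini H ⊔ Subgroup.zpowers a ≤ Subgroup.centralizer ({a} : Set H) := by
      refine sup_le ?_ ?_
      · intro x hx
        rw [Subgroup.mem_centralizer_iff]
        intro g hg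
        rw [Set.mem_singleton_iff] at hg
        rw [hg]
        exact Subgroup.mem_center_iff.mp (hΦZ hx) a
      · rw [Subgroup.zpowers_le, Subgroup.mem_centralizer_iff]
        intro g hg
        rw [Set.mem_singleton_iff] at hg
        rw [hg]
    have h3 := Subgroup.mem_centralizer_iff.mp (h2 h) a rfl
    exact hab h3
  have h2 : frattini H ⊔ Subgroup.zpowers a < E :=
    lt_of_le_of_ne (sup_le hΦE (Subgroup.zpowers_le.mpr haE)) (fun h => hb' (h ▸ hbE))
  have c1 := card_mul_le_of_lt hcard h1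
  have c2 := card_mul_le_of_lt hcard h2
  have hge : p ^ 3 ≤ Nat.card E := by
    rw [hΦ] at c1
    calc p ^ 3 = p * p * p := by ring
      _ ≤ Nat.card (frattini H ⊔ Subgroup.zpowers a : Subgroup H) * p := Nat.mul_le_mul_right p c1
      _ ≤ _ := c2
  have hEcard : Nat.card E = p ^ 3 := le_antisymm hle hge
  obtain ⟨Ca, hCa, hCai⟩ := exists_centralizer_index hcard hΦ a
  obtain ⟨Cb, hCb, hCbi⟩ := exists_centralizer_index hcard hΦ b
  have hYidx : (Ca ⊓ Cb).index ≤ p ^ 2 := by
    calc (Ca ⊓ Cb).index ≤ Ca.index * Cb.index := Subgroup.index_inf_le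
      _ ≤ p * p := Nat.mul_le_mul (Nat.le_of_dvd hp.out.pos hCai) (Nat.le_of_dvd hp.out.pos hCbi)
      _ = p ^ 2 := by ring
  have hYcard : p ^ 2 ≤ Nat.card (Ca ⊓ Cb : Subgroup H) :=
    le_card_of_index_le hcard _ 2 (by norm_num) hYidx
  have hs1 : Ca ⊓ E < E := lt_of_le_of_ne inf_le_right (fun h => by
    have h3 : b ∈ Ca ⊓ E := by rw [h]; exact hbE
    exact hab ((hCa b).mp h3.1).symm)
  have hs2 : (Ca ⊓ Cb) ⊓ E < Ca ⊓ E :=
    lt_of_le_of_ne (inf_le_inf_right E inf_le_left) (fun h => by
      have h3 : a ∈ Ca ⊓ E := ⟨(hCa a).mpr rfl, haE⟩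
      rw [← h] at h3
      exact hab ((hCb a).mp h3.1.2))
  have d1 := card_mul_le_of_lt hcard hs1
  have d2 := card_mul_le_of_lt hcard hs2
  have hYE : Nat.card ((Ca ⊓ Cb) ⊓ E : Subgroup H) ≤ p := by
    rw [hEcard] at d1
    have h3 : Nat.card ((Ca ⊓ Cb) ⊓ E : Subgroup H) * p * p ≤ p * p * p := by
      calc Nat.card ((Ca ⊓ Cb) ⊓ E : Subgroup H) * p * p
          ≤ Nat.card (Ca ⊓ E : Subgroup H) * p := Nat.mul_le_mul_right p d2
        _ ≤ p ^ 3 := d1
        _ = p * p * p := by ring
    exact Nat.le_of_mul_le_mul_right (Nat.le_of_mul_le_mul_right h3 hp.out.pos) hp.out.pos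
  refine ⟨hEcard, hΦE, ?_, ?_⟩
  · refine (Subgroup.card_le_of_le ?_).trans hYE
    intro x hx
    exact ⟨⟨(hCa x).mpr (Subgroup.mem_center_iff.mp hx.1 a).symm,
      (hCb x).mpr (Subgroup.mem_center_iff.mp hx.1 b).symm⟩, hx.2⟩
  · obtain ⟨z, hzY, hzE⟩ : ∃ z ∈ Ca ⊓ Cb, z ∉ E := by
      by_contra hcon
      push Not at hcon
      have h3 : Ca ⊓ Cb ≤ (Ca ⊓ Cb) ⊓ E := fun x hx => ⟨hx, hcon x hx⟩
      have h4 := (Subgroup.card_le_of_le h3).trans hYE
      have h5 := hYcard.trans h4
      nlinarith
    refine ⟨z, ?_, hzE⟩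
    have hza : z * a = a * z := (hCa z).mp hzY.1
    have hzb : z * b = b * z := (hCb z).mp hzY.2
    have h3 : E ≤ Subgroup.centralizer ({z} : Set H) := by
      rw [hE, Subgroup.closure_le]
      rintro x (rfl | rfl)
      · rw [SetLike.mem_coe, Subgroup.mem_centralizer_iff]
        intro g hg; rw [Set.mem_singleton_iff] at hg; rw [hg]; exact hza
      · rw [SetLike.mem_coe, Subgroup.mem_centralizer_iff]
        intro g hg; rw [Set.mem_singleton_iff] at hg; rw [hg]; exact hzb
    have h4 : Subgroup.zpowers z ≤ Subgroup.centralizer ({z} : Set H) := by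
      rw [Subgroup.zpowers_le, Subgroup.mem_centralizer_iff]
      intro g hg; rw [Set.mem_singleton_iff] at hg; rw [hg]
    have h5 : E < E ⊔ Subgroup.zpowers z :=
      lt_of_le_of_ne le_sup_left
        (fun h => hzE (h ▸ Subgroup.mem_sup_right (Subgroup.mem_zpowers z)))
    have h6 := card_mul_le_of_lt hcard h5
    have h7 : E ⊔ Subgroup.zpowers z = ⊤ := by
      apply Subgroup.eq_top_of_le_card
      rw [hcard]
      rw [hEcard] at h6
      calc p ^ 4 = p ^ 3 * p := by ring
        _ ≤ _ := h6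
    intro g
    have h8 : g ∈ Subgroup.centralizer ({z} : Set H) := by
      have h9 : g ∈ E ⊔ Subgroup.zpowers z := by rw [h7]; trivial
      exact (sup_le h3 h4) h9
    exact (Subgroup.mem_centralizer_iff.mp h8 z rfl).symm

/-- The centre has order `p ^ 2`. -/
theorem card_center_of_card [Finite H] {p : ℕ} [hp : Fact p.Prime] (hcard : Nat.card H = p ^ 4)
    (hΦ : Nat.card (frattini H) = p) (hna : ∃ a b : H, a * b ≠ b * a) :
    Nat.card (Subgroup.center H) = p ^ 2 := by
  obtain ⟨a, b, hab⟩ := hna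
  obtain ⟨hEcard, hΦE, hZE, z, hz, hzE⟩ := exists_E hcard hΦ a b hab
  have hΦZ := frattini_le_center_of_card hcard hΦ
  have hzZ : z ∈ Subgroup.center H := Subgroup.mem_center_iff.mpr hz
  have hlt : frattini H < Subgroup.center H :=
    lt_of_le_of_ne hΦZ (fun h => hzE (hΦE (by rw [h]; exact hzZ)))
  have c1 := card_mul_le_of_lt hcard hlt
  rw [hΦ] at c1
  obtain ⟨k, hk4, hk⟩ := exists_card_pow hcard (Subgroup.center H)
  have hk2 : 2 ≤ k := by
    have h1 : p ^ 2 ≤ p ^ k := by
      rw [← hk]
      calc p ^ 2 = p * p := by ring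
        _ ≤ _ := c1
    exact (Nat.pow_le_pow_iff_right hp.out.one_lt).mp h1
  have hk3 : k < 3 := by
    by_contra hge
    push Not at hge
    have hZidx : (Subgroup.center H).index ≤ p := by
      have h1 := Subgroup.card_mul_index (Subgroup.center H)
      rw [hcard, hk] at h1
      have h2 : p ^ 3 * (Subgroup.center H).index ≤ p ^ 3 * p := by
        calc p ^ 3 * (Subgroup.center H).index ≤ p ^ k * (Subgroup.center H).index :=
              Nat.mul_le_mul_right _ (Nat.pow_le_pow_right hp.out.pos hge)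
          _ = p ^ 4 := h1
          _ = p ^ 3 * p := by ring
      exact Nat.le_of_mul_le_mul_left h2 (pow_pos hp.out.pos 3)
    have hEidx : (Subgroup.closure ({a, b} : Set H)).index = p := by
      have h1 := Subgroup.card_mul_index (Subgroup.closure ({a, b} : Set H))
      rw [hcard, hEcard] at h1
      have h2 : p ^ 3 * (Subgroup.closure ({a, b} : Set H)).index = p ^ 3 * p := by rw [h1]; ring
      exact Nat.eq_of_mul_eq_mul_left (pow_pos hp.out.pos 3) h2
    have h3 : (Subgroup.center H ⊓ Subgroup.closure ({a, b} : Set H)).index ≤ p ^ 2 := by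
      calc (Subgroup.center H ⊓ Subgroup.closure ({a, b} : Set H)).index
          ≤ (Subgroup.center H).index * (Subgroup.closure ({a, b} : Set H)).index :=
            Subgroup.index_inf_le
        _ ≤ p * p := by rw [hEidx]; exact Nat.mul_le_mul_right p hZidx
        _ = p ^ 2 := by ring
    have h4 := le_card_of_index_le hcard _ 2 (by norm_num) h3
    have h5 : p ^ 2 ≤ p := h4.trans hZE
    have := hp.out.one_lt
    nlinarith
  have hk2' : k = 2 := by omega
  rw [hk, hk2']

theorem closure_pair_quat (a b : H) (ha4 : a ^ 4 = 1)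
    (ha2 : a ^ 2 ≠ 1) (hb : b ^ 2 = a ^ 2) (hab : b * a * b⁻¹ = a⁻¹) :
    Nonempty (↥(Subgroup.closure ({a, b} : Set H)) ≃* QuaternionGroup 2) := by
  have haQ : a ∈ Subgroup.closure ({a, b} : Set H) := Subgroup.subset_closure (by simp)
  have hbQ : b ∈ Subgroup.closure ({a, b} : Set H) := Subgroup.subset_closure (by simp)
  apply Cfsg.Agent.Lib.helper73.nonempty_mulEquiv_quaternion
    (⟨a, haQ⟩ : ↥(Subgroup.closure ({a, b} : Set H))) ⟨b, hbQ⟩
  · apply Subtype.ext
    simpa using ha4
  · intro h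
    apply ha2
    have := congrArg Subtype.val h
    simpa using this
  · apply Subtype.ext
    simpa using hb
  · apply Subtype.ext
    simpa using hab
  · have h := Subgroup.closure_closure_coe_preimage (k := ({a, b} : Set H))
    have hset : (Subtype.val ⁻¹' ({a, b} : Set H) : Set ↥(Subgroup.closure ({a, b} : Set H)))
        = {⟨a, haQ⟩, ⟨b, hbQ⟩} := by
      ext ⟨g, hg⟩
      simp [Subtype.ext_iff]
    rw [hset] at h
    exact h

theorem eq_of_mem_frattini_two [Finite H] (hΦ : Nat.card (frattini H) = 2) {x y : H}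
    (hx : x ∈ frattini H) (hy : y ∈ frattini H) (hx1 : x ≠ 1) (hy1 : y ≠ 1) : x = y := by
  have hx2 : x ^ 2 = 1 := pow_eq_one_of_mem_frattini hΦ hx
  have : Fact (Nat.Prime 2) := ⟨Nat.prime_two⟩
  have h1 : Subgroup.zpowers x = frattini H := by
    apply Subgroup.eq_of_le_of_card_ge (Subgroup.zpowers_le.mpr hx)
    rw [hΦ, card_zpowers_prime hx2 hx1]
  rw [← h1] at hy
  obtain ⟨n, rfl⟩ := Subgroup.mem_zpowers_iff.mp hy
  rcases Int.even_or_odd' n with ⟨k, rfl | rfl⟩
  · exfalso; apply hy1
    rw [zpow_mul, zpow_ofNat, hx2, one_zpow]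
  · rw [zpow_add, zpow_mul, zpow_ofNat, hx2, one_zpow, one_mul, zpow_one]

/-- **Nonabelian groups of order `p ^ 4` with Frattini subgroup of order `p`.** -/
theorem three_cases [Finite H] (p : ℕ) [hp : Fact p.Prime] (hcard : Nat.card H = p ^ 4)
    (hΦ : Nat.card (frattini H) = p) (hna : ∃ a b : H, a * b ≠ b * a) :
    (IsCyclic (Subgroup.center H) ∧ Nat.card (Subgroup.center H) = p ^ 2 ∧
      ∀ x : H, x ^ (p ^ 2) = 1) ∨
    (Odd p ∧ ∃ E : Subgroup H, Cfsg.IsExtraspecial p E ∧ Nat.card E = p ^ 3 ∧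
      (∀ x : E, x ^ p = 1) ∧ Nonempty (H ≃* E × Multiplicative (ZMod p))) ∨
    (p = 2 ∧ Nonempty (H ≃* QuaternionGroup 2 × Multiplicative (ZMod 2))) ∨
    (∃ M₁ M₂ : Subgroup H, M₂ ≤ M₁ ∧ frattini H ≤ M₂ ∧
      (∀ φ : MulAut H, ∀ x ∈ M₁, φ x ∈ M₁) ∧ (∀ φ : MulAut H, ∀ x ∈ M₂, φ x ∈ M₂) ∧
      Nat.card M₁ = p ^ 3 ∧ Nat.card M₂ = p ^ 2) := by
  have hH : IsPGroup p H := IsPGroup.of_card hcard
  have hΦZ := frattini_le_center_of_card hcard hΦ
  have hZcard := card_center_of_card hcard hΦ hna
  have hpowΦ : ∀ x : H, x ^ p ∈ frattini H :=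
    fun x => Cfsg.Agent.Lib.helper3.pow_prime_mem_frattini hH x
  have hpow2 : ∀ x : H, x ^ (p ^ 2) = 1 := by
    intro x
    rw [pow_two, pow_mul]
    exact pow_eq_one_of_mem_frattini hΦ (hpowΦ x)
  by_cases hI : ∃ w ∈ Subgroup.center H, w ^ p ≠ 1
  · left
    obtain ⟨w, hwZ, hwp⟩ := hI
    refine ⟨?_, hZcard, hpow2⟩
    have ho : orderOf w = p ^ 2 := by
      have h1 := orderOf_eq_prime_pow (p := p) (n := 1) (x := w) (by rwa [pow_one])
        (by simpa using hpow2 w)
      simpa using h1
    apply isCyclic_of_orderOf_eq_card (⟨w, hwZ⟩ : Subgroup.center H)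
    rw [hZcard, ← ho]
    exact Subgroup.orderOf_mk w hwZ
  · push Not at hI
    have hZchar : ∀ φ : MulAut H, ∀ x ∈ Subgroup.center H, φ x ∈ Subgroup.center H :=
      fun φ x hx => Cfsg.Agent.Lib.helper92.center_char_mem φ x hx
    rcases hp.out.eq_two_or_odd' with h2 | hodd
    · subst h2
      by_cases hA : ∃ a b : H, a * b ≠ b * a ∧ a ^ 2 ≠ 1 ∧ b ^ 2 ≠ 1
      · right; right; left
        refine ⟨rfl, ?_⟩
        obtain ⟨a, b, hab, ha2, hb2⟩ := hA
        obtain ⟨hEcard, hΦE, -, z, hz, hzE⟩ := exists_E hcard hΦ a b hab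
        have hzp : z ^ 2 = 1 := hI z (Subgroup.mem_center_iff.mpr hz)
        obtain ⟨e1⟩ := nonempty_prod_equiv (Subgroup.closure ({a, b} : Set H)) z hz hzp hzE
          (by rw [hcard, hEcard]; ring)
        have haΦ : a ^ 2 ∈ frattini H := hpowΦ a
        have hbΦ : b ^ 2 ∈ frattini H := hpowΦ b
        have hba : ⁅b, a⁆ ≠ 1 :=
          fun h => hab (commutatorElement_eq_one_iff_mul_comm.mp h).symm
        have e_ab : b ^ 2 = a ^ 2 := eq_of_mem_frattini_two hΦ hbΦ haΦ hb2 ha2
        have e_c : ⁅b, a⁆ = a ^ 2 :=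
          eq_of_mem_frattini_two hΦ (comm_mem_frattini hcard b a) haΦ hba ha2
        have ha4 : a ^ 4 = 1 := by
          have h1 := pow_eq_one_of_mem_frattini hΦ haΦ
          rw [← pow_mul] at h1
          exact h1
        have hconj : b * a * b⁻¹ = a⁻¹ := by
          have h1 : b * a * b⁻¹ = ⁅b, a⁆ * a := by rw [commutatorElement_def]; group
          rw [h1, e_c, eq_inv_iff_mul_eq_one]
          have h2 : a ^ 2 * a * a = a ^ 4 := by group
          rw [h2, ha4]
        obtain ⟨e2⟩ := closure_pair_quat a b ha4 ha2 e_ab hconj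
        exact ⟨e1.trans (MulEquiv.prodCongr e2 (MulEquiv.refl _))⟩
      · right; right; right
        push Not at hA
        have hB : ∀ a b : H, a ^ 2 ≠ 1 → b ^ 2 ≠ 1 → a * b = b * a := by
          intro a b ha hb
          by_contra hab
          exact hb (hA a b hab ha)
        obtain ⟨u, hu⟩ : ∃ u : H, u ^ 2 ≠ 1 := by
          by_contra hcon
          push Not at hcon
          obtain ⟨a, b, hab⟩ := hna
          apply hab
          have h1 := hcon (a * b)
          have ha := hcon a
          have hb := hcon b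
          have ha' : a⁻¹ = a := by
            rw [inv_eq_iff_eq_inv, eq_inv_iff_mul_eq_one, ← pow_two]; exact ha
          have hb' : b⁻¹ = b := by
            rw [inv_eq_iff_eq_inv, eq_inv_iff_mul_eq_one, ← pow_two]; exact hb
          calc a * b = (a * b)⁻¹ := by rw [eq_inv_iff_mul_eq_one, ← pow_two]; exact h1
            _ = b⁻¹ * a⁻¹ := mul_inv_rev a b
            _ = b * a := by rw [ha', hb']
        obtain ⟨M, hM⟩ : ∃ M : Subgroup H, M = Subgroup.centralizer {y : H | y ^ 2 ≠ 1} :=
          ⟨_, rfl⟩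
        have hmem : ∀ x : H, x ∈ M ↔ ∀ y : H, y ^ 2 ≠ 1 → y * x = x * y := by
          intro x
          rw [hM, Subgroup.mem_centralizer_iff]
          rfl
        have hZM : Subgroup.center H ≤ M := by
          intro x hx
          rw [hmem]
          intro y _
          exact Subgroup.mem_center_iff.mp hx y
        have huM : u ∈ M := by
          rw [hmem]
          intro y hy
          exact hB y u hy hu
        have huZ : u ∉ Subgroup.center H := fun h => hu (hI u h)
        have hlt : Subgroup.center H < M :=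
          lt_of_le_of_ne hZM (fun h => huZ (by rw [h]; exact huM))
        have c1 := card_mul_le_of_lt hcard hlt
        rw [hZcard] at c1
        have hMtop : M ≠ ⊤ := by
          intro h
          apply huZ
          rw [Subgroup.mem_center_iff]
          intro g
          have hg : g ∈ M := by rw [h]; trivial
          exact ((hmem g).mp hg u hu).symm
        obtain ⟨k, hk4, hk⟩ := exists_card_pow hcard M
        have hk3 : 3 ≤ k := by
          have h1 : 2 ^ 3 ≤ 2 ^ k := by
            rw [← hk]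
            calc 2 ^ 3 = 2 ^ 2 * 2 := by norm_num
              _ ≤ _ := c1
          exact (Nat.pow_le_pow_iff_right (by norm_num)).mp h1
        have hk4' : k ≠ 4 := by
          intro h
          apply hMtop
          apply Subgroup.eq_top_of_card_eq
          rw [hk, h, hcard]
        have hk3' : k = 3 := by omega
        refine ⟨M, Subgroup.center H, hZM, hΦZ, ?_, hZchar, by rw [hk, hk3'], hZcard⟩
        intro φ x hx
        rw [hmem] at hx ⊢
        intro y hy
        have hy' : (φ⁻¹ y) ^ 2 ≠ 1 := by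
          intro h
          apply hy
          have h1 := congrArg φ h
          simpa using h1
        have h1 := congrArg φ (hx _ hy')
        simpa using h1
    · have hp2 : p ≠ 2 := by
        rintro rfl
        exact absurd hodd (by decide)
      by_cases hex : ∀ x : H, x ^ p = 1
      · right; left
        refine ⟨hodd, ?_⟩
        obtain ⟨a, b, hab⟩ := hna
        obtain ⟨hEcard, hΦE, -, z, hz, hzE⟩ := exists_E hcard hΦ a b hab
        obtain ⟨E, hE⟩ : ∃ E : Subgroup H, E = Subgroup.closure ({a, b} : Set H) := ⟨_, rfl⟩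
        rw [← hE] at hEcard hzE
        have haE : a ∈ E := by rw [hE]; exact Subgroup.subset_closure (by simp)
        have hbE : b ∈ E := by rw [hE]; exact Subgroup.subset_closure (by simp)
        have hexE : ∀ x : E, x ^ p = 1 := fun x => Subtype.ext (by simpa using hex x)
        refine ⟨E, ?_, hEcard, hexE,
          nonempty_prod_equiv E z hz (hex z) hzE (by rw [hcard, hEcard]; ring)⟩
        exact Cfsg.Agent.Lib.helper65.isExtraspecial_of_card_cube hEcard
          ⟨⟨a, haE⟩, ⟨b, hbE⟩, fun h => hab (by simpa using congrArg Subtype.val h)⟩ hexE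
      · right; right; right
        push Not at hex
        obtain ⟨x₀, hx₀⟩ := hex
        have hcen := comm_central_of_card hcard hΦ
        have hmulpow : ∀ x y : H, (x * y) ^ p = x ^ p * y ^ p := by
          intro x y
          have h1 := Cfsg.Agent.Lib.helper90.mul_pow_of_comm_central x y ⁅y, x⁆
            (by rw [commutatorElement_def]; group) (hcen y x x).symm (hcen y x y).symm p
          have h2 : ⁅y, x⁆ ^ (p * (p - 1) / 2) = 1 := by
            have hev : 2 ∣ p - 1 := by
              obtain ⟨k, hk⟩ := hodd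
              exact ⟨k, by omega⟩
            rw [Nat.mul_div_assoc p hev, pow_mul,
              pow_eq_one_of_mem_frattini hΦ (comm_mem_frattini hcard y x), one_pow]
          rw [h1, h2, mul_one]
        let π : H →* H := MonoidHom.mk' (fun x => x ^ p) hmulpow
        have hπker : ∀ x : H, x ∈ π.ker ↔ x ^ p = 1 := fun x => MonoidHom.mem_ker
        have hπrange : π.range ≤ frattini H := by
          rintro _ ⟨x, rfl⟩
          exact hpowΦ x
        have hrc : Nat.card π.range ∣ p := by
          rw [← hΦ]; exact Subgroup.card_dvd_of_le hπrange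
        have hidx : π.ker.index = p := by
          rw [Subgroup.index_ker]
          rcases (Nat.dvd_prime hp.out).mp hrc with h | h
          · exfalso
            apply hx₀
            have h3 : π.range = ⊥ := Subgroup.card_eq_one.mp h
            have h4 : x₀ ^ p ∈ π.range := ⟨x₀, rfl⟩
            rw [h3, Subgroup.mem_bot] at h4
            exact h4
          · exact h
        have hkcard : Nat.card π.ker = p ^ 3 := by
          have h1 := Subgroup.card_mul_index π.ker
          rw [hidx, hcard] at h1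
          have h2 : Nat.card π.ker * p = p ^ 3 * p := by rw [h1]; ring
          exact Nat.eq_of_mul_eq_mul_right hp.out.pos h2
        refine ⟨π.ker, Subgroup.center H, ?_, hΦZ, ?_, hZchar, hkcard, hZcard⟩
        · intro w hw
          rw [hπker]
          exact hI w hw
        · intro φ x hx
          rw [hπker] at hx ⊢
          rw [← map_pow, hx, map_one]

end Cfsg.Agent.Lib.helper87.P4
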