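import Mathlib
import Cfsg.Agent.Lib.helper87.P4Three

/-!
# Abelian groups of order `p ^ 4` with Frattini subgroup of order `p`

Such a group is `C_{p²} × C_p × C_p`.
-/

set_option autoImplicit false

namespace Cfsg.Agent.Lib.helper87.P4

open scoped commutatorElement

variable {H : Type*} [Group H]

theorem abelian_three [Finite H] (p : ℕ) [hp : Fact p.Prime] (hcard : Nat.card H = p ^ 4)
    (hΦ : Nat.card (frattini H) = p) (hab : ∀ a b : H, a * b = b * a) :
    Nonempty (H ≃* Multiplicative (ZMod (p ^ 2) × ZMod p × ZMod p)) := by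
  have hH : IsPGroup p H := IsPGroup.of_card hcard
  have hp1 := hp.out.one_lt
  let π : H →* H := MonoidHom.mk' (fun x => x ^ p)
    (fun x y => (show Commute x y from hab x y).mul_pow p)
  have hπker : ∀ x : H, x ∈ π.ker ↔ x ^ p = 1 := fun x => MonoidHom.mem_ker
  have hπrange : π.range = frattini H := by
    apply le_antisymm
    · rintro _ ⟨x, rfl⟩
      exact Cfsg.Agent.Lib.helper3.pow_prime_mem_frattini hH x
    · apply Cfsg.Agent.Lib.helper3.frattini_le_of_pow_mem_of_commutator_le π.range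
        (fun x => ⟨x, rfl⟩)
      rw [commutator_def, Subgroup.commutator_le]
      intro x _ y _
      rw [commutatorElement_eq_one_iff_mul_comm.mpr (hab x y)]
      exact Subgroup.one_mem _
  have hidx : π.ker.index = p := by rw [Subgroup.index_ker, hπrange, hΦ]
  have hkcard : Nat.card π.ker = p ^ 3 := by
    have h1 := Subgroup.card_mul_index π.ker
    rw [hidx, hcard] at h1
    have h2 : Nat.card π.ker * p = p ^ 3 * p := by rw [h1]; ring
    exact Nat.eq_of_mul_eq_mul_right hp.out.pos h2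
  -- an element of order `p ^ 2`
  obtain ⟨a, ha⟩ : ∃ a : H, a ^ p ≠ 1 := by
    by_contra hcon
    push Not at hcon
    have h1 : π.range = ⊥ := by
      rw [eq_bot_iff]
      rintro _ ⟨x, rfl⟩
      exact hcon x
    rw [hπrange] at h1
    rw [h1, Subgroup.card_bot] at hΦ
    omega
  have ha2 : a ^ (p ^ 2) = 1 := by
    rw [pow_two, pow_mul]
    exact pow_eq_one_of_mem_frattini hΦ (Cfsg.Agent.Lib.helper3.pow_prime_mem_frattini hH a)
  have hoa : orderOf a = p ^ 2 := by
    have h1 := orderOf_eq_prime_pow (p := p) (n := 1) (x := a) (by rwa [pow_one])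
      (by simpa using ha2)
    simpa using h1
  have hacard : Nat.card (Subgroup.zpowers a) = p ^ 2 := by rw [Nat.card_zpowers, hoa]
  obtain ⟨b, hbΩ, hba⟩ : ∃ b ∈ π.ker, b ∉ Subgroup.zpowers a := by
    by_contra hcon
    push Not at hcon
    have h1 := Subgroup.card_le_of_le (show π.ker ≤ Subgroup.zpowers a from hcon)
    rw [hkcard, hacard] at h1
    have h2 : p ^ 2 < p ^ 3 := Nat.pow_lt_pow_right hp1 (by norm_num)
    omega
  have hbp : b ^ p = 1 := (hπker b).mp hbΩ
  have hK1card : Nat.card (Subgroup.zpowers a ⊔ Subgroup.zpowers b : Subgroup H) = p ^ 3 := by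
    rw [card_sup_zpowers (Subgroup.zpowers a) b (fun g => hab g b) hbp hba, hacard]
    ring
  obtain ⟨K₁, hK₁⟩ : ∃ K₁ : Subgroup H, K₁ = Subgroup.zpowers a ⊔ Subgroup.zpowers b := ⟨_, rfl⟩
  rw [← hK₁] at hK1card
  have haK₁ : a ∈ K₁ := by rw [hK₁]; exact Subgroup.mem_sup_left (Subgroup.mem_zpowers a)
  have hbK₁ : b ∈ K₁ := by rw [hK₁]; exact Subgroup.mem_sup_right (Subgroup.mem_zpowers b)
  obtain ⟨c, hcΩ, hcK⟩ : ∃ c ∈ π.ker, c ∉ K₁ := by
    by_contra hcon
    push Not at hcon
    have h1 : π.ker = K₁ :=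
      Subgroup.eq_of_le_of_card_ge (show π.ker ≤ K₁ from hcon) (by rw [hkcard, hK1card])
    apply ha
    rw [← hπker, h1]
    exact haK₁
  have hcp : c ^ p = 1 := (hπker c).mp hcΩ
  obtain ⟨e1⟩ := nonempty_prod_equiv K₁ c (fun g => hab g c) hcp hcK
    (by rw [hcard, hK1card]; ring)
  -- second step inside `K₁`
  have hle : Subgroup.zpowers a ≤ K₁ := by rw [hK₁]; exact le_sup_left
  have hK2card : Nat.card ((Subgroup.zpowers a).subgroupOf K₁) = p ^ 2 := by
    rw [Nat.card_congr (Subgroup.subgroupOfEquivOfLe hle).toEquiv, hacard]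
  obtain ⟨e2⟩ := nonempty_prod_equiv (G := ↥K₁) ((Subgroup.zpowers a).subgroupOf K₁)
    (⟨b, hbK₁⟩ : ↥K₁) (fun g => Subtype.ext (hab g b))
    (Subtype.ext (by simpa using hbp))
    (by rw [Subgroup.mem_subgroupOf]; exact hba)
    (by rw [hK1card, hK2card]; ring)
  have e3 : ↥((Subgroup.zpowers a).subgroupOf K₁) ≃* Multiplicative (ZMod (p ^ 2)) :=
    (Subgroup.subgroupOfEquivOfLe hle).trans
      (mulEquivOfCyclicCardEq (by
        rw [hacard]
        show p ^ 2 = Nat.card (ZMod (p ^ 2))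
        rw [Nat.card_zmod]))
  have f1 : Multiplicative (ZMod (p ^ 2) × ZMod p × ZMod p) ≃*
      Multiplicative (ZMod (p ^ 2)) × (Multiplicative (ZMod p) × Multiplicative (ZMod p)) :=
    (MulEquiv.prodMultiplicative (ZMod (p ^ 2)) (ZMod p × ZMod p)).trans
      (MulEquiv.prodCongr (MulEquiv.refl _) (MulEquiv.prodMultiplicative (ZMod p) (ZMod p)))
  exact ⟨((e1.trans (MulEquiv.prodCongr (e2.trans (MulEquiv.prodCongr e3 (MulEquiv.refl _)))
    (MulEquiv.refl _))).trans MulEquiv.prodAssoc).trans f1.symm⟩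

end Cfsg.Agent.Lib.helper87.P4
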