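import Cfsg.Agent.Lib.helper87.ConjSystem
import Cfsg.Agent.Lib.helper87.Centric
import Cfsg.Agent.Lib.helper90.CentricExt

/-!
Subsystems of index prime to `p` (BCGLO2, Lemma 3.4): a subsystem `E` over `S` of a saturated
system `F` with `Aut_E(P) ≥ O^{p'}(Aut_F(P))` for all `F`-centric `P`.
-/

set_option autoImplicit false

namespace Cfsg.Agent.Lib.helper87

open Cfsg Cfsg.FusionSystem

variable {Ω : Type*} [Group Ω] {S : Subgroup Ω}

theorem stronglyClosed_top (F : FusionSystem S) : F.StronglyClosed S :=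
  ⟨le_rfl, fun _ _ _ hφ x => (F.le_of_mem hφ).2 x⟩

/-- Variant of `helper88.frattini_of_normal_family` over `T = S`, where the normal family is only
required at the centric fully normalized subgroups. -/
theorem frattini_of_normal_family_centric [Finite S] {p : ℕ} [Fact p.Prime] (hS : IsPGroup p S)
    (F : FusionSystem S) (hF : F.IsSaturated p) (E : FusionSystem S) (hE : E.IsSubsystemOf F)
    (hinv : Cfsg.Agent.Lib.helper88.AutInvariant E F)
    (hK : ∀ R : Subgroup Ω, F.IsCentric R → F.IsFullyNormalized R → ∃ K : Subgroup (MulAut R),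
      K ≤ E.autGroup R ∧ autInducedBy S R ≤ K ∧
        ∀ a ∈ F.autGroup R, ∀ k ∈ K, a * k * a⁻¹ ∈ K) :
    ∀ (P : Subgroup Ω) (φ : P →* Ω), φ ∈ F.Hom P →
      ∃ α ∈ F.autGroup S, ∃ φ₀ ∈ E.Hom P,
        ∀ (x : P) (hx : φ₀ x ∈ S), φ x = ((α ⟨φ₀ x, hx⟩ : S) : Ω) := by
  have hT : F.StronglyClosed S := stronglyClosed_top F
  have main : ∀ P : Subgroup Ω, P ≤ S →
      F.Hom P ⊆ (Cfsg.Agent.Lib.helper88.frattiniSystem E F hE hT hinv).Hom P := by
    refine Cfsg.Agent.Lib.helper88.stronglyClosed_induction hS F hF hT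
      (Cfsg.Agent.Lib.helper88.frattiniSystem E F hE hT hinv) ?_
    intro R hRS hRfn ih α hα
    rcases eq_or_ne R S with hReq | hRne
    · subst hReq
      refine ⟨(Cfsg.Agent.Lib.helper88.mem_autGroup_iff' F hRS α).mp hα, le_rfl, α, hα, R.subtype,
        Cfsg.Agent.Lib.helper88.subtype_mem E le_rfl, ?_⟩
      intro x t ht
      have h1 : t = x := Subtype.ext ht
      rw [h1]
      rfl
    obtain ⟨hfa, hrec⟩ :=
      Cfsg.Agent.Lib.helper88.fullyAutomized_receptive_of_fullyNormalized hS F hF hRfn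
    by_cases hRc : F.IsCentric R
    · obtain ⟨K, hKE, hTK, hKn⟩ := hK R hRc hRfn
      have hKF : K ≤ F.autGroup R :=
        hKE.trans (Cfsg.Agent.Lib.helper88.autGroup_le_of_subsystem hE R)
      obtain ⟨k, hk, hkH⟩ := Cfsg.Agent.Lib.helper89.exists_conj_into_autS_of_normal F hfa K hKF hKn
        ((autInducedBy S R).map (MulAut.conj α⁻¹).toMonoidHom)
        (by
          rintro _ ⟨c, hc, rfl⟩
          have h1 := hKn α⁻¹ (inv_mem hα) c (hTK hc)
          simpa using h1)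
        ((Cfsg.Agent.Lib.helper88.isPGroup_autInducedBy hS R).map _)
      have hkF : k ∈ F.autGroup R := hKF hk
      have hnF : k * α⁻¹ ∈ F.autGroup R := mul_mem hkF (inv_mem hα)
      have hnF' := (Cfsg.Agent.Lib.helper88.mem_autGroup_iff' F hRS _).mp hnF
      have hrange : (R.subtype.comp (k * α⁻¹).toMonoidHom).range = R := by
        ext y
        constructor
        · rintro ⟨x, rfl⟩
          exact ((k * α⁻¹) x).2
        · intro hy
          exact ⟨(k * α⁻¹)⁻¹ ⟨y, hy⟩, by simp⟩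
      obtain ⟨ψ, hψ, hψeq⟩ := Cfsg.Agent.Lib.helper89.exists_extension F hrec hnF' hrange
        (normalizerIn S R) (by
        intro g hg
        have hgT : g ∈ S := hg.1
        have hgN : g ∈ Subgroup.normalizer (R : Set Ω) := hg.2
        refine ⟨hgT, hgN, ?_⟩
        have hc : Cfsg.Agent.Lib.helper88.conjAut R g hgN ∈ autInducedBy S R :=
          Cfsg.Agent.Lib.helper88.conjAut_mem S R g hgN hgT
        have h1 := hkH _ ⟨_, hc, rfl⟩
        obtain ⟨s, hs, hseq⟩ := (Cfsg.Agent.Lib.helper88.mem_autInducedBy_iff S R _).mp h1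
        refine ⟨s, hs, ?_⟩
        intro x hx
        have h2 := hseq ((k * α⁻¹) x)
        simp only [MonoidHom.comp_apply, MulEquiv.coe_toMonoidHom, Subgroup.subtype_apply]
        rw [← h2]
        congr 1
        simp only [MulAut.mul_apply, MulEquiv.coe_toMonoidHom, MulAut.conj_apply, MulAut.inv_apply_self,
          inv_inv, MulAut.apply_inv_self]
        congr 2)
      obtain ⟨g, hg, hgR⟩ := Cfsg.Agent.Lib.helper88.exists_mem_normalizerIn_not_mem hS hRS hRne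
      have hRN : R ≤ normalizerIn S R := Cfsg.Agent.Lib.helper88.le_normalizerIn hRS
      have hlt : R < normalizerIn S R := lt_of_le_of_ne hRN (fun heq => hgR (heq ▸ hg))
      have hc : Nat.card R < Nat.card (normalizerIn S R) :=
        Cfsg.Agent.Lib.helper89.card_lt_of_lt hlt (Cfsg.Agent.Lib.helper88.normalizerIn_le S R)
      have hψD := ih _ (Cfsg.Agent.Lib.helper88.normalizerIn_le S R) hc hψ
      have hψR := Cfsg.Agent.Lib.helper88.restrict_mem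
        (Cfsg.Agent.Lib.helper88.frattiniSystem E F hE hT hinv) hRN hψD
      have h3 : ψ.comp (Subgroup.inclusion hRN) = R.subtype.comp (k * α⁻¹).toMonoidHom := by
        ext x
        exact hψeq x x.2 (hRN x.2)
      rw [h3] at hψR
      have hnD : k * α⁻¹ ∈ (Cfsg.Agent.Lib.helper88.frattiniSystem E F hE hT hinv).autGroup R :=
        (Cfsg.Agent.Lib.helper88.mem_autGroup_iff' _ hRS _).mpr hψR
      have hkD : k ∈ (Cfsg.Agent.Lib.helper88.frattiniSystem E F hE hT hinv).autGroup R :=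
        (Cfsg.Agent.Lib.helper88.mem_autGroup_iff' _ hRS _).mpr
          (Cfsg.Agent.Lib.helper88.mem_frattiniSystem_of_mem E F hE hT hinv
            ((Cfsg.Agent.Lib.helper88.mem_autGroup_iff' E hRS k).mp (hKE hk)))
      have hαD : α ∈ (Cfsg.Agent.Lib.helper88.frattiniSystem E F hE hT hinv).autGroup R := by
        have h4 : α = (k * α⁻¹)⁻¹ * k := by group
        rw [h4]
        exact mul_mem (inv_mem hnD) hkD
      exact (Cfsg.Agent.Lib.helper88.mem_autGroup_iff' _ hRS α).mp hαD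
    · have hnC : ¬ centralizerIn S R ≤ R :=
        fun hC => hRc (Cfsg.Agent.Lib.helper90.centric_of_receptive F hrec hC)
      obtain ⟨w, hw, hwR⟩ := SetLike.not_le_iff_exists.mp hnC
      have hwN : w ∈ Subgroup.normalizer (R : Set Ω) :=
        (Cfsg.Agent.Lib.helper88.centralizerIn_le_normalizerIn S R hw).2
      have hwC : w ∈ Subgroup.centralizer (R : Set Ω) := hw.2
      obtain ⟨N, hRN, ψ, hψ, hext⟩ := Cfsg.Agent.Lib.helper89.exists_extension_of_conj_mem F hrec hα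
        hw.1 hwN hwR (c := 1) (by
          intro x
          have h1 := hwC x x.2
          show (x : Ω) = w * (x : Ω) * w⁻¹
          rw [← h1, mul_inv_cancel_right]) (by
          have h1 : α * 1 * α⁻¹ = 1 := by group
          rw [h1]
          exact one_mem _)
      have hNS : N ≤ S := (F.le_of_mem hψ).1
      have hψD := ih N hNS (Cfsg.Agent.Lib.helper89.card_lt_of_lt hRN hNS) hψ
      have hψR := Cfsg.Agent.Lib.helper88.restrict_mem
        (Cfsg.Agent.Lib.helper88.frattiniSystem E F hE hT hinv) hRN.le hψD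
      have h3 : ψ.comp (Subgroup.inclusion hRN.le) = R.subtype.comp α.toMonoidHom := by
        ext x
        exact hext x (hRN.le x.2)
      rw [h3] at hψR
      exact hψR
  intro P φ hφ
  obtain ⟨-, -, α, hα, φ₀, hφ₀, hφeq⟩ := main P (F.le_of_mem hφ).1 hφ
  exact ⟨α, hα, φ₀, hφ₀, fun x hx => hφeq x ⟨φ₀ x, hx⟩ rfl⟩

/-- Elements of `p`-power order of `Aut_F(R)`, `R` centric, lie in the invariant core of `E`, provided
`Aut_E(P) ≥ O^{p'}(Aut_F(P))` for all `F`-centric `P`. -/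
theorem pElt_mem_invCore {p : ℕ} (F E : FusionSystem S)
    (h : ∀ P : Subgroup Ω, F.IsCentric P →
      (Subgroup.closure {α : ↥(F.autGroup P) | ∃ k : ℕ, orderOf α = p ^ k}).map (F.autGroup P).subtype
        ≤ E.autGroup P)
    {R : Subgroup Ω} (hR : F.IsCentric R) {a : MulAut R} (ha : a ∈ F.autGroup R) {k : ℕ}
    (hk : orderOf a = p ^ k) : R.subtype.comp a.toMonoidHom ∈ (invCore E F).Hom R := by
  have hRS : R ≤ S := hR.1
  have haF : R.subtype.comp a.toMonoidHom ∈ F.Hom R :=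
    (Cfsg.Agent.Lib.helper88.mem_autGroup_iff' F hRS a).mp ha
  refine ⟨haF, fun α hα => ?_⟩
  have hαF : S.subtype.comp α.toMonoidHom ∈ F.Hom S :=
    (Cfsg.Agent.Lib.helper88.mem_autGroup_iff' F le_rfl α).mp hα
  have hφ : (S.subtype.comp α.toMonoidHom).comp (Subgroup.inclusion hRS) ∈ F.Hom R :=
    hom_comp_inclusion F hαF hRS
  have hrange : ((S.subtype.comp α.toMonoidHom).comp (Subgroup.inclusion hRS)).range = imgAut S R α := by
    ext y
    rw [mem_imgAut]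
    constructor
    · rintro ⟨x, rfl⟩
      exact ⟨⟨x, hRS x.2⟩, x.2, rfl⟩
    · rintro ⟨s, hs, rfl⟩
      exact ⟨⟨s, hs⟩, rfl⟩
  obtain ⟨e, he, hex⟩ := Cfsg.Agent.Lib.helper88.exists_isoEquiv F hφ hrange
  have hR'S : imgAut S R α ≤ S := imgAut_le S R α
  have hR'c : F.IsCentric (imgAut S R α) := isCentric_of_isConj F hR ⟨_, hφ, hrange⟩
  have ha' : MulAut.congr e a ∈ F.autGroup (imgAut S R α) :=
    Cfsg.Agent.Lib.helper88.IsoEquiv.congr_mem he ha
  have hord : orderOf (⟨MulAut.congr e a, ha'⟩ : ↥(F.autGroup (imgAut S R α))) = p ^ k := by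
    rw [Subgroup.orderOf_mk, MulEquiv.orderOf_eq, hk]
  have ha'E : MulAut.congr e a ∈ E.autGroup (imgAut S R α) :=
    h _ hR'c ⟨⟨MulAut.congr e a, ha'⟩, Subgroup.subset_closure ⟨k, hord⟩, rfl⟩
  refine ⟨hRS, fun x => hRS (a x).2, _,
    (Cfsg.Agent.Lib.helper88.mem_autGroup_iff' E hR'S _).mp ha'E, ?_⟩
  intro x y s t hs ht hy
  have hy' : y = e x := by
    apply Subtype.ext
    rw [hy, hex x]
    have : s = ⟨x, hRS x.2⟩ := Subtype.ext hs
    rw [this]
    rfl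
  show ((MulAut.congr e a y : ↥(imgAut S R α)) : Ω) = α t
  have h1 : MulAut.congr e a y = e (a x) := by
    rw [hy']
    show e (a (e.symm (e x))) = e (a x)
    rw [MulEquiv.symm_apply_apply]
  rw [h1, hex (a x)]
  have : t = ⟨a x, hRS (a x).2⟩ := Subtype.ext ht
  rw [this]
  rfl

/-- BCGLO2 Lemma 3.4, Frattini part, for the invariant core. -/
theorem frattini_invCore [Finite S] {p : ℕ} [Fact p.Prime] (hS : IsPGroup p S)
    (F : FusionSystem S) (hF : F.IsSaturated p) (E : FusionSystem S) (hEF : E.IsSubsystemOf F)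
    (h : ∀ P : Subgroup Ω, F.IsCentric P →
      (Subgroup.closure {α : ↥(F.autGroup P) | ∃ k : ℕ, orderOf α = p ^ k}).map (F.autGroup P).subtype
        ≤ E.autGroup P) :
    ∀ (P : Subgroup Ω) (φ : P →* Ω), φ ∈ F.Hom P →
      ∃ α ∈ F.autGroup S, ∃ φ₀ ∈ (invCore E F).Hom P,
        ∀ (x : P) (hx : φ₀ x ∈ S), φ x = ((α ⟨φ₀ x, hx⟩ : S) : Ω) := by
  refine frattini_of_normal_family_centric hS F hF (invCore E F) (invCore_le' E F)
    (invCore_autInvariant E F hEF) ?_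
  intro R hRc hRfn
  have hRS : R ≤ S := hRc.1
  refine ⟨(Subgroup.closure {α : ↥(F.autGroup R) | ∃ k : ℕ, orderOf α = p ^ k}).map
    (F.autGroup R).subtype, ?_, ?_, ?_⟩
  · rw [Subgroup.map_le_iff_le_comap, Subgroup.closure_le]
    rintro a ⟨k, hk⟩
    show (a : MulAut R) ∈ (invCore E F).autGroup R
    rw [Cfsg.Agent.Lib.helper88.mem_autGroup_iff' _ hRS]
    refine pElt_mem_invCore F E h hRc a.2 (k := k) ?_
    rw [← hk, Subgroup.orderOf_coe]
  · intro c hc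
    have hcF : c ∈ F.autGroup R := Cfsg.Agent.Lib.helper88.autInducedBy_le_autGroup F hRS hc
    have hp : IsPGroup p ↥(autInducedBy S R) := Cfsg.Agent.Lib.helper88.isPGroup_autInducedBy hS R
    obtain ⟨k, hk⟩ := hp ⟨c, hc⟩
    have hk' : c ^ p ^ k = 1 := congrArg Subtype.val hk
    obtain ⟨j, -, hj⟩ := (Nat.dvd_prime_pow (Fact.out : p.Prime)).mp (orderOf_dvd_of_pow_eq_one hk')
    refine ⟨⟨c, hcF⟩, Subgroup.subset_closure ⟨j, ?_⟩, rfl⟩
    rw [Subgroup.orderOf_mk, hj]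
  · rintro a ha _ ⟨b, hb, rfl⟩
    refine ⟨⟨a, ha⟩ * b * ⟨a, ha⟩⁻¹, ?_, rfl⟩
    have hle : Subgroup.closure {α : ↥(F.autGroup R) | ∃ k : ℕ, orderOf α = p ^ k} ≤
        (Subgroup.closure {α : ↥(F.autGroup R) | ∃ k : ℕ, orderOf α = p ^ k}).comap
          (MulAut.conj (⟨a, ha⟩ : ↥(F.autGroup R))).toMonoidHom := by
      rw [Subgroup.closure_le]
      rintro x ⟨k, hk⟩
      refine Subgroup.subset_closure ⟨k, ?_⟩
      rw [← hk]
      exact MulEquiv.orderOf_eq (MulAut.conj (⟨a, ha⟩ : ↥(F.autGroup R))) x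
    exact hle hb

/-- BCGLO2 Lemma 3.4. -/
theorem primeToP_of_centric [Finite S] {p : ℕ} [Fact p.Prime] (hS : IsPGroup p S)
    (F : FusionSystem S) (hF : F.IsSaturated p) (E : FusionSystem S) (hEF : E.IsSubsystemOf F)
    (h : ∀ P : Subgroup Ω, F.IsCentric P →
      (Subgroup.closure {α : ↥(F.autGroup P) | ∃ k : ℕ, orderOf α = p ^ k}).map (F.autGroup P).subtype
        ≤ E.autGroup P) :
    E.HasPrimeToPIndexIn F p ∧
    (∀ (P : Subgroup Ω) (φ : P →* Ω), φ ∈ F.Hom P → ∃ α ∈ F.autGroup S, ∃ φ₀ ∈ E.Hom P,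
      ∀ (x : P) (hx : φ₀ x ∈ S), φ x = ((α ⟨φ₀ x, hx⟩ : S) : Ω)) ∧
    ∀ P : Subgroup Ω, E.IsCentric P ↔ F.IsCentric P := by
  have hfr : ∀ (P : Subgroup Ω) (φ : P →* Ω), φ ∈ F.Hom P → ∃ α ∈ F.autGroup S, ∃ φ₀ ∈ E.Hom P,
      ∀ (x : P) (hx : φ₀ x ∈ S), φ x = ((α ⟨φ₀ x, hx⟩ : S) : Ω) := by
    intro P φ hφ
    obtain ⟨α, hα, φ₀, hφ₀, heq⟩ := frattini_invCore hS F hF E hEF h P φ hφ
    exact ⟨α, hα, φ₀, invCore_le E F P hφ₀, heq⟩
  refine ⟨⟨hEF, ?_⟩, hfr, ?_⟩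
  · intro P hPS
    rw [Subgroup.map_le_iff_le_comap, Subgroup.closure_le]
    rintro a ⟨k, hk⟩
    show (a : MulAut P) ∈ E.autGroup P
    have hak : (a : MulAut P) ^ p ^ k = 1 := by
      rw [← hk, ← Subgroup.orderOf_coe]
      exact pow_orderOf_eq_one _
    obtain ⟨P', ρ, hP'fn, hρ, hB⟩ := Cfsg.Agent.Lib.helper88.exists_isoEquiv_conj_into_autInducedBy
      hS F hF hPS (Subgroup.zpowers (a : MulAut P))
      (Cfsg.Agent.Lib.helper88.isPGroup_zpowers_of_pow_eq_one hak)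
      (by
        rw [Subgroup.zpowers_le]
        exact a.2)
    have hP'S : P' ≤ S := hP'fn.1
    obtain ⟨g, hg, hgeq⟩ := (Cfsg.Agent.Lib.helper88.mem_autInducedBy_iff S P' _).mp
      (hB ⟨(a : MulAut P), Subgroup.mem_zpowers _, rfl⟩)
    obtain ⟨α, hα, ψ₀, hψ₀, hψeq⟩ := hfr P (P'.subtype.comp ρ.toMonoidHom) hρ.1
    have hψ₀S : ∀ x : P, ψ₀ x ∈ S := (E.le_of_mem hψ₀).2
    -- the key relation `ψ₀ (a x) = g' ψ₀ x g'⁻¹`
    have hkey : ∀ x : P, ψ₀ ((a : MulAut P) x) =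
        ((α⁻¹ ⟨g, hg⟩ : S) : Ω) * ψ₀ x * ((α⁻¹ ⟨g, hg⟩ : S) : Ω)⁻¹ := by
      intro x
      have h1 : ((ρ ((a : MulAut P) x) : P') : Ω) = g * ((ρ x : P') : Ω) * g⁻¹ := by
        have h2 := hgeq (ρ x)
        have h3 : (MulAut.congr ρ).toMonoidHom (a : MulAut P) (ρ x) = ρ ((a : MulAut P) x) := by
          show ρ ((a : MulAut P) (ρ.symm (ρ x))) = ρ ((a : MulAut P) x)
          rw [MulEquiv.symm_apply_apply]
        rw [h3] at h2
        exact h2
      have h4 : ((ρ ((a : MulAut P) x) : P') : Ω) = α ⟨ψ₀ ((a : MulAut P) x), hψ₀S _⟩ :=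
        hψeq ((a : MulAut P) x) (hψ₀S _)
      have h5 : ((ρ x : P') : Ω) = α ⟨ψ₀ x, hψ₀S _⟩ := hψeq x (hψ₀S _)
      have h6 : α ⟨ψ₀ ((a : MulAut P) x), hψ₀S _⟩ =
          α (α⁻¹ ⟨g, hg⟩ * ⟨ψ₀ x, hψ₀S _⟩ * (α⁻¹ ⟨g, hg⟩)⁻¹) := by
        apply Subtype.ext
        rw [← h4, h1, h5, map_mul, map_mul, map_inv, MulAut.apply_inv_self]
        rfl
      exact congrArg Subtype.val (α.injective h6)
    obtain ⟨ρ₀, hρ₀, hρ₀eq⟩ := E.inv_mem hψ₀
    have hrS : ψ₀.range ≤ S := by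
      rintro _ ⟨x, rfl⟩
      exact hψ₀S x
    have hc := E.conj_mem hrS (α⁻¹ ⟨g, hg⟩ : S).2
    have h₁ : ∀ x : P, ψ₀ x ∈ ψ₀.range := fun x => ⟨x, rfl⟩
    have hcomp₁ := E.comp_mem hψ₀ hc h₁
    have h₂ : ∀ x : P, ((conjHom ψ₀.range ((α⁻¹ ⟨g, hg⟩ : S) : Ω)).comp
        (ψ₀.codRestrict ψ₀.range h₁)) x ∈ ψ₀.range := by
      intro x
      refine ⟨(a : MulAut P) x, ?_⟩
      rw [hkey x]
      rfl
    have hcomp₂ := E.comp_mem hcomp₁ hρ₀ h₂
    rw [Cfsg.Agent.Lib.helper88.mem_autGroup_iff' E hPS]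
    have hfin : P.subtype.comp (a : MulAut P).toMonoidHom =
        ρ₀.comp (((conjHom ψ₀.range ((α⁻¹ ⟨g, hg⟩ : S) : Ω)).comp
          (ψ₀.codRestrict ψ₀.range h₁)).codRestrict ψ₀.range h₂) := by
      refine MonoidHom.ext fun x => ?_
      have h7 : (((conjHom ψ₀.range ((α⁻¹ ⟨g, hg⟩ : S) : Ω)).comp
          (ψ₀.codRestrict ψ₀.range h₁)).codRestrict ψ₀.range h₂) x =
          ⟨ψ₀ ((a : MulAut P) x), ⟨_, rfl⟩⟩ := by
        apply Subtype.ext
        show ((α⁻¹ ⟨g, hg⟩ : S) : Ω) * ψ₀ x * ((α⁻¹ ⟨g, hg⟩ : S) : Ω)⁻¹ = ψ₀ ((a : MulAut P) x)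
        rw [hkey x]
      show (((a : MulAut P) x : P) : Ω) = ρ₀ _
      rw [h7, hρ₀eq]
    rw [hfin]
    exact hcomp₂
  · intro P
    constructor
    · intro hP
      refine ⟨hP.1, ?_⟩
      rintro Q ⟨φ, hφ, rfl⟩
      obtain ⟨α, hα, φ₀, hφ₀, heq⟩ := hfr P φ hφ
      have hφ₀S : ∀ x : P, φ₀ x ∈ S := (E.le_of_mem hφ₀).2
      have hC := hP.2 φ₀.range ⟨φ₀, hφ₀, rfl⟩
      intro g hg
      have hgS : g ∈ S := hg.1
      have hgC : g ∈ Subgroup.centralizer (φ.range : Set Ω) := hg.2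
      have hg' : ((α⁻¹ ⟨g, hgS⟩ : S) : Ω) ∈ centralizerIn S φ₀.range := by
        refine ⟨(α⁻¹ ⟨g, hgS⟩ : S).2, ?_⟩
        show ((α⁻¹ ⟨g, hgS⟩ : S) : Ω) ∈ Subgroup.centralizer (φ₀.range : Set Ω)
        rw [Subgroup.mem_centralizer_iff]
        rintro _ ⟨x, rfl⟩
        have h1 : φ x * g = g * φ x := (Subgroup.mem_centralizer_iff.mp hgC) (φ x) ⟨x, rfl⟩
        have h2 : α (⟨φ₀ x, hφ₀S x⟩ * α⁻¹ ⟨g, hgS⟩) = α (α⁻¹ ⟨g, hgS⟩ * ⟨φ₀ x, hφ₀S x⟩) := by
          apply Subtype.ext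
          rw [map_mul, map_mul, MulAut.apply_inv_self]
          show ((α ⟨φ₀ x, hφ₀S x⟩ : S) : Ω) * g = g * ((α ⟨φ₀ x, hφ₀S x⟩ : S) : Ω)
          rw [← heq x (hφ₀S x)]
          exact h1
        exact congrArg Subtype.val (α.injective h2)
      obtain ⟨x₀, hx₀⟩ := hC hg'
      refine ⟨x₀, ?_⟩
      rw [heq x₀ (hφ₀S x₀)]
      have h3 : (⟨φ₀ x₀, hφ₀S x₀⟩ : S) = α⁻¹ ⟨g, hgS⟩ := Subtype.ext hx₀
      rw [h3, MulAut.apply_inv_self]
    · intro hP
      exact ⟨hP.1, fun Q hQ => hP.2 Q (by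
        obtain ⟨φ, hφ, hr⟩ := hQ
        exact ⟨φ, hEF _ hφ, hr⟩)⟩

end Cfsg.Agent.Lib.helper87
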