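import Cfsg.Agent.S5110
import Cfsg.Agent.Lib.helper87.PrimeIndex
import Cfsg.Agent.Lib.helper88.NormalSub

/-!
The `p'`-residual subsystem of a saturated fusion system: the least fusion subsystem over `S` that
contains `O^{p'}(Aut_F(P))` for the `F`-centric `P` and is closed under extending to `S` the maps of
`F` defined on `S` whose restriction to some `F`-centric subgroup it contains.
-/

set_option autoImplicit false

namespace Cfsg.Agent.Lib.helper87

open Cfsg
open Cfsg.FusionSystem (normalizerIn centralizerIn extender)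

variable {Ω : Type*} [Group Ω] {S : Subgroup Ω}

/-- The maps of `F` lying in every member of the family `𝒜`. -/
def sInfSys (F : FusionSystem S) (𝒜 : Set (FusionSystem S)) : FusionSystem S where
  Hom P := {φ | φ ∈ F.Hom P ∧ ∀ E' ∈ 𝒜, φ ∈ E'.Hom P}
  le_of_mem := fun h => F.le_of_mem h.1
  injective_of_mem := fun h => F.injective_of_mem h.1
  conj_mem := fun hP hg => ⟨F.conj_mem hP hg, fun E' _ => E'.conj_mem hP hg⟩
  comp_mem := fun hφ hψ h => ⟨F.comp_mem hφ.1 hψ.1 h,
    fun E' hE' => E'.comp_mem (hφ.2 E' hE') (hψ.2 E' hE') h⟩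
  inv_mem := by
    rintro P φ ⟨hφ, hφ'⟩
    obtain ⟨ψ, hψ, hψeq⟩ := F.inv_mem hφ
    refine ⟨ψ, ⟨hψ, fun E' hE' => ?_⟩, hψeq⟩
    obtain ⟨ψ', hψ', hψ'eq⟩ := E'.inv_mem (hφ' E' hE')
    have h1 : ψ' = ψ := by
      refine MonoidHom.ext ?_
      rintro ⟨_, x, rfl⟩
      rw [hψ'eq, hψeq]
    rw [← h1]
    exact hψ'

/-- `Aut_{E'}(P) ≥ O^{p'}(Aut_F(P))` for the `F`-centric `P`. -/
def PrimeCond (F : FusionSystem S) (p : ℕ) (E' : FusionSystem S) : Prop :=
  ∀ P : Subgroup Ω, F.IsCentric P →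
    (Subgroup.closure {α : ↥(F.autGroup P) | ∃ k : ℕ, orderOf α = p ^ k}).map (F.autGroup P).subtype
      ≤ E'.autGroup P

/-- A map of `F` defined on `S` lies in `E'` as soon as its restriction to some `F`-centric subgroup
does. -/
def ExtCond (F : FusionSystem S) (E' : FusionSystem S) : Prop :=
  ∀ (α : S →* Ω), α ∈ F.Hom S → ∀ (Q : Subgroup Ω) (hQS : Q ≤ S), F.IsCentric Q →
    α.comp (Subgroup.inclusion hQS) ∈ E'.Hom Q → α ∈ E'.Hom S

def resFamily (F : FusionSystem S) (p : ℕ) : Set (FusionSystem S) :=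
  {E' | PrimeCond F p E' ∧ ExtCond F E'}

/-- The candidate for the `p'`-residual subsystem. -/
def resSys (F : FusionSystem S) (p : ℕ) : FusionSystem S := sInfSys F (resFamily F p)

theorem resSys_sub (F : FusionSystem S) (p : ℕ) : (resSys F p).IsSubsystemOf F :=
  fun _ _ h => h.1

theorem resSys_le_of_mem {F : FusionSystem S} {p : ℕ} {E' : FusionSystem S}
    (h : E' ∈ resFamily F p) : (resSys F p).IsSubsystemOf E' :=
  fun _ _ hφ => hφ.2 E' h

theorem primeCond_resSys (F : FusionSystem S) (p : ℕ) : PrimeCond F p (resSys F p) := by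
  intro P hP a ha
  have hPS : P ≤ S := hP.1
  rw [Cfsg.Agent.Lib.helper88.mem_autGroup_iff' _ hPS]
  refine ⟨?_, fun E' hE' => ?_⟩
  · obtain ⟨a', -, rfl⟩ := ha
    exact (Cfsg.Agent.Lib.helper88.mem_autGroup_iff' F hPS _).mp a'.2
  · exact (Cfsg.Agent.Lib.helper88.mem_autGroup_iff' E' hPS _).mp (hE'.1 P hP ha)

theorem extCond_resSys (F : FusionSystem S) (p : ℕ) : ExtCond F (resSys F p) := by
  intro α hα Q hQS hQ h
  exact ⟨hα, fun E' hE' => hE'.2 α hα Q hQS hQ (h.2 E' hE')⟩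

theorem mem_resFamily_of_saturated [Finite S] {p : ℕ} [Fact p.Prime] (hS : IsPGroup p S)
    (F : FusionSystem S) (hF : F.IsSaturated p) {D : FusionSystem S} (hD : D.IsSaturated p)
    (hidx : D.HasPrimeToPIndexIn F p) : D ∈ resFamily F p :=
  ⟨fun P hP => hidx.2 P hP.1, fun _ hα Q hQS hQ h =>
    Cfsg.Agent.Lib.helper88.mem_hom_of_restrict_centric hS D F hD hF hidx.1 hα _ Q hQS rfl hQ h⟩

theorem isCentric_top [Finite S] (F : FusionSystem S) : F.IsCentric S := by
  refine ⟨le_rfl, fun Q hQ => ?_⟩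
  obtain ⟨φ, hφ, rfl⟩ := hQ
  rw [Cfsg.Agent.Lib.helper89.range_eq_top_of_hom F hφ]
  exact inf_le_left

/-- The candidate subsystem is saturated. -/
theorem resSys_saturated [Finite S] {p : ℕ} [Fact p.Prime] (hS : IsPGroup p S)
    (F : FusionSystem S) (hF : F.IsSaturated p) : (resSys F p).IsSaturated p := by
  have hsub := resSys_sub F p
  obtain ⟨-, hfr, hcent⟩ := primeToP_of_centric hS F hF (resSys F p) hsub (primeCond_resSys F p)
  refine Cfsg.Agent.S5110.result p hS (resSys F p) {P | F.IsCentric P} (fun P hP => hP.1) ?_ ?_ ?_ ?_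
  · -- closed under conjugacy
    rintro P hP Q ⟨φ, hφ, hr⟩
    exact Cfsg.Agent.Lib.helper88.IsCentric.of_isConj hP ⟨φ, hsub P hφ, hr⟩
  · -- saturation on the centric subgroups
    intro P hP
    have hPS : P ≤ S := hP.1
    obtain ⟨Q, ⟨φ, hφ, hφr⟩, hQfn⟩ := Cfsg.Agent.Lib.helper88.exists_fullyNormalized_conj F hPS
    obtain ⟨α, hα, φ₀, hφ₀, hφeq⟩ := hfr P φ hφ
    have hφ₀S : ∀ x : P, φ₀ x ∈ S := ((resSys F p).le_of_mem hφ₀).2
    have hP'S : φ₀.range ≤ S := range_le_S (resSys F p) hφ₀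
    have hconjE : (resSys F p).IsConj P φ₀.range := ⟨φ₀, hφ₀, rfl⟩
    have hconjF : F.IsConj P φ₀.range := ⟨φ₀, hsub P hφ₀, rfl⟩
    have hP'c : F.IsCentric φ₀.range := Cfsg.Agent.Lib.helper88.IsCentric.of_isConj hP hconjF
    -- `φ₀(P)` is fully normalized in `F`
    have hβ : S.subtype.comp (α⁻¹).toMonoidHom ∈ F.Hom S :=
      (Cfsg.Agent.Lib.helper88.mem_autGroup_iff' F le_rfl _).mp ((F.autGroup S).inv_mem hα)
    have hβQ : imgOf (S.subtype.comp (α⁻¹).toMonoidHom) Q = φ₀.range := by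
      ext y
      rw [mem_imgOf]
      constructor
      · rintro ⟨s, hs, rfl⟩
        rw [← hφr] at hs
        obtain ⟨x, hx⟩ := hs
        have h1 : s = α ⟨φ₀ x, hφ₀S x⟩ := Subtype.ext (hx.symm.trans (hφeq x (hφ₀S x)))
        refine ⟨x, ?_⟩
        show φ₀ x = ((α⁻¹ s : S) : Ω)
        rw [h1, MulAut.inv_apply_self]
      · rintro ⟨x, rfl⟩
        refine ⟨α ⟨φ₀ x, hφ₀S x⟩, ?_, ?_⟩
        · rw [← hφeq x (hφ₀S x), ← hφr]
          exact ⟨x, rfl⟩
        · show ((α⁻¹ (α ⟨φ₀ x, hφ₀S x⟩) : S) : Ω) = φ₀ x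
          rw [MulAut.inv_apply_self]
    have hP'fn : F.IsFullyNormalized φ₀.range := by
      refine ⟨hP'S, fun R hR => ?_⟩
      have h1 : Nat.card ↥(normalizerIn S R) ≤ Nat.card ↥(normalizerIn S Q) :=
        hQfn.2 R (Cfsg.Agent.Lib.helper88.isConj_trans F (Cfsg.Agent.Lib.helper88.isConj_trans F
          (Cfsg.Agent.Lib.helper88.isConj_symm F ⟨φ, hφ, hφr⟩) hconjF) hR)
      have h2 : imgOf (S.subtype.comp (α⁻¹).toMonoidHom) (normalizerIn S Q) ≤
          normalizerIn S φ₀.range := by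
        intro y hy
        obtain ⟨x, hx, rfl⟩ := mem_imgOf.mp hy
        have h3 := apply_mem_normalizerIn F hβ (P := Q) hx
        rw [hβQ] at h3
        exact h3
      have h3 : Nat.card ↥(imgOf (S.subtype.comp (α⁻¹).toMonoidHom) (normalizerIn S Q)) =
          Nat.card ↥(normalizerIn S Q) := card_imgOf (F.injective_of_mem hβ) inf_le_left
      have : Finite ↥(normalizerIn S φ₀.range) := Cfsg.Agent.Lib.helper89.finite_of_le inf_le_left
      have h4 := Subgroup.card_le_of_le h2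
      omega
    obtain ⟨hfaF, hrecF⟩ :=
      Cfsg.Agent.Lib.helper88.fullyAutomized_receptive_of_fullyNormalized hS F hF hP'fn
    refine ⟨φ₀.range, hconjE, ⟨hP'S, ?_⟩, ⟨hP'S, ?_⟩⟩
    · have : Finite (MulAut ↥φ₀.range) := finite_mulAut_of_le hP'S
      exact sylowIn_of_le (Cfsg.Agent.Lib.helper89.autInducedBy_le_autGroup (resSys F p) hP'S)
        (Cfsg.Agent.Lib.helper88.autGroup_le_of_subsystem hsub _) hfaF.2
    · intro R ψ hψ hψr
      obtain ⟨ψ', hψ', hψ'x⟩ := hrecF.2 R ψ (hsub R hψ) hψr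
      refine ⟨ψ', ?_, hψ'x⟩
      have hRN : R ≤ extender S R ψ := Cfsg.Agent.Lib.helper88.le_extender F (hsub R hψ)
      obtain ⟨β, hβ', ψ₀, hψ₀, hψeq⟩ := hfr _ ψ' hψ'
      have hψ₀S : ∀ x, ψ₀ x ∈ S := ((resSys F p).le_of_mem hψ₀).2
      have hβhom : S.subtype.comp β.toMonoidHom ∈ F.Hom S :=
        (Cfsg.Agent.Lib.helper88.mem_autGroup_iff' F le_rfl β).mp hβ'
      have hψ₀R : ψ₀.comp (Subgroup.inclusion hRN) ∈ (resSys F p).Hom R :=
        hom_comp_inclusion (resSys F p) hψ₀ hRN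
      obtain ⟨τ, hτ, hτx⟩ := exists_inv_comp (resSys F p) hψ₀R hψ rfl
      have hR₀S : (ψ₀.comp (Subgroup.inclusion hRN)).range ≤ S := range_le_S (resSys F p) hψ₀R
      have hRc : F.IsCentric R := Cfsg.Agent.Lib.helper88.IsCentric.of_isConj hP'c
        (Cfsg.Agent.Lib.helper88.isConj_symm F ⟨ψ, hsub R hψ, hψr⟩)
      have hR₀c : F.IsCentric (ψ₀.comp (Subgroup.inclusion hRN)).range :=
        Cfsg.Agent.Lib.helper88.IsCentric.of_isConj hRc ⟨_, hsub R hψ₀R, rfl⟩
      have hτeq : (S.subtype.comp β.toMonoidHom).comp (Subgroup.inclusion hR₀S) = τ := by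
        refine MonoidHom.ext ?_
        rintro ⟨_, x, rfl⟩
        rw [hτx x ⟨x, rfl⟩]
        have h1 := hψ'x x x.2 (hRN x.2)
        have h2 := hψeq ⟨x, hRN x.2⟩ (hψ₀S _)
        rw [← h1, h2]
        rfl
      have hβE : S.subtype.comp β.toMonoidHom ∈ (resSys F p).Hom S := by
        refine extCond_resSys F p _ hβhom _ hR₀S hR₀c ?_
        rw [hτeq]
        exact hτ
      have hcomp := (resSys F p).comp_mem hψ₀ hβE hψ₀S
      have h5 : ψ' = (S.subtype.comp β.toMonoidHom).comp (ψ₀.codRestrict S hψ₀S) := by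
        refine MonoidHom.ext ?_
        intro x
        exact hψeq x (hψ₀S x)
      rw [h5]
      exact hcomp
  · -- generation by the maps between centric subgroups
    intro E'' h P φ hφ
    have hmem : sInfSys (resSys F p) {E''} ∈ resFamily F p := by
      constructor
      · intro P hP a ha
        have hPS : P ≤ S := hP.1
        have h1 := (Cfsg.Agent.Lib.helper88.mem_autGroup_iff' _ hPS _).mp (primeCond_resSys F p P hP ha)
        rw [Cfsg.Agent.Lib.helper88.mem_autGroup_iff' _ hPS]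
        refine ⟨h1, fun E' hE' => ?_⟩
        rw [Set.mem_singleton_iff.mp hE']
        exact h P hP h1
      · intro α hα Q hQS hQ hαQ
        have h1 := extCond_resSys F p α hα Q hQS hQ hαQ.1
        refine ⟨h1, fun E' hE' => ?_⟩
        rw [Set.mem_singleton_iff.mp hE']
        exact h S (isCentric_top F) h1
    exact (resSys_le_of_mem hmem P hφ).2 E'' rfl
  · -- the condition on centric subgroups outside the family is vacuous
    intro P hPc hPn
    exact absurd ((hcent P).mp hPc) hPn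

/-- A saturated fusion system has a `p'`-residual subsystem. -/
theorem exists_isPPrimeResidual [Finite S] {p : ℕ} [Fact p.Prime] (hS : IsPGroup p S)
    (F : FusionSystem S) (hF : F.IsSaturated p) : F.IsPPrimeResidual p (resSys F p) := by
  refine ⟨resSys_saturated hS F hF, ?_, fun D hD hidx =>
    resSys_le_of_mem (mem_resFamily_of_saturated hS F hF hD hidx)⟩
  exact (primeToP_of_centric hS F hF (resSys F p) (resSys_sub F p) (primeCond_resSys F p)).1

end Cfsg.Agent.Lib.helper87
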