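import Cfsg.Agent.Lib.helper88.SecFree2
import Cfsg.Agent.Lib.helper88.CentricRadical
import Cfsg.Agent.Lib.helper40.Cores
import Cfsg.Agent.Lib.helper89.FusionNormalizer

/-!
# `p`-stability of fusion systems: transport and subsystems (helper87)

`PsStable F p` is the `p`-stability clause of the statements S5247 / S5281.  It transports along
isomorphisms of the system (`psGood_congr`), holds at every subgroup once it holds at the fully
normalized ones (`psGood_of_stable`), and passes to subsystems (`psStable_of_le`).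
-/

set_option autoImplicit false

namespace Cfsg.Agent.Lib.helper87

open Cfsg Cfsg.FusionSystem

section op

variable {X : Type*} [Group X]

theorem psOp_le (p : ℕ) (A : Subgroup X) : (pCore p A).map A.subtype ≤ A :=
  Subgroup.map_subtype_le _

theorem psOp_isPGroup (p : ℕ) [Fact p.Prime] (A : Subgroup X) [Finite A] :
    IsPGroup p ((pCore p A).map A.subtype) :=
  (Cfsg.Agent.Lib.helper40.pCore_isPGroup p A).map _

theorem psOp_conj (p : ℕ) (A : Subgroup X) {a d : X} (ha : a ∈ A)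
    (hd : d ∈ (pCore p A).map A.subtype) : a * d * a⁻¹ ∈ (pCore p A).map A.subtype := by
  obtain ⟨d', hd', rfl⟩ := hd
  have hn := Cfsg.Agent.Lib.helper40.pCore_normal' p A
  exact ⟨⟨a, ha⟩ * d' * ⟨a, ha⟩⁻¹, hn.conj_mem d' hd' ⟨a, ha⟩, rfl⟩

theorem psOp_inf_le (p : ℕ) [Fact p.Prime] (A B : Subgroup X) [Finite A] (hBA : B ≤ A) :
    (pCore p A).map A.subtype ⊓ B ≤ (pCore p B).map B.subtype :=
  Cfsg.Agent.Lib.helper88.le_pCore_map_of_normal_pgroup B _ inf_le_right
    (fun _ hb _ hd => ⟨psOp_conj p A (hBA hb) hd.1, B.mul_mem (B.mul_mem hb hd.2) (B.inv_mem hb)⟩)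
    ((psOp_isPGroup p A).to_le inf_le_left)

theorem psOp_map (p : ℕ) [Fact p.Prime] {X' : Type*} [Group X'] (Φ : X →* X') (A : Subgroup X)
    [Finite A] (A' : Subgroup X') (h : A' = A.map Φ) {χ : X}
    (hχ : χ ∈ (pCore p A).map A.subtype) : Φ χ ∈ (pCore p A').map A'.subtype := by
  subst h
  have key := Cfsg.Agent.Lib.helper88.le_pCore_map_of_normal_pgroup (p := p) (A.map Φ)
    (((pCore p A).map A.subtype).map Φ) (Subgroup.map_mono (psOp_le p A)) (by
      rintro _ ⟨a, ha, rfl⟩ _ ⟨d, hd, rfl⟩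
      exact ⟨a * d * a⁻¹, psOp_conj p A ha hd, by simp⟩) ((psOp_isPGroup p A).map Φ)
  exact key ⟨χ, hχ, rfl⟩

/-- a normal `p`-subgroup of `A` lies in `O_p(A)`, elementwise form for a cyclic subgroup in a
commutative `A`. -/
theorem psOp_of_comm (p : ℕ) [Fact p.Prime] (A : Subgroup X)
    (hcomm : ∀ a ∈ A, ∀ b ∈ A, a * b = b * a) {χ : X} (hχ : χ ∈ A) {k : ℕ}
    (hk : χ ^ p ^ k = 1) : χ ∈ (pCore p A).map A.subtype := by
  have key := Cfsg.Agent.Lib.helper88.le_pCore_map_of_normal_pgroup (p := p) A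
    (Subgroup.zpowers χ) ((Subgroup.zpowers_le).mpr hχ) (by
      intro a ha d hd
      have hdA : d ∈ A := (Subgroup.zpowers_le).mpr hχ hd
      have h1 : a * d * a⁻¹ = d := by
        rw [hcomm a ha d hdA]
        group
      rw [h1]
      exact hd) (by
      rintro ⟨d, hd⟩
      obtain ⟨m, rfl⟩ := Subgroup.mem_zpowers_iff.mp hd
      refine ⟨k, ?_⟩
      apply Subtype.ext
      show (χ ^ m) ^ p ^ k = 1
      rw [← zpow_natCast, ← zpow_mul, mul_comm, zpow_mul, zpow_natCast, hk, one_zpow])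
  exact key (Subgroup.mem_zpowers χ)

end op

variable {Ω : Type*} [Group Ω] {S : Subgroup Ω}

/-- `χ` acts quadratically on `Q`. -/
def PsQuad {Q : Subgroup Ω} (χ : MulAut ↥Q) : Prop :=
  ∀ a : ↥Q, (χ a⁻¹) * a * (χ a⁻¹) * (χ (χ a)) = 1

/-- the conclusion of `p`-stability at `(Q, χ)`. -/
def PsGood (F : FusionSystem S) (p : ℕ) (Q : Subgroup Ω) (χ : MulAut ↥Q) : Prop :=
  χ ∈ ((Cfsg.pCore p ↥(F.autGroup Q)).map (F.autGroup Q).subtype : Subgroup (MulAut ↥Q))

/-- `p`-stability of a fusion system, as in S5247 / S5281. -/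
def PsStable (F : FusionSystem S) (p : ℕ) : Prop :=
  ∀ Q : Subgroup Ω, F.IsFullyNormalized Q → ∀ χ : MulAut ↥Q, χ ∈ F.autGroup Q →
    PsQuad χ → PsGood F p Q χ

theorem psQuad_congr {Q Q' : Subgroup Ω} (e : Q ≃* Q') {χ : MulAut ↥Q} (h : PsQuad χ) :
    PsQuad (MulAut.congr e χ) := by
  intro b
  obtain ⟨a, rfl⟩ := e.surjective b
  have h1 : ∀ x : Q, MulAut.congr e χ (e x) = e (χ x) := by
    intro x
    simp [MulAut.congr]
  rw [← map_inv, h1, h1, h1, ← map_mul, ← map_mul, ← map_mul, h a, map_one]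

/-- a quadratic automorphism has order dividing `|Q|`. -/
theorem psQuad_pow_card {Q : Subgroup Ω} [Finite Q] {χ : MulAut ↥Q} (h : PsQuad χ) :
    χ ^ Nat.card Q = 1 := by
  have hχχ : ∀ a : Q, χ (χ a) = χ a * a⁻¹ * χ a := by
    intro a
    have h1 := h a
    rw [map_inv] at h1
    have h2 : χ (χ a) = ((χ a)⁻¹ * a * (χ a)⁻¹)⁻¹ := (inv_eq_of_mul_eq_one_right h1).symm
    rw [h2]
    group
  have hfix : ∀ a : Q, χ (a⁻¹ * χ a) = a⁻¹ * χ a := by
    intro a
    rw [map_mul, map_inv, hχχ]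
    group
  have hpow : ∀ (n : ℕ) (a : Q), (χ ^ n) a = a * (a⁻¹ * χ a) ^ n := by
    intro n
    induction n with
    | zero => intro a; simp
    | succ n ih =>
      intro a
      calc (χ ^ (n + 1)) a = χ ((χ ^ n) a) := by rw [pow_succ', MulAut.mul_apply]
        _ = χ a * (a⁻¹ * χ a) ^ n := by rw [ih, map_mul, map_pow, hfix]
        _ = a * (a⁻¹ * χ a) ^ (n + 1) := by rw [pow_succ', ← mul_assoc, mul_inv_cancel_left]
  ext a
  rw [hpow, pow_card_eq_one', mul_one, MulAut.one_apply]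

section transport

variable [Finite S] {p : ℕ} [Fact p.Prime]

theorem mem_autGroup_congr (F : FusionSystem S) {Q Q' : Subgroup Ω} {e : Q ≃* Q'}
    (he : Cfsg.Agent.Lib.helper88.IsoEquiv F e) {χ : MulAut ↥Q} (hχ : χ ∈ F.autGroup Q) :
    MulAut.congr e χ ∈ F.autGroup Q' := by
  rw [Cfsg.Agent.Lib.helper88.mem_autGroup_iff F he.le_left] at hχ
  rw [Cfsg.Agent.Lib.helper88.mem_autGroup_iff F he.le_right]
  exact (he.symm.trans hχ).trans he

theorem autGroup_map_congr (F : FusionSystem S) {Q Q' : Subgroup Ω} {e : Q ≃* Q'}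
    (he : Cfsg.Agent.Lib.helper88.IsoEquiv F e) :
    F.autGroup Q' = (F.autGroup Q).map (MulAut.congr e).toMonoidHom := by
  apply le_antisymm
  · intro χ' hχ'
    refine ⟨MulAut.congr e.symm χ', mem_autGroup_congr F he.symm hχ', ?_⟩
    ext x
    simp [MulAut.congr]
  · rintro _ ⟨χ, hχ, rfl⟩
    exact mem_autGroup_congr F he hχ

/-- transport of the `p`-stability conclusion along an isomorphism of the system. -/
theorem psGood_congr (F : FusionSystem S) {Q Q' : Subgroup Ω} {e : Q ≃* Q'}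
    (he : Cfsg.Agent.Lib.helper88.IsoEquiv F e) {χ : MulAut ↥Q} (h : PsGood F p Q χ) :
    PsGood F p Q' (MulAut.congr e χ) := by
  have hfin : Finite (F.autGroup Q) := Cfsg.Agent.Lib.helper89.finite_autGroup F he.le_left
  exact psOp_map p (MulAut.congr e).toMonoidHom (F.autGroup Q) (F.autGroup Q')
    (autGroup_map_congr F he) h

theorem psGood_of_congr (F : FusionSystem S) {Q Q' : Subgroup Ω} {e : Q ≃* Q'}
    (he : Cfsg.Agent.Lib.helper88.IsoEquiv F e) {χ : MulAut ↥Q}
    (h : PsGood F p Q' (MulAut.congr e χ)) : PsGood F p Q χ := by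
  have h1 := psGood_congr F he.symm h
  have h2 : MulAut.congr e.symm (MulAut.congr e χ) = χ := by
    ext x
    simp [MulAut.congr]
  rwa [h2] at h1

/-- `p`-stability gives its conclusion at every subgroup of `S`, not only at the fully
normalized ones. -/
theorem psGood_of_stable (F : FusionSystem S) (hst : PsStable F p) {Q : Subgroup Ω} (hQ : Q ≤ S)
    {χ : MulAut ↥Q} (hχ : χ ∈ F.autGroup Q) (hq : PsQuad χ) : PsGood F p Q χ := by
  obtain ⟨Q', ⟨φ, hφ, hr⟩, hfn⟩ := Cfsg.Agent.Lib.helper88.exists_fullyNormalized_conj F hQ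
  obtain ⟨e, he, -⟩ := Cfsg.Agent.Lib.helper88.exists_isoEquiv F hφ hr
  exact psGood_of_congr F he (hst Q' hfn _ (mem_autGroup_congr F he hχ) (psQuad_congr e hq))

/-- `p`-stability passes to subsystems. -/
theorem psStable_of_le (F : FusionSystem S) {T : Subgroup Ω} (hTS : T ≤ S) (N : FusionSystem T)
    (hsub : ∀ (P : Subgroup Ω) (φ : P →* Ω), φ ∈ N.Hom P → φ ∈ F.Hom P) (hst : PsStable F p) :
    PsStable N p := by
  intro Q hQfn χ hχ hq
  have hQT : Q ≤ T := hQfn.1
  have hQS : Q ≤ S := hQT.trans hTS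
  have hfin : Finite (F.autGroup Q) := Cfsg.Agent.Lib.helper89.finite_autGroup F hQS
  have hle : N.autGroup Q ≤ F.autGroup Q := by
    intro α hα
    rw [Cfsg.Agent.Lib.helper88.mem_autGroup_iff' N hQT] at hα
    rw [Cfsg.Agent.Lib.helper88.mem_autGroup_iff' F hQS]
    exact hsub _ _ hα
  have h1 : PsGood F p Q χ := psGood_of_stable F hst hQS (hle hχ) hq
  exact psOp_inf_le p (F.autGroup Q) (N.autGroup Q) hle ⟨h1, hχ⟩

end transport

end Cfsg.Agent.Lib.helper87
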