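import Cfsg.Agent.Lib.helper87.PStab
import Cfsg.Agent.Lib.helper88.NormalSub
import Cfsg.Agent.Lib.helper88.Saturated2
import Cfsg.Agent.Lib.helper89.LocalSat
import Cfsg.Agent.Lib.helper89.FusionClosed
import Cfsg.Agent.Lib.helper86.Essential

/-!
# Embedding `Aut_F(Q)` into the normalizer system of a centric radical subgroup (helper87)

For a fully normalized `Q` there is a fully normalized, centric, radical `R` and a conjugate `Q'`
of `Q` inside `R` such that every automorphism in `Aut_F(Q')` extends to an automorphism in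
`Aut_F(R)`.  (`PsAdm F Q R`; choose `R` of largest order.)
-/

set_option autoImplicit false

namespace Cfsg.Agent.Lib.helper87

open Cfsg Cfsg.FusionSystem

variable {Ω : Type*} [Group Ω] {S : Subgroup Ω}

/-- every automorphism in `Aut_F(Q)` extends to an automorphism in `Aut_F(R)`. -/
def PsExt (F : FusionSystem S) (Q R : Subgroup Ω) : Prop :=
  ∀ α ∈ F.autGroup Q, ∃ β ∈ F.autGroup R, ∀ (x : Ω) (hQ : x ∈ Q) (hR : x ∈ R),
    ((β ⟨x, hR⟩ : R) : Ω) = ((α ⟨x, hQ⟩ : Q) : Ω)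

/-- `R` is centric and contains a conjugate `Q'` of `Q` with `Aut_F(Q')` extending to `R`. -/
def PsAdm (F : FusionSystem S) (Q R : Subgroup Ω) : Prop :=
  F.IsCentric R ∧ ∃ (Q' : Subgroup Ω) (e : Q ≃* Q'), Cfsg.Agent.Lib.helper88.IsoEquiv F e ∧
    Q' ≤ R ∧ PsExt F Q' R

/-- an overgroup of `Q C_S(Q)` is centric when `Q` is fully centralized. -/
theorem isCentric_of_fullyCentralized [Finite S] (F : FusionSystem S) {Q R : Subgroup Ω}
    (hQ : F.IsFullyCentralized Q) (hQR : Q ≤ R) (hCR : centralizerIn S Q ≤ R) (hRS : R ≤ S) :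
    F.IsCentric R := by
  refine ⟨hRS, ?_⟩
  rintro R' ⟨φ, hφ, rfl⟩
  have hconj : F.IsConj Q ((Q.subgroupOf R).map φ) := Cfsg.Agent.Lib.helper88.isConj_map F hQR hφ
  have hcard := hQ.2 _ hconj
  have hinj := F.injective_of_mem hφ
  have hC1le : ((centralizerIn S Q).subgroupOf R).map φ ≤
      centralizerIn S ((Q.subgroupOf R).map φ) := by
    rintro _ ⟨c, hc, rfl⟩
    have hcent : φ c ∈ Subgroup.centralizer (((Q.subgroupOf R).map φ : Subgroup Ω) : Set Ω) := by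
      rw [Subgroup.mem_centralizer_iff]
      rintro _ ⟨q, hq, rfl⟩
      rw [← map_mul, ← map_mul]
      congr 1
      apply Subtype.ext
      have hc' : (c : Ω) ∈ Subgroup.centralizer (Q : Set Ω) := (Subgroup.mem_subgroupOf.mp hc).2
      exact Subgroup.mem_centralizer_iff.mp hc' q (Subgroup.mem_subgroupOf.mp hq)
    exact ⟨(F.le_of_mem hφ).2 c, hcent⟩
  have hcardC1 : Nat.card (((centralizerIn S Q).subgroupOf R).map φ) =
      Nat.card (centralizerIn S Q) := by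
    rw [Subgroup.card_map_of_injective hinj]
    exact Nat.card_congr (Subgroup.subgroupOfEquivOfLe hCR).toEquiv
  have hfinC : Finite (centralizerIn S ((Q.subgroupOf R).map φ)) :=
    Cfsg.Agent.Lib.helper88.finite_of_le (inf_le_left : centralizerIn S _ ≤ S)
  have heq : ((centralizerIn S Q).subgroupOf R).map φ =
      centralizerIn S ((Q.subgroupOf R).map φ) :=
    Subgroup.eq_of_le_of_card_ge hC1le (by rw [hcardC1]; exact hcard)
  intro x hx
  have hx1 : x ∈ centralizerIn S ((Q.subgroupOf R).map φ) := by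
    have hx2 : x ∈ Subgroup.centralizer (φ.range : Set Ω) := hx.2
    have hx3 : x ∈ Subgroup.centralizer (((Q.subgroupOf R).map φ : Subgroup Ω) : Set Ω) := by
      rw [Subgroup.mem_centralizer_iff] at hx2 ⊢
      rintro _ ⟨q, -, rfl⟩
      exact hx2 _ ⟨q, rfl⟩
    exact ⟨hx.1, hx3⟩
  rw [← heq] at hx1
  obtain ⟨c, -, rfl⟩ := hx1
  exact ⟨c, rfl⟩

section sat

variable [Finite S] {p : ℕ} [Fact p.Prime]

/-- the initial admissible subgroup `Q C_S(Q)` for a fully normalized `Q`. -/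
theorem psAdm_init (hS : IsPGroup p S) (F : FusionSystem S) (hF : F.IsSaturated p)
    {Q : Subgroup Ω} (hQ : F.IsFullyNormalized Q) : ∃ R, PsAdm F Q R := by
  have hQS := hQ.1
  obtain ⟨-, hrec⟩ :=
    Cfsg.Agent.Lib.helper88.fullyAutomized_receptive_of_fullyNormalized hS F hF hQ
  have hfc := Cfsg.Agent.Lib.helper89.fullyCentralized_of_receptive F hrec
  obtain ⟨R, hRdef⟩ : ∃ R : Subgroup Ω,
      R = Subgroup.closure ((Q : Set Ω) ∪ (centralizerIn S Q : Set Ω)) := ⟨_, rfl⟩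
  have hQR : Q ≤ R := fun x hx => hRdef ▸ Subgroup.subset_closure (Or.inl hx)
  have hCR : centralizerIn S Q ≤ R := fun x hx => hRdef ▸ Subgroup.subset_closure (Or.inr hx)
  have hRS : R ≤ S := by
    rw [hRdef, Subgroup.closure_le]
    exact Set.union_subset hQS (inf_le_left : centralizerIn S Q ≤ S)
  refine ⟨R, isCentric_of_fullyCentralized F hfc hQR hCR hRS, Q, MulEquiv.refl Q,
    Cfsg.Agent.Lib.helper88.isoEquiv_refl F hQS, hQR, ?_⟩
  intro α hα
  have hαF : Q.subtype.comp α.toMonoidHom ∈ F.Hom Q :=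
    (Cfsg.Agent.Lib.helper88.mem_autGroup_iff' F hQS α).mp hα
  have hrange : (Q.subtype.comp α.toMonoidHom).range = Q := by
    ext y
    constructor
    · rintro ⟨x, rfl⟩
      exact (α x).2
    · intro hy
      exact ⟨α⁻¹ ⟨y, hy⟩, by simp⟩
  subst hRdef
  obtain ⟨ψ, hψ, hψQ⟩ := Cfsg.Agent.Lib.helper89.exists_extension_closure F hrec hαF hrange
    ((Q : Set Ω) ∪ (centralizerIn S Q : Set Ω)) (by
      rintro g (hg | hg)
      · exact Cfsg.Agent.Lib.helper89.extender_cond_of_mem F hαF hg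
      · have hgc : g ∈ Subgroup.centralizer (Q : Set Ω) := hg.2
        refine ⟨hg.1, Subgroup.centralizer_le_normalizer _ hgc, 1, S.one_mem, fun x hx => ?_⟩
        have h1 : (⟨g * (x : Ω) * g⁻¹, hx⟩ : Q) = x := by
          apply Subtype.ext
          show g * (x : Ω) * g⁻¹ = x
          rw [← Subgroup.mem_centralizer_iff.mp hgc x x.2]
          group
        rw [h1]
        simp)
  have hψR : ∀ y : Subgroup.closure ((Q : Set Ω) ∪ (centralizerIn S Q : Set Ω)),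
      ψ y ∈ Subgroup.closure ((Q : Set Ω) ∪ (centralizerIn S Q : Set Ω)) := by
    rintro ⟨y, hy⟩
    refine Subgroup.closure_induction
      (p := fun y hy => ψ ⟨y, hy⟩ ∈ Subgroup.closure ((Q : Set Ω) ∪ (centralizerIn S Q : Set Ω)))
      ?_ ?_ ?_ ?_ hy
    · rintro g (hg | hg)
      · rw [hψQ g hg]
        exact hQR (α ⟨g, hg⟩).2
      · apply hCR
        have hcent : ψ ⟨g, Subgroup.subset_closure (Or.inr hg)⟩ ∈
            Subgroup.centralizer (Q : Set Ω) := by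
          rw [Subgroup.mem_centralizer_iff]
          intro q hq
          have hq' : q ∈ (Q.subtype.comp α.toMonoidHom).range := by rw [hrange]; exact hq
          obtain ⟨q₀, rfl⟩ := hq'
          have h1 := hψQ (q₀ : Ω) q₀.2 (hQR q₀.2)
          rw [← h1, ← map_mul, ← map_mul]
          congr 1
          apply Subtype.ext
          have hgc : g ∈ Subgroup.centralizer (Q : Set Ω) := hg.2
          exact Subgroup.mem_centralizer_iff.mp hgc q₀ q₀.2
        exact ⟨(F.le_of_mem hψ).2 _, hcent⟩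
    · have h1 : (⟨1, Subgroup.one_mem _⟩ :
          Subgroup.closure ((Q : Set Ω) ∪ (centralizerIn S Q : Set Ω))) = 1 := rfl
      rw [h1, map_one]
      exact Subgroup.one_mem _
    · intro x y hx hy hpx hpy
      have h1 : (⟨x * y, Subgroup.mul_mem _ hx hy⟩ :
          Subgroup.closure ((Q : Set Ω) ∪ (centralizerIn S Q : Set Ω))) = ⟨x, hx⟩ * ⟨y, hy⟩ := rfl
      rw [h1, map_mul]
      exact Subgroup.mul_mem _ hpx hpy
    · intro x hx hpx
      have h1 : (⟨x⁻¹, Subgroup.inv_mem _ hx⟩ :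
          Subgroup.closure ((Q : Set Ω) ∪ (centralizerIn S Q : Set Ω))) = ⟨x, hx⟩⁻¹ := rfl
      rw [h1, map_inv]
      exact Subgroup.inv_mem _ hpx
  obtain ⟨β, hβ⟩ := Cfsg.Agent.Lib.helper89.exists_aut_of_mem F hψ hψR
  refine ⟨β, ?_, fun x hxQ hxR => ?_⟩
  · rw [Cfsg.Agent.Lib.helper88.mem_autGroup_iff' F hRS]
    have h1 : (Subgroup.closure ((Q : Set Ω) ∪ (centralizerIn S Q : Set Ω))).subtype.comp
        β.toMonoidHom = ψ := by
      ext x
      exact hβ x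
    rw [h1]
    exact hψ
  · rw [hβ, hψQ x hxQ hxR]
    rfl

/-- an admissible subgroup can be replaced by a fully normalized one of the same order. -/
theorem psAdm_fn (F : FusionSystem S) {Q R : Subgroup Ω} (h : PsAdm F Q R) :
    ∃ R', F.IsFullyNormalized R' ∧ PsAdm F Q R' ∧ Nat.card R' = Nat.card R := by
  obtain ⟨hRc, Q', e, he, hQ'R, hext⟩ := h
  have hRS := hRc.1
  obtain ⟨R', ⟨φ, hφ, hr⟩, hfn⟩ := Cfsg.Agent.Lib.helper88.exists_fullyNormalized_conj F hRS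
  obtain ⟨eR, heR, heRφ⟩ := Cfsg.Agent.Lib.helper88.exists_isoEquiv F hφ hr
  have hφQ' := Cfsg.Agent.Lib.helper88.restrict_mem F hQ'R hφ
  have hrange := Cfsg.Agent.Lib.helper88.range_restrict_eq hQ'R φ
  obtain ⟨e₂, he₂, he₂φ⟩ := Cfsg.Agent.Lib.helper88.exists_isoEquiv F hφQ' hrange
  have hQ''R' : (Q'.subgroupOf R).map φ ≤ R' := by
    rintro _ ⟨x, -, rfl⟩
    rw [← hr]
    exact ⟨x, rfl⟩
  refine ⟨R', hfn, ⟨Cfsg.Agent.Lib.helper88.IsCentric.of_isConj hRc ⟨φ, hφ, hr⟩, (Q'.subgroupOf R).map φ, e.trans e₂, he.trans he₂,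
    hQ''R', ?_⟩, (Nat.card_congr eR.toEquiv).symm⟩
  intro α'' hα''
  have hα' : MulAut.congr e₂.symm α'' ∈ F.autGroup Q' := mem_autGroup_congr F he₂.symm hα''
  obtain ⟨β', hβ', hβ'x⟩ := hext _ hα'
  refine ⟨MulAut.congr eR β', mem_autGroup_congr F heR hβ', ?_⟩
  rintro _ ⟨x, hx, rfl⟩ hyR
  have hx' : (x : Ω) ∈ Q' := Subgroup.mem_subgroupOf.mp hx
  have hy : φ x ∈ (Q'.subgroupOf R).map φ := ⟨x, hx, rfl⟩
  -- the element `⟨φ x, _⟩` of `R'` is `eR x`
  have h1 : (⟨φ x, hyR⟩ : R') = eR x := Subtype.ext (heRφ x).symm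
  have h2 : MulAut.congr eR β' (eR x) = eR (β' x) := by simp [MulAut.congr]
  rw [h1, h2, heRφ]
  -- the element `e₂ ⟨x, _⟩` of `Q''` is `⟨φ x, _⟩`
  have h3 : e₂ ⟨(x : Ω), hx'⟩ = ⟨φ x, hy⟩ := by
    apply Subtype.ext
    rw [he₂φ]
    rfl
  have h4 : MulAut.congr e₂.symm α'' ⟨(x : Ω), hx'⟩ = e₂.symm (α'' (e₂ ⟨(x : Ω), hx'⟩)) := by
    simp [MulAut.congr]
  have h5 := hβ'x (x : Ω) hx' x.2
  rw [h4, h3] at h5
  -- `β' x = inclusion (e₂.symm (α'' ⟨φ x, _⟩))`
  have h6 : β' x = Subgroup.inclusion hQ'R (e₂.symm (α'' ⟨φ x, hy⟩)) := Subtype.ext h5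
  rw [h6]
  have h7 := he₂φ (e₂.symm (α'' ⟨φ x, hy⟩))
  rw [MulEquiv.apply_symm_apply] at h7
  exact h7.symm

/-- a fully normalized admissible subgroup of largest order is radical. -/
theorem psAdm_radical (hS : IsPGroup p S) (F : FusionSystem S) (hF : F.IsSaturated p)
    {Q R : Subgroup Ω} (hfn : F.IsFullyNormalized R) (h : PsAdm F Q R)
    (hmax : ∀ R₁, PsAdm F Q R₁ → Nat.card R₁ ≤ Nat.card R) : F.IsRadical p R := by
  classical
  obtain ⟨hRc, Q', e, he, hQ'R, hext⟩ := h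
  have hRS := hRc.1
  have hfinR : Finite R := Cfsg.Agent.Lib.helper88.finite_of_le hRS
  have hfinA : Finite (F.autGroup R) := Cfsg.Agent.Lib.helper89.finite_autGroup F hRS
  obtain ⟨hfa, hrec⟩ :=
    Cfsg.Agent.Lib.helper88.fullyAutomized_receptive_of_fullyNormalized hS F hF hfn
  by_contra hrad
  -- `Inn(R) ≤ O_p(Aut_F(R))`
  have hInnA : Cfsg.Inn R ≤ F.autGroup R :=
    (Cfsg.Agent.Lib.helper86.inn_le_autInducedBy hRS).trans
      (Cfsg.Agent.Lib.helper88.autInducedBy_le_autGroup F hRS)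
  have hInnp : IsPGroup p (Cfsg.Inn R) := by
    have h1 : Cfsg.Inn R = (⊤ : Subgroup R).map (MulAut.conj : R →* MulAut R) :=
      MonoidHom.range_eq_map _
    rw [h1]
    exact ((hS.to_le hRS).to_subgroup ⊤).map _
  have hInnOp : Cfsg.Inn R ≤ (pCore p (F.autGroup R)).map (F.autGroup R).subtype :=
    Cfsg.Agent.Lib.helper88.le_pCore_map_of_normal_pgroup (F.autGroup R) (Cfsg.Inn R) hInnA
      (fun a _ d hd => (Cfsg.innNormal R).conj_mem d hd a) hInnp
  obtain ⟨δ₀, hδ₀, hδ₀I⟩ : ∃ δ₀ ∈ (pCore p (F.autGroup R)).map (F.autGroup R).subtype,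
      δ₀ ∉ Cfsg.Inn R := by
    by_contra hcon
    push Not at hcon
    exact hrad ⟨hRS, le_antisymm (fun d hd => hcon d hd) hInnOp⟩
  -- `O_p(Aut_F(R)) ≤ Aut_S(R)`
  have hOpS : (pCore p (F.autGroup R)).map (F.autGroup R).subtype ≤ autInducedBy S R := by
    obtain ⟨b, hb, hbc⟩ := Cfsg.Agent.Lib.helper89.exists_conj_into_autS F hfa
      ((pCore p (F.autGroup R)).map (F.autGroup R).subtype) (psOp_le p _) (psOp_isPGroup p _)
    intro d hd
    have h1 : b⁻¹ * d * b⁻¹⁻¹ ∈ (pCore p (F.autGroup R)).map (F.autGroup R).subtype :=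
      psOp_conj p _ ((F.autGroup R).inv_mem hb) hd
    have h2 := hbc _ h1
    have h3 : b * (b⁻¹ * d * b⁻¹⁻¹) * b⁻¹ = d := by group
    rwa [h3] at h2
  -- the preimage `R₁` of `O_p(Aut_F(R))` in `N_S(R)`
  obtain ⟨R₁, hR₁⟩ : ∃ R₁ : Subgroup Ω, ∀ g : Ω, g ∈ R₁ ↔
      g ∈ S ∧ g ∈ Subgroup.normalizer (R : Set Ω) ∧
        ∃ δ ∈ (pCore p (F.autGroup R)).map (F.autGroup R).subtype,
          ∀ x : R, ((δ x : R) : Ω) = g * x * g⁻¹ := by
    refine ⟨{ carrier := {g | g ∈ S ∧ g ∈ Subgroup.normalizer (R : Set Ω) ∧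
                ∃ δ ∈ (pCore p (F.autGroup R)).map (F.autGroup R).subtype,
                  ∀ x : R, ((δ x : R) : Ω) = g * x * g⁻¹}
              mul_mem' := ?_
              one_mem' := ?_
              inv_mem' := ?_ }, fun g => Iff.rfl⟩
    · rintro g h ⟨hgS, hgN, δ, hδ, hδx⟩ ⟨hhS, hhN, ε, hε, hεx⟩
      refine ⟨S.mul_mem hgS hhS, Subgroup.mul_mem _ hgN hhN, δ * ε, Subgroup.mul_mem _ hδ hε,
        fun x => ?_⟩
      rw [MulAut.mul_apply, hδx, hεx]
      group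
    · exact ⟨S.one_mem, Subgroup.one_mem _, 1, Subgroup.one_mem _, fun x => by simp⟩
    · rintro g ⟨hgS, hgN, δ, hδ, hδx⟩
      refine ⟨S.inv_mem hgS, Subgroup.inv_mem _ hgN, δ⁻¹, Subgroup.inv_mem _ hδ, fun x => ?_⟩
      have h1 := hδx (δ⁻¹ x)
      rw [MulAut.apply_inv_self] at h1
      rw [h1]
      group
  have hRR₁ : R ≤ R₁ := by
    intro g hg
    rw [hR₁]
    refine ⟨hRS hg, Subgroup.le_normalizer hg, MulAut.conj (⟨g, hg⟩ : R), hInnOp ⟨_, rfl⟩,
      fun x => ?_⟩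
    simp [MulAut.conj_apply]
  have hR₁S : R₁ ≤ S := fun g hg => ((hR₁ g).mp hg).1
  have hlt : R < R₁ := by
    refine lt_of_le_of_ne hRR₁ (fun heq => ?_)
    obtain ⟨g, hgS, hgx⟩ := (Cfsg.Agent.Lib.helper88.mem_autInducedBy_iff S R δ₀).mp (hOpS hδ₀)
    have hgN : g ∈ Subgroup.normalizer (R : Set Ω) :=
      Cfsg.Agent.Lib.helper88.mem_normalizer_of_conj_mem (fun x hx => by
        rw [← hgx ⟨x, hx⟩]
        exact (δ₀ ⟨x, hx⟩).2)
    have hgR₁ : g ∈ R₁ := (hR₁ g).mpr ⟨hgS, hgN, δ₀, hδ₀, hgx⟩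
    rw [← heq] at hgR₁
    apply hδ₀I
    refine ⟨⟨g, hgR₁⟩, ?_⟩
    ext x
    rw [hgx]
    simp [MulAut.conj_apply]
  have hcardlt : Nat.card R < Nat.card R₁ := Cfsg.Agent.Lib.helper89.card_lt_of_lt hlt hR₁S
  have hR₁c : F.IsCentric R₁ := Cfsg.Agent.Lib.helper88.IsCentric.of_le hRc hRR₁ hR₁S
  have hadm : PsAdm F Q R₁ := by
    refine ⟨hR₁c, Q', e, he, hQ'R.trans hRR₁, ?_⟩
    intro α hα
    obtain ⟨β, hβ, hβx⟩ := hext α hα
    have hβF : R.subtype.comp β.toMonoidHom ∈ F.Hom R :=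
      (Cfsg.Agent.Lib.helper88.mem_autGroup_iff' F hRS β).mp hβ
    have hrange : (R.subtype.comp β.toMonoidHom).range = R := by
      ext y
      constructor
      · rintro ⟨x, rfl⟩
        exact (β x).2
      · intro hy
        exact ⟨β⁻¹ ⟨y, hy⟩, by simp⟩
    -- conjugating by `β` inside `O_p`
    have hconj : ∀ δ ∈ (pCore p (F.autGroup R)).map (F.autGroup R).subtype,
        ∃ h ∈ S, ∀ x : R, ((β (δ x) : R) : Ω) = h * ((β x : R) : Ω) * h⁻¹ := by
      intro δ hδ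
      have h1 : β * δ * β⁻¹ ∈ (pCore p (F.autGroup R)).map (F.autGroup R).subtype :=
        psOp_conj p _ hβ hδ
      obtain ⟨h, hhS, hhx⟩ :=
        (Cfsg.Agent.Lib.helper88.mem_autInducedBy_iff S R _).mp (hOpS h1)
      refine ⟨h, hhS, fun x => ?_⟩
      have h2 := hhx (β x)
      have h3 : (β * δ * β⁻¹) (β x) = β (δ x) := by simp [MulAut.mul_apply]
      rw [h3] at h2
      exact h2
    obtain ⟨ψ, hψ, hψR⟩ := Cfsg.Agent.Lib.helper89.exists_extension F hrec hβF hrange R₁ (by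
      intro g hg
      obtain ⟨hgS, hgN, δ, hδ, hδx⟩ := (hR₁ g).mp hg
      obtain ⟨h, hhS, hhx⟩ := hconj δ hδ
      refine ⟨hgS, hgN, h, hhS, fun x hx => ?_⟩
      have h1 : (⟨g * (x : Ω) * g⁻¹, hx⟩ : R) = δ x := Subtype.ext (hδx x).symm
      rw [h1]
      exact hhx x)
    have hψβ : ∀ x : R, ψ ⟨(x : Ω), hRR₁ x.2⟩ = ((β x : R) : Ω) := fun x => hψR (x : Ω) x.2 _
    -- `ψ` maps `R₁` into `R₁`
    have hψR₁ : ∀ y : R₁, ψ y ∈ R₁ := by
      intro y
      obtain ⟨hgS, hgN, δ, hδ, hδx⟩ := (hR₁ (y : Ω)).mp y.2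
      have hkey : ∀ x : R, ψ y * ((β x : R) : Ω) * (ψ y)⁻¹ = ((β (δ x) : R) : Ω) := by
        intro x
        rw [← hψβ x, ← hψβ (δ x), ← map_inv, ← map_mul, ← map_mul]
        congr 1
        apply Subtype.ext
        exact (hδx x).symm
      rw [hR₁]
      refine ⟨(F.le_of_mem hψ).2 y, ?_, β * δ * β⁻¹, psOp_conj p _ hβ hδ, fun x => ?_⟩
      · apply Cfsg.Agent.Lib.helper88.mem_normalizer_of_conj_mem
        intro x hx
        have h1 := hkey (β⁻¹ ⟨x, hx⟩)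
        rw [MulAut.apply_inv_self] at h1
        rw [h1]
        exact (β (δ (β⁻¹ ⟨x, hx⟩))).2
      · have h1 := hkey (β⁻¹ x)
        rw [MulAut.apply_inv_self] at h1
        rw [h1]
        rfl
    obtain ⟨β₁, hβ₁⟩ := Cfsg.Agent.Lib.helper89.exists_aut_of_mem F hψ hψR₁
    refine ⟨β₁, ?_, fun x hxQ hxR₁ => ?_⟩
    · rw [Cfsg.Agent.Lib.helper88.mem_autGroup_iff' F hR₁S]
      have h1 : R₁.subtype.comp β₁.toMonoidHom = ψ := by
        ext x
        exact hβ₁ x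
      rw [h1]
      exact hψ
    · rw [hβ₁, hψR x (hQ'R hxQ) hxR₁]
      exact hβx x hxQ (hQ'R hxQ)
  exact absurd (hmax R₁ hadm) (not_le.mpr hcardlt)

end sat

end Cfsg.Agent.Lib.helper87
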