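import Mathlib
import Cfsg.Agent.Lib.helper68.HallPet
import Cfsg.Agent.Lib.helper65.PearlPow

/-!
S5238 BLOCK G, leaf B1 (`fiber_card`), helper87: the fibres of `g ↦ com x g` over a subgroup
`M ≤ gam G 2` are cosets of the centralizer of `x`.
-/

set_option autoImplicit false

namespace Cfsg.Agent.Lib.helper33.PearlG

open Cfsg.Agent.Lib.helper68 Cfsg.Agent.Lib.helper65.PearlPow

variable {G : Type*} [Group G] [Finite G]

omit [Finite G] in
theorem h87_com_mul_left (x c g : G) (hc : c ∈ Subgroup.centralizer ({x} : Set G)) :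
    com x (c * g) = com x g := by
  have hc' : x * c = c * x := Subgroup.mem_centralizer_iff.mp hc x (Set.mem_singleton x)
  unfold com
  have h1 : x⁻¹ * (c * g)⁻¹ * x * (c * g) = x⁻¹ * g⁻¹ * (c⁻¹ * (x * c)) * g := by group
  rw [h1, hc']
  group

omit [Finite G] in
theorem h87_mem_centralizer (x g g' : G) (h : com x g = com x g') :
    g * g'⁻¹ ∈ Subgroup.centralizer ({x} : Set G) := by
  rw [Subgroup.mem_centralizer_iff]
  intro y hy
  rw [Set.mem_singleton_iff] at hy
  subst hy
  have h2 : g⁻¹ * y * g = g'⁻¹ * y * g' := by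
    unfold com at h
    have h3 := congrArg (fun t => y * t) h
    simpa [mul_assoc] using h3
  calc y * (g * g'⁻¹) = g * (g⁻¹ * y * g) * g'⁻¹ := by group
    _ = g * (g'⁻¹ * y * g') * g'⁻¹ := by rw [h2]
    _ = g * g'⁻¹ * y := by group

/-- B1. Each fibre over `gam G 2` has `p ^ 2` elements. -/
theorem fiber_card (p : ℕ) [Fact p.Prime] (x : G)
    (hC : Nat.card (Subgroup.centralizer ({x} : Set G)) = p ^ 2)
    (hsurj : ∀ m ∈ gam G 2, ∃ g : G, com x g = m) (M : Subgroup G) (hM : M ≤ gam G 2) :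
    Nat.card {g : G // com x g ∈ M} = p ^ 2 * Nat.card M := by
  classical
  choose! r hr using hsurj
  let F : M × Subgroup.centralizer ({x} : Set G) → {g : G // com x g ∈ M} := fun mc =>
    ⟨(mc.2 : G) * r (mc.1 : G), by
      rw [h87_com_mul_left x mc.2.1 _ mc.2.2, hr _ (hM mc.1.2)]
      exact mc.1.2⟩
  have hinj : Function.Injective F := by
    rintro ⟨m, c⟩ ⟨m', c'⟩ h
    have h1 : (c : G) * r (m : G) = (c' : G) * r (m' : G) := congrArg Subtype.val h
    have h2 : com x ((c : G) * r (m : G)) = com x ((c' : G) * r (m' : G)) := by rw [h1]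
    rw [h87_com_mul_left x c.1 _ c.2, h87_com_mul_left x c'.1 _ c'.2, hr _ (hM m.2),
      hr _ (hM m'.2)] at h2
    have hm : m = m' := Subtype.ext h2
    subst hm
    have hc : (c : G) = c' := mul_right_cancel h1
    exact Prod.ext rfl (Subtype.ext hc)
  have hsur : Function.Surjective F := by
    rintro ⟨g, hg⟩
    refine ⟨(⟨com x g, hg⟩, ⟨g * (r (com x g))⁻¹, ?_⟩), ?_⟩
    · exact h87_mem_centralizer x g (r (com x g)) (hr _ (hM hg)).symm
    · apply Subtype.ext
      show g * (r (com x g))⁻¹ * r (com x g) = g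
      group
  rw [← Nat.card_congr (Equiv.ofBijective F ⟨hinj, hsur⟩), Nat.card_prod, hC, mul_comm]

end Cfsg.Agent.Lib.helper33.PearlG
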