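import Cfsg.Agent.Lib.helper87.StabAut
import Cfsg.Agent.Lib.helper88.Saturated
import Cfsg.Prelude.Def_FusionComponents

set_option autoImplicit false

namespace Cfsg.Agent.Lib.helper87

open Cfsg

section Product

variable {Ω₁ Ω₂ : Type*} [Group Ω₁] [Group Ω₂] {S₁ : Subgroup Ω₁} {S₂ : Subgroup Ω₂}

/-- The automorphism of `Q₁ × Q₂` given by a pair of automorphisms. -/
def prodAut (Q₁ : Subgroup Ω₁) (Q₂ : Subgroup Ω₂) : MulAut Q₁ × MulAut Q₂ →* MulAut ↥(Q₁.prod Q₂) where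
  toFun α := ((Subgroup.prodEquiv Q₁ Q₂).trans (MulEquiv.prodCongr α.1 α.2)).trans
    (Subgroup.prodEquiv Q₁ Q₂).symm
  map_one' := by
    ext x <;> rfl
  map_mul' := fun α β => by
    ext x <;> rfl

theorem prodAut_apply (Q₁ : Subgroup Ω₁) (Q₂ : Subgroup Ω₂) (α : MulAut Q₁ × MulAut Q₂)
    (x : ↥(Q₁.prod Q₂)) :
    ((prodAut Q₁ Q₂ α x : ↥(Q₁.prod Q₂)) : Ω₁ × Ω₂) =
      (((α.1 ⟨(x : Ω₁ × Ω₂).1, x.2.1⟩ : Q₁) : Ω₁), ((α.2 ⟨(x : Ω₁ × Ω₂).2, x.2.2⟩ : Q₂) : Ω₂)) := rfl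

theorem map_fst_le_of_le_prod {Q₁ : Subgroup Ω₁} {Q₂ : Subgroup Ω₂} {P : Subgroup (Ω₁ × Ω₂)}
    (hP : P ≤ Q₁.prod Q₂) : P.map (MonoidHom.fst Ω₁ Ω₂) ≤ Q₁ := by
  rintro _ ⟨x, hx, rfl⟩
  exact (hP hx).1

theorem map_snd_le_of_le_prod {Q₁ : Subgroup Ω₁} {Q₂ : Subgroup Ω₂} {P : Subgroup (Ω₁ × Ω₂)}
    (hP : P ≤ Q₁.prod Q₂) : P.map (MonoidHom.snd Ω₁ Ω₂) ≤ Q₂ := by
  rintro _ ⟨x, hx, rfl⟩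
  exact (hP hx).2

theorem le_map_fst_prod (Q₁ : Subgroup Ω₁) (Q₂ : Subgroup Ω₂) :
    Q₁ ≤ (Q₁.prod Q₂).map (MonoidHom.fst Ω₁ Ω₂) :=
  fun x hx => ⟨(x, 1), ⟨hx, Q₂.one_mem⟩, rfl⟩

theorem le_map_snd_prod (Q₁ : Subgroup Ω₁) (Q₂ : Subgroup Ω₂) :
    Q₂ ≤ (Q₁.prod Q₂).map (MonoidHom.snd Ω₁ Ω₂) :=
  fun x hx => ⟨(1, x), ⟨Q₁.one_mem, hx⟩, rfl⟩

variable {F₁ : FusionSystem S₁} {F₂ : FusionSystem S₂} {E : FusionSystem (S₁.prod S₂)}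

/-- Every automorphism of `Q₁ × Q₂` in the product system is given by a pair of automorphisms. -/
theorem exists_components_of_mem_autGroup [Finite S₁] [Finite S₂]
    (hE : FusionSystem.IsProductSystem F₁ F₂ E) {Q₁ : Subgroup Ω₁} {Q₂ : Subgroup Ω₂}
    (hQ₁ : Q₁ ≤ S₁) (hQ₂ : Q₂ ≤ S₂) {γ : MulAut ↥(Q₁.prod Q₂)} (hγ : γ ∈ E.autGroup (Q₁.prod Q₂)) :
    ∃ α₁ ∈ F₁.autGroup Q₁, ∃ α₂ ∈ F₂.autGroup Q₂, γ = prodAut Q₁ Q₂ (α₁, α₂) := by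
  have hQS : Q₁.prod Q₂ ≤ S₁.prod S₂ := Subgroup.prod_mono hQ₁ hQ₂
  obtain ⟨-, φ₁, hφ₁, φ₂, hφ₂, heq⟩ :=
    (hE _ _).mp ((Cfsg.Agent.Lib.helper89.mem_autGroup_iff E hQS γ).mp hγ)
  have ha₁ : φ₁.comp (Subgroup.inclusion (le_map_fst_prod Q₁ Q₂)) ∈ F₁.Hom Q₁ :=
    hom_comp_inclusion F₁ hφ₁ _
  have ha₂ : φ₂.comp (Subgroup.inclusion (le_map_snd_prod Q₁ Q₂)) ∈ F₂.Hom Q₂ :=
    hom_comp_inclusion F₂ hφ₂ _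
  have hin₁ : ∀ x : Q₁, (φ₁.comp (Subgroup.inclusion (le_map_fst_prod Q₁ Q₂))) x ∈ Q₁ := by
    intro x
    have h := congrArg Prod.fst (heq ⟨((x : Ω₁), (1 : Ω₂)), ⟨x.2, Q₂.one_mem⟩⟩
      (le_map_fst_prod Q₁ Q₂ x.2) ⟨((x : Ω₁), (1 : Ω₂)), ⟨x.2, Q₂.one_mem⟩, rfl⟩)
    have h2 : ((γ ⟨((x : Ω₁), (1 : Ω₂)), ⟨x.2, Q₂.one_mem⟩⟩ : ↥(Q₁.prod Q₂)) : Ω₁ × Ω₂).1 ∈ Q₁ :=
      (γ _).2.1
    have h3 : (φ₁.comp (Subgroup.inclusion (le_map_fst_prod Q₁ Q₂))) x =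
        ((γ ⟨((x : Ω₁), (1 : Ω₂)), ⟨x.2, Q₂.one_mem⟩⟩ : ↥(Q₁.prod Q₂)) : Ω₁ × Ω₂).1 := h.symm
    rw [h3]
    exact h2
  have hin₂ : ∀ x : Q₂, (φ₂.comp (Subgroup.inclusion (le_map_snd_prod Q₁ Q₂))) x ∈ Q₂ := by
    intro x
    have h := congrArg Prod.snd (heq ⟨((1 : Ω₁), (x : Ω₂)), ⟨Q₁.one_mem, x.2⟩⟩
      ⟨((1 : Ω₁), (x : Ω₂)), ⟨Q₁.one_mem, x.2⟩, rfl⟩ (le_map_snd_prod Q₁ Q₂ x.2))
    have h2 : ((γ ⟨((1 : Ω₁), (x : Ω₂)), ⟨Q₁.one_mem, x.2⟩⟩ : ↥(Q₁.prod Q₂)) : Ω₁ × Ω₂).2 ∈ Q₂ :=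
      (γ _).2.2
    have h3 : (φ₂.comp (Subgroup.inclusion (le_map_snd_prod Q₁ Q₂))) x =
        ((γ ⟨((1 : Ω₁), (x : Ω₂)), ⟨Q₁.one_mem, x.2⟩⟩ : ↥(Q₁.prod Q₂)) : Ω₁ × Ω₂).2 := h.symm
    rw [h3]
    exact h2
  obtain ⟨α₁, hα₁⟩ := Cfsg.Agent.Lib.helper89.exists_aut_of_mem F₁ ha₁ hin₁
  obtain ⟨α₂, hα₂⟩ := Cfsg.Agent.Lib.helper89.exists_aut_of_mem F₂ ha₂ hin₂
  refine ⟨α₁, (Cfsg.Agent.Lib.helper89.mem_autGroup_iff F₁ hQ₁ α₁).mpr ?_, α₂,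
    (Cfsg.Agent.Lib.helper89.mem_autGroup_iff F₂ hQ₂ α₂).mpr ?_, ?_⟩
  · have : Q₁.subtype.comp α₁.toMonoidHom = φ₁.comp (Subgroup.inclusion (le_map_fst_prod Q₁ Q₂)) :=
      MonoidHom.ext fun x => hα₁ x
    rw [this]
    exact ha₁
  · have : Q₂.subtype.comp α₂.toMonoidHom = φ₂.comp (Subgroup.inclusion (le_map_snd_prod Q₁ Q₂)) :=
      MonoidHom.ext fun x => hα₂ x
    rw [this]
    exact ha₂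
  · refine MulEquiv.ext fun x => Subtype.ext ?_
    rw [prodAut_apply]
    refine (heq x ⟨x, x.2, rfl⟩ ⟨x, x.2, rfl⟩).trans (Prod.ext ?_ ?_)
    · exact (hα₁ ⟨(x : Ω₁ × Ω₂).1, x.2.1⟩).symm
    · exact (hα₂ ⟨(x : Ω₁ × Ω₂).2, x.2.2⟩).symm

theorem prodAut_mem_autGroup (hE : FusionSystem.IsProductSystem F₁ F₂ E) {Q₁ : Subgroup Ω₁}
    {Q₂ : Subgroup Ω₂} (hQ₁ : Q₁ ≤ S₁) (hQ₂ : Q₂ ≤ S₂) {α₁ : MulAut Q₁} (hα₁ : α₁ ∈ F₁.autGroup Q₁)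
    {α₂ : MulAut Q₂} (hα₂ : α₂ ∈ F₂.autGroup Q₂) :
    prodAut Q₁ Q₂ (α₁, α₂) ∈ E.autGroup (Q₁.prod Q₂) := by
  rw [Cfsg.Agent.Lib.helper89.mem_autGroup_iff E (Subgroup.prod_mono hQ₁ hQ₂), hE]
  exact ⟨Subgroup.prod_mono hQ₁ hQ₂, _,
    hom_comp_inclusion F₁ ((Cfsg.Agent.Lib.helper89.mem_autGroup_iff F₁ hQ₁ α₁).mp hα₁)
      (map_fst_le_of_le_prod le_rfl), _,
    hom_comp_inclusion F₂ ((Cfsg.Agent.Lib.helper89.mem_autGroup_iff F₂ hQ₂ α₂).mp hα₂)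
      (map_snd_le_of_le_prod le_rfl), fun x h₁ h₂ => rfl⟩

/-- The product of fully automized subgroups is fully automized in the product system. -/
theorem prod_fullyAutomized [Finite S₁] [Finite S₂] {p : ℕ} [Fact p.Prime]
    (hE : FusionSystem.IsProductSystem F₁ F₂ E) {Q₁ : Subgroup Ω₁} {Q₂ : Subgroup Ω₂}
    (h₁ : F₁.IsFullyAutomized p Q₁) (h₂ : F₂.IsFullyAutomized p Q₂) :
    E.IsFullyAutomized p (Q₁.prod Q₂) := by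
  obtain ⟨hQ₁, R₁, hR₁⟩ := h₁
  obtain ⟨hQ₂, R₂, hR₂⟩ := h₂
  have hQS : Q₁.prod Q₂ ≤ S₁.prod S₂ := Subgroup.prod_mono hQ₁ hQ₂
  refine ⟨hQS, ?_⟩
  have : Finite ↥(F₁.autGroup Q₁) := Cfsg.Agent.Lib.helper89.finite_autGroup F₁ hQ₁
  have : Finite ↥(F₂.autGroup Q₂) := Cfsg.Agent.Lib.helper89.finite_autGroup F₂ hQ₂
  obtain ⟨R, hR⟩ := exists_sylow_prod R₁ R₂
  refine sylowIn_map_range ((prodAut Q₁ Q₂).comp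
    (MonoidHom.prodMap (F₁.autGroup Q₁).subtype (F₂.autGroup Q₂).subtype)) _ _ _ ?_ ?_ R hR
  · ext γ
    constructor
    · intro hγ
      obtain ⟨α₁, hα₁, α₂, hα₂, rfl⟩ := exists_components_of_mem_autGroup hE hQ₁ hQ₂ hγ
      exact ⟨(⟨α₁, hα₁⟩, ⟨α₂, hα₂⟩), rfl⟩
    · rintro ⟨⟨a₁, a₂⟩, rfl⟩
      exact prodAut_mem_autGroup hE hQ₁ hQ₂ a₁.2 a₂.2
  · ext γ
    constructor
    · intro hγ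
      obtain ⟨g, hg, hgγ⟩ := (Cfsg.Agent.Lib.helper89.mem_autInducedBy_iff _ _ _).mp hγ
      obtain ⟨α₁, hα₁, α₂, hα₂, rfl⟩ := exists_components_of_mem_autGroup hE hQ₁ hQ₂
        (Cfsg.Agent.Lib.helper89.autInducedBy_le_autGroup E hQS hγ)
      refine ⟨(⟨α₁, hα₁⟩, ⟨α₂, hα₂⟩), ⟨?_, ?_⟩, rfl⟩
      · show (⟨α₁, hα₁⟩ : ↥(F₁.autGroup Q₁)) ∈ (R₁ : Subgroup ↥(F₁.autGroup Q₁))
        rw [hR₁, Subgroup.mem_subgroupOf]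
        refine (Cfsg.Agent.Lib.helper89.mem_autInducedBy_iff S₁ Q₁ α₁).mpr ⟨g.1, hg.1, fun x => ?_⟩
        exact congrArg Prod.fst (hgγ ⟨((x : Ω₁), (1 : Ω₂)), ⟨x.2, Q₂.one_mem⟩⟩)
      · show (⟨α₂, hα₂⟩ : ↥(F₂.autGroup Q₂)) ∈ (R₂ : Subgroup ↥(F₂.autGroup Q₂))
        rw [hR₂, Subgroup.mem_subgroupOf]
        refine (Cfsg.Agent.Lib.helper89.mem_autInducedBy_iff S₂ Q₂ α₂).mpr ⟨g.2, hg.2, fun x => ?_⟩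
        exact congrArg Prod.snd (hgγ ⟨((1 : Ω₁), (x : Ω₂)), ⟨Q₁.one_mem, x.2⟩⟩)
    · rintro ⟨⟨a₁, a₂⟩, ⟨ha₁, ha₂⟩, rfl⟩
      have ha₁' : a₁ ∈ (R₁ : Subgroup ↥(F₁.autGroup Q₁)) := ha₁
      have ha₂' : a₂ ∈ (R₂ : Subgroup ↥(F₂.autGroup Q₂)) := ha₂
      rw [hR₁, Subgroup.mem_subgroupOf] at ha₁'
      rw [hR₂, Subgroup.mem_subgroupOf] at ha₂'
      obtain ⟨g₁, hg₁, hga₁⟩ := (Cfsg.Agent.Lib.helper89.mem_autInducedBy_iff _ _ _).mp ha₁'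
      obtain ⟨g₂, hg₂, hga₂⟩ := (Cfsg.Agent.Lib.helper89.mem_autInducedBy_iff _ _ _).mp ha₂'
      exact (Cfsg.Agent.Lib.helper89.mem_autInducedBy_iff _ _ _).mpr
        ⟨(g₁, g₂), ⟨hg₁, hg₂⟩, fun x => Prod.ext (hga₁ _) (hga₂ _)⟩

/-- A subgroup of `S₁ × S₂` whose projections are receptive is receptive in the product system. -/
theorem prod_receptive (hE : FusionSystem.IsProductSystem F₁ F₂ E) {P : Subgroup (Ω₁ × Ω₂)}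
    (hP : P ≤ S₁.prod S₂) (h1 : F₁.IsReceptive (P.map (MonoidHom.fst Ω₁ Ω₂)))
    (h2 : F₂.IsReceptive (P.map (MonoidHom.snd Ω₁ Ω₂))) : E.IsReceptive P := by
  refine ⟨hP, fun R φ hφ hr => ?_⟩
  obtain ⟨hR, φ₁, hφ₁, φ₂, hφ₂, heq⟩ := (hE R φ).mp hφ
  have hr₁ : φ₁.range = P.map (MonoidHom.fst Ω₁ Ω₂) := by
    ext y
    constructor
    · rintro ⟨⟨_, x, hx, rfl⟩, rfl⟩
      refine ⟨φ ⟨x, hx⟩, hr ▸ ⟨⟨x, hx⟩, rfl⟩, ?_⟩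
      exact congrArg Prod.fst (heq ⟨x, hx⟩ ⟨x, hx, rfl⟩ ⟨x, hx, rfl⟩)
    · rintro ⟨z, hz, rfl⟩
      rw [← hr] at hz
      obtain ⟨x, rfl⟩ := hz
      exact ⟨⟨_, x, x.2, rfl⟩, (congrArg Prod.fst (heq x ⟨x, x.2, rfl⟩ ⟨x, x.2, rfl⟩)).symm⟩
  have hr₂ : φ₂.range = P.map (MonoidHom.snd Ω₁ Ω₂) := by
    ext y
    constructor
    · rintro ⟨⟨_, x, hx, rfl⟩, rfl⟩
      refine ⟨φ ⟨x, hx⟩, hr ▸ ⟨⟨x, hx⟩, rfl⟩, ?_⟩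
      exact congrArg Prod.snd (heq ⟨x, hx⟩ ⟨x, hx, rfl⟩ ⟨x, hx, rfl⟩)
    · rintro ⟨z, hz, rfl⟩
      rw [← hr] at hz
      obtain ⟨x, rfl⟩ := hz
      exact ⟨⟨_, x, x.2, rfl⟩, (congrArg Prod.snd (heq x ⟨x, x.2, rfl⟩ ⟨x, x.2, rfl⟩)).symm⟩
  obtain ⟨ψ₁, hψ₁, hψ₁eq⟩ := h1.2 _ φ₁ hφ₁ hr₁
  obtain ⟨ψ₂, hψ₂, hψ₂eq⟩ := h2.2 _ φ₂ hφ₂ hr₂
  have hN₁ : (FusionSystem.extender (S₁.prod S₂) R φ).map (MonoidHom.fst Ω₁ Ω₂) ≤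
      FusionSystem.extender S₁ (R.map (MonoidHom.fst Ω₁ Ω₂)) φ₁ := by
    rw [Subgroup.map_le_iff_le_comap]
    refine (Subgroup.closure_le _).mpr ?_
    rintro g ⟨hgS, hgN, h, hhS, hh⟩
    apply Subgroup.subset_closure
    refine ⟨hgS.1, Subgroup.le_normalizer_map _ ⟨g, hgN, rfl⟩, h.1, hhS.1, ?_⟩
    rintro ⟨_, x, hx, rfl⟩ hy
    have hx' : g * x * g⁻¹ ∈ R := (Subgroup.mem_normalizer_iff.mp hgN x).mp hx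
    have e := hh ⟨x, hx⟩ hx'
    rw [heq ⟨g * x * g⁻¹, hx'⟩ ⟨_, hx', rfl⟩ ⟨_, hx', rfl⟩, heq ⟨x, hx⟩ ⟨_, hx, rfl⟩ ⟨_, hx, rfl⟩] at e
    exact congrArg Prod.fst e
  have hN₂ : (FusionSystem.extender (S₁.prod S₂) R φ).map (MonoidHom.snd Ω₁ Ω₂) ≤
      FusionSystem.extender S₂ (R.map (MonoidHom.snd Ω₁ Ω₂)) φ₂ := by
    rw [Subgroup.map_le_iff_le_comap]
    refine (Subgroup.closure_le _).mpr ?_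
    rintro g ⟨hgS, hgN, h, hhS, hh⟩
    apply Subgroup.subset_closure
    refine ⟨hgS.2, Subgroup.le_normalizer_map _ ⟨g, hgN, rfl⟩, h.2, hhS.2, ?_⟩
    rintro ⟨_, x, hx, rfl⟩ hy
    have hx' : g * x * g⁻¹ ∈ R := (Subgroup.mem_normalizer_iff.mp hgN x).mp hx
    have e := hh ⟨x, hx⟩ hx'
    rw [heq ⟨g * x * g⁻¹, hx'⟩ ⟨_, hx', rfl⟩ ⟨_, hx', rfl⟩, heq ⟨x, hx⟩ ⟨_, hx, rfl⟩ ⟨_, hx, rfl⟩] at e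
    exact congrArg Prod.snd e
  have hNS : FusionSystem.extender (S₁.prod S₂) R φ ≤ S₁.prod S₂ :=
    (Cfsg.Agent.Lib.helper88.extender_le_normalizerIn _ _ _).trans inf_le_left
  refine ⟨MonoidHom.prod
      ((ψ₁.comp (Subgroup.inclusion hN₁)).comp
        ((MonoidHom.fst Ω₁ Ω₂).subgroupMap (FusionSystem.extender (S₁.prod S₂) R φ)))
      ((ψ₂.comp (Subgroup.inclusion hN₂)).comp
        ((MonoidHom.snd Ω₁ Ω₂).subgroupMap (FusionSystem.extender (S₁.prod S₂) R φ))),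
    (hE _ _).mpr ⟨hNS, _, hom_comp_inclusion F₁ hψ₁ hN₁, _, hom_comp_inclusion F₂ hψ₂ hN₂,
      fun x h₁ h₂ => rfl⟩, ?_⟩
  intro x hxR hxN
  rw [heq ⟨x, hxR⟩ ⟨_, hxR, rfl⟩ ⟨_, hxR, rfl⟩]
  exact Prod.ext (hψ₁eq x.1 ⟨x, hxR, rfl⟩ (hN₁ ⟨x, hxN, rfl⟩))
    (hψ₂eq x.2 ⟨x, hxR, rfl⟩ (hN₂ ⟨x, hxN, rfl⟩))

/-- The projections of the image of `P` under an automorphism of `Q₁ × Q₂` in the product system. -/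
theorem prod_imgAut_proj [Finite S₁] [Finite S₂] (hE : FusionSystem.IsProductSystem F₁ F₂ E)
    {Q₁ : Subgroup Ω₁} {Q₂ : Subgroup Ω₂} (hQ₁ : Q₁ ≤ S₁) (hQ₂ : Q₂ ≤ S₂) {P : Subgroup (Ω₁ × Ω₂)}
    (hPQ : P ≤ Q₁.prod Q₂) (hP₁ : P.map (MonoidHom.fst Ω₁ Ω₂) = Q₁)
    (hP₂ : P.map (MonoidHom.snd Ω₁ Ω₂) = Q₂) {α : MulAut ↥(Q₁.prod Q₂)}
    (hα : α ∈ E.autGroup (Q₁.prod Q₂)) :
    (imgAut (Q₁.prod Q₂) P α).map (MonoidHom.fst Ω₁ Ω₂) = Q₁ ∧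
      (imgAut (Q₁.prod Q₂) P α).map (MonoidHom.snd Ω₁ Ω₂) = Q₂ := by
  obtain ⟨α₁, hα₁, α₂, hα₂, rfl⟩ := exists_components_of_mem_autGroup hE hQ₁ hQ₂ hα
  constructor
  · apply le_antisymm
    · exact map_fst_le_of_le_prod (imgAut_le _ _ _)
    · intro y hy
      have hw : ((α₁.symm ⟨y, hy⟩ : Q₁) : Ω₁) ∈ P.map (MonoidHom.fst Ω₁ Ω₂) := by
        rw [hP₁]
        exact (α₁.symm ⟨y, hy⟩).2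
      obtain ⟨x, hx, hxw⟩ := hw
      refine ⟨_, mem_imgAut.mpr ⟨⟨x, hPQ hx⟩, hx, rfl⟩, ?_⟩
      rw [prodAut_apply]
      show ((α₁ ⟨x.1, _⟩ : Q₁) : Ω₁) = y
      have h3 : (⟨x.1, (hPQ hx).1⟩ : Q₁) = α₁.symm ⟨y, hy⟩ := Subtype.ext hxw
      rw [h3, MulEquiv.apply_symm_apply]
  · apply le_antisymm
    · exact map_snd_le_of_le_prod (imgAut_le _ _ _)
    · intro y hy
      have hw : ((α₂.symm ⟨y, hy⟩ : Q₂) : Ω₂) ∈ P.map (MonoidHom.snd Ω₁ Ω₂) := by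
        rw [hP₂]
        exact (α₂.symm ⟨y, hy⟩).2
      obtain ⟨x, hx, hxw⟩ := hw
      refine ⟨_, mem_imgAut.mpr ⟨⟨x, hPQ hx⟩, hx, rfl⟩, ?_⟩
      rw [prodAut_apply]
      show ((α₂ ⟨x.2, _⟩ : Q₂) : Ω₂) = y
      have h3 : (⟨x.2, (hPQ hx).2⟩ : Q₂) = α₂.symm ⟨y, hy⟩ := Subtype.ext hxw
      rw [h3, MulEquiv.apply_symm_apply]

/-- Automorphisms (in the product system) of a subgroup with projections `Q₁`, `Q₂` extend to `Q₁ × Q₂`. -/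
theorem prod_exists_ext [Finite S₁] [Finite S₂] (hE : FusionSystem.IsProductSystem F₁ F₂ E)
    {Q₁ : Subgroup Ω₁} {Q₂ : Subgroup Ω₂} (hQ₁ : Q₁ ≤ S₁) (hQ₂ : Q₂ ≤ S₂) {P : Subgroup (Ω₁ × Ω₂)}
    (hPQ : P ≤ Q₁.prod Q₂) (hP₁ : P.map (MonoidHom.fst Ω₁ Ω₂) = Q₁)
    (hP₂ : P.map (MonoidHom.snd Ω₁ Ω₂) = Q₂) (γ : MulAut P) (hγ : γ ∈ E.autGroup P) :
    ∃ γ' ∈ E.autGroup (Q₁.prod Q₂), ∀ (x : ↥(Q₁.prod Q₂)) (hx : (x : Ω₁ × Ω₂) ∈ P),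
      ((γ' x : ↥(Q₁.prod Q₂)) : Ω₁ × Ω₂) = γ ⟨x, hx⟩ := by
  have hQS : Q₁.prod Q₂ ≤ S₁.prod S₂ := Subgroup.prod_mono hQ₁ hQ₂
  have hPS : P ≤ S₁.prod S₂ := hPQ.trans hQS
  have : Finite ↥(S₁.prod S₂) := Finite.of_equiv _ (Subgroup.prodEquiv S₁ S₂).symm.toEquiv
  obtain ⟨-, φ₁, hφ₁, φ₂, hφ₂, heq⟩ :=
    (hE _ _).mp ((Cfsg.Agent.Lib.helper89.mem_autGroup_iff E hPS γ).mp hγ)
  have hle₁ : (Q₁.prod Q₂).map (MonoidHom.fst Ω₁ Ω₂) ≤ P.map (MonoidHom.fst Ω₁ Ω₂) := by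
    rw [hP₁]
    exact map_fst_le_of_le_prod le_rfl
  have hle₂ : (Q₁.prod Q₂).map (MonoidHom.snd Ω₁ Ω₂) ≤ P.map (MonoidHom.snd Ω₁ Ω₂) := by
    rw [hP₂]
    exact map_snd_le_of_le_prod le_rfl
  have ha : MonoidHom.prod
      ((φ₁.comp (Subgroup.inclusion hle₁)).comp ((MonoidHom.fst Ω₁ Ω₂).subgroupMap (Q₁.prod Q₂)))
      ((φ₂.comp (Subgroup.inclusion hle₂)).comp ((MonoidHom.snd Ω₁ Ω₂).subgroupMap (Q₁.prod Q₂)))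
        ∈ E.Hom (Q₁.prod Q₂) :=
    (hE _ _).mpr ⟨hQS, _, hom_comp_inclusion F₁ hφ₁ hle₁, _, hom_comp_inclusion F₂ hφ₂ hle₂,
      fun x h₁ h₂ => rfl⟩
  have hφ₁Q : ∀ z : ↥(P.map (MonoidHom.fst Ω₁ Ω₂)), φ₁ z ∈ Q₁ := by
    rintro ⟨_, w, hw, rfl⟩
    have h' := congrArg Prod.fst (heq ⟨w, hw⟩ ⟨w, hw, rfl⟩ ⟨w, hw, rfl⟩)
    have h2 : ((γ ⟨w, hw⟩ : P) : Ω₁ × Ω₂).1 ∈ Q₁ := (hPQ (γ ⟨w, hw⟩).2).1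
    have h3 : φ₁ ⟨(MonoidHom.fst Ω₁ Ω₂) w, ⟨w, hw, rfl⟩⟩ = ((γ ⟨w, hw⟩ : P) : Ω₁ × Ω₂).1 := h'.symm
    rw [h3]
    exact h2
  have hφ₂Q : ∀ z : ↥(P.map (MonoidHom.snd Ω₁ Ω₂)), φ₂ z ∈ Q₂ := by
    rintro ⟨_, w, hw, rfl⟩
    have h' := congrArg Prod.snd (heq ⟨w, hw⟩ ⟨w, hw, rfl⟩ ⟨w, hw, rfl⟩)
    have h2 : ((γ ⟨w, hw⟩ : P) : Ω₁ × Ω₂).2 ∈ Q₂ := (hPQ (γ ⟨w, hw⟩).2).2
    have h3 : φ₂ ⟨(MonoidHom.snd Ω₁ Ω₂) w, ⟨w, hw, rfl⟩⟩ = ((γ ⟨w, hw⟩ : P) : Ω₁ × Ω₂).2 := h'.symm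
    rw [h3]
    exact h2
  obtain ⟨γ', hγ'⟩ := Cfsg.Agent.Lib.helper89.exists_aut_of_mem E ha
    (fun x => ⟨hφ₁Q _, hφ₂Q _⟩)
  refine ⟨γ', (Cfsg.Agent.Lib.helper89.mem_autGroup_iff E hQS γ').mpr ?_, ?_⟩
  · have h3 : (Q₁.prod Q₂).subtype.comp γ'.toMonoidHom = MonoidHom.prod
        ((φ₁.comp (Subgroup.inclusion hle₁)).comp ((MonoidHom.fst Ω₁ Ω₂).subgroupMap (Q₁.prod Q₂)))
        ((φ₂.comp (Subgroup.inclusion hle₂)).comp ((MonoidHom.snd Ω₁ Ω₂).subgroupMap (Q₁.prod Q₂))) :=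
      MonoidHom.ext fun x => hγ' x
    rw [h3]
    exact ha
  · intro x hx
    rw [hγ' x]
    exact (heq ⟨x, hx⟩ ⟨_, hx, rfl⟩ ⟨_, hx, rfl⟩).symm

theorem prod_normalizer {Q₁ : Subgroup Ω₁} {Q₂ : Subgroup Ω₂} {P : Subgroup (Ω₁ × Ω₂)}
    (hP₁ : P.map (MonoidHom.fst Ω₁ Ω₂) = Q₁) (hP₂ : P.map (MonoidHom.snd Ω₁ Ω₂) = Q₂)
    {g : Ω₁ × Ω₂} (hg : g ∈ Subgroup.normalizer (P : Set (Ω₁ × Ω₂))) :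
    g ∈ Subgroup.normalizer ((Q₁.prod Q₂ : Subgroup (Ω₁ × Ω₂)) : Set (Ω₁ × Ω₂)) := by
  have h1 : g.1 ∈ Subgroup.normalizer (Q₁ : Set Ω₁) := by
    rw [← hP₁]
    exact Subgroup.le_normalizer_map _ ⟨g, hg, rfl⟩
  have h2 : g.2 ∈ Subgroup.normalizer (Q₂ : Set Ω₂) := by
    rw [← hP₂]
    exact Subgroup.le_normalizer_map _ ⟨g, hg, rfl⟩
  rw [Subgroup.mem_normalizer_iff] at h1 h2 ⊢
  intro y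
  rw [Subgroup.mem_prod, Subgroup.mem_prod]
  exact and_congr (h1 y.1) (h2 y.2)

/-- The product of two saturated fusion systems is saturated. -/
theorem product_saturated [Finite S₁] [Finite S₂] {p : ℕ} [Fact p.Prime]
    (hF₁ : F₁.IsSaturated p) (hF₂ : F₂.IsSaturated p)
    (hE : FusionSystem.IsProductSystem F₁ F₂ E) : E.IsSaturated p := by
  intro P hP
  have : Finite ↥(S₁.prod S₂) := Finite.of_equiv _ (Subgroup.prodEquiv S₁ S₂).symm.toEquiv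
  obtain ⟨Q₁, ⟨φ₁, hφ₁, hr₁⟩, hfa₁, hrec₁⟩ := hF₁ _ (map_fst_le_of_le_prod hP)
  obtain ⟨Q₂, ⟨φ₂, hφ₂, hr₂⟩, hfa₂, hrec₂⟩ := hF₂ _ (map_snd_le_of_le_prod hP)
  have hQ₁ : Q₁ ≤ S₁ := hfa₁.1
  have hQ₂ : Q₂ ≤ S₂ := hfa₂.1
  have hQS : Q₁.prod Q₂ ≤ S₁.prod S₂ := Subgroup.prod_mono hQ₁ hQ₂
  have hφ : MonoidHom.prod (φ₁.comp ((MonoidHom.fst Ω₁ Ω₂).subgroupMap P))
      (φ₂.comp ((MonoidHom.snd Ω₁ Ω₂).subgroupMap P)) ∈ E.Hom P :=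
    (hE _ _).mpr ⟨hP, φ₁, hφ₁, φ₂, hφ₂, fun x h₁ h₂ => rfl⟩
  obtain ⟨φ, hφdef⟩ : ∃ φ : P →* Ω₁ × Ω₂, φ = MonoidHom.prod (φ₁.comp ((MonoidHom.fst Ω₁ Ω₂).subgroupMap P))
      (φ₂.comp ((MonoidHom.snd Ω₁ Ω₂).subgroupMap P)) := ⟨_, rfl⟩
  rw [← hφdef] at hφ
  have hφx : ∀ x : P, φ x = (φ₁ ⟨(x : Ω₁ × Ω₂).1, ⟨x, x.2, rfl⟩⟩, φ₂ ⟨(x : Ω₁ × Ω₂).2, ⟨x, x.2, rfl⟩⟩) := by
    intro x
    rw [hφdef]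
    rfl
  have hP'1 : φ.range.map (MonoidHom.fst Ω₁ Ω₂) = Q₁ := by
    rw [← hr₁]
    ext y
    constructor
    · rintro ⟨_, ⟨x, rfl⟩, rfl⟩
      exact ⟨_, congrArg Prod.fst (hφx x).symm⟩
    · rintro ⟨⟨_, x, hx, rfl⟩, rfl⟩
      exact ⟨φ ⟨x, hx⟩, ⟨_, rfl⟩, congrArg Prod.fst (hφx ⟨x, hx⟩)⟩
  have hP'2 : φ.range.map (MonoidHom.snd Ω₁ Ω₂) = Q₂ := by
    rw [← hr₂]
    ext y
    constructor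
    · rintro ⟨_, ⟨x, rfl⟩, rfl⟩
      exact ⟨_, congrArg Prod.snd (hφx x).symm⟩
    · rintro ⟨⟨_, x, hx, rfl⟩, rfl⟩
      exact ⟨φ ⟨x, hx⟩, ⟨_, rfl⟩, congrArg Prod.snd (hφx ⟨x, hx⟩)⟩
  have hP'le : φ.range ≤ Q₁.prod Q₂ := by
    rintro _ ⟨x, rfl⟩
    rw [hφx x]
    exact ⟨hr₁ ▸ ⟨_, rfl⟩, hr₂ ▸ ⟨_, rfl⟩⟩
  have hfa : E.IsFullyAutomized p (Q₁.prod Q₂) := prod_fullyAutomized hE hfa₁ hfa₂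
  obtain ⟨α, hα, hfa'⟩ := exists_fullyAutomized_imgAut E p hfa
    (fun P' => P' ≤ Q₁.prod Q₂ ∧ P'.map (MonoidHom.fst Ω₁ Ω₂) = Q₁ ∧ P'.map (MonoidHom.snd Ω₁ Ω₂) = Q₂)
    (fun P' h => h.1)
    (fun P' h α hα => ⟨imgAut_le _ _ _, prod_imgAut_proj hE hQ₁ hQ₂ h.1 h.2.1 h.2.2 hα⟩)
    (fun P' h γ hγ => prod_exists_ext hE hQ₁ hQ₂ h.1 h.2.1 h.2.2 γ hγ)
    (fun P' h g _ hg => prod_normalizer h.2.1 h.2.2 hg)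
    (P := φ.range) ⟨hP'le, hP'1, hP'2⟩
  obtain ⟨hC1, hC2⟩ := prod_imgAut_proj hE hQ₁ hQ₂ hP'le hP'1 hP'2 hα
  refine ⟨imgAut (Q₁.prod Q₂) φ.range α, Cfsg.Agent.Lib.helper88.isConj_trans E ⟨φ, hφ, rfl⟩ ?_, hfa',
    prod_receptive hE hfa'.1 (by rw [hC1]; exact hrec₁) (by rw [hC2]; exact hrec₂)⟩
  refine ⟨((Q₁.prod Q₂).subtype.comp α.toMonoidHom).comp (Subgroup.inclusion hP'le),
    hom_comp_inclusion E ((Cfsg.Agent.Lib.helper89.mem_autGroup_iff E hQS α).mp hα) hP'le, ?_⟩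
  ext y
  rw [mem_imgAut]
  constructor
  · rintro ⟨x, rfl⟩
    exact ⟨⟨x, hP'le x.2⟩, x.2, rfl⟩
  · rintro ⟨x, hx, rfl⟩
    exact ⟨⟨x, hx⟩, rfl⟩

end Product

end Cfsg.Agent.Lib.helper87
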