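import Cfsg.Agent.Lib.helper87.SatReach
import Cfsg.Agent.Lib.helper89.FusionClosed

/-!
The preimage in `N_S(P)` of `O_p(Aut_F(P))`, its naturality, and a conjugation lemma inside the
automorphism group of a fully automized receptive subgroup with a well placed subgroup.
-/

set_option autoImplicit false

namespace Cfsg.Agent.Lib.helper87

open Cfsg
open Cfsg.FusionSystem (normalizerIn centralizerIn extender)

variable {Ω : Type*} [Group Ω] {S : Subgroup Ω}

/-- `O_p(Aut_F(P))` as a subgroup of `Aut(P)`. -/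
def opAut (F : FusionSystem S) (p : ℕ) (P : Subgroup Ω) : Subgroup (MulAut P) :=
  (Cfsg.pCore p ↥(F.autGroup P)).map (F.autGroup P).subtype

theorem opAut_le (F : FusionSystem S) (p : ℕ) (P : Subgroup Ω) : opAut F p P ≤ F.autGroup P := by
  rintro _ ⟨x, -, rfl⟩
  exact x.2

theorem isPGroup_opAut (F : FusionSystem S) (p : ℕ) [Fact p.Prime] (P : Subgroup Ω) :
    IsPGroup p ↥(opAut F p P) :=
  (Sylow.sSup_of_normal _ (fun _ h => h.2) (fun _ h => h.1)).map _

theorem conj_mem_opAut (F : FusionSystem S) (p : ℕ) {P : Subgroup Ω} {a o : MulAut P}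
    (ha : a ∈ F.autGroup P) (ho : o ∈ opAut F p P) : a * o * a⁻¹ ∈ opAut F p P := by
  obtain ⟨o', ho', rfl⟩ := ho
  have hn : (Cfsg.pCore p ↥(F.autGroup P)).Normal := Subgroup.sSup_normal _ (fun _ h => h.1)
  exact ⟨⟨a, ha⟩ * o' * ⟨a, ha⟩⁻¹, hn.conj_mem o' ho' ⟨a, ha⟩, rfl⟩

theorem le_opAut (F : FusionSystem S) (p : ℕ) {P : Subgroup Ω} {K : Subgroup (MulAut P)}
    (hK : K ≤ F.autGroup P) (hn : ∀ a ∈ F.autGroup P, ∀ k ∈ K, a * k * a⁻¹ ∈ K) (hp : IsPGroup p K) :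
    K ≤ opAut F p P := by
  have hnormal : (K.subgroupOf (F.autGroup P)).Normal := by
    refine ⟨fun k hk a => ?_⟩
    exact Subgroup.mem_subgroupOf.mpr (hn a a.2 k (Subgroup.mem_subgroupOf.mp hk))
  have hpg : IsPGroup p ↥(K.subgroupOf (F.autGroup P)) :=
    hp.of_equiv (Subgroup.subgroupOfEquivOfLe hK).symm
  have hle : K.subgroupOf (F.autGroup P) ≤ Cfsg.pCore p ↥(F.autGroup P) := le_sSup ⟨hnormal, hpg⟩
  intro k hk
  exact ⟨⟨k, hK hk⟩, hle (Subgroup.mem_subgroupOf.mpr hk), rfl⟩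

theorem congr_mem_opAut (F : FusionSystem S) (p : ℕ) [Fact p.Prime] {P P₂ : Subgroup Ω} {e : P ≃* P₂}
    (he : Cfsg.Agent.Lib.helper88.IsoEquiv F e) {o : MulAut P} (ho : o ∈ opAut F p P) :
    MulAut.congr e o ∈ opAut F p P₂ := by
  have hle : (opAut F p P).map (MulAut.congr e).toMonoidHom ≤ opAut F p P₂ := by
    refine le_opAut F p ?_ ?_ ((isPGroup_opAut F p P).map _)
    · rintro _ ⟨k, hk, rfl⟩
      exact he.congr_mem (opAut_le F p P hk)
    · rintro b hb _ ⟨k, hk, rfl⟩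
      have ha : MulAut.congr e.symm b ∈ F.autGroup P := he.symm.congr_mem hb
      refine ⟨MulAut.congr e.symm b * k * (MulAut.congr e.symm b)⁻¹, conj_mem_opAut F p ha hk, ?_⟩
      have h1 : MulAut.congr e (MulAut.congr e.symm b) = b := by
        ext x
        show ((e (e.symm (b (e (e.symm x)))) : P₂) : Ω) = b x
        rw [MulEquiv.apply_symm_apply, MulEquiv.apply_symm_apply]
      show MulAut.congr e (MulAut.congr e.symm b * k * (MulAut.congr e.symm b)⁻¹) = b * MulAut.congr e k * b⁻¹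
      rw [map_mul, map_mul, map_inv, h1]
  exact hle ⟨o, ho, rfl⟩

theorem conj_mem_opAut_of_mem [Finite S] (F : FusionSystem S) (p : ℕ) [Fact p.Prime] (hS : IsPGroup p S)
    {P : Subgroup Ω} (hP : P ≤ S) (g : P) : MulAut.conj g ∈ opAut F p P := by
  have hle : (MulAut.conj : P →* MulAut P).range ≤ opAut F p P := by
    refine le_opAut F p ?_ ?_ ?_
    · rintro _ ⟨h, rfl⟩
      apply Cfsg.Agent.Lib.helper89.autInducedBy_le_autGroup F hP
      exact (Cfsg.Agent.Lib.helper88.mem_autInducedBy_iff S P _).mpr ⟨h, hP h.2, fun x => rfl⟩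
    · rintro a - _ ⟨h, rfl⟩
      refine ⟨a h, ?_⟩
      ext x
      show (((a h) * x * (a h)⁻¹ : P) : Ω) = ((a (h * a⁻¹ x * h⁻¹) : P) : Ω)
      rw [map_mul, map_mul, map_inv, MulAut.apply_inv_self]
    · exact (hS.to_le hP).of_surjective (MulAut.conj : P →* MulAut P).rangeRestrict
        (MulAut.conj : P →* MulAut P).rangeRestrict_surjective
  exact hle ⟨g, rfl⟩

/-- The preimage in `N_S(P)` of `O_p(Aut_F(P))`. -/
def qp (F : FusionSystem S) (p : ℕ) (P : Subgroup Ω) : Subgroup Ω where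
  carrier := {g | g ∈ S ∧ g ∈ Subgroup.normalizer (P : Set Ω) ∧
    ∃ o ∈ opAut F p P, ∀ x : P, ((o x : P) : Ω) = g * x * g⁻¹}
  one_mem' := ⟨S.one_mem, Subgroup.one_mem _, 1, Subgroup.one_mem _, fun x => by simp⟩
  mul_mem' := by
    rintro a b ⟨ha, haN, oa, hoa, hoax⟩ ⟨hb, hbN, ob, hob, hobx⟩
    refine ⟨S.mul_mem ha hb, Subgroup.mul_mem _ haN hbN, oa * ob, Subgroup.mul_mem _ hoa hob,
      fun x => ?_⟩
    show ((oa (ob x) : P) : Ω) = a * b * x * (a * b)⁻¹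
    rw [hoax, hobx]
    group
  inv_mem' := by
    rintro a ⟨ha, haN, oa, hoa, hoax⟩
    refine ⟨S.inv_mem ha, Subgroup.inv_mem _ haN, oa⁻¹, Subgroup.inv_mem _ hoa, fun x => ?_⟩
    have h := hoax (oa⁻¹ x)
    rw [MulAut.apply_inv_self] at h
    rw [h]
    group

theorem mem_qp {F : FusionSystem S} {p : ℕ} {P : Subgroup Ω} {g : Ω} :
    g ∈ qp F p P ↔ g ∈ S ∧ g ∈ Subgroup.normalizer (P : Set Ω) ∧
      ∃ o ∈ opAut F p P, ∀ x : P, ((o x : P) : Ω) = g * x * g⁻¹ := Iff.rfl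

theorem qp_le_normalizerIn (F : FusionSystem S) (p : ℕ) (P : Subgroup Ω) :
    qp F p P ≤ normalizerIn S P := fun _ hg => ⟨hg.1, hg.2.1⟩

theorem le_qp [Finite S] (F : FusionSystem S) (p : ℕ) [Fact p.Prime] (hS : IsPGroup p S)
    {P : Subgroup Ω} (hP : P ≤ S) : P ≤ qp F p P := by
  intro g hg
  exact ⟨hP hg, Subgroup.le_normalizer hg, MulAut.conj (⟨g, hg⟩ : P),
    conj_mem_opAut_of_mem F p hS hP ⟨g, hg⟩, fun x => rfl⟩

theorem centralizerIn_le_qp (F : FusionSystem S) (p : ℕ) (P : Subgroup Ω) :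
    centralizerIn S P ≤ qp F p P := by
  intro g hg
  have hc : ∀ x ∈ P, x * g = g * x := Subgroup.mem_centralizer_iff.mp hg.2
  refine ⟨hg.1, ?_, 1, Subgroup.one_mem _, fun x => ?_⟩
  · rw [Subgroup.mem_normalizer_iff]
    intro h
    constructor
    · intro hh
      have h1 : g * h * g⁻¹ = h := by rw [← hc h hh, mul_inv_cancel_right]
      rw [h1]
      exact hh
    · intro hh
      have h2 := hc _ hh
      have h1 : h = g * h * g⁻¹ := by
        have h3 : g * h * g⁻¹ * g = g * (g * h * g⁻¹) := h2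
        have h4 : g * h = g * (g * h * g⁻¹) := by
          rw [← h3]
          group
        exact mul_left_cancel h4
      rw [h1]
      exact hh
  · show (x : Ω) = g * x * g⁻¹
    rw [← hc x x.2, mul_inv_cancel_right]

/-- Naturality of `qp` along maps of the system. -/
theorem apply_mem_qp (F : FusionSystem S) (p : ℕ) [Fact p.Prime] {M : Subgroup Ω} {ρ : M →* Ω}
    (hρ : ρ ∈ F.Hom M) {P : Subgroup Ω} (hPM : P ≤ M) {x : M} (hx : (x : Ω) ∈ qp F p P) :
    ρ x ∈ qp F p (imgOf ρ P) := by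
  obtain ⟨-, hxN, o, ho, hox⟩ := hx
  have hres : ρ.comp (Subgroup.inclusion hPM) ∈ F.Hom P := hom_comp_inclusion F hρ hPM
  have hrange : (ρ.comp (Subgroup.inclusion hPM)).range = imgOf ρ P := by
    rw [← imgOf_self, imgOf_restrict ρ hPM le_rfl]
  obtain ⟨e, he, hex⟩ := Cfsg.Agent.Lib.helper88.exists_isoEquiv F hres hrange
  refine ⟨(F.le_of_mem hρ).2 x, apply_mem_normalizer ρ hxN, MulAut.congr e o,
    congr_mem_opAut F p he ho, fun y => ?_⟩
  show ((e (o (e.symm y)) : ↥(imgOf ρ P)) : Ω) = ρ x * y * (ρ x)⁻¹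
  rw [hex]
  have h1 : (Subgroup.inclusion hPM (o (e.symm y)) : M) = x * Subgroup.inclusion hPM (e.symm y) * x⁻¹ :=
    Subtype.ext (hox (e.symm y))
  have h2 : ρ (Subgroup.inclusion hPM (e.symm y)) = (y : Ω) := by
    have h3 := hex (e.symm y)
    rw [MulEquiv.apply_symm_apply] at h3
    exact h3.symm
  show ρ (Subgroup.inclusion hPM (o (e.symm y))) = ρ x * y * (ρ x)⁻¹
  rw [h1, map_mul, map_mul, map_inv, h2]

theorem conj_mem_qp (F : FusionSystem S) (p : ℕ) {P : Subgroup Ω} (hP : P ≤ S) {n g : Ω}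
    (hn : n ∈ normalizerIn S P) (hg : g ∈ qp F p P) : n * g * n⁻¹ ∈ qp F p P := by
  obtain ⟨hgS, hgN, o, ho, hox⟩ := hg
  have hc : Cfsg.Agent.Lib.helper88.conjAut P n hn.2 ∈ F.autGroup P :=
    Cfsg.Agent.Lib.helper89.autInducedBy_le_autGroup F hP
      (Cfsg.Agent.Lib.helper88.conjAut_mem S P n hn.2 hn.1)
  refine ⟨S.mul_mem (S.mul_mem hn.1 hgS) (S.inv_mem hn.1),
    Subgroup.mul_mem _ (Subgroup.mul_mem _ hn.2 hgN) (Subgroup.inv_mem _ hn.2),
    Cfsg.Agent.Lib.helper88.conjAut P n hn.2 * o * (Cfsg.Agent.Lib.helper88.conjAut P n hn.2)⁻¹,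
    conj_mem_opAut F p hc ho, fun y => ?_⟩
  have h1 := Cfsg.Agent.Lib.helper88.conjAut_apply P n hn.2
    ((Cfsg.Agent.Lib.helper88.conjAut P n hn.2)⁻¹ y)
  rw [MulAut.apply_inv_self] at h1
  show ((Cfsg.Agent.Lib.helper88.conjAut P n hn.2
    (o ((Cfsg.Agent.Lib.helper88.conjAut P n hn.2)⁻¹ y)) : P) : Ω) = n * g * n⁻¹ * y * (n * g * n⁻¹)⁻¹
  rw [Cfsg.Agent.Lib.helper88.conjAut_apply, hox, h1]
  group

theorem normalizerIn_le_normalizerIn_qp (F : FusionSystem S) (p : ℕ) {P : Subgroup Ω} (hP : P ≤ S) :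
    normalizerIn S P ≤ normalizerIn S (qp F p P) := by
  intro n hn
  refine ⟨hn.1, ?_⟩
  show n ∈ Subgroup.normalizer ((qp F p P : Subgroup Ω) : Set Ω)
  rw [Subgroup.mem_normalizer_iff]
  intro g
  constructor
  · exact conj_mem_qp F p hP hn
  · intro hg
    have h1 := conj_mem_qp F p hP (Subgroup.inv_mem _ hn) hg
    have h2 : n⁻¹ * (n * g * n⁻¹) * n⁻¹⁻¹ = g := by group
    rw [h2] at h1
    exact h1

end Cfsg.Agent.Lib.helper87
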