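import Mathlib
import Cfsg.Agent.Lib.helper46.SL2NonSplit

/-!
# Counting elements of `SL₂(q)` in characteristic 3 by trace (tools for helper44's PIECE A)

* `card_trace`: the number of elements of `SL₂(K)` of trace `t` is `q (q - 1) + r q`, `r` the
  number of roots of `x (t - x) = 1` in `K`;
* `pow_iff_root`: for `t² ≠ 1` and a root `l` of `x (t - x) = 1` in an extension field, an element
  `s` of trace `t` has `s ^ k = 1` iff `l ^ k = 1`;
* `sl2_pow_cases`, `sl2_card_pow_six` (two of the four statements of PIECE A).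
-/

set_option autoImplicit false

namespace Cfsg.Agent.Lib.helper87

namespace ReeSL2

open Matrix

section Basic

variable {K : Type*} [Field K]

/-- the element `[[a, b], [c, d]]` of `SL₂` -/
def mk2 (a b c d : K) (h : a * d - b * c = 1) : Matrix.SpecialLinearGroup (Fin 2) K :=
  ⟨!![a, b; c, d], by rw [Matrix.det_fin_two_of]; exact h⟩

@[simp] theorem mk2_00 (a b c d : K) (h : a * d - b * c = 1) : (mk2 a b c d h).1 0 0 = a := rfl
@[simp] theorem mk2_01 (a b c d : K) (h : a * d - b * c = 1) : (mk2 a b c d h).1 0 1 = b := rfl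
@[simp] theorem mk2_10 (a b c d : K) (h : a * d - b * c = 1) : (mk2 a b c d h).1 1 0 = c := rfl
@[simp] theorem mk2_11 (a b c d : K) (h : a * d - b * c = 1) : (mk2 a b c d h).1 1 1 = d := rfl

/-- the trace of an element of `SL₂` -/
def tr2 (s : Matrix.SpecialLinearGroup (Fin 2) K) : K := s.1 0 0 + s.1 1 1

theorem det2 (s : Matrix.SpecialLinearGroup (Fin 2) K) :
    s.1 0 0 * s.1 1 1 - s.1 0 1 * s.1 1 0 = 1 := by
  have h := s.2
  rw [Matrix.det_fin_two] at h
  exact h

theorem ext2 {s s' : Matrix.SpecialLinearGroup (Fin 2) K} (h00 : s.1 0 0 = s'.1 0 0)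
    (h01 : s.1 0 1 = s'.1 0 1) (h10 : s.1 1 0 = s'.1 1 0) (h11 : s.1 1 1 = s'.1 1 1) : s = s' := by
  apply Subtype.ext
  ext i j
  fin_cases i <;> fin_cases j <;> assumption

theorem sl_pow_eq_one_iff (s : Matrix.SpecialLinearGroup (Fin 2) K) (k : ℕ) :
    s ^ k = 1 ↔ s.1 ^ k = 1 := by
  constructor
  · intro h
    have h1 := congrArg (fun x : Matrix.SpecialLinearGroup (Fin 2) K => x.1) h
    simpa using h1
  · intro h
    apply Subtype.ext
    rw [Matrix.SpecialLinearGroup.coe_pow, Matrix.SpecialLinearGroup.coe_one]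
    exact h

/-- the central element `-1` -/
def negOne : Matrix.SpecialLinearGroup (Fin 2) K := mk2 (-1) 0 0 (-1) (by ring)

theorem negOne_val : (negOne : Matrix.SpecialLinearGroup (Fin 2) K).1 = -1 := by
  ext i j
  fin_cases i <;> fin_cases j <;> simp [negOne, mk2]

theorem negOne_pow_even {n : ℕ} (hn : Even n) :
    (negOne : Matrix.SpecialLinearGroup (Fin 2) K) ^ n = 1 := by
  rw [sl_pow_eq_one_iff, negOne_val]
  exact hn.neg_one_pow

end Basic

section Count

variable {K : Type*} [Field K] [Fintype K] [DecidableEq K]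

theorem card_trace_ne (t : K) :
    (Finset.univ.filter (fun s : Matrix.SpecialLinearGroup (Fin 2) K =>
      tr2 s = t ∧ s.1 0 1 ≠ 0)).card = Fintype.card K * (Fintype.card K - 1) := by
  let g : K × Kˣ → Matrix.SpecialLinearGroup (Fin 2) K := fun p =>
    mk2 p.1 (p.2 : K) ((p.1 * (t - p.1) - 1) * ((p.2⁻¹ : Kˣ) : K)) (t - p.1) (by
      have h : (p.2 : K) * ((p.2⁻¹ : Kˣ) : K) = 1 := Units.mul_inv p.2
      linear_combination (-(p.1 * (t - p.1) - 1)) * h)
  have hinj : Function.Injective g := by
    intro p p' h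
    have h0 : (g p).1 0 0 = (g p').1 0 0 := by rw [h]
    have h1 : (g p).1 0 1 = (g p').1 0 1 := by rw [h]
    exact Prod.ext h0 (Units.ext h1)
  have himg : Finset.univ.filter (fun s : Matrix.SpecialLinearGroup (Fin 2) K =>
      tr2 s = t ∧ s.1 0 1 ≠ 0) = Finset.univ.image g := by
    ext s
    simp only [Finset.mem_filter, Finset.mem_univ, true_and, Finset.mem_image]
    constructor
    · rintro ⟨ht, hb⟩
      refine ⟨(s.1 0 0, Units.mk0 (s.1 0 1) hb), ?_⟩
      have hd := det2 s
      have ht' : s.1 1 1 = t - s.1 0 0 := by rw [← ht]; unfold tr2; ring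
      apply ext2
      · rfl
      · rfl
      · show (s.1 0 0 * (t - s.1 0 0) - 1) * (s.1 0 1)⁻¹ = s.1 1 0
        rw [mul_inv_eq_iff_eq_mul₀ hb]
        rw [ht'] at hd
        linear_combination hd
      · exact ht'.symm
    · rintro ⟨p, rfl⟩
      refine ⟨?_, ?_⟩
      · show p.1 + (t - p.1) = t
        ring
      · show (p.2 : K) ≠ 0
        exact p.2.ne_zero
  rw [himg, Finset.card_image_of_injective _ hinj, Finset.card_univ, Fintype.card_prod,
    Fintype.card_units]

theorem card_trace_eq (t : K) :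
    (Finset.univ.filter (fun s : Matrix.SpecialLinearGroup (Fin 2) K =>
      tr2 s = t ∧ s.1 0 1 = 0)).card =
      Fintype.card {a : K // a * (t - a) = 1} * Fintype.card K := by
  let g : {a : K // a * (t - a) = 1} × K → Matrix.SpecialLinearGroup (Fin 2) K := fun p =>
    mk2 p.1.1 0 p.2 (t - p.1.1) (by have h := p.1.2; linear_combination h)
  have hinj : Function.Injective g := by
    intro p p' h
    have h0 : (g p).1 0 0 = (g p').1 0 0 := by rw [h]
    have h1 : (g p).1 1 0 = (g p').1 1 0 := by rw [h]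
    exact Prod.ext (Subtype.ext h0) h1
  have himg : Finset.univ.filter (fun s : Matrix.SpecialLinearGroup (Fin 2) K =>
      tr2 s = t ∧ s.1 0 1 = 0) = Finset.univ.image g := by
    ext s
    simp only [Finset.mem_filter, Finset.mem_univ, true_and, Finset.mem_image]
    constructor
    · rintro ⟨ht, hb⟩
      have hd := det2 s
      have ht' : s.1 1 1 = t - s.1 0 0 := by rw [← ht]; unfold tr2; ring
      refine ⟨(⟨s.1 0 0, by rw [ht', hb] at hd; linear_combination hd⟩, s.1 1 0), ?_⟩
      apply ext2
      · rfl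
      · exact hb.symm
      · rfl
      · exact ht'.symm
    · rintro ⟨p, rfl⟩
      refine ⟨?_, rfl⟩
      show p.1.1 + (t - p.1.1) = t
      ring
  rw [himg, Finset.card_image_of_injective _ hinj, Finset.card_univ, Fintype.card_prod]

/-- the number of elements of `SL₂(K)` of trace `t` -/
theorem card_trace (t : K) :
    (Finset.univ.filter (fun s : Matrix.SpecialLinearGroup (Fin 2) K => tr2 s = t)).card =
      Fintype.card K * (Fintype.card K - 1) +
        Fintype.card {a : K // a * (t - a) = 1} * Fintype.card K := by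
  have h := Finset.card_filter_add_card_filter_not
    (s := Finset.univ.filter (fun s : Matrix.SpecialLinearGroup (Fin 2) K => tr2 s = t))
    (fun s => s.1 0 1 ≠ 0)
  rw [← h, ← card_trace_ne t, ← card_trace_eq t]
  congr 1
  · congr 1
    ext s
    simp
  · congr 1
    ext s
    simp

end Count

theorem three_eq_zero_of_alg (K : Type*) [Field K] [CharP K 3] (L : Type*) [Field L]
    [Algebra K L] : (3 : L) = 0 := by
  have h3 : (3 : K) = 0 := by exact_mod_cast CharP.cast_eq_zero K 3
  have h := congrArg (algebraMap K L) h3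
  rw [map_ofNat, map_zero] at h
  exact h

section Roots

variable {K : Type*} [Field K] [CharP K 3]

theorem three_eq_zero : (3 : K) = 0 := by exact_mod_cast CharP.cast_eq_zero K 3

theorem two_ne_zero' : (2 : K) ≠ 0 := by
  intro h
  have h3 := three_eq_zero (K := K)
  have : (1 : K) = 0 := by linear_combination h3 - h
  exact one_ne_zero this

theorem card_root_of_sq_eq_one [Fintype K] [DecidableEq K] {t : K} (ht : t ^ 2 = 1) :
    Fintype.card {a : K // a * (t - a) = 1} = 1 := by
  have h3 := three_eq_zero (K := K)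
  rw [Fintype.card_eq_one_iff]
  refine ⟨⟨-t, by linear_combination (-2) * ht - h3⟩, ?_⟩
  rintro ⟨a, ha⟩
  apply Subtype.ext
  have h : (a + t) ^ 2 = 0 := by linear_combination (-1) * ha + ht + (a * t) * h3
  exact eq_neg_of_add_eq_zero_left ((pow_eq_zero_iff two_ne_zero).mp h)

theorem root_ne_of_sq_ne_one {t : K} (ht : t ^ 2 ≠ 1) {a : K} (ha : a * (t - a) = 1) :
    a ≠ t - a := by
  intro h
  apply ht
  have h3 := three_eq_zero (K := K)
  have ht2 : t = 2 * a := by linear_combination (-1 : K) * h
  have ha2 : a ^ 2 = 1 := by rw [ht2] at ha; linear_combination ha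
  rw [ht2]
  linear_combination 4 * ha2 + h3

theorem card_root_of_exists [Fintype K] [DecidableEq K] {t : K} (ht : t ^ 2 ≠ 1) {a : K}
    (ha : a * (t - a) = 1) : Fintype.card {x : K // x * (t - x) = 1} = 2 := by
  rw [Fintype.card_subtype]
  have hset : (Finset.univ.filter (fun x : K => x * (t - x) = 1)) = {a, t - a} := by
    ext x
    simp only [Finset.mem_filter, Finset.mem_univ, true_and, Finset.mem_insert,
      Finset.mem_singleton]
    constructor
    · intro hx
      have h : (x - a) * (x - (t - a)) = 0 := by linear_combination ha - hx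
      rcases mul_eq_zero.mp h with h | h
      · left; exact sub_eq_zero.mp h
      · right; exact sub_eq_zero.mp h
    · rintro (rfl | rfl)
      · exact ha
      · linear_combination ha
  rw [hset, Finset.card_pair (root_ne_of_sq_ne_one ht ha)]

/-- a root `l` (in an extension) of `x (t - x) = 1` has `l² ≠ 1` when `t² ≠ 1` -/
theorem root_sq_ne_one {L : Type*} [Field L] [Algebra K L] {t : K} (ht : t ^ 2 ≠ 1) {l : L}
    (hl : l * (algebraMap K L t - l) = 1) : l ^ 2 ≠ 1 := by
  intro h
  apply ht
  have h3 := three_eq_zero_of_alg K L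
  have h1 : l * algebraMap K L t = 2 := by linear_combination hl + h
  have h2 : (algebraMap K L t) ^ 2 = 1 := by
    linear_combination (-(algebraMap K L t) ^ 2) * h + (l * algebraMap K L t + 2) * h1 + h3
  apply (algebraMap K L).injective
  rw [map_pow, h2, map_one]

theorem exists_root_closure (t : K) :
    ∃ l : AlgebraicClosure K, l * (algebraMap K (AlgebraicClosure K) t - l) = 1 := by
  have h2 : (2 : AlgebraicClosure K) ≠ 0 := by
    intro h
    have h3 := three_eq_zero_of_alg K (AlgebraicClosure K)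
    have : (1 : AlgebraicClosure K) = 0 := by linear_combination h3 - h
    exact one_ne_zero this
  obtain ⟨α, hα⟩ := Cfsg.Agent.Lib.helper46.exists_root_of_algClosed h2
    (algebraMap K (AlgebraicClosure K) t)
  exact ⟨α, by linear_combination -hα⟩

omit [CharP K 3] in
/-- Frobenius permutes the two roots -/
theorem root_frob [Fintype K] {L : Type*} [Field L] [Algebra K L] {t : K} {l : L}
    (hl : l * (algebraMap K L t - l) = 1) :
    l ^ Fintype.card K = l ∨ l ^ Fintype.card K = algebraMap K L t - l := by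
  have hq : (l * (algebraMap K L t - l)) ^ Fintype.card K = 1 := by rw [hl, one_pow]
  have h1 : (algebraMap K L t - l) ^ Fintype.card K = algebraMap K L t - l ^ Fintype.card K := by
    have h := Cfsg.Agent.Lib.helper46.add_pow_card (F := K) (algebraMap K L t - l) l
    rw [sub_add_cancel, ← map_pow, FiniteField.pow_card] at h
    linear_combination -h
  rw [mul_pow, h1] at hq
  have h : (l ^ Fintype.card K - l) * (l ^ Fintype.card K - (algebraMap K L t - l)) = 0 := by
    linear_combination hl - hq
  rcases mul_eq_zero.mp h with h | h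
  · left; exact sub_eq_zero.mp h
  · right; exact sub_eq_zero.mp h

omit [CharP K 3] in
theorem root_not_fixed [Fintype K] {L : Type*} [Field L] [Algebra K L] {t : K}
    (hno : ¬ ∃ a : K, a * (t - a) = 1) {l : L} (hl : l * (algebraMap K L t - l) = 1) :
    l ^ Fintype.card K ≠ l := by
  intro h
  obtain ⟨a, ha⟩ := Cfsg.Agent.Lib.helper46.mem_range_of_pow_card_eq (F := K) l h
  apply hno
  refine ⟨a, (algebraMap K L).injective ?_⟩
  rw [map_mul, map_sub, ha, map_one]
  exact hl

end Roots

section Power

variable {K : Type*} [Field K]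

theorem pow_eq_one_iff_of_root {L : Type*} [Field L] [Algebra K L]
    (M : Matrix (Fin 2) (Fin 2) K) (hdet : M.det = 1) (l : L)
    (hl : l * (algebraMap K L (M 0 0 + M 1 1) - l) = 1) (hne : l ^ 2 ≠ 1) (k : ℕ) :
    M ^ k = 1 ↔ l ^ k = 1 := by
  have hdet' : (M.map (algebraMap K L)).det = 1 := by
    have h1 := RingHom.map_det (algebraMap K L) M
    rw [hdet, map_one, RingHom.mapMatrix_apply] at h1
    exact h1.symm
  have hsum : l + (algebraMap K L (M 0 0 + M 1 1) - l) =
      (M.map (algebraMap K L)) 0 0 + (M.map (algebraMap K L)) 1 1 := by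
    rw [Matrix.map_apply, Matrix.map_apply, map_add]
    ring
  have hne' : l ≠ algebraMap K L (M 0 0 + M 1 1) - l := by
    intro h
    apply hne
    rw [← h] at hl
    rw [pow_two]
    exact hl
  have hpow : (M ^ k).map (algebraMap K L) = (M.map (algebraMap K L)) ^ k := by
    have h := map_pow (algebraMap K L).mapMatrix M k
    simpa only [RingHom.mapMatrix_apply] using h
  have hone : (1 : Matrix (Fin 2) (Fin 2) K).map (algebraMap K L) = 1 :=
    Matrix.map_one _ (map_zero _) (map_one _)
  constructor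
  · intro h
    have h1 : (M.map (algebraMap K L)) ^ k = (1 : L) • (1 : Matrix (Fin 2) (Fin 2) L) := by
      rw [← hpow, h, one_smul, hone]
    exact Cfsg.Agent.Lib.helper46.eigen_pow_of_pow_eq_smul (M.map (algebraMap K L)) hdet' l _
      hsum hl hne' k 1 h1
  · intro h
    have h2 : (algebraMap K L (M 0 0 + M 1 1) - l) ^ k = 1 := by
      have h3 : (l * (algebraMap K L (M 0 0 + M 1 1) - l)) ^ k = 1 := by rw [hl, one_pow]
      rw [mul_pow, h, one_mul] at h3
      exact h3
    have h1 := Cfsg.Agent.Lib.helper46.pow_eq_smul_of_eigen (M.map (algebraMap K L)) hdet' l _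
      hsum hl hne' k 1 h h2
    rw [one_smul, ← hpow, ← hone] at h1
    exact Matrix.map_injective (algebraMap K L).injective h1

theorem pow_six_of_sq [CharP K 3] (M : Matrix (Fin 2) (Fin 2) K) (hdet : M.det = 1)
    (ht : (M 0 0 + M 1 1) ^ 2 = 1) : M ^ 6 = 1 := by
  have h3 := three_eq_zero (K := K)
  have hfact : Fact (Nat.Prime 3) := ⟨Nat.prime_three⟩
  have h := Cfsg.Agent.Lib.helper46.pow_char_eq_of_trace 3 M hdet (-(M 0 0 + M 1 1))
    (by linear_combination ht) (by linear_combination (M 0 0 + M 1 1) * h3)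
  have h6 : M ^ 6 = (M ^ 3) ^ 2 := by rw [← pow_mul]
  have h1 : ((-(M 0 0 + M 1 1)) ^ 3) ^ 2 = 1 := by
    linear_combination ((M 0 0 + M 1 1) ^ 4 + (M 0 0 + M 1 1) ^ 2 + 1) * ht
  rw [h6, h, smul_pow, one_pow, h1, one_smul]

/-- elements of trace `t`, `t² ≠ 1`: powers are controlled by a root `l` of `x (t - x) = 1` -/
theorem pow_iff_root [CharP K 3] {L : Type*} [Field L] [Algebra K L] {t : K} (ht : t ^ 2 ≠ 1)
    {l : L} (hl : l * (algebraMap K L t - l) = 1) (s : Matrix.SpecialLinearGroup (Fin 2) K)
    (hs : tr2 s = t) (k : ℕ) : s ^ k = 1 ↔ l ^ k = 1 := by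
  rw [sl_pow_eq_one_iff]
  exact pow_eq_one_iff_of_root s.1 s.2 l (by rw [show s.1 0 0 + s.1 1 1 = t from hs]; exact hl)
    (root_sq_ne_one ht hl) k

theorem pow_six_iff [CharP K 3] (s : Matrix.SpecialLinearGroup (Fin 2) K) :
    s ^ 6 = 1 ↔ (tr2 s) ^ 2 = 1 := by
  constructor
  · intro h
    by_contra ht
    obtain ⟨l, hl⟩ := exists_root_closure (tr2 s)
    have hne := root_sq_ne_one ht hl
    have h6 : l ^ 6 = 1 := (pow_iff_root ht hl s rfl 6).mp h
    have h3 := three_eq_zero_of_alg K (AlgebraicClosure K)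
    have h0 : (l ^ 2 - 1) ^ 3 = 0 := by linear_combination h6 - (l ^ 4 - l ^ 2) * h3
    exact hne (sub_eq_zero.mp ((pow_eq_zero_iff (by norm_num)).mp h0))
  · intro ht
    rw [sl_pow_eq_one_iff]
    exact pow_six_of_sq s.1 s.2 ht

/-- a finite field of characteristic 3 has `6 j + 3` elements -/
theorem card_eq_six_mul_add [Fintype K] [CharP K 3] : ∃ j : ℕ, Fintype.card K = 6 * j + 3 := by
  obtain ⟨n, -, hn⟩ := FiniteField.card K 3
  obtain ⟨m, hm⟩ : ∃ m : ℕ, (n : ℕ) = m + 1 := ⟨(n : ℕ) - 1, (Nat.sub_add_cancel n.pos).symm⟩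
  have hodd : Odd (3 ^ m) := Odd.pow (by decide)
  obtain ⟨j, hj⟩ := hodd
  refine ⟨j, ?_⟩
  rw [hn, hm, pow_succ, hj]
  ring

theorem sq_eq_one_cases' [CharP K 3] (s : Matrix.SpecialLinearGroup (Fin 2) K) (h : s ^ 2 = 1) :
    s = 1 ∨ s = negOne := by
  rw [sl_pow_eq_one_iff, pow_two] at h
  rcases Cfsg.Agent.Lib.helper46.sq_eq_one_cases two_ne_zero' s.1 s.2 h with h1 | h1
  · left
    exact Subtype.ext h1
  · right
    apply Subtype.ext
    rw [negOne_val]
    exact h1

end Power

end ReeSL2

open ReeSL2 in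
theorem sl2_pow_cases {K : Type*} [Field K] [Fintype K] [CharP K 3] (s : Matrix.SpecialLinearGroup (Fin 2) K) : s ^ 6 = 1 ∨ s ^ (Fintype.card K - 1) = 1 ∨ s ^ (Fintype.card K + 1) = 1 := by
  by_cases ht : (tr2 s) ^ 2 = 1
  · left
    exact (pow_six_iff s).mpr ht
  · right
    obtain ⟨l, hl⟩ := exists_root_closure (tr2 s)
    have hl0 : l ≠ 0 := left_ne_zero_of_mul_eq_one hl
    rcases root_frob hl with h | h
    · left
      have hq : Fintype.card K = (Fintype.card K - 1) + 1 :=
        (Nat.sub_add_cancel Fintype.card_pos).symm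
      rw [hq, pow_succ] at h
      have h1 : l ^ (Fintype.card K - 1) = 1 := mul_right_cancel₀ hl0 (by rw [one_mul]; exact h)
      exact (pow_iff_root ht hl s rfl _).mpr h1
    · right
      have h1 : l ^ (Fintype.card K + 1) = 1 := by
        rw [pow_succ, h, mul_comm]
        exact hl
      exact (pow_iff_root ht hl s rfl _).mpr h1

namespace ReeSL2

theorem card_pow_six_core {K : Type*} [Field K] [Fintype K] [DecidableEq K] [CharP K 3] :
    (Finset.univ.filter (fun s : Matrix.SpecialLinearGroup (Fin 2) K => s ^ 6 = 1)).card =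
      2 * Fintype.card K ^ 2 := by
  have h3 := three_eq_zero (K := K)
  have hset : Finset.univ.filter (fun s : Matrix.SpecialLinearGroup (Fin 2) K => s ^ 6 = 1) =
      Finset.univ.filter (fun s : Matrix.SpecialLinearGroup (Fin 2) K => tr2 s = 1) ∪
        Finset.univ.filter (fun s : Matrix.SpecialLinearGroup (Fin 2) K => tr2 s = -1) := by
    ext s
    simp only [Finset.mem_filter, Finset.mem_univ, true_and, Finset.mem_union]
    rw [pow_six_iff]
    constructor
    · intro h
      have h' : (tr2 s - 1) * (tr2 s + 1) = 0 := by linear_combination h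
      rcases mul_eq_zero.mp h' with h' | h'
      · left; exact sub_eq_zero.mp h'
      · right; exact eq_neg_of_add_eq_zero_left h'
    · rintro (h | h) <;> rw [h] <;> ring
  have hdisj : Disjoint
      (Finset.univ.filter (fun s : Matrix.SpecialLinearGroup (Fin 2) K => tr2 s = 1))
      (Finset.univ.filter (fun s : Matrix.SpecialLinearGroup (Fin 2) K => tr2 s = -1)) := by
    rw [Finset.disjoint_filter]
    intro s _ h1 h2
    rw [h1] at h2
    have : (1 : K) = 0 := by linear_combination h3 - h2
    exact one_ne_zero this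
  rw [hset, Finset.card_union_of_disjoint hdisj, card_trace, card_trace,
    card_root_of_sq_eq_one (t := (1 : K)) (by ring),
    card_root_of_sq_eq_one (t := (-1 : K)) (by ring)]
  obtain ⟨n, hn⟩ : ∃ n, Fintype.card K = n + 1 :=
    ⟨_, (Nat.sub_add_cancel Fintype.card_pos).symm⟩
  rw [hn, Nat.add_sub_cancel]
  ring

end ReeSL2

open ReeSL2 in
theorem sl2_card_pow_six {K : Type*} [Field K] [Fintype K] [CharP K 3] : Nat.card {s : Matrix.SpecialLinearGroup (Fin 2) K // s ^ 6 = 1} = 2 * Fintype.card K ^ 2 := by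
  classical
  rw [Nat.subtype_card (Finset.univ.filter
    (fun s : Matrix.SpecialLinearGroup (Fin 2) K => s ^ 6 = 1)) (by simp)]
  convert card_pow_six_core (K := K)

end Cfsg.Agent.Lib.helper87
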