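import Mathlib
import Cfsg.Agent.Lib.helper87.ReeSL2A

/-!
# Split and nonsplit torus class counts in `SL₂(q)`, characteristic 3 (helper44's PIECE A, part 2)

`sl2_card_pow_split` and `sl2_card_pow_nonsplit`.
-/

set_option autoImplicit false

namespace Cfsg.Agent.Lib.helper87

namespace ReeSL2

open Matrix

section Split

variable {K : Type*} [Field K] [Fintype K] [DecidableEq K]

/-- elements whose trace lies in a set `T` of traces with constant number `r` of roots -/
theorem card_trace_mem (T : Finset K) (r : ℕ)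
    (hr : ∀ t ∈ T, Fintype.card {a : K // a * (t - a) = 1} = r) :
    (Finset.univ.filter (fun s : Matrix.SpecialLinearGroup (Fin 2) K => tr2 s ∈ T)).card =
      T.card * (Fintype.card K * (Fintype.card K - 1) + r * Fintype.card K) := by
  have H : ((Finset.univ.filter (fun s : Matrix.SpecialLinearGroup (Fin 2) K => tr2 s ∈ T) :
      Finset (Matrix.SpecialLinearGroup (Fin 2) K)) :
      Set (Matrix.SpecialLinearGroup (Fin 2) K)).MapsTo tr2 T := by
    intro s hs
    simpa using hs
  rw [Finset.card_eq_sum_card_fiberwise H]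
  apply Finset.sum_const_nat
  intro t ht
  have hset : (Finset.univ.filter (fun s : Matrix.SpecialLinearGroup (Fin 2) K =>
      tr2 s ∈ T)).filter (fun s => tr2 s = t) =
      Finset.univ.filter (fun s : Matrix.SpecialLinearGroup (Fin 2) K => tr2 s = t) := by
    ext s
    simp only [Finset.mem_filter, Finset.mem_univ, true_and]
    constructor
    · exact fun h => h.2
    · exact fun h => ⟨h ▸ ht, h⟩
  rw [hset, card_trace, hr t ht]

/-- the "split" traces -/
def splitTraces (K : Type*) [Field K] [Fintype K] [DecidableEq K] : Finset K :=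
  Finset.univ.filter (fun t : K => t ^ 2 ≠ 1 ∧ ∃ a : K, a * (t - a) = 1)

theorem mem_splitTraces {t : K} :
    t ∈ splitTraces K ↔ t ^ 2 ≠ 1 ∧ ∃ a : K, a * (t - a) = 1 := by
  simp [splitTraces]

variable [CharP K 3]

theorem two_mul_card_splitTraces : 2 * (splitTraces K).card = Fintype.card K - 3 := by
  have h3 := three_eq_zero (K := K)
  have hW : (Finset.univ.filter (fun a : K => a ≠ 0 ∧ a ^ 2 ≠ 1)).card = Fintype.card K - 3 := by
    have hset : Finset.univ.filter (fun a : K => a ≠ 0 ∧ a ^ 2 ≠ 1) =
        Finset.univ \ {0, 1, -1} := by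
      ext a
      simp only [Finset.mem_filter, Finset.mem_univ, true_and, Finset.mem_sdiff,
        Finset.mem_insert, Finset.mem_singleton]
      constructor
      · rintro ⟨h0, h1⟩ (h | h | h)
        · exact h0 h
        · exact h1 (by rw [h]; ring)
        · exact h1 (by rw [h]; ring)
      · intro h
        refine ⟨fun h0 => h (Or.inl h0), fun h1 => ?_⟩
        have h' : (a - 1) * (a + 1) = 0 := by linear_combination h1
        rcases mul_eq_zero.mp h' with h' | h'
        · exact h (Or.inr (Or.inl (sub_eq_zero.mp h')))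
        · exact h (Or.inr (Or.inr (eq_neg_of_add_eq_zero_left h')))
    have h01 : (0 : K) ≠ 1 := zero_ne_one
    have h0m : (0 : K) ≠ -1 := by
      intro h
      exact one_ne_zero (by linear_combination h : (1 : K) = 0)
    have h1m : (1 : K) ≠ -1 := by
      intro h
      exact one_ne_zero (by linear_combination h3 - h : (1 : K) = 0)
    have hc : ({0, 1, -1} : Finset K).card = 3 :=
      Finset.card_eq_three.mpr ⟨0, 1, -1, h01, h0m, h1m, rfl⟩
    rw [hset, Finset.card_sdiff_of_subset (Finset.subset_univ _), Finset.card_univ, hc]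
  have H : ((Finset.univ.filter (fun a : K => a ≠ 0 ∧ a ^ 2 ≠ 1) : Finset K) :
      Set K).MapsTo (fun a => a + a⁻¹) (splitTraces K) := by
    intro a ha
    simp only [Finset.coe_filter, Finset.mem_univ, true_and, Set.mem_ofPred_eq] at ha
    obtain ⟨ha0, ha2⟩ := ha
    rw [Finset.mem_coe, mem_splitTraces]
    have hab : a * a⁻¹ = 1 := mul_inv_cancel₀ ha0
    refine ⟨fun h => ha2 ?_, a, by rw [add_sub_cancel_left]; exact hab⟩
    have h' : (a + a⁻¹) ^ 2 = 1 := h
    have h0 : (a ^ 2 - 1) ^ 2 = 0 := by
      linear_combination a ^ 2 * h' - (2 * a ^ 2 + a * a⁻¹ + 1) * hab - a ^ 2 * h3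
    exact sub_eq_zero.mp ((pow_eq_zero_iff two_ne_zero).mp h0)
  have hfib : ∀ t ∈ splitTraces K, ((Finset.univ.filter (fun a : K => a ≠ 0 ∧ a ^ 2 ≠ 1)).filter
      (fun a => a + a⁻¹ = t)).card = 2 := by
    intro t ht
    obtain ⟨ht2, a, ha⟩ := mem_splitTraces.mp ht
    have hset : (Finset.univ.filter (fun a : K => a ≠ 0 ∧ a ^ 2 ≠ 1)).filter
        (fun a => a + a⁻¹ = t) = Finset.univ.filter (fun x : K => x * (t - x) = 1) := by
      ext x
      simp only [Finset.mem_filter, Finset.mem_univ, true_and]
      constructor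
      · rintro ⟨⟨hx0, -⟩, hx⟩
        rw [← hx, add_sub_cancel_left]
        exact mul_inv_cancel₀ hx0
      · intro hx
        have hx0 : x ≠ 0 := left_ne_zero_of_mul_eq_one hx
        have hx2 : x ^ 2 ≠ 1 := root_sq_ne_one (L := K) ht2 hx
        refine ⟨⟨hx0, hx2⟩, ?_⟩
        have hinv : x⁻¹ = t - x := (eq_inv_of_mul_eq_one_right hx).symm
        rw [hinv]
        ring
    rw [hset, ← Fintype.card_subtype]
    exact card_root_of_exists ht2 ha
  rw [← hW, Finset.card_eq_sum_card_fiberwise H, Finset.sum_const_nat hfib, mul_comm]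

theorem one_ne_negOne : (1 : Matrix.SpecialLinearGroup (Fin 2) K) ≠ negOne := by
  intro h
  have h3 := three_eq_zero (K := K)
  have h00 : (1 : Matrix.SpecialLinearGroup (Fin 2) K).1 0 0 =
      (negOne : Matrix.SpecialLinearGroup (Fin 2) K).1 0 0 := by rw [← h]
  have h1 : (1 : K) = -1 := by simpa [negOne] using h00
  exact one_ne_zero (by linear_combination h3 - h1 : (1 : K) = 0)

theorem tr_one_sq : (tr2 (1 : Matrix.SpecialLinearGroup (Fin 2) K)) ^ 2 = 1 :=
  (pow_six_iff _).mp (one_pow 6)

theorem tr_negOne_sq : (tr2 (negOne : Matrix.SpecialLinearGroup (Fin 2) K)) ^ 2 = 1 :=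
  (pow_six_iff _).mp (negOne_pow_even ⟨3, rfl⟩)

theorem card_pow_split_core (hq : 27 ≤ Fintype.card K) :
    2 * (Finset.univ.filter (fun s : Matrix.SpecialLinearGroup (Fin 2) K =>
      s ^ (Fintype.card K - 1) = 1)).card =
      4 + Fintype.card K * (Fintype.card K + 1) * (Fintype.card K - 3) := by
  have h3 := three_eq_zero (K := K)
  obtain ⟨j, hj⟩ := card_eq_six_mul_add (K := K)
  have hset : Finset.univ.filter (fun s : Matrix.SpecialLinearGroup (Fin 2) K =>
      s ^ (Fintype.card K - 1) = 1) = {1, negOne} ∪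
      Finset.univ.filter (fun s : Matrix.SpecialLinearGroup (Fin 2) K =>
        tr2 s ∈ splitTraces K) := by
    ext s
    simp only [Finset.mem_filter, Finset.mem_univ, true_and, Finset.mem_union,
      Finset.mem_insert, Finset.mem_singleton]
    constructor
    · intro h
      by_cases ht : (tr2 s) ^ 2 = 1
      · left
        have h6 : s ^ 6 = 1 := (pow_six_iff s).mpr ht
        apply sq_eq_one_cases'
        have e : Fintype.card K - 1 = 6 * j + 2 := by omega
        rw [e, pow_add, pow_mul, h6, one_pow, one_mul] at h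
        exact h
      · right
        rw [mem_splitTraces]
        refine ⟨ht, ?_⟩
        by_contra hno
        obtain ⟨l, hl⟩ := exists_root_closure (tr2 s)
        have h1 : l ^ (Fintype.card K - 1) = 1 := (pow_iff_root ht hl s rfl _).mp h
        apply root_not_fixed hno hl
        have hq' : l ^ Fintype.card K = l ^ (Fintype.card K - 1) * l := by
          rw [← pow_succ]
          congr 1
          omega
        rw [hq', h1, one_mul]
    · rintro ((rfl | rfl) | h)
      · exact one_pow _
      · apply negOne_pow_even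
        exact ⟨3 * j + 1, by omega⟩
      · obtain ⟨ht, a, ha⟩ := mem_splitTraces.mp h
        have ha0 : a ≠ 0 := left_ne_zero_of_mul_eq_one ha
        exact (pow_iff_root (L := K) ht ha s rfl _).mpr
          (FiniteField.pow_card_sub_one_eq_one a ha0)
  have hdisj : Disjoint ({1, negOne} : Finset (Matrix.SpecialLinearGroup (Fin 2) K))
      (Finset.univ.filter (fun s : Matrix.SpecialLinearGroup (Fin 2) K =>
        tr2 s ∈ splitTraces K)) := by
    rw [Finset.disjoint_left]
    intro s hs hs'
    have ht : (tr2 s) ^ 2 ≠ 1 := (mem_splitTraces.mp (Finset.mem_filter.mp hs').2).1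
    simp only [Finset.mem_insert, Finset.mem_singleton] at hs
    rcases hs with rfl | rfl
    · exact ht tr_one_sq
    · exact ht tr_negOne_sq
  rw [hset, Finset.card_union_of_disjoint hdisj, Finset.card_pair one_ne_negOne,
    card_trace_mem (splitTraces K) 2 (fun t ht => by
      obtain ⟨ht2, a, ha⟩ := mem_splitTraces.mp ht
      exact card_root_of_exists ht2 ha)]
  have hT := two_mul_card_splitTraces (K := K)
  obtain ⟨n, hn⟩ : ∃ n, Fintype.card K = n + 3 := ⟨Fintype.card K - 3, by omega⟩
  rw [hn] at hT ⊢
  have e1 : n + 3 - 3 = n := by omega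
  have e2 : n + 3 - 1 = n + 2 := by omega
  rw [e1] at hT
  rw [e1, e2, ← hT]
  ring

end Split

section NonSplit

variable {K : Type*} [Field K] [Fintype K] [CharP K 3]

theorem card_roots_unity (m : ℕ) (hm : ¬ 3 ∣ m) :
    (Polynomial.nthRootsFinset m (1 : AlgebraicClosure K)).card = m := by
  have : NeZero ((m : ℕ) : K) := ⟨by rw [Ne, CharP.cast_eq_zero_iff K 3]; exact hm⟩
  obtain ⟨ζ, hζ⟩ := HasEnoughRootsOfUnity.exists_primitiveRoot (AlgebraicClosure K) m
  exact hζ.card_nthRootsFinset

open Classical in
/-- the `m`-th roots of unity other than `±1` in the algebraic closure -/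
noncomputable def rootSet (K : Type*) [Field K] (m : ℕ) : Finset (AlgebraicClosure K) :=
  (Polynomial.nthRootsFinset m (1 : AlgebraicClosure K)).filter (fun l => ¬ l ^ 2 = 1)

theorem mem_rootSet {m : ℕ} (hpos : 0 < m) {l : AlgebraicClosure K} :
    l ∈ rootSet K m ↔ l ^ m = 1 ∧ ¬ l ^ 2 = 1 := by
  classical
  simp [rootSet, Polynomial.mem_nthRootsFinset hpos]

theorem card_rootSet (m : ℕ) (hm : ¬ 3 ∣ m) (hev : Even m) (hpos : 0 < m) :
    (rootSet K m).card = m - 2 := by
  classical
  have h3 := three_eq_zero_of_alg K (AlgebraicClosure K)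
  have hR := card_roots_unity (K := K) m hm
  have hne : (1 : AlgebraicClosure K) ≠ -1 := by
    intro h'
    exact one_ne_zero (by linear_combination h3 - h' : (1 : AlgebraicClosure K) = 0)
  have hsub : ({1, -1} : Finset (AlgebraicClosure K)) ⊆
      Polynomial.nthRootsFinset m (1 : AlgebraicClosure K) := by
    intro l hl
    simp only [Finset.mem_insert, Finset.mem_singleton] at hl
    rw [Polynomial.mem_nthRootsFinset hpos]
    rcases hl with rfl | rfl
    · exact one_pow _
    · exact hev.neg_one_pow
  have hset : rootSet K m =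
      Polynomial.nthRootsFinset m (1 : AlgebraicClosure K) \ {1, -1} := by
    ext l
    rw [mem_rootSet hpos, Finset.mem_sdiff, Polynomial.mem_nthRootsFinset hpos]
    simp only [Finset.mem_insert, Finset.mem_singleton]
    constructor
    · rintro ⟨h1, h2⟩
      refine ⟨h1, ?_⟩
      rintro (rfl | rfl)
      · exact h2 (one_pow _)
      · exact h2 (by ring)
    · rintro ⟨h1, h2⟩
      refine ⟨h1, fun h => h2 ?_⟩
      have h' : (l - 1) * (l + 1) = 0 := by linear_combination h
      rcases mul_eq_zero.mp h' with h' | h'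
      · left; exact sub_eq_zero.mp h'
      · right; exact eq_neg_of_add_eq_zero_left h'
  rw [hset, Finset.card_sdiff_of_subset hsub, hR, Finset.card_pair hne]

open Classical in
/-- the nonsplit traces whose roots have order dividing `m` -/
noncomputable def nsTraces (K : Type*) [Field K] [Fintype K] (m : ℕ) : Finset K :=
  Finset.univ.filter (fun t : K => t ^ 2 ≠ 1 ∧ (¬ ∃ a : K, a * (t - a) = 1) ∧
    ∃ l : AlgebraicClosure K, l * (algebraMap K (AlgebraicClosure K) t - l) = 1 ∧ l ^ m = 1)

theorem mem_nsTraces {m : ℕ} {t : K} :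
    t ∈ nsTraces K m ↔ t ^ 2 ≠ 1 ∧ (¬ ∃ a : K, a * (t - a) = 1) ∧
      ∃ l : AlgebraicClosure K, l * (algebraMap K (AlgebraicClosure K) t - l) = 1 ∧ l ^ m = 1 := by
  classical
  simp [nsTraces]

/-- `2 |nsTraces| = m - 2` when `2 m = q + 1` -/
theorem two_mul_card_nsTraces (m : ℕ) (hm : ¬ 3 ∣ m) (hev : Even m) (hpos : 0 < m)
    (hmq : 2 * m = Fintype.card K + 1) : 2 * (nsTraces K m).card = m - 2 := by
  classical
  have h3 := three_eq_zero_of_alg K (AlgebraicClosure K)
  rw [← card_rootSet (K := K) m hm hev hpos]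
  -- key facts about an element of the root set
  have key : ∀ l ∈ rootSet K m, l ≠ 0 ∧ l ^ Fintype.card K = l⁻¹ ∧
      ∃ t : K, algebraMap K (AlgebraicClosure K) t = l + l⁻¹ := by
    intro l hl
    obtain ⟨hlm, hl2⟩ := (mem_rootSet hpos).mp hl
    have hl0 : l ≠ 0 := by
      rintro rfl
      rw [zero_pow hpos.ne'] at hlm
      exact zero_ne_one hlm
    have hq1 : l ^ (Fintype.card K + 1) = 1 := by rw [← hmq, mul_comm, pow_mul, hlm, one_pow]
    have hq : l ^ Fintype.card K = l⁻¹ := by
      rw [pow_succ] at hq1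
      exact eq_inv_of_mul_eq_one_left hq1
    refine ⟨hl0, hq, ?_⟩
    apply Cfsg.Agent.Lib.helper46.mem_range_of_pow_card_eq (F := K)
    rw [Cfsg.Agent.Lib.helper46.add_pow_card (F := K), inv_pow, hq, inv_inv, add_comm]
  have H : ((rootSet K m : Finset (AlgebraicClosure K)) : Set (AlgebraicClosure K)).MapsTo
      (fun l => l + l⁻¹) ((nsTraces K m).image (algebraMap K (AlgebraicClosure K))) := by
    intro l hl
    have hl' : l ∈ rootSet K m := Finset.mem_coe.mp hl
    obtain ⟨hlm, hl2⟩ := (mem_rootSet hpos).mp hl'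
    obtain ⟨hl0, hq, t, ht⟩ := key l hl'
    rw [Finset.mem_coe, Finset.mem_image]
    refine ⟨t, ?_, ht⟩
    have hab : l * l⁻¹ = 1 := mul_inv_cancel₀ hl0
    have hroot : l * (algebraMap K (AlgebraicClosure K) t - l) = 1 := by
      rw [ht, add_sub_cancel_left]
      exact hab
    rw [mem_nsTraces]
    refine ⟨?_, ?_, l, hroot, hlm⟩
    · intro ht2
      apply hl2
      have ht2' : (l + l⁻¹) ^ 2 = 1 := by rw [← ht, ← map_pow, ht2, map_one]
      have h0 : (l ^ 2 - 1) ^ 2 = 0 := by
        linear_combination l ^ 2 * ht2' - (2 * l ^ 2 + l * l⁻¹ + 1) * hab - l ^ 2 * h3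
      exact sub_eq_zero.mp ((pow_eq_zero_iff two_ne_zero).mp h0)
    · intro hex
      have hfix := root_not_fixed (L := AlgebraicClosure K) (t := t)
      by_cases hno : ∃ a : K, a * (t - a) = 1
      · obtain ⟨a, ha⟩ := hno
        -- the image of `a` is `l` or `l⁻¹`
        have ha' : algebraMap K (AlgebraicClosure K) a *
            (algebraMap K (AlgebraicClosure K) t - algebraMap K (AlgebraicClosure K) a) = 1 := by
          rw [← map_sub, ← map_mul, ha, map_one]
        have hprod : (algebraMap K (AlgebraicClosure K) a - l) *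
            (algebraMap K (AlgebraicClosure K) a -
              (algebraMap K (AlgebraicClosure K) t - l)) = 0 := by
          linear_combination hroot - ha'
        have hafix : (algebraMap K (AlgebraicClosure K) a) ^ Fintype.card K =
            algebraMap K (AlgebraicClosure K) a := by
          rw [← map_pow, FiniteField.pow_card]
        have hlfix : l ^ Fintype.card K = l := by
          rcases mul_eq_zero.mp hprod with h | h
          · rw [← sub_eq_zero.mp h]
            exact hafix
          · have h' : algebraMap K (AlgebraicClosure K) a = l⁻¹ := by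
              rw [sub_eq_zero.mp h, ht, add_sub_cancel_left]
            have h'' : (l⁻¹) ^ Fintype.card K = l⁻¹ := by rw [← h']; exact hafix
            rw [inv_pow] at h''
            exact inv_injective h''
        apply hl2
        rw [hq] at hlfix
        have : l * l = 1 := by
          nth_rewrite 1 [← hlfix]
          exact inv_mul_cancel₀ hl0
        rw [pow_two]
        exact this
      · exact hno hex
  have hfib : ∀ u ∈ (nsTraces K m).image (algebraMap K (AlgebraicClosure K)),
      ((rootSet K m).filter (fun l => l + l⁻¹ = u)).card = 2 := by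
    intro u hu
    obtain ⟨t, ht, rfl⟩ := Finset.mem_image.mp hu
    obtain ⟨ht2, hno, l₀, hl₀, hl₀m⟩ := mem_nsTraces.mp ht
    have hl₀0 : l₀ ≠ 0 := left_ne_zero_of_mul_eq_one hl₀
    have hl₀2 : l₀ ^ 2 ≠ 1 := root_sq_ne_one ht2 hl₀
    have hinv : l₀⁻¹ = algebraMap K (AlgebraicClosure K) t - l₀ :=
      (eq_inv_of_mul_eq_one_right hl₀).symm
    have hne : l₀ ≠ algebraMap K (AlgebraicClosure K) t - l₀ := by
      intro h
      apply hl₀2
      rw [← h] at hl₀
      rw [pow_two]
      exact hl₀
    have hset : (rootSet K m).filter (fun l => l + l⁻¹ = algebraMap K (AlgebraicClosure K) t) =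
        {l₀, algebraMap K (AlgebraicClosure K) t - l₀} := by
      ext l
      simp only [Finset.mem_filter, Finset.mem_insert, Finset.mem_singleton]
      constructor
      · rintro ⟨hl, hsum⟩
        obtain ⟨hl0, -, -⟩ := key l hl
        have hroot : l * (algebraMap K (AlgebraicClosure K) t - l) = 1 := by
          rw [← hsum, add_sub_cancel_left]
          exact mul_inv_cancel₀ hl0
        have h : (l - l₀) * (l - (algebraMap K (AlgebraicClosure K) t - l₀)) = 0 := by
          linear_combination hl₀ - hroot
        rcases mul_eq_zero.mp h with h | h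
        · left; exact sub_eq_zero.mp h
        · right; exact sub_eq_zero.mp h
      · rintro (rfl | rfl)
        · refine ⟨(mem_rootSet hpos).mpr ⟨hl₀m, hl₀2⟩, ?_⟩
          rw [hinv]
          ring
        · rw [← hinv]
          refine ⟨(mem_rootSet hpos).mpr ⟨by rw [inv_pow, hl₀m, inv_one], ?_⟩, ?_⟩
          · rw [inv_pow]
            intro h
            exact hl₀2 (inv_eq_one.mp h)
          · rw [inv_inv, hinv]
            ring
    rw [hset, Finset.card_pair hne]
  rw [Finset.card_eq_sum_card_fiberwise H, Finset.sum_const_nat hfib,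
    Finset.card_image_of_injective _ (algebraMap K (AlgebraicClosure K)).injective, mul_comm]

theorem card_pow_nonsplit_core [DecidableEq K] (hq : 27 ≤ Fintype.card K)
    (hq4 : Fintype.card K % 4 = 3) :
    4 * (Finset.univ.filter (fun s : Matrix.SpecialLinearGroup (Fin 2) K =>
      s ^ ((Fintype.card K + 1) / 2) = 1)).card =
      8 + Fintype.card K * (Fintype.card K - 1) * (Fintype.card K - 3) := by
  classical
  have h3 := three_eq_zero (K := K)
  obtain ⟨j, hj⟩ := card_eq_six_mul_add (K := K)
  obtain ⟨i, hi⟩ : ∃ i, j = 2 * i := ⟨j / 2, by omega⟩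
  obtain ⟨m, hm⟩ : ∃ m, m = (Fintype.card K + 1) / 2 := ⟨_, rfl⟩
  have hm' : m = 6 * i + 2 := by omega
  rw [← hm]
  have hset : Finset.univ.filter (fun s : Matrix.SpecialLinearGroup (Fin 2) K => s ^ m = 1) =
      {1, negOne} ∪ Finset.univ.filter (fun s : Matrix.SpecialLinearGroup (Fin 2) K =>
        tr2 s ∈ nsTraces K m) := by
    ext s
    simp only [Finset.mem_filter, Finset.mem_univ, true_and, Finset.mem_union,
      Finset.mem_insert, Finset.mem_singleton]
    constructor
    · intro h
      by_cases ht : (tr2 s) ^ 2 = 1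
      · left
        have h6 : s ^ 6 = 1 := (pow_six_iff s).mpr ht
        apply sq_eq_one_cases'
        rw [hm', pow_add, pow_mul, h6, one_pow, one_mul] at h
        exact h
      · right
        rw [mem_nsTraces]
        have hno : ¬ ∃ a : K, a * (tr2 s - a) = 1 := by
          rintro ⟨a, ha⟩
          have ha0 : a ≠ 0 := left_ne_zero_of_mul_eq_one ha
          have ha2 : a ^ 2 ≠ 1 := root_sq_ne_one (L := K) ht ha
          have h1 : a ^ m = 1 := (pow_iff_root (L := K) ht ha s rfl _).mp h
          have h2 : a ^ (Fintype.card K - 1) = 1 := FiniteField.pow_card_sub_one_eq_one a ha0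
          have e : Fintype.card K - 1 = 12 * i + 2 := by omega
          rw [e] at h2
          apply ha2
          have h4 : a ^ (12 * i + 2) * a ^ 2 = 1 := by
            rw [← pow_add]
            have : 12 * i + 2 + 2 = m * 2 := by omega
            rw [this, pow_mul, h1, one_pow]
          rw [h2, one_mul] at h4
          exact h4
        refine ⟨ht, hno, ?_⟩
        obtain ⟨l, hl⟩ := exists_root_closure (tr2 s)
        exact ⟨l, hl, (pow_iff_root ht hl s rfl _).mp h⟩
    · rintro ((rfl | rfl) | h)
      · exact one_pow _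
      · apply negOne_pow_even
        exact ⟨3 * i + 1, by omega⟩
      · obtain ⟨ht, -, l, hl, hlm⟩ := mem_nsTraces.mp h
        exact (pow_iff_root ht hl s rfl _).mpr hlm
  have hdisj : Disjoint ({1, negOne} : Finset (Matrix.SpecialLinearGroup (Fin 2) K))
      (Finset.univ.filter (fun s : Matrix.SpecialLinearGroup (Fin 2) K =>
        tr2 s ∈ nsTraces K m)) := by
    rw [Finset.disjoint_left]
    intro s hs hs'
    have ht : (tr2 s) ^ 2 ≠ 1 := (mem_nsTraces.mp (Finset.mem_filter.mp hs').2).1
    simp only [Finset.mem_insert, Finset.mem_singleton] at hs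
    rcases hs with rfl | rfl
    · exact ht tr_one_sq
    · exact ht tr_negOne_sq
  rw [hset, Finset.card_union_of_disjoint hdisj, Finset.card_pair one_ne_negOne,
    card_trace_mem (nsTraces K m) 0 (fun t ht => by
      obtain ⟨-, hno, -⟩ := mem_nsTraces.mp ht
      rw [Fintype.card_eq_zero_iff]
      exact ⟨fun a => hno ⟨a.1, a.2⟩⟩)]
  have hT := two_mul_card_nsTraces (K := K) m (by omega) ⟨3 * i + 1, by omega⟩ (by omega)
    (by omega)
  obtain ⟨c, hc⟩ : ∃ c, c = (nsTraces K m).card := ⟨_, rfl⟩
  rw [← hc] at hT ⊢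
  have hc' : c = 3 * i := by omega
  have hq' : Fintype.card K = 12 * i + 3 := by omega
  rw [hq', hc']
  have e1 : 12 * i + 3 - 1 = 12 * i + 2 := by omega
  have e2 : 12 * i + 3 - 3 = 12 * i := by omega
  rw [e1, e2]
  ring

end NonSplit

end ReeSL2

open ReeSL2 in
theorem sl2_card_pow_split {K : Type*} [Field K] [Fintype K] [CharP K 3] (hq : 27 ≤ Fintype.card K) : 2 * Nat.card {s : Matrix.SpecialLinearGroup (Fin 2) K // s ^ (Fintype.card K - 1) = 1} = 4 + Fintype.card K * (Fintype.card K + 1) * (Fintype.card K - 3) := by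
  classical
  rw [Nat.subtype_card (Finset.univ.filter
    (fun s : Matrix.SpecialLinearGroup (Fin 2) K => s ^ (Fintype.card K - 1) = 1)) (by simp)]
  convert card_pow_split_core (K := K) hq

open ReeSL2 in
theorem sl2_card_pow_nonsplit {K : Type*} [Field K] [Fintype K] [CharP K 3] (hq : 27 ≤ Fintype.card K) (hq4 : Fintype.card K % 4 = 3) : 4 * Nat.card {s : Matrix.SpecialLinearGroup (Fin 2) K // s ^ ((Fintype.card K + 1) / 2) = 1} = 8 + Fintype.card K * (Fintype.card K - 1) * (Fintype.card K - 3) := by
  classical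
  rw [Nat.subtype_card (Finset.univ.filter
    (fun s : Matrix.SpecialLinearGroup (Fin 2) K => s ^ ((Fintype.card K + 1) / 2) = 1)) (by simp)]
  convert card_pow_nonsplit_core (K := K) hq hq4

end Cfsg.Agent.Lib.helper87
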