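import Cfsg.Prelude.Def_FusionSystem

set_option autoImplicit false

namespace Cfsg.Agent.Lib.helper87

open Cfsg

/-- An automorphism of a finite group `G` that fixes a Sylow `p`-subgroup `T` elementwise, where `Q ≤ T`
is a normal `p`-subgroup containing its centralizer, is conjugation by an element of `Q`. -/
theorem aut_fixing_sylow_inner {G : Type*} [Group G] [Finite G] {p : ℕ} [Fact p.Prime] (T : Sylow p G)
    (Q : Subgroup G) [hQn : Q.Normal] (hQp : IsPGroup p Q)
    (hCQ : Subgroup.centralizer (Q : Set G) ≤ Q) (ψ : G ≃* G) (hψ : ∀ t ∈ T, ψ t = t) :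
    ∃ z ∈ Q, ∀ g : G, ψ g = z * g * z⁻¹ := by
  classical
  have hQT : Q ≤ T := hQp.le_sylow_of_normal T
  have hAn : (Q ⊓ Subgroup.centralizer (Q : Set G)).Normal := inferInstance
  have hAcomm : ∀ a b : ↥(Q ⊓ Subgroup.centralizer (Q : Set G)), a * b = b * a := by
    intro a b
    apply Subtype.ext
    exact (Subgroup.mem_centralizer_iff.mp b.2.2) a a.2.1
  letI : CommGroup ↥(Q ⊓ Subgroup.centralizer (Q : Set G)) :=
    { (inferInstance : Group ↥(Q ⊓ Subgroup.centralizer (Q : Set G))) with mul_comm := hAcomm }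
  -- the cocycle
  have hmem : ∀ g : G, ψ g * g⁻¹ ∈ Q ⊓ Subgroup.centralizer (Q : Set G) := by
    intro g
    have hc : ψ g * g⁻¹ ∈ Subgroup.centralizer (Q : Set G) := by
      rw [Subgroup.mem_centralizer_iff]
      intro x hx
      have hy : g⁻¹ * x * g ∈ Q := by
        have := hQn.conj_mem x hx g⁻¹
        rwa [inv_inv] at this
      have h1 : ψ (g⁻¹ * x * g) = g⁻¹ * x * g := hψ _ (hQT hy)
      rw [map_mul, map_mul, map_inv, hψ x (hQT hx)] at h1
      calc x * (ψ g * g⁻¹) = ψ g * ((ψ g)⁻¹ * x * ψ g) * g⁻¹ := by group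
        _ = ψ g * (g⁻¹ * x * g) * g⁻¹ := by rw [h1]
        _ = ψ g * g⁻¹ * x := by group
    exact ⟨hCQ hc, hc⟩
  let a' : G → ↥(Q ⊓ Subgroup.centralizer (Q : Set G)) := fun g => ⟨ψ g * g⁻¹, hmem g⟩
  have hcoset : ∀ g t : G, t ∈ T → a' (g * t) = a' g := by
    intro g t ht
    apply Subtype.ext
    show ψ (g * t) * (g * t)⁻¹ = ψ g * g⁻¹
    rw [map_mul, hψ t ht]
    group
  have hmul : ∀ g h : G, a' (g * h) = a' g * (MulAut.conjNormal g : MulAut ↥(Q ⊓ Subgroup.centralizer (Q : Set G))) (a' h) := by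
    intro g h
    apply Subtype.ext
    show ψ (g * h) * (g * h)⁻¹ = ψ g * g⁻¹ * (g * (ψ h * h⁻¹) * g⁻¹)
    rw [map_mul]
    group
  let f : G ⧸ (T : Subgroup G) → ↥(Q ⊓ Subgroup.centralizer (Q : Set G)) := fun c =>
    Quotient.liftOn' c a' (fun x y hxy => by
      have hxy' : x⁻¹ * y ∈ (T : Subgroup G) := QuotientGroup.leftRel_apply.mp hxy
      have := hcoset x (x⁻¹ * y) hxy'
      rw [mul_inv_cancel_left] at this
      exact this.symm)
  have hf : ∀ (g : G) (c : G ⧸ (T : Subgroup G)),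
      f (g • c) = a' g * (MulAut.conjNormal g : MulAut ↥(Q ⊓ Subgroup.centralizer (Q : Set G))) (f c) := by
    intro g c
    induction c using QuotientGroup.induction_on with
    | H x => exact hmul g x
  letI : Fintype (G ⧸ (T : Subgroup G)) := Fintype.ofFinite _
  have hprod : ∀ g : G, (∏ c, f c) = a' g ^ Fintype.card (G ⧸ (T : Subgroup G)) *
      (MulAut.conjNormal g : MulAut ↥(Q ⊓ Subgroup.centralizer (Q : Set G))) (∏ c, f c) := by
    intro g
    have h1 : ∏ c, f (g • c) = ∏ c, f c :=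
      Fintype.prod_equiv (MulAction.toPerm g) _ _ (fun _ => rfl)
    calc ∏ c, f c = ∏ c, f (g • c) := h1.symm
      _ = ∏ c, (a' g * (MulAut.conjNormal g : MulAut ↥(Q ⊓ Subgroup.centralizer (Q : Set G))) (f c)) := by
          simp_rw [hf g]
      _ = a' g ^ Fintype.card (G ⧸ (T : Subgroup G)) *
          (MulAut.conjNormal g : MulAut ↥(Q ⊓ Subgroup.centralizer (Q : Set G))) (∏ c, f c) := by
          rw [Finset.prod_mul_distrib, Finset.prod_const, Finset.card_univ, map_prod]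
  -- coprimality
  have hAp : IsPGroup p ↥(Q ⊓ Subgroup.centralizer (Q : Set G)) := hQp.to_le inf_le_left
  obtain ⟨k, hk⟩ := hAp.exists_card_eq
  have hindex : Fintype.card (G ⧸ (T : Subgroup G)) = (T : Subgroup G).index := by
    rw [Subgroup.index, Nat.card_eq_fintype_card]
  have hcop : (Nat.card ↥(Q ⊓ Subgroup.centralizer (Q : Set G))).Coprime
      (Fintype.card (G ⧸ (T : Subgroup G))) := by
    rw [hk, hindex]
    exact Nat.Coprime.pow_left k ((Nat.Prime.coprime_iff_not_dvd Fact.out).mpr T.not_dvd_index)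
  obtain ⟨z, hz⟩ := (powCoprime hcop).surjective (∏ c, f c)
  have hz' : z ^ Fintype.card (G ⧸ (T : Subgroup G)) = ∏ c, f c := hz
  refine ⟨z, z.2.1, fun g => ?_⟩
  have h2 : a' g = z * ((MulAut.conjNormal g : MulAut ↥(Q ⊓ Subgroup.centralizer (Q : Set G))) z)⁻¹ := by
    apply (powCoprime hcop).injective
    show a' g ^ Fintype.card (G ⧸ (T : Subgroup G)) =
      (z * ((MulAut.conjNormal g : MulAut ↥(Q ⊓ Subgroup.centralizer (Q : Set G))) z)⁻¹) ^
        Fintype.card (G ⧸ (T : Subgroup G))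
    rw [mul_pow, inv_pow, ← map_pow, hz']
    have h3 := hprod g
    rw [eq_mul_inv_iff_mul_eq]
    exact h3.symm
  have h4 : ψ g * g⁻¹ = (z : G) * (g * (z : G) * g⁻¹)⁻¹ := congrArg Subtype.val h2
  calc ψ g = ψ g * g⁻¹ * g := by group
    _ = (z : G) * (g * (z : G) * g⁻¹)⁻¹ * g := by rw [h4]
    _ = (z : G) * g * (z : G)⁻¹ := by group

end Cfsg.Agent.Lib.helper87
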