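/-
Two small Mathlib-only pieces (P4, P5) for helper44's S2361.
-/
import Mathlib

set_option autoImplicit false

namespace Cfsg.Agent.Lib.helper87

theorem P5_omega {G : Type*} [Group G] [Finite G] (D : Subgroup G)
    (hD : ∀ x ∈ D, ∀ y ∈ D, x * y = y * x)
    (p : ℕ) (hp : p.Prime) (hpD : p ∣ Nat.card D) :
    ∃ E : Subgroup G, E ≤ D ∧ E ≠ ⊥ ∧ (∀ y ∈ E, y ^ p = 1) ∧
      Subgroup.normalizer (D : Set G) ≤ Subgroup.normalizer (E : Set G) := by
  have : Fact p.Prime := ⟨hp⟩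
  let E : Subgroup G :=
    { carrier := {y | y ∈ D ∧ y ^ p = 1}
      one_mem' := ⟨D.one_mem, one_pow p⟩
      mul_mem' := by
        rintro a b ⟨ha, ha'⟩ ⟨hb, hb'⟩
        refine ⟨D.mul_mem ha hb, ?_⟩
        have hc : Commute a b := hD a ha b hb
        rw [hc.mul_pow, ha', hb', one_mul]
      inv_mem' := by
        rintro a ⟨ha, ha'⟩
        exact ⟨D.inv_mem ha, by rw [inv_pow, ha', inv_one]⟩ }
  have hE : ∀ y, y ∈ E ↔ y ∈ D ∧ y ^ p = 1 := fun y => Iff.rfl
  refine ⟨E, fun y hy => ((hE y).1 hy).1, ?_, fun y hy => ((hE y).1 hy).2, ?_⟩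
  · obtain ⟨x, hx⟩ := exists_prime_orderOf_dvd_card' (G := ↥D) p hpD
    intro hbot
    have hxE : (x : G) ∈ E := by
      refine (hE _).2 ⟨x.2, ?_⟩
      have : orderOf (x : G) = p := by rw [Subgroup.orderOf_coe]; exact hx
      rw [← this]; exact pow_orderOf_eq_one _
    rw [hbot, Subgroup.mem_bot] at hxE
    have hx1 : x = 1 := Subtype.ext hxE
    rw [hx1, orderOf_one] at hx
    exact hp.one_lt.ne hx
  · intro n hn
    rw [Subgroup.mem_normalizer_iff] at hn ⊢
    intro y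
    constructor
    · intro hy
      obtain ⟨hyD, hyp⟩ := (hE y).1 hy
      refine (hE _).2 ⟨(hn y).1 hyD, ?_⟩
      rw [conj_pow, hyp, mul_one, mul_inv_cancel]
    · intro hy
      obtain ⟨hyD, hyp⟩ := (hE _).1 hy
      refine (hE _).2 ⟨(hn y).2 hyD, ?_⟩
      rw [conj_pow] at hyp
      have : y ^ p = n⁻¹ * (n * y ^ p * n⁻¹) * n := by group
      rw [this, hyp]; group

theorem P4_four {G : Type*} [Group G] (D : Subgroup G) (hD : Nat.card D = 4) (z y : G) (hz : z ∈ D)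
    (hy : y ∈ D) (hz1 : z ≠ 1) (hy1 : y ≠ 1) (hzy : z ≠ y) (hz2 : z * z = 1) (d : G) (hd : d ∈ D) :
    d = 1 ∨ d = z ∨ d = y ∨ d = z * y := by
  by_contra hne
  push Not at hne
  obtain ⟨h1, h2, h3, h4⟩ := hne
  have : Finite ↥D := Nat.finite_of_card_ne_zero (by rw [hD]; norm_num)
  have : Fintype ↥D := Fintype.ofFinite _
  have hzy1 : z * y ≠ 1 := by
    intro h
    apply hzy
    have : y = z⁻¹ := (eq_inv_of_mul_eq_one_right h)
    have hzinv : z⁻¹ = z := inv_eq_of_mul_eq_one_right hz2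
    rw [this, hzinv]
  have hzyz : z * y ≠ z := by
    intro h
    exact hy1 (by simpa using h)
  have hzyy : z * y ≠ y := by
    intro h
    exact hz1 (by simpa using h)
  let f : Fin 5 → ↥D := ![⟨1, D.one_mem⟩, ⟨z, hz⟩, ⟨y, hy⟩, ⟨z * y, D.mul_mem hz hy⟩, ⟨d, hd⟩]
  have hf : Function.Injective f := by
    intro i j hij
    have hv : ((f i : ↥D) : G) = ((f j : ↥D) : G) := congrArg Subtype.val hij
    fin_cases i <;> fin_cases j <;> simp [f] at hv <;> first
      | rfl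
      | exact absurd hv (by tauto)
  have := Nat.card_le_card_of_injective f hf
  rw [hD] at this
  simp at this

end Cfsg.Agent.Lib.helper87
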