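import Mathlib

set_option autoImplicit false

namespace Cfsg.Agent.Lib.helper72.SUO

/-- HEIS (L): the Heisenberg lemma. -/
theorem heis_indep {G : Type*} [Group G] {A : Type*} [AddCommGroup A]
    (χ : A → ℂ) (hχ0 : χ 0 = 1) (hχ_add : ∀ a b, χ (a + b) = χ a * χ b)
    (u : A → G) {k : ℕ} (ρ : Representation ℂ G (Fin k → ℂ))
    {T : Type*} [Finite T]
    (w : Fin k → ℂ) (hw0 : w ≠ 0) (hw : ∀ a, ρ (u a) w = χ a • w)
    (s t : T → G) (c : T → T → A)
    (hsu : ∀ a x, s a * u x = u x * s a) (htu : ∀ b x, t b * u x = u x * t b)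
    (htt : ∀ b b', t b * t b' = t b' * t b)
    (hst : ∀ a b, s a * t b = t b * s a * u (c a b))
    (hsep : ∀ a a', a ≠ a' → ∃ b, χ (c a b) ≠ χ (c a' b)) :
    ∃ v : T → (Fin k → ℂ), LinearIndependent ℂ v ∧ ∀ a x, ρ (u x) (v a) = χ x • v a := by
  classical
  cases nonempty_fintype T
  -- χ never vanishes
  have hχne : ∀ a, χ a ≠ 0 := by
    intro a h0
    have h1 : χ (a + -a) = χ a * χ (-a) := hχ_add a (-a)
    rw [add_neg_cancel, hχ0, h0, zero_mul] at h1
    exact one_ne_zero h1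
  -- a common eigenvector of the `ρ (t b)` inside the `χ`-eigenspace
  have key : ∀ F : Finset T, ∃ (v₀ : Fin k → ℂ) (lam : T → ℂ), v₀ ≠ 0 ∧
      (∀ x, ρ (u x) v₀ = χ x • v₀) ∧ ∀ b ∈ F, ρ (t b) v₀ = lam b • v₀ := by
    intro F
    induction F using Finset.induction_on with
    | empty => exact ⟨w, fun _ => 0, hw0, hw, by simp⟩
    | insert b₀ F hb₀ ih =>
      obtain ⟨v₀, lam, hv0, hvu, hvt⟩ := ih
      let W : Submodule ℂ (Fin k → ℂ) :=
        { carrier := {v | (∀ x, ρ (u x) v = χ x • v) ∧ ∀ b ∈ F, ρ (t b) v = lam b • v}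
          add_mem' := by
            rintro a b ⟨ha1, ha2⟩ ⟨hb1, hb2⟩
            refine ⟨fun x => ?_, fun b' hb' => ?_⟩
            · rw [map_add, ha1, hb1, smul_add]
            · rw [map_add, ha2 b' hb', hb2 b' hb', smul_add]
          zero_mem' := by
            refine ⟨fun x => ?_, fun b' hb' => ?_⟩
            · rw [map_zero, smul_zero]
            · rw [map_zero, smul_zero]
          smul_mem' := by
            rintro r a ⟨ha1, ha2⟩
            refine ⟨fun x => ?_, fun b' hb' => ?_⟩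
            · rw [map_smul, ha1, smul_comm]
            · rw [map_smul, ha2 b' hb', smul_comm] }
      have hmemW : ∀ v, v ∈ W ↔ (∀ x, ρ (u x) v = χ x • v) ∧ ∀ b ∈ F, ρ (t b) v = lam b • v :=
        fun v => Iff.rfl
      have hv0W : v₀ ∈ W := (hmemW v₀).2 ⟨hvu, hvt⟩
      have hmaps : ∀ v ∈ W, ρ (t b₀) v ∈ W := by
        intro v hv
        obtain ⟨h1, h2⟩ := (hmemW v).1 hv
        refine (hmemW _).2 ⟨fun x => ?_, fun b hb => ?_⟩
        · have e1 : ρ (u x) (ρ (t b₀) v) = ρ (u x * t b₀) v := by rw [map_mul]; rfl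
          have e2 : ρ (t b₀) (ρ (u x) v) = ρ (t b₀ * u x) v := by rw [map_mul]; rfl
          rw [e1, ← htu b₀ x, ← e2, h1, map_smul]
        · have e1 : ρ (t b) (ρ (t b₀) v) = ρ (t b * t b₀) v := by rw [map_mul]; rfl
          have e2 : ρ (t b₀) (ρ (t b) v) = ρ (t b₀ * t b) v := by rw [map_mul]; rfl
          rw [e1, htt b b₀, ← e2, h2 b hb, map_smul]
      haveI : Nontrivial W := ⟨⟨⟨v₀, hv0W⟩, 0, fun h => hv0 (congrArg Subtype.val h)⟩⟩
      obtain ⟨μ, hμ⟩ := Module.End.exists_eigenvalue ((ρ (t b₀)).restrict hmaps)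
      obtain ⟨v₁, hv₁⟩ := hμ.exists_hasEigenvector
      have hv₁eq : ρ (t b₀) (v₁ : Fin k → ℂ) = μ • (v₁ : Fin k → ℂ) := by
        have := hv₁.apply_eq_smul
        have h2 := congrArg Subtype.val this
        simpa using h2
      have hv₁ne : (v₁ : Fin k → ℂ) ≠ 0 := fun h => hv₁.2 (Subtype.ext h)
      obtain ⟨h1, h2⟩ := (hmemW _).1 v₁.2
      refine ⟨v₁, Function.update lam b₀ μ, hv₁ne, h1, ?_⟩
      intro b hb
      rcases Finset.mem_insert.1 hb with rfl | hbF
      · rw [Function.update_self]; exact hv₁eq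
      · have hne : b ≠ b₀ := fun h => hb₀ (h ▸ hbF)
        rw [Function.update_of_ne hne]; exact h2 b hbF
  obtain ⟨v₀, lam, hv0, hvu, hvt⟩ := key Finset.univ
  have hvt' : ∀ b, ρ (t b) v₀ = lam b • v₀ := fun b => hvt b (Finset.mem_univ b)
  -- the eigenvalues are non-zero
  have hlam : ∀ b, lam b ≠ 0 := by
    intro b h0
    have h1 : ρ (t b)⁻¹ (ρ (t b) v₀) = v₀ := by
      have : ρ (t b)⁻¹ (ρ (t b) v₀) = ρ ((t b)⁻¹ * t b) v₀ := by rw [map_mul]; rfl
      rw [this, inv_mul_cancel, map_one]; rfl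
    rw [hvt' b, h0, zero_smul, map_zero] at h1
    exact hv0 h1.symm
  refine ⟨fun a => ρ (s a) v₀, ?_, ?_⟩
  · -- eigenvalue systems
    have heig : ∀ a b, ρ (t b) (ρ (s a) v₀) = (lam b * (χ (c a b))⁻¹) • ρ (s a) v₀ := by
      intro a b
      have e1 : ρ (s a) (ρ (t b) v₀) = ρ (s a * t b) v₀ := by rw [map_mul]; rfl
      have e2 : ρ (t b) (ρ (s a) (ρ (u (c a b)) v₀)) = ρ (t b * s a * u (c a b)) v₀ := by
        rw [map_mul, map_mul]; rfl
      have e3 : lam b • ρ (s a) v₀ = χ (c a b) • ρ (t b) (ρ (s a) v₀) := by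
        rw [← map_smul, ← hvt' b, e1, hst a b, ← e2, hvu, map_smul, map_smul]
      rw [mul_comm, mul_smul, e3, smul_smul, inv_mul_cancel₀ (hχne _), one_smul]
    have hne0 : ∀ a, ρ (s a) v₀ ≠ 0 := by
      intro a h0
      have h1 : ρ (s a)⁻¹ (ρ (s a) v₀) = v₀ := by
        have : ρ (s a)⁻¹ (ρ (s a) v₀) = ρ ((s a)⁻¹ * s a) v₀ := by rw [map_mul]; rfl
        rw [this, inv_mul_cancel, map_one]; rfl
      rw [h0, map_zero] at h1
      exact hv0 h1.symm
    let f : T → Module.End ℂ (Fin k → ℂ) := fun b => ρ (t b)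
    have hcomm : ∀ i j, Commute (f i) (f j) := by
      intro i j
      show ρ (t i) * ρ (t j) = ρ (t j) * ρ (t i)
      rw [← map_mul, ← map_mul, htt]
    have hind := Module.End.independent_iInf_maxGenEigenspace_of_forall_mapsTo f
      (fun i j φ => Module.End.mapsTo_maxGenEigenspace_of_comm (hcomm j i) φ)
    let E : T → (T → ℂ) := fun a b => lam b * (χ (c a b))⁻¹
    have hEinj : Function.Injective E := by
      intro a a' h
      by_contra hne
      obtain ⟨b, hb⟩ := hsep a a' hne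
      have := congrFun h b
      simp only [E] at this
      have h2 := mul_left_cancel₀ (hlam b) this
      exact hb (inv_injective h2)
    have hind' := hind.comp hEinj
    refine hind'.linearIndependent _ (fun a => ?_) hne0
    simp only [Function.comp]
    rw [Submodule.mem_iInf]
    intro b
    apply Module.End.eigenspace_le_maxGenEigenspace
    rw [Module.End.mem_eigenspace_iff]
    exact heig a b
  · intro a x
    have e1 : ρ (u x) (ρ (s a) v₀) = ρ (u x * s a) v₀ := by rw [map_mul]; rfl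
    have e2 : ρ (s a) (ρ (u x) v₀) = ρ (s a * u x) v₀ := by rw [map_mul]; rfl
    show ρ (u x) (ρ (s a) v₀) = χ x • ρ (s a) v₀
    rw [e1, ← hsu a x, ← e2, hvu, map_smul]

end Cfsg.Agent.Lib.helper72.SUO
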