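import Cfsg.Agent.Lib.helper87.FixConj

/-!
Extension of automorphisms of a fully normalized subgroup `Ph` (outside the generating family) to the
preimage `qp F p Ph` of `O_p(Aut_F(Ph))`.
-/

set_option autoImplicit false

namespace Cfsg.Agent.Lib.helper87

open Cfsg
open Cfsg.FusionSystem (normalizerIn centralizerIn extender)

variable {Ω : Type*} [Group Ω] {S : Subgroup Ω}

/-- The relation "`a ∈ Ph` and `ψ a = b`". -/
def mapRel {R : Subgroup Ω} (ψ : R →* Ω) (Ph : Subgroup Ω) (a b : Ω) : Prop :=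
  ∃ h : a ∈ R, a ∈ Ph ∧ ψ ⟨a, h⟩ = b

/-- Composition of relations. -/
def relComp (r s : Ω → Ω → Prop) (a c : Ω) : Prop := ∃ b, r a b ∧ s b c

/-- The inverse relation. -/
def relInv (r : Ω → Ω → Prop) (a b : Ω) : Prop := r b a

/-- The relation "`a = θ x`, `b = θ' (φ x)` for some `x ∈ P`". -/
def trRel {R M M' : Subgroup Ω} (φ : R →* Ω) (θ : M →* Ω) (θ' : M' →* Ω) (P : Subgroup Ω)
    (a b : Ω) : Prop :=
  ∃ (x : R) (h1 : (x : Ω) ∈ M) (h2 : φ x ∈ M'), (x : Ω) ∈ P ∧ θ ⟨x, h1⟩ = a ∧ θ' ⟨φ x, h2⟩ = b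

/-- Some map of the system defined on `qp F p Ph` and stabilizing `Ph` realizes the relation `r`. -/
def ExtRel (F : FusionSystem S) (p : ℕ) (Ph : Subgroup Ω) (r : Ω → Ω → Prop) : Prop :=
  ∃ χ ∈ F.Hom (qp F p Ph), imgOf χ Ph = Ph ∧
    ∀ (a b : Ω) (ha : a ∈ qp F p Ph), r a b → χ ⟨a, ha⟩ = b

theorem extRel_mono {F : FusionSystem S} {p : ℕ} {Ph : Subgroup Ω} {r s : Ω → Ω → Prop}
    (h : ∀ a b, s a b → r a b) (hr : ExtRel F p Ph r) : ExtRel F p Ph s := by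
  obtain ⟨χ, hχ, himg, hχr⟩ := hr
  exact ⟨χ, hχ, himg, fun a b ha hs => hχr a b ha (h a b hs)⟩

theorem range_eq_qp [Finite S] {p : ℕ} [Fact p.Prime] (hS : IsPGroup p S) (F : FusionSystem S)
    {Ph : Subgroup Ω} (hPhS : Ph ≤ S) {χ : ↥(qp F p Ph) →* Ω} (hχ : χ ∈ F.Hom (qp F p Ph))
    (himg : imgOf χ Ph = Ph) : χ.range = qp F p Ph := by
  have hQS : qp F p Ph ≤ S := (F.le_of_mem hχ).1
  have : Finite ↥(qp F p Ph) := Cfsg.Agent.Lib.helper89.finite_of_le hQS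
  have hle : χ.range ≤ qp F p Ph := by
    rintro _ ⟨x, rfl⟩
    have h1 := apply_mem_qp F p hχ (le_qp F p hS hPhS) x.2
    rw [himg] at h1
    exact h1
  exact Subgroup.eq_of_le_of_card_ge hle (by rw [card_range (F.injective_of_mem hχ)])

theorem extRel_comp [Finite S] {p : ℕ} [Fact p.Prime] (hS : IsPGroup p S) (F : FusionSystem S)
    {Ph : Subgroup Ω} (hPhS : Ph ≤ S) {r s : Ω → Ω → Prop} (hr : ExtRel F p Ph r)
    (hs : ExtRel F p Ph s) : ExtRel F p Ph (relComp r s) := by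
  obtain ⟨χ₁, hχ₁, himg₁, h₁⟩ := hr
  obtain ⟨χ₂, hχ₂, himg₂, h₂⟩ := hs
  have hrange := range_eq_qp hS F hPhS hχ₁ himg₁
  obtain ⟨κ, hκ, hκx, hκimg⟩ := comp_mem' F hχ₁ hχ₂ hrange.le
  refine ⟨κ, hκ, ?_, ?_⟩
  · rw [hκimg, himg₁, himg₂]
  · rintro a c ha ⟨b, hab, hbc⟩
    have h3 := h₁ a b ha hab
    have hmem : χ₁ ⟨a, ha⟩ ∈ qp F p Ph := hrange.le ⟨_, rfl⟩
    have hb : b ∈ qp F p Ph := by
      have h4 := hmem
      rw [h3] at h4
      exact h4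
    rw [hκx ⟨a, ha⟩ hmem]
    have h4 : (⟨χ₁ ⟨a, ha⟩, hmem⟩ : ↥(qp F p Ph)) = ⟨b, hb⟩ := Subtype.ext h3
    rw [h4]
    exact h₂ b c hb hbc

theorem extRel_inv [Finite S] {p : ℕ} [Fact p.Prime] (hS : IsPGroup p S) (F : FusionSystem S)
    {Ph : Subgroup Ω} (hPhS : Ph ≤ S) {r : Ω → Ω → Prop} (hr : ExtRel F p Ph r)
    (hdom : ∀ a b, r a b → a ∈ qp F p Ph) : ExtRel F p Ph (relInv r) := by
  obtain ⟨χ, hχ, himg, h₁⟩ := hr
  have hrange := range_eq_qp hS F hPhS hχ himg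
  obtain ⟨τ, hτ, hτx⟩ := exists_inv_comp F hχ
    (Cfsg.Agent.Lib.helper88.subtype_mem F (F.le_of_mem hχ).1) hrange
  refine ⟨τ, hτ, ?_, ?_⟩
  · have h2 := imgOf_inv_comp hrange hτx Ph
    rw [himg, imgOf_subtype (le_qp F p hS hPhS)] at h2
    exact h2
  · intro b a hb hab
    have ha : a ∈ qp F p Ph := hdom a b hab
    have h3 := h₁ a b ha hab
    have hmem : χ ⟨a, ha⟩ ∈ qp F p Ph := hrange.le ⟨_, rfl⟩
    have h4 := hτx ⟨a, ha⟩ hmem
    have h5 : (⟨χ ⟨a, ha⟩, hmem⟩ : ↥(qp F p Ph)) = ⟨b, hb⟩ := Subtype.ext h3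
    rw [h5] at h4
    exact h4

/-- For `θ` defined on `N ≥ M₁` and `κ` defined on `M₁`, the map `θ y ↦ κ y` on `θ(M₁)`. -/
theorem exists_comp_inv (F : FusionSystem S) {N M₁ : Subgroup Ω} {θ : N →* Ω} {κ : M₁ →* Ω}
    (hθ : θ ∈ F.Hom N) (hκ : κ ∈ F.Hom M₁) (hM : M₁ ≤ N) :
    ∃ ψ₃ ∈ F.Hom (imgOf θ M₁),
      (∀ (y : M₁) (h1 : θ ⟨y, hM y.2⟩ ∈ imgOf θ M₁), ψ₃ ⟨θ ⟨y, hM y.2⟩, h1⟩ = κ y) ∧
      ∀ P : Subgroup Ω, P ≤ M₁ → imgOf ψ₃ (imgOf θ P) = imgOf κ P := by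
  have hθ₁ : θ.comp (Subgroup.inclusion hM) ∈ F.Hom M₁ := hom_comp_inclusion F hθ hM
  have hB : (θ.comp (Subgroup.inclusion hM)).range = imgOf θ M₁ := by
    rw [← imgOf_self, imgOf_restrict θ hM le_rfl]
  obtain ⟨τ, hτ, hτx⟩ := exists_inv_comp F hθ₁ hκ hB
  refine ⟨τ, hτ, fun y h1 => hτx y h1, fun P hP => ?_⟩
  have h2 := imgOf_inv_comp hB hτx P
  rw [imgOf_restrict θ hM hP] at h2
  exact h2

theorem exists_mem_normalizer_not_mem [Finite S] {p : ℕ} [Fact p.Prime] (hS : IsPGroup p S)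
    {R Q' : Subgroup Ω} (hRS : R ≤ S) (hQ'S : Q' ≤ S)
    (hnorm : ∀ r ∈ R, ∀ t ∈ Q', r * t * r⁻¹ ∈ Q') (hnot : ¬ Q' ≤ R) :
    ∃ q ∈ Q', q ∈ Subgroup.normalizer (R : Set Ω) ∧ q ∉ R := by
  have hlt : R < Q' ⊔ R := by
    refine lt_of_le_of_ne le_sup_right (fun h => hnot ?_)
    have h1 : Q' ≤ Q' ⊔ R := le_sup_left
    rw [← h] at h1
    exact h1
  have h1 := lt_inf_normalizer hS hlt (sup_le hQ'S hRS)
  obtain ⟨n, hn, hnR⟩ := SetLike.exists_of_lt h1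
  obtain ⟨t, ht, r, hr, htr⟩ := Cfsg.Agent.Lib.helper89.exists_mul_of_mem_sup (T := Q') (R := R)
    hnorm hn.1
  refine ⟨t, ht, ?_, ?_⟩
  · have h2 : t = n * r⁻¹ := by rw [← htr]; group
    rw [h2]
    exact Subgroup.mul_mem _ hn.2 (Subgroup.inv_mem _ (Subgroup.le_normalizer hr))
  · intro htR
    exact hnR (htr ▸ R.mul_mem htR hr)

theorem imgOf_imgOf_inv {P₀ : Subgroup Ω} {φ : P₀ →* Ω} {ψ : φ.range →* Ω}
    (hψx : ∀ x : P₀, ψ ⟨φ x, ⟨x, rfl⟩⟩ = (x : Ω)) {P' : Subgroup Ω} (hP' : P' ≤ φ.range) :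
    imgOf φ (imgOf ψ P') = P' := by
  ext y
  rw [mem_imgOf]
  constructor
  · rintro ⟨x, hx, rfl⟩
    obtain ⟨z, hz, hzx⟩ := mem_imgOf.mp hx
    obtain ⟨_, x', rfl⟩ := z
    rw [hψx] at hzx
    have h2 : x' = x := Subtype.ext hzx
    rw [← h2]
    exact hz
  · intro hy
    obtain ⟨x, rfl⟩ := hP' hy
    refine ⟨x, ?_, rfl⟩
    have h2 := apply_mem_imgOf (φ := ψ) (x := (⟨φ x, ⟨x, rfl⟩⟩ : φ.range)) hy
    rw [hψx] at h2
    exact h2

/-- Extension of a stabilizing map defined on a subgroup properly containing `Ph` (inside `N_S(Ph)`):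
its restriction to `Ph` extends to `qp F p Ph`. -/
theorem extRel_of_lt [Finite S] {p : ℕ} [Fact p.Prime] (hS : IsPGroup p S) (F : FusionSystem S)
    {Ph : Subgroup Ω} (hPhS : Ph ≤ S) (hbig : HBig F p (Nat.card Ph))
    (hreach : ∀ P, F.IsConj Ph P → Reach F Ph P) :
    ∀ (m : ℕ) (R : Subgroup Ω) (ψ : R →* Ω), Nat.card S - Nat.card R = m → ψ ∈ F.Hom R → Ph < R →
      R ≤ normalizerIn S Ph → imgOf ψ Ph = Ph → ExtRel F p Ph (mapRel ψ Ph) := by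
  intro m
  induction m using Nat.strong_induction_on with
  | _ m ih =>
    intro R ψ hm hψ hPhR hRN himg
    have hRS : R ≤ S := (F.le_of_mem hψ).1
    have hψinj := F.injective_of_mem hψ
    have hPhQ : Ph ≤ qp F p Ph := le_qp F p hS hPhS
    have hQN : qp F p Ph ≤ normalizerIn S Ph := qp_le_normalizerIn F p Ph
    have hQS : qp F p Ph ≤ S := hQN.trans inf_le_left
    by_cases hle : qp F p Ph ≤ R
    · refine ⟨ψ.comp (Subgroup.inclusion hle), hom_comp_inclusion F hψ hle, ?_, ?_⟩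
      · rw [imgOf_restrict ψ hle hPhQ]
        exact himg
      · rintro a b ha ⟨h, -, hab⟩
        exact hab
    · have hsat := hbig R hRS (Cfsg.Agent.Lib.helper89.card_lt_of_lt hPhR hRS)
      obtain ⟨Qh, Pst, ρ, ρ', ξ, hfa, hrec, hPstQh, hwp, hρ, hρ', hρP, hρ'P, hρQ, hρ'Q, hξA, hξs,
        hrel⟩ := exists_surgery hS F hψ hsat hPhR.le hRN himg
      have hQhS : Qh ≤ S := hfa.1
      have hD₁S : normalizerIn S Ph ⊓ normalizerIn S R ≤ S := inf_le_left.trans inf_le_left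
      have hPhD₁ : Ph ≤ normalizerIn S Ph ⊓ normalizerIn S R :=
        le_inf (Cfsg.Agent.Lib.helper89.le_normalizerIn hPhS)
          (hPhR.le.trans (Cfsg.Agent.Lib.helper89.le_normalizerIn hRS))
      have hRD₁ : R ≤ normalizerIn S Ph ⊓ normalizerIn S R :=
        le_inf hRN (Cfsg.Agent.Lib.helper89.le_normalizerIn hRS)
      have hρinj := F.injective_of_mem hρ
      have hPstconj : F.IsConj Ph Pst := by
        have h1 := isConj_imgOf F hρ hPhD₁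
        rw [hρP] at h1
        exact h1
      obtain ⟨θ, hθ, hθP⟩ := (hreach Pst hPstconj).exists_map
      have hθinj := F.injective_of_mem hθ
      have hRltN : R < normalizerIn S Ph := by
        refine lt_of_le_of_ne hRN (fun h => hle ?_)
        rw [h]
        exact hQN
      have hRltD₁ : R < normalizerIn S Ph ⊓ normalizerIn S R :=
        lt_inf_normalizerIn hS hRltN inf_le_left
      -- first map
      have hρr : ρ.range ≤ normalizerIn S Pst := by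
        have h1 := range_le_normalizerIn F hρ (inf_le_left : _ ≤ normalizerIn S Ph)
        rw [hρP] at h1
        exact h1
      obtain ⟨ψ₁, hψ₁, hψ₁x, hψ₁img⟩ := comp_mem' F hρ hθ hρr
      have hψ₁P : imgOf ψ₁ Ph = Ph := by rw [hψ₁img, hρP, hθP]
      have hcardD₁ : Nat.card R < Nat.card ↥(normalizerIn S Ph ⊓ normalizerIn S R) :=
        Cfsg.Agent.Lib.helper89.card_lt_of_lt hRltD₁ hD₁S
      have hcardD₁S : Nat.card ↥(normalizerIn S Ph ⊓ normalizerIn S R) ≤ Nat.card S :=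
        Subgroup.card_le_of_le hD₁S
      have e₁ := ih (Nat.card S - Nat.card ↥(normalizerIn S Ph ⊓ normalizerIn S R)) (by omega) _ ψ₁ rfl
        hψ₁ (lt_of_lt_of_le hPhR hRD₁) inf_le_left hψ₁P
      -- second map
      have hψr : ψ.range ≤ normalizerIn S Ph := by
        have h1 := range_le_normalizerIn F hψ hRN
        rw [himg] at h1
        exact h1
      have hcardψr : Nat.card ψ.range = Nat.card R := card_range hψinj
      have hψrlt : ψ.range < normalizerIn S Ph := by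
        refine lt_of_le_of_ne hψr (fun h => ?_)
        have h1 := Cfsg.Agent.Lib.helper89.card_lt_of_lt hRltN inf_le_left
        rw [← h, hcardψr] at h1
        exact lt_irrefl _ h1
      have hψrltD₂ : ψ.range < normalizerIn S Ph ⊓ normalizerIn S ψ.range :=
        lt_inf_normalizerIn hS hψrlt inf_le_left
      have hD₂S : normalizerIn S Ph ⊓ normalizerIn S ψ.range ≤ S := inf_le_left.trans inf_le_left
      have hρ'r : ρ'.range ≤ normalizerIn S Pst := by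
        have h1 := range_le_normalizerIn F hρ' (inf_le_left : _ ≤ normalizerIn S Ph)
        rw [hρ'P] at h1
        exact h1
      obtain ⟨ψ₂, hψ₂, hψ₂x, hψ₂img⟩ := comp_mem' F hρ' hθ hρ'r
      have hψ₂P : imgOf ψ₂ Ph = Ph := by rw [hψ₂img, hρ'P, hθP]
      have hPhψr : Ph ≤ ψ.range := (le_of_eq himg.symm).trans (imgOf_le_range ψ Ph)
      have hPhD₂ : Ph < normalizerIn S Ph ⊓ normalizerIn S ψ.range := lt_of_le_of_lt hPhψr hψrltD₂
      have hcardD₂ := Cfsg.Agent.Lib.helper89.card_lt_of_lt hψrltD₂ hD₂S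
      have hcardD₂S : Nat.card ↥(normalizerIn S Ph ⊓ normalizerIn S ψ.range) ≤ Nat.card S :=
        Subgroup.card_le_of_le hD₂S
      have e₂ := ih (Nat.card S - Nat.card ↥(normalizerIn S Ph ⊓ normalizerIn S ψ.range)) (by omega) _ ψ₂
        rfl hψ₂ hPhD₂ inf_le_left hψ₂P
      -- third map
      have hnormQ : ∀ r ∈ R, ∀ t ∈ qp F p Ph, r * t * r⁻¹ ∈ qp F p Ph :=
        fun r hr t ht => conj_mem_qp F p hPhS (hRN hr) ht
      obtain ⟨q, hqQ, hqN, hqR⟩ := exists_mem_normalizer_not_mem hS hRS hQS hnormQ hle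
      have hqD₁ : q ∈ normalizerIn S Ph ⊓ normalizerIn S R := ⟨hQN hqQ, hQS hqQ, hqN⟩
      have hD₀ : imgOf ρ (qp F p Ph ⊓ normalizerIn S R) ≤ normalizerIn S Qh ⊓ qp F p Pst := by
        intro y hy
        obtain ⟨x, hx, rfl⟩ := mem_imgOf.mp hy
        constructor
        · have h1 := apply_mem_normalizerIn F hρ (P := R) hx.2
          rw [hρQ] at h1
          exact h1
        · have h1 := apply_mem_qp F p hρ hPhD₁ hx.1
          rw [hρP] at h1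
          exact h1
      have hQhN : Qh ≤ normalizerIn S Pst := by
        intro y hy
        rw [← hρQ] at hy
        obtain ⟨x, hx, rfl⟩ := mem_imgOf.mp hy
        have h1 := apply_mem_normalizerIn F hρ (P := Ph) (hRN hx)
        rw [hρP] at h1
        exact h1
      obtain ⟨M₁, ψe, hψe, hQhM, hD₀M, hM₁N, hψeP, hψeξ⟩ :=
        exists_ext_fix hS F hQhS hrec hPstQh hwp hξA hξs _ hD₀ hQhN
      have hψer : ψe.range ≤ normalizerIn S Pst := by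
        have h1 := range_le_normalizerIn F hψe hM₁N
        rw [hψeP] at h1
        exact h1
      obtain ⟨κ, hκ, hκx, hκimg⟩ := comp_mem' F hψe hθ hψer
      obtain ⟨ψ₃, hψ₃, hψ₃x, hψ₃img⟩ := exists_comp_inv F hθ hκ hM₁N
      have hPstM₁ : Pst ≤ M₁ := hPstQh.trans hQhM
      have hψ₃P : imgOf ψ₃ Ph = Ph := by
        have h1 := hψ₃img Pst hPstM₁
        rw [hθP, hκimg, hψeP, hθP] at h1
        exact h1
      have hM₁S : M₁ ≤ S := hM₁N.trans inf_le_left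
      have hR₃N : imgOf θ M₁ ≤ normalizerIn S Ph := by
        intro y hy
        obtain ⟨x, hx, rfl⟩ := mem_imgOf.mp hy
        have h1 := apply_mem_normalizerIn F hθ (P := Pst) x.2
        rw [hθP] at h1
        exact h1
      have hR₃S : imgOf θ M₁ ≤ S := imgOf_le_S F hθ M₁
      have hPhR₃ : Ph ≤ imgOf θ M₁ := by
        have h1 := imgOf_mono θ hPstM₁
        rw [hθP] at h1
        exact h1
      have hρq : ρ ⟨q, hqD₁⟩ ∈ imgOf ρ (qp F p Ph ⊓ normalizerIn S R) :=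
        apply_mem_imgOf ⟨hqQ, hQS hqQ, hqN⟩
      have hρqQh : ρ ⟨q, hqD₁⟩ ∉ Qh := by
        intro h
        rw [← hρQ] at h
        exact hqR ((apply_mem_imgOf_iff hρinj).mp h)
      have hQhltM₁ : Qh < M₁ := by
        refine lt_of_le_of_ne hQhM (fun h => hρqQh ?_)
        rw [h]
        exact hD₀M hρq
      have hcardQh : Nat.card Qh = Nat.card R := by rw [← hρQ, card_imgOf hρinj hRD₁]
      have hcardM₁ : Nat.card R < Nat.card M₁ := by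
        rw [← hcardQh]
        exact Cfsg.Agent.Lib.helper89.card_lt_of_lt hQhltM₁ hM₁S
      have hcardR₃ : Nat.card ↥(imgOf θ M₁) = Nat.card M₁ := card_imgOf hθinj hM₁N
      have hcardR₃S : Nat.card ↥(imgOf θ M₁) ≤ Nat.card S := Subgroup.card_le_of_le hR₃S
      have hcardPhR : Nat.card Ph < Nat.card R := Cfsg.Agent.Lib.helper89.card_lt_of_lt hPhR hRS
      have hPhltR₃ : Ph < imgOf θ M₁ := by
        refine lt_of_le_of_ne hPhR₃ (fun h => ?_)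
        rw [← h] at hcardR₃
        omega
      have e₃ := ih (Nat.card S - Nat.card ↥(imgOf θ M₁)) (by omega) _ ψ₃ rfl hψ₃ hPhltR₃ hR₃N hψ₃P
      -- combine
      have hdom : ∀ a b, mapRel ψ₂ Ph a b → a ∈ qp F p Ph := by
        rintro a b ⟨-, ha, -⟩
        exact hPhQ ha
      refine extRel_mono ?_ (extRel_comp hS F hPhS (extRel_comp hS F hPhS e₁ e₃)
        (extRel_inv hS F hPhS e₂ hdom))
      rintro a b ⟨haR, haPh, rfl⟩
      have h1 : a ∈ normalizerIn S Ph ⊓ normalizerIn S R := hPhD₁ haPh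
      have hρa : ρ ⟨a, h1⟩ ∈ Pst := by
        have h2 := apply_mem_imgOf (φ := ρ) (x := ⟨a, h1⟩) haPh
        rw [hρP] at h2
        exact h2
      have hρaN : ρ ⟨a, h1⟩ ∈ normalizerIn S Pst := hρr ⟨_, rfl⟩
      have hψ₁a : ψ₁ ⟨a, h1⟩ = θ ⟨ρ ⟨a, h1⟩, hρaN⟩ := hψ₁x ⟨a, h1⟩ hρaN
      have hθρa : θ ⟨ρ ⟨a, h1⟩, hρaN⟩ ∈ Ph := by
        have h2 := apply_mem_imgOf (φ := θ) (x := ⟨ρ ⟨a, h1⟩, hρaN⟩) hρa
        rw [hθP] at h2
        exact h2
      have hb : ψ ⟨a, haR⟩ ∈ Ph := by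
        have h2 := apply_mem_imgOf (φ := ψ) (x := ⟨a, haR⟩) haPh
        rw [himg] at h2
        exact h2
      have hbD₂ : ψ ⟨a, haR⟩ ∈ normalizerIn S Ph ⊓ normalizerIn S ψ.range := hPhD₂.le hb
      have hρ'bN : ρ' ⟨ψ ⟨a, haR⟩, hbD₂⟩ ∈ normalizerIn S Pst := hρ'r ⟨_, rfl⟩
      have hψ₂b : ψ₂ ⟨ψ ⟨a, haR⟩, hbD₂⟩ = θ ⟨ρ' ⟨ψ ⟨a, haR⟩, hbD₂⟩, hρ'bN⟩ := hψ₂x _ hρ'bN
      have hρaQh : ρ ⟨a, h1⟩ ∈ Qh := hPstQh hρa
      have hrel' := hrel ⟨a, haR⟩ h1 hbD₂ hρaQh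
      have hyM₁ : ρ ⟨a, h1⟩ ∈ M₁ := hQhM hρaQh
      have hmem₃ : θ ⟨ρ ⟨a, h1⟩, hM₁N hyM₁⟩ ∈ imgOf θ M₁ := apply_mem_imgOf hyM₁
      have hψ₃a := hψ₃x ⟨ρ ⟨a, h1⟩, hyM₁⟩ hmem₃
      have hψea : ψe ⟨ρ ⟨a, h1⟩, hyM₁⟩ = ((ξ ⟨ρ ⟨a, h1⟩, hρaQh⟩ : Qh) : Ω) :=
        hψeξ ⟨ρ ⟨a, h1⟩, hρaQh⟩ hyM₁ hρa
      have hψeN : ψe ⟨ρ ⟨a, h1⟩, hyM₁⟩ ∈ normalizerIn S Pst := hψer ⟨_, rfl⟩
      have hκa : κ ⟨ρ ⟨a, h1⟩, hyM₁⟩ = θ ⟨ψe ⟨ρ ⟨a, h1⟩, hyM₁⟩, hψeN⟩ := hκx _ hψeN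
      refine ⟨θ ⟨ψe ⟨ρ ⟨a, h1⟩, hyM₁⟩, hψeN⟩, ⟨θ ⟨ρ ⟨a, h1⟩, hρaN⟩, ?_, ?_⟩, ?_⟩
      · exact ⟨h1, haPh, hψ₁a⟩
      · exact ⟨hmem₃, hθρa, hψ₃a.trans hκa⟩
      · refine ⟨hbD₂, hb, ?_⟩
        rw [hψ₂b]
        have h5 : (⟨ρ' ⟨ψ ⟨a, haR⟩, hbD₂⟩, hρ'bN⟩ : ↥(normalizerIn S Pst)) =
            ⟨ψe ⟨ρ ⟨a, h1⟩, hyM₁⟩, hψeN⟩ := Subtype.ext (hrel'.trans hψea.symm)
        rw [h5]

/-- The transported form of `extRel_of_lt`. -/
theorem extRel_trRel_of_lt [Finite S] {p : ℕ} [Fact p.Prime] (hS : IsPGroup p S) (F : FusionSystem S)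
    {Ph : Subgroup Ω} (hPhS : Ph ≤ S) (hbig : HBig F p (Nat.card Ph))
    (hreach : ∀ P, F.IsConj Ph P → Reach F Ph P)
    {R P M M' : Subgroup Ω} {φ : R →* Ω} {θ : M →* Ω} {θ' : M' →* Ω} (hφ : φ ∈ F.Hom R) (hPR : P < R)
    (hM : normalizerIn S P ≤ M) (hθ : θ ∈ F.Hom M) (hθP : imgOf θ P = Ph)
    (hM' : normalizerIn S (imgOf φ P) ≤ M') (hθ' : θ' ∈ F.Hom M') (hθ'P : imgOf θ' (imgOf φ P) = Ph) :
    ExtRel F p Ph (trRel φ θ θ' P) := by
  have hRS : R ≤ S := (F.le_of_mem hφ).1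
  have hPS : P ≤ S := hPR.le.trans hRS
  have hθinj := F.injective_of_mem hθ
  obtain ⟨D, hDR, hDN, hlt⟩ : ∃ D, D ≤ R ∧ D ≤ normalizerIn S P ∧ P < D :=
    ⟨_, inf_le_left, inf_le_right, lt_inf_normalizerIn hS hPR hRS⟩
  have hDM : D ≤ M := hDN.trans hM
  have hDS : D ≤ S := hDR.trans hRS
  have hφD : φ.comp (Subgroup.inclusion hDR) ∈ F.Hom D := hom_comp_inclusion F hφ hDR
  have hφDP : imgOf (φ.comp (Subgroup.inclusion hDR)) P = imgOf φ P := imgOf_restrict φ hDR hlt.le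
  have hr : (φ.comp (Subgroup.inclusion hDR)).range ≤ M' := by
    have h1 := range_le_normalizerIn F hφD hDN
    rw [hφDP] at h1
    exact h1.trans hM'
  obtain ⟨κ, hκ, hκx, hκimg⟩ := comp_mem' F hφD hθ' hr
  have hκP : imgOf κ P = Ph := by rw [hκimg, hφDP, hθ'P]
  obtain ⟨ψ, hψ, hψx, hψimg⟩ := exists_comp_inv F hθ hκ hDM
  have hψP : imgOf ψ Ph = Ph := by
    have h1 := hψimg P hlt.le
    rw [hθP, hκP] at h1
    exact h1
  have hPhR' : Ph ≤ imgOf θ D := by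
    have h1 := imgOf_mono θ hlt.le
    rw [hθP] at h1
    exact h1
  have hcard : Nat.card ↥(imgOf θ D) = Nat.card D := card_imgOf hθinj hDM
  have hcardP : Nat.card Ph = Nat.card P := by
    rw [← hθP, card_imgOf hθinj ((Cfsg.Agent.Lib.helper89.le_normalizerIn hPS).trans hM)]
  have hcardlt : Nat.card P < Nat.card D := Cfsg.Agent.Lib.helper89.card_lt_of_lt hlt hDS
  have hPhlt : Ph < imgOf θ D := by
    refine lt_of_le_of_ne hPhR' (fun h => ?_)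
    rw [← h] at hcard
    omega
  have hR'N : imgOf θ D ≤ normalizerIn S Ph := by
    intro y hy
    obtain ⟨x, hx, rfl⟩ := mem_imgOf.mp hy
    have h1 := apply_mem_normalizerIn F hθ (P := P) (hDN hx)
    rw [hθP] at h1
    exact h1
  have e := extRel_of_lt hS F hPhS hbig hreach _ _ ψ rfl hψ hPhlt hR'N hψP
  refine extRel_mono ?_ e
  rintro a b ⟨x, h1, h2, hxP, rfl, rfl⟩
  have hxD : (x : Ω) ∈ D := hlt.le hxP
  have hmem : θ ⟨x, hDM hxD⟩ ∈ imgOf θ D := apply_mem_imgOf hxD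
  refine ⟨hmem, ?_, ?_⟩
  · have h3 := apply_mem_imgOf (φ := θ) (x := ⟨x, h1⟩) hxP
    rw [hθP] at h3
    exact h3
  · have h3 := hψx ⟨x, hxD⟩ hmem
    rw [h3]
    exact hκx ⟨x, hxD⟩ h2

/-- Every `F`-automorphism of `Ph` extends to a map of the system defined on `qp F p Ph`. -/
theorem exists_ext_qp [Finite S] {p : ℕ} [Fact p.Prime] (hS : IsPGroup p S) (F : FusionSystem S)
    (ℋ : Set (Subgroup Ω)) (hℋconj : ∀ P ∈ ℋ, ∀ Q, F.IsConj P Q → Q ∈ ℋ)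
    (hgen : ∀ E : FusionSystem S, (∀ P ∈ ℋ, F.Hom P ⊆ E.Hom P) → F ≤ E)
    {Ph : Subgroup Ω} (hPhS : Ph ≤ S) (hPhℋ : Ph ∉ ℋ) (hlt : Nat.card Ph < Nat.card S)
    (hbig : HBig F p (Nat.card Ph)) (hreach : ∀ P, F.IsConj Ph P → Reach F Ph P)
    {ω : Ph →* Ω} (hω : ω ∈ F.Hom Ph) (hωr : ω.range = Ph) :
    ∃ χ ∈ F.Hom (qp F p Ph), imgOf χ Ph = Ph ∧
      ∀ (x : Ph) (h : (x : Ω) ∈ qp F p Ph), χ ⟨x, h⟩ = ω x := by
  have key := gen_induction F ℋ hgen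
    (fun R φ => ∀ P : Subgroup Ω, P ≤ R → ∀ (M M' : Subgroup Ω) (θ : M →* Ω) (θ' : M' →* Ω),
      normalizerIn S P ≤ M → θ ∈ F.Hom M → imgOf θ P = Ph → normalizerIn S (imgOf φ P) ≤ M' →
      θ' ∈ F.Hom M' → imgOf θ' (imgOf φ P) = Ph → ExtRel F p Ph (trRel φ θ θ' P)) ?_ ?_ ?_ ?_
  · have hN : Ph ≤ normalizerIn S Ph := Cfsg.Agent.Lib.helper89.le_normalizerIn hPhS
    have hsub : (normalizerIn S Ph).subtype ∈ F.Hom (normalizerIn S Ph) :=
      Cfsg.Agent.Lib.helper88.subtype_mem F inf_le_left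
    have hsubP : imgOf (normalizerIn S Ph).subtype Ph = Ph := imgOf_subtype hN
    have hωP : imgOf ω Ph = Ph := by
      rw [imgOf_self]
      exact hωr
    have hM' : normalizerIn S (imgOf ω Ph) ≤ normalizerIn S Ph := by rw [hωP]
    have hθ'P : imgOf (normalizerIn S Ph).subtype (imgOf ω Ph) = Ph := by
      rw [hωP]
      exact hsubP
    obtain ⟨χ, hχ, hχP, hχr⟩ := key Ph ω hω Ph le_rfl (normalizerIn S Ph) (normalizerIn S Ph)
      (normalizerIn S Ph).subtype (normalizerIn S Ph).subtype le_rfl hsub hsubP hM' hsub hθ'P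
    refine ⟨χ, hχ, hχP, fun x h => hχr x (ω x) h ?_⟩
    have hωx : ω x ∈ Ph := by
      have h1 : ω x ∈ ω.range := ⟨x, rfl⟩
      rw [hωr] at h1
      exact h1
    exact ⟨x, hN x.2, hN hωx, x.2, rfl, rfl⟩
  · -- conjugation maps
    intro R g hRS hg P hPR M M' θ θ' hM hθ hθP hM' hθ' hθ'P
    have hPS : P ≤ S := hPR.trans hRS
    have hθinj := F.injective_of_mem hθ
    have hcardP : Nat.card P = Nat.card Ph := by
      rw [← hθP, card_imgOf hθinj ((Cfsg.Agent.Lib.helper89.le_normalizerIn hPS).trans hM)]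
    have hPltS : P < S := by
      refine lt_of_le_of_ne hPS (fun heq => ?_)
      rw [heq] at hcardP
      omega
    have hPN : P < normalizerIn S P := Cfsg.Agent.Lib.helper89.lt_normalizerIn hS hPltS
    have hconj := F.conj_mem (inf_le_left : normalizerIn S P ≤ S) hg
    have himgeq := imgOf_conjHom_eq hPR hPN.le g
    have hM'2 : normalizerIn S (imgOf (conjHom (normalizerIn S P) g) P) ≤ M' := by
      rw [← himgeq]
      exact hM'
    have hθ'P2 : imgOf θ' (imgOf (conjHom (normalizerIn S P) g) P) = Ph := by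
      rw [← himgeq]
      exact hθ'P
    have e := extRel_trRel_of_lt hS F hPhS hbig hreach hconj hPN hM hθ hθP hM'2 hθ' hθ'P2
    refine extRel_mono ?_ e
    rintro a b ⟨x, h1, h2, hxP, rfl, rfl⟩
    exact ⟨⟨x, hPN.le hxP⟩, h1, h2, hxP, rfl, rfl⟩
  · -- composition
    intro P₀ Q₀ φ ψ hφ hψ hCφ hCψ h P hP M M'' θ θ'' hM hθ hθP hM'' hθ'' hθ''P
    have hP₀S : P₀ ≤ S := (F.le_of_mem hφ).1
    have hPS : P ≤ S := hP.trans hP₀S
    have hP₁S : imgOf φ P ≤ S := imgOf_le_S F hφ P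
    have hP₁Q₀ : imgOf φ P ≤ Q₀ := by
      rintro _ ⟨x, -, rfl⟩
      exact h x
    have hconj1 : F.IsConj P (imgOf φ P) := isConj_imgOf F hφ hP
    have hconj0 : F.IsConj P Ph := by
      have h1 := isConj_imgOf F hθ ((Cfsg.Agent.Lib.helper89.le_normalizerIn hPS).trans hM)
      rw [hθP] at h1
      exact h1
    have hconj : F.IsConj Ph (imgOf φ P) :=
      Cfsg.Agent.Lib.helper88.isConj_trans F (Cfsg.Agent.Lib.helper88.isConj_symm F hconj0) hconj1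
    obtain ⟨θ', hθ', hθ'P⟩ := (hreach _ hconj).exists_map
    have hcomp : imgOf (ψ.comp (φ.codRestrict Q₀ h)) P = imgOf ψ (imgOf φ P) := imgOf_comp φ ψ h P
    have hM''2 : normalizerIn S (imgOf ψ (imgOf φ P)) ≤ M'' := by
      rw [← hcomp]
      exact hM''
    have hθ''P2 : imgOf θ'' (imgOf ψ (imgOf φ P)) = Ph := by
      rw [← hcomp]
      exact hθ''P
    have e₁ := hCφ P hP M _ θ θ' hM hθ hθP le_rfl hθ' hθ'P
    have e₂ := hCψ (imgOf φ P) hP₁Q₀ _ M'' θ' θ'' le_rfl hθ' hθ'P hM''2 hθ'' hθ''P2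
    refine extRel_mono ?_ (extRel_comp hS F hPhS e₁ e₂)
    rintro a c ⟨x, h1, h2, hxP, rfl, rfl⟩
    have hφx : φ x ∈ imgOf φ P := apply_mem_imgOf hxP
    have hφxN : φ x ∈ normalizerIn S (imgOf φ P) := Cfsg.Agent.Lib.helper89.le_normalizerIn hP₁S hφx
    exact ⟨θ' ⟨φ x, hφxN⟩, ⟨x, h1, hφxN, hxP, rfl, rfl⟩, ⟨⟨φ x, h x⟩, hφxN, h2, hφx, rfl, rfl⟩⟩
  · -- inverses
    intro P₀ φ hφ hCφ ψ hψ hψx P' hP' M' M θ' θ hM' hθ' hθ'P hM hθ hθP
    have hle : imgOf ψ P' ≤ P₀ := by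
      rintro _ ⟨⟨_, x, rfl⟩, -, rfl⟩
      rw [hψx]
      exact x.2
    have himg : imgOf φ (imgOf ψ P') = P' := imgOf_imgOf_inv hψx hP'
    have hM'2 : normalizerIn S (imgOf φ (imgOf ψ P')) ≤ M' := by
      rw [himg]
      exact hM'
    have hθ'P2 : imgOf θ' (imgOf φ (imgOf ψ P')) = Ph := by
      rw [himg]
      exact hθ'P
    have e := hCφ (imgOf ψ P') hle M M' θ θ' hM hθ hθP hM'2 hθ' hθ'P2
    have hdom : ∀ a b, trRel φ θ θ' (imgOf ψ P') a b → a ∈ qp F p Ph := by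
      rintro a b ⟨x, h1, h2, hxP, rfl, -⟩
      have h3 := apply_mem_imgOf (φ := θ) (x := ⟨x, h1⟩) hxP
      rw [hθP] at h3
      exact le_qp F p hS hPhS h3
    refine extRel_mono ?_ (extRel_inv hS F hPhS e hdom)
    rintro a b ⟨y, h1, h2, hyP', rfl, rfl⟩
    obtain ⟨_, x, rfl⟩ := y
    have hψy : ψ ⟨φ x, ⟨x, rfl⟩⟩ = (x : Ω) := hψx x
    have hxM : (x : Ω) ∈ M := by
      have h3 := h2
      rw [hψy] at h3
      exact h3
    have hxP : (x : Ω) ∈ imgOf ψ P' := by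
      have h3 := apply_mem_imgOf (φ := ψ) (x := (⟨φ x, ⟨x, rfl⟩⟩ : φ.range)) hyP'
      rw [hψy] at h3
      exact h3
    refine ⟨x, hxM, h1, hxP, ?_, rfl⟩
    have h5 : (⟨(x : Ω), hxM⟩ : M) = ⟨ψ ⟨φ x, ⟨x, rfl⟩⟩, h2⟩ := Subtype.ext hψy.symm
    rw [h5]
  · -- maps with source in `ℋ`
    intro R hR φ hφ P hPR M M' θ θ' hM hθ hθP hM' hθ' hθ'P
    have hRS : R ≤ S := (F.le_of_mem hφ).1
    have hPS : P ≤ S := hPR.trans hRS
    by_cases hPeq : P = R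
    · exfalso
      have hconj0 : F.IsConj P Ph := by
        have h1 := isConj_imgOf F hθ ((Cfsg.Agent.Lib.helper89.le_normalizerIn hPS).trans hM)
        rw [hθP] at h1
        exact h1
      have hPℋ : P ∈ ℋ := by
        rw [hPeq]
        exact hR
      exact hPhℋ (hℋconj P hPℋ Ph hconj0)
    · exact extRel_trRel_of_lt hS F hPhS hbig hreach hφ (lt_of_le_of_ne hPR hPeq) hM hθ hθP hM' hθ'
        hθ'P

end Cfsg.Agent.Lib.helper87
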