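import Cfsg.Agent.Lib.helper87.SatExt
import Cfsg.Agent.Lib.helper88.Saturated2

/-!
The final step of the saturation criterion: a class outside the generating family, all of whose
bigger subgroups have fully automized receptive conjugates, has a fully automized receptive member.
-/

set_option autoImplicit false

namespace Cfsg.Agent.Lib.helper87

open Cfsg
open Cfsg.FusionSystem (normalizerIn centralizerIn extender)

variable {Ω : Type*} [Group Ω] {S : Subgroup Ω}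

theorem mem_normalizer_of_conj_aut {Q : Subgroup Ω} {a : MulAut Q} {g : Ω}
    (h : ∀ x : Q, ((a x : Q) : Ω) = g * x * g⁻¹) : g ∈ Subgroup.normalizer (Q : Set Ω) := by
  rw [Subgroup.mem_normalizer_iff]
  intro w
  constructor
  · intro hw
    rw [← h ⟨w, hw⟩]
    exact (a ⟨w, hw⟩).2
  · intro hw
    have h2 := h (a⁻¹ ⟨g * w * g⁻¹, hw⟩)
    rw [MulAut.apply_inv_self] at h2
    have h3 : w = ((a⁻¹ ⟨g * w * g⁻¹, hw⟩ : Q) : Ω) := mul_left_cancel (mul_right_cancel h2)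
    rw [h3]
    exact (a⁻¹ ⟨g * w * g⁻¹, hw⟩).2

/-- A well placed subgroup `P` of `Q` all of whose `F`-automorphisms extend to `Q`, and whose
normalizer in `S` normalizes `Q`, is fully automized. -/
theorem fullyAutomized_of_wellPlaced [Finite S] {p : ℕ} [Fact p.Prime] (F : FusionSystem S)
    {Q P : Subgroup Ω} (hQS : Q ≤ S) (hPQ : P ≤ Q) (hwp : WellPlaced F p Q P)
    (hext : ∀ γ ∈ F.autGroup P, ∃ γ' ∈ F.autGroup Q,
      ∀ (x : Q) (hx : (x : Ω) ∈ P), ((γ' x : Q) : Ω) = γ ⟨x, hx⟩)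
    (hnorm : ∀ g ∈ S, g ∈ Subgroup.normalizer (P : Set Ω) → g ∈ Subgroup.normalizer (Q : Set Ω)) :
    F.IsFullyAutomized p P := by
  have hPS : P ≤ S := hPQ.trans hQS
  have : Finite (MulAut Q) := finite_mulAut_of_le hQS
  have hAS : autInducedBy S Q ≤ F.autGroup Q := Cfsg.Agent.Lib.helper89.autInducedBy_le_autGroup F hQS
  obtain ⟨R, hR⟩ := hwp
  refine ⟨hPS, ?_⟩
  refine sylowIn_map_range
    ((resAut Q P hPQ).comp (Subgroup.inclusion inf_le_left))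
    (F.autGroup P) (autInducedBy S P)
    ((autInducedBy S Q ⊓ (stabAut Q P ⊓ F.autGroup Q)).subgroupOf (stabAut Q P ⊓ F.autGroup Q))
    ?_ ?_ R hR
  · -- the range of the restriction is `Aut_F(P)`
    ext γ
    constructor
    · intro hγ
      obtain ⟨γ', hγ', hext'⟩ := hext γ hγ
      have hstab : γ' ∈ stabAut Q P := by
        intro x
        constructor
        · intro hx
          rw [hext' x hx]
          exact (γ ⟨x, hx⟩).2
        · intro hx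
          have h1 := hext' ⟨(γ.symm ⟨γ' x, hx⟩ : P), hPQ (γ.symm ⟨γ' x, hx⟩).2⟩
            (γ.symm ⟨γ' x, hx⟩).2
          have h2 : (γ ⟨(γ.symm ⟨γ' x, hx⟩ : P), (γ.symm ⟨γ' x, hx⟩).2⟩ : P) = ⟨γ' x, hx⟩ :=
            γ.apply_symm_apply _
          rw [h2] at h1
          have h3 : (⟨(γ.symm ⟨γ' x, hx⟩ : P), hPQ (γ.symm ⟨γ' x, hx⟩).2⟩ : Q) = x :=
            γ'.injective (Subtype.ext h1)
          rw [← h3]
          exact (γ.symm ⟨γ' x, hx⟩).2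
      refine ⟨⟨γ', Subgroup.mem_inf.mpr ⟨hstab, hγ'⟩⟩, ?_⟩
      ext x
      exact hext' ⟨x, hPQ x.2⟩ x.2
    · rintro ⟨a, rfl⟩
      rw [Cfsg.Agent.Lib.helper89.mem_autGroup_iff F hPS]
      have h1 : Q.subtype.comp (a : MulAut Q).toMonoidHom ∈ F.Hom Q :=
        (Cfsg.Agent.Lib.helper89.mem_autGroup_iff F hQS _).mp (Subgroup.mem_inf.mp a.2).2
      exact hom_restrict F h1 hPQ _ (fun x => rfl)
  · -- the image of `Aut_S(Q) ∩ Stab` is `Aut_S(P)`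
    ext γ
    constructor
    · intro hγ
      rw [autInducedBy_eq_map] at hγ
      obtain ⟨m, hm, rfl⟩ := hγ
      obtain ⟨hmS, hmN⟩ := Subgroup.mem_subgroupOf.mp hm
      have hmQ : (m : Ω) ∈ Subgroup.normalizer (Q : Set Ω) := hnorm _ hmS hmN
      have hσ : Q.normalizerMonoidHom ⟨m, hmQ⟩ ∈ autInducedBy S Q :=
        (Cfsg.Agent.Lib.helper89.mem_autInducedBy_iff S Q _).mpr ⟨m, hmS, fun x => rfl⟩
      have hstab : Q.normalizerMonoidHom ⟨m, hmQ⟩ ∈ stabAut Q P := by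
        intro x
        exact Subgroup.mem_normalizer_iff.mp hmN x
      refine ⟨⟨Q.normalizerMonoidHom ⟨m, hmQ⟩, Subgroup.mem_inf.mpr ⟨hstab, hAS hσ⟩⟩, ?_, ?_⟩
      · exact Subgroup.mem_subgroupOf.mpr
          (Subgroup.mem_inf.mpr ⟨hσ, Subgroup.mem_inf.mpr ⟨hstab, hAS hσ⟩⟩)
      · ext x
        rfl
    · rintro ⟨a, ha, rfl⟩
      have ha1 : (a : MulAut Q) ∈ autInducedBy S Q :=
        (Subgroup.mem_inf.mp (Subgroup.mem_subgroupOf.mp ha)).1
      obtain ⟨g, hg, hga⟩ := (Cfsg.Agent.Lib.helper89.mem_autInducedBy_iff S Q _).mp ha1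
      exact (Cfsg.Agent.Lib.helper89.mem_autInducedBy_iff S _ _).mpr
        ⟨g, hg, fun x => hga ⟨x, hPQ x.2⟩⟩

theorem card_qp_le [Finite S] {p : ℕ} [Fact p.Prime] (F : FusionSystem S) {P₁ P : Subgroup Ω}
    (h : Reach F P₁ P) : Nat.card ↥(qp F p P) ≤ Nat.card ↥(qp F p P₁) := by
  obtain ⟨θ, hθ, hθP⟩ := h.exists_map
  have hPS := h.1
  have hθinj := F.injective_of_mem hθ
  have hle : imgOf θ (qp F p P) ≤ qp F p P₁ := by
    intro y hy
    obtain ⟨x, hx, rfl⟩ := mem_imgOf.mp hy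
    have h1 := apply_mem_qp F p hθ (Cfsg.Agent.Lib.helper89.le_normalizerIn hPS) hx
    rw [hθP] at h1
    exact h1
  have : Finite ↥(qp F p P₁) :=
    Cfsg.Agent.Lib.helper89.finite_of_le ((qp_le_normalizerIn F p P₁).trans inf_le_left)
  calc Nat.card ↥(qp F p P) = Nat.card ↥(imgOf θ (qp F p P)) :=
        (card_imgOf hθinj (qp_le_normalizerIn F p P)).symm
    _ ≤ Nat.card ↥(qp F p P₁) := Subgroup.card_le_of_le hle

/-- Lifting `F`-automorphisms of `Pst` to `F`-automorphisms of `qp F p Pst` stabilizing `Pst`. -/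
theorem exists_lift_aut [Finite S] {p : ℕ} [Fact p.Prime] (hS : IsPGroup p S) (F : FusionSystem S)
    {Pst : Subgroup Ω} (hPstS : Pst ≤ S)
    (hE : ∀ ω : Pst →* Ω, ω ∈ F.Hom Pst → ω.range = Pst → ∃ χ ∈ F.Hom (qp F p Pst),
      imgOf χ Pst = Pst ∧ ∀ (x : Pst) (h : (x : Ω) ∈ qp F p Pst), χ ⟨x, h⟩ = ω x)
    {γ : MulAut Pst} (hγ : γ ∈ F.autGroup Pst) :
    ∃ γ' ∈ F.autGroup (qp F p Pst), γ' ∈ stabAut (qp F p Pst) Pst ∧
      ∀ (x : ↥(qp F p Pst)) (hx : (x : Ω) ∈ Pst), ((γ' x : ↥(qp F p Pst)) : Ω) = γ ⟨x, hx⟩ := by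
  have hQS : qp F p Pst ≤ S := (qp_le_normalizerIn F p Pst).trans inf_le_left
  have hω : Pst.subtype.comp γ.toMonoidHom ∈ F.Hom Pst :=
    (Cfsg.Agent.Lib.helper88.mem_autGroup_iff' F hPstS γ).mp hγ
  obtain ⟨χ, hχ, hχP, hχx⟩ := hE _ hω (range_subtype_comp_aut Pst γ)
  have hrange := range_eq_qp hS F hPstS hχ hχP
  have hχmem : ∀ x : ↥(qp F p Pst), χ x ∈ qp F p Pst := fun x => hrange.le ⟨x, rfl⟩
  obtain ⟨γ', hγ'⟩ := Cfsg.Agent.Lib.helper89.exists_aut_of_mem F hχ hχmem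
  have hχinj := F.injective_of_mem hχ
  refine ⟨γ', ?_, ?_, ?_⟩
  · rw [Cfsg.Agent.Lib.helper88.mem_autGroup_iff' F hQS]
    have h1 : (qp F p Pst).subtype.comp γ'.toMonoidHom = χ := by
      ext x
      exact hγ' x
    rw [h1]
    exact hχ
  · intro x
    rw [hγ' x]
    have h1 := apply_mem_imgOf_iff hχinj (P := Pst) (x := x)
    rw [hχP] at h1
    exact h1.symm
  · intro x hx
    rw [hγ' x]
    exact hχx ⟨x, hx⟩ x.2

/-- Stage 1: a fully normalized, well placed member `Pst` of the class whose `qp F p Pst` is fully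
automized and receptive. -/
theorem exists_wellPlaced_fullyNormalized [Finite S] {p : ℕ} [Fact p.Prime] (hS : IsPGroup p S)
    (F : FusionSystem S) (ℋ : Set (Subgroup Ω)) (hℋconj : ∀ P ∈ ℋ, ∀ Q, F.IsConj P Q → Q ∈ ℋ)
    (hgen : ∀ E : FusionSystem S, (∀ P ∈ ℋ, F.Hom P ⊆ E.Hom P) → F ≤ E)
    {P₀ : Subgroup Ω} (hP₀S : P₀ ≤ S) (hP₀ℋ : P₀ ∉ ℋ) (hlt : Nat.card P₀ < Nat.card S)
    (hbig : HBig F p (Nat.card P₀)) (hq : ∃ Q, F.IsConj P₀ Q ∧ ¬ qp F p Q ≤ Q) :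
    ∃ Pst, F.IsConj P₀ Pst ∧ F.IsFullyNormalized Pst ∧ F.IsFullyAutomized p (qp F p Pst) ∧
      F.IsReceptive (qp F p Pst) ∧ WellPlaced F p (qp F p Pst) Pst := by
  obtain ⟨P₁, hconj₁, hfn₁⟩ := Cfsg.Agent.Lib.helper88.exists_fullyNormalized_conj F hP₀S
  have hP₁S : P₁ ≤ S := hfn₁.1
  have hcard₁ : Nat.card P₀ = Nat.card P₁ := Cfsg.Agent.Lib.helper88.isConj_card F hconj₁
  have hP₁ℋ : P₁ ∉ ℋ :=
    fun h => hP₀ℋ (hℋconj P₁ h P₀ (Cfsg.Agent.Lib.helper88.isConj_symm F hconj₁))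
  have hlt₁ : Nat.card P₁ < Nat.card S := by
    rw [← hcard₁]
    exact hlt
  have hbig₁ : HBig F p (Nat.card P₁) := by
    rw [← hcard₁]
    exact hbig
  have hreach₁ := reach_of_isConj hS F ℋ hℋconj hgen hfn₁ hP₁ℋ hlt₁ hbig₁
  -- `P₁ < qp P₁`
  obtain ⟨Q, hQconj, hQnot⟩ := hq
  have hQS : Q ≤ S := Cfsg.Agent.Lib.helper88.isConj_le F hQconj
  have hcardQ : Nat.card P₀ = Nat.card Q := Cfsg.Agent.Lib.helper88.isConj_card F hQconj
  have hqQS : qp F p Q ≤ S := (qp_le_normalizerIn F p Q).trans inf_le_left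
  have hQlt : Q < qp F p Q :=
    lt_of_le_of_ne (le_qp F p hS hQS) (fun h => hQnot (le_of_eq h.symm))
  have hcardQlt : Nat.card Q < Nat.card ↥(qp F p Q) :=
    Cfsg.Agent.Lib.helper89.card_lt_of_lt hQlt hqQS
  have hcardle := card_qp_le (p := p) F (hreach₁ Q (Cfsg.Agent.Lib.helper88.isConj_trans F
    (Cfsg.Agent.Lib.helper88.isConj_symm F hconj₁) hQconj))
  have hcardlt₁ : Nat.card P₁ < Nat.card ↥(qp F p P₁) := by omega
  -- a fully automized receptive conjugate of `qp P₁`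
  have hQ₁S : qp F p P₁ ≤ S := (qp_le_normalizerIn F p P₁).trans inf_le_left
  obtain ⟨Qh, hQhconj, hfa, hrec⟩ := hbig₁ (qp F p P₁) hQ₁S hcardlt₁
  have hQhS : Qh ≤ S := hfa.1
  obtain ⟨α, hα, hαQ⟩ := Cfsg.Agent.Lib.helper88.exists_map_normalizer hS F hfa hrec hQhconj
  have hαQ' : imgOf α (qp F p P₁) = Qh := hαQ
  have hαinj := F.injective_of_mem hα
  have hP₁Q₁ : P₁ ≤ qp F p P₁ := le_qp F p hS hP₁S
  have hQ₁N : qp F p P₁ ≤ normalizerIn S (qp F p P₁) := Cfsg.Agent.Lib.helper89.le_normalizerIn hQ₁S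
  have hP₁N : P₁ ≤ normalizerIn S (qp F p P₁) := hP₁Q₁.trans hQ₁N
  have hNN : normalizerIn S P₁ ≤ normalizerIn S (qp F p P₁) :=
    normalizerIn_le_normalizerIn_qp F p hP₁S
  obtain ⟨Ph, hPhdef⟩ : ∃ Ph, imgOf α P₁ = Ph := ⟨_, rfl⟩
  have hPhconj : F.IsConj P₁ Ph := by
    have h1 := isConj_imgOf F hα hP₁N
    rw [hPhdef] at h1
    exact h1
  have hPhS : Ph ≤ S := Cfsg.Agent.Lib.helper88.isConj_le F hPhconj
  have hPhQh : Ph ≤ Qh := by
    have h1 := imgOf_mono α hP₁Q₁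
    rw [hαQ', hPhdef] at h1
    exact h1
  have hQhqp : Qh ≤ qp F p Ph := by
    intro y hy
    rw [← hαQ'] at hy
    obtain ⟨x, hx, rfl⟩ := mem_imgOf.mp hy
    have h1 := apply_mem_qp F p hα hP₁N hx
    rw [hPhdef] at h1
    exact h1
  -- a well placed image
  obtain ⟨a, ha, hwp⟩ := exists_wellPlaced F hfa Ph
  obtain ⟨Pst, hPstdef⟩ : ∃ Pst, imgAut Qh Ph a = Pst := ⟨_, rfl⟩
  rw [hPstdef] at hwp
  have hPstQh : Pst ≤ Qh := by
    rw [← hPstdef]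
    exact imgAut_le Qh _ a
  obtain ⟨ε, hε, hεP, εt, hεt, hεtx⟩ := exists_ext_wellPlaced hS F hQhS hrec hwp hPstQh ha hPstdef
  have hPhK : Ph ≤ normalizerIn S Ph ⊓ normalizerIn S Qh :=
    le_inf (Cfsg.Agent.Lib.helper89.le_normalizerIn hPhS)
      (hPhQh.trans (Cfsg.Agent.Lib.helper89.le_normalizerIn hQhS))
  have hεtP : imgOf εt Ph = Pst := by
    rw [imgOf_eq_imgAut hεtx hPhQh hPhK]
    exact hεP
  have hPstconj : F.IsConj Ph Pst := by
    have h1 := isConj_imgOf F hεt hPhK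
    rw [hεtP] at h1
    exact h1
  have hconj₁st : F.IsConj P₁ Pst := Cfsg.Agent.Lib.helper88.isConj_trans F hPhconj hPstconj
  have hPstS : Pst ≤ S := hPstQh.trans hQhS
  have hfn : F.IsFullyNormalized Pst := by
    refine ⟨hPstS, fun Q' hQ' => ?_⟩
    have h1 : Nat.card ↥(normalizerIn S Q') ≤ Nat.card ↥(normalizerIn S P₁) :=
      hfn₁.2 Q' (Cfsg.Agent.Lib.helper88.isConj_trans F hconj₁st hQ')
    have h2 : imgOf α (normalizerIn S P₁) ≤ normalizerIn S Ph ⊓ normalizerIn S Qh := by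
      intro y hy
      obtain ⟨x, hx, rfl⟩ := mem_imgOf.mp hy
      constructor
      · have h3 := apply_mem_normalizerIn F hα (P := P₁) hx
        rw [hPhdef] at h3
        exact h3
      · have h3 := apply_mem_normalizerIn F hα (P := qp F p P₁) x.2
        rw [hαQ'] at h3
        exact h3
    have h3 : imgOf εt (imgOf α (normalizerIn S P₁)) ≤ normalizerIn S Pst := by
      intro y hy
      obtain ⟨x, hx, rfl⟩ := mem_imgOf.mp hy
      have h4 := apply_mem_normalizerIn F hεt (P := Ph) x.2.1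
      rw [hεtP] at h4
      exact h4
    have h4 : Nat.card ↥(imgOf εt (imgOf α (normalizerIn S P₁))) = Nat.card ↥(normalizerIn S P₁) := by
      rw [card_imgOf (F.injective_of_mem hεt) h2, card_imgOf hαinj hNN]
    have : Finite ↥(normalizerIn S Pst) := Cfsg.Agent.Lib.helper89.finite_of_le inf_le_left
    have h5 := Subgroup.card_le_of_le h3
    omega
  have hQhNPh : Qh ≤ normalizerIn S Ph := hQhqp.trans (qp_le_normalizerIn F p Ph)
  have hQhqpst : Qh ≤ qp F p Pst := by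
    intro y hy
    have hxQh : ((ε⁻¹ ⟨y, hy⟩ : Qh) : Ω) ∈ Qh := (ε⁻¹ ⟨y, hy⟩).2
    have hxK : ((ε⁻¹ ⟨y, hy⟩ : Qh) : Ω) ∈ normalizerIn S Ph ⊓ normalizerIn S Qh :=
      ⟨hQhNPh hxQh, Cfsg.Agent.Lib.helper89.le_normalizerIn hQhS hxQh⟩
    have h1 := apply_mem_qp F p hεt hPhK (x := ⟨_, hxK⟩) (hQhqp hxQh)
    rw [hεtP, hεtx _ hxQh hxK] at h1
    have h2 : ε ⟨((ε⁻¹ ⟨y, hy⟩ : Qh) : Ω), hxQh⟩ = ⟨y, hy⟩ := by
      show ε (ε⁻¹ ⟨y, hy⟩) = ⟨y, hy⟩
      rw [MulAut.apply_inv_self]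
    rw [h2] at h1
    exact h1
  have hqpeq : qp F p Pst = Qh := by
    have : Finite ↥(qp F p Pst) :=
      Cfsg.Agent.Lib.helper89.finite_of_le ((qp_le_normalizerIn F p Pst).trans inf_le_left)
    have h1 := card_qp_le (p := p) F (hreach₁ Pst hconj₁st)
    have h2 : Nat.card Qh = Nat.card ↥(qp F p P₁) := by rw [← hαQ', card_imgOf hαinj hQ₁N]
    exact (Subgroup.eq_of_le_of_card_ge hQhqpst (by omega)).symm
  refine ⟨Pst, Cfsg.Agent.Lib.helper88.isConj_trans F hconj₁ hconj₁st, hfn, ?_, ?_, ?_⟩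
  · rw [hqpeq]
    exact hfa
  · rw [hqpeq]
    exact hrec
  · rw [hqpeq]
    exact hwp

/-- Stage 2: a fully normalized well placed `Pst` outside the family, with `qp F p Pst` fully
automized and receptive, is fully automized and receptive. -/
theorem fullyAutomized_receptive_of_wellPlaced [Finite S] {p : ℕ} [Fact p.Prime] (hS : IsPGroup p S)
    (F : FusionSystem S) (ℋ : Set (Subgroup Ω)) (hℋconj : ∀ P ∈ ℋ, ∀ Q, F.IsConj P Q → Q ∈ ℋ)
    (hgen : ∀ E : FusionSystem S, (∀ P ∈ ℋ, F.Hom P ⊆ E.Hom P) → F ≤ E)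
    {Pst : Subgroup Ω} (hfn : F.IsFullyNormalized Pst) (hPstℋ : Pst ∉ ℋ)
    (hlt : Nat.card Pst < Nat.card S) (hbig : HBig F p (Nat.card Pst))
    (hfa : F.IsFullyAutomized p (qp F p Pst)) (hrec : F.IsReceptive (qp F p Pst))
    (hwp : WellPlaced F p (qp F p Pst) Pst) :
    F.IsFullyAutomized p Pst ∧ F.IsReceptive Pst := by
  have hPstS : Pst ≤ S := hfn.1
  have hQS : qp F p Pst ≤ S := hfa.1
  have hPQ : Pst ≤ qp F p Pst := le_qp F p hS hPstS
  have hreach := reach_of_isConj hS F ℋ hℋconj hgen hfn hPstℋ hlt hbig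
  have hE : ∀ ω : Pst →* Ω, ω ∈ F.Hom Pst → ω.range = Pst → ∃ χ ∈ F.Hom (qp F p Pst),
      imgOf χ Pst = Pst ∧ ∀ (x : Pst) (h : (x : Ω) ∈ qp F p Pst), χ ⟨x, h⟩ = ω x :=
    fun ω hω hωr => exists_ext_qp hS F ℋ hℋconj hgen hPstS hPstℋ hlt hbig hreach hω hωr
  have hNN : normalizerIn S Pst ≤ normalizerIn S (qp F p Pst) :=
    normalizerIn_le_normalizerIn_qp F p hPstS
  constructor
  · refine fullyAutomized_of_wellPlaced F hQS hPQ hwp ?_ ?_
    · intro γ hγ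
      obtain ⟨γ', hγ', -, hγ'x⟩ := exists_lift_aut hS F hPstS hE hγ
      exact ⟨γ', hγ', hγ'x⟩
    · intro g hgS hgN
      exact (hNN ⟨hgS, hgN⟩).2
  · refine ⟨hPstS, fun P φ hφ hφr => ?_⟩
    have hPS : P ≤ S := (F.le_of_mem hφ).1
    have hconj : F.IsConj Pst P := Cfsg.Agent.Lib.helper88.isConj_symm F ⟨φ, hφ, hφr⟩
    obtain ⟨θ, hθ, hθP⟩ := (hreach P hconj).exists_map
    have hPN : P ≤ normalizerIn S P := Cfsg.Agent.Lib.helper89.le_normalizerIn hPS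
    have hθ₀ : θ.comp (Subgroup.inclusion hPN) ∈ F.Hom P := hom_comp_inclusion F hθ hPN
    have hB : (θ.comp (Subgroup.inclusion hPN)).range = Pst := by
      rw [← imgOf_self, imgOf_restrict θ hPN le_rfl]
      exact hθP
    obtain ⟨τ, hτ, hτx⟩ := exists_inv_comp F hθ₀ hφ hB
    have hτr : τ.range = Pst := by
      rw [range_inv_comp hB hτx]
      exact hφr
    have hτmem : ∀ y : Pst, τ y ∈ Pst := fun y => hτr.le ⟨y, rfl⟩
    obtain ⟨ω, hω⟩ := Cfsg.Agent.Lib.helper89.exists_aut_of_mem F hτ hτmem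
    have hωA : ω ∈ F.autGroup Pst := by
      rw [Cfsg.Agent.Lib.helper88.mem_autGroup_iff' F hPstS]
      have h1 : Pst.subtype.comp ω.toMonoidHom = τ := by
        ext x
        exact hω x
      rw [h1]
      exact hτ
    obtain ⟨ψ', hψ'A, hψ's, hψ'x⟩ := exists_lift_aut hS F hPstS hE hωA
    have hτθ : ∀ (x : Ω) (hx : x ∈ P) (hm : θ ⟨x, hPN hx⟩ ∈ Pst),
        τ ⟨θ ⟨x, hPN hx⟩, hm⟩ = φ ⟨x, hx⟩ := fun x hx hm => hτx ⟨x, hx⟩ hm
    have hψ'τ : ∀ (z : ↥(qp F p Pst)) (hz : (z : Ω) ∈ Pst),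
        ((ψ' z : ↥(qp F p Pst)) : Ω) = τ ⟨z, hz⟩ := fun z hz => (hψ'x z hz).trans (hω ⟨z, hz⟩)
    have hNφ : extender S P φ ≤ normalizerIn S P :=
      Cfsg.Agent.Lib.helper88.extender_le_normalizerIn S P φ
    have hD : imgOf θ (extender S P φ) ≤ normalizerIn S (qp F p Pst) ⊓ normalizerIn S Pst := by
      intro y hy
      obtain ⟨x, hx, rfl⟩ := mem_imgOf.mp hy
      have h1 := apply_mem_normalizerIn F hθ (P := P) x.2
      rw [hθP] at h1
      exact ⟨hNN h1, h1⟩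
    have hpt : ∀ d ∈ imgOf θ (extender S P φ),
        ∀ hd : d ∈ Subgroup.normalizer ((qp F p Pst : Subgroup Ω) : Set Ω),
        ∃ u ∈ autInducedBy S (qp F p Pst) ⊓ (stabAut (qp F p Pst) Pst ⊓ F.autGroup (qp F p Pst)),
          ∀ y : ↥(qp F p Pst), (y : Ω) ∈ Pst →
            (ψ' * Cfsg.Agent.Lib.helper88.conjAut (qp F p Pst) d hd * ψ'⁻¹) y = u y := by
      intro d hdD hd
      have hdN : d ∈ Subgroup.normalizer (Pst : Set Ω) := (hD hdD).2.2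
      obtain ⟨g, hgN, rfl⟩ := mem_imgOf.mp hdD
      obtain ⟨hgS, hgNP, h, hhS, hgh⟩ :=
        (Cfsg.Agent.Lib.helper88.mem_extender_iff S P φ g).mp hgN
      have hvs : ψ' * Cfsg.Agent.Lib.helper88.conjAut (qp F p Pst) (θ g) hd * ψ'⁻¹ ∈
          stabAut (qp F p Pst) Pst := by
        refine Subgroup.mul_mem _ (Subgroup.mul_mem _ hψ's ?_) (Subgroup.inv_mem _ hψ's)
        intro x
        exact Subgroup.mem_normalizer_iff.mp hdN (x : Ω)
      have hpoint : ∀ y : ↥(qp F p Pst), (y : Ω) ∈ Pst →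
          (((ψ' * Cfsg.Agent.Lib.helper88.conjAut (qp F p Pst) (θ g) hd * ψ'⁻¹) y :
            ↥(qp F p Pst)) : Ω) = h * y * h⁻¹ := by
        intro y hy
        obtain ⟨z, hzdef⟩ : ∃ z, z = ψ'⁻¹ y := ⟨_, rfl⟩
        have hψz : ψ' z = y := by rw [hzdef, MulAut.apply_inv_self]
        have hz : (z : Ω) ∈ Pst := by
          have h1 := hψ's z
          rw [hψz] at h1
          exact h1.mpr hy
        have hzimg : (z : Ω) ∈ imgOf θ P := by
          rw [hθP]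
          exact hz
        obtain ⟨x, hxP, hxz⟩ := mem_imgOf.mp hzimg
        have hconjP : (g : Ω) * (x : Ω) * (g : Ω)⁻¹ ∈ P :=
          (Subgroup.mem_normalizer_iff.mp hgNP _).mp hxP
        have e7 : (y : Ω) = τ ⟨z, hz⟩ := by
          have h1 := hψ'τ z hz
          rw [hψz] at h1
          exact h1
        have e8 : τ ⟨(z : Ω), hz⟩ = φ ⟨x, hxP⟩ := by
          have hm : θ ⟨x, hPN hxP⟩ ∈ Pst := by
            have h1 : θ ⟨x, hPN hxP⟩ = (z : Ω) := hxz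
            rw [h1]
            exact hz
          have h2 := hτθ x hxP hm
          have h9 : (⟨θ ⟨x, hPN hxP⟩, hm⟩ : Pst) = ⟨(z : Ω), hz⟩ := Subtype.ext hxz
          rw [h9] at h2
          exact h2
        have e1 : ((Cfsg.Agent.Lib.helper88.conjAut (qp F p Pst) (θ g) hd z : ↥(qp F p Pst)) : Ω) =
            θ ⟨(g : Ω) * (x : Ω) * (g : Ω)⁻¹, hPN hconjP⟩ := by
          rw [Cfsg.Agent.Lib.helper88.conjAut_apply, ← hxz]
          have h1 : (⟨(g : Ω) * (x : Ω) * (g : Ω)⁻¹, hPN hconjP⟩ : ↥(normalizerIn S P)) =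
              g * x * g⁻¹ := rfl
          rw [h1, map_mul, map_mul, map_inv]
        have hcz : ((Cfsg.Agent.Lib.helper88.conjAut (qp F p Pst) (θ g) hd z : ↥(qp F p Pst)) : Ω) ∈
            Pst := by
          rw [e1]
          have h2 := apply_mem_imgOf (φ := θ)
            (x := (⟨(g : Ω) * (x : Ω) * (g : Ω)⁻¹, hPN hconjP⟩ : ↥(normalizerIn S P))) (P := P) hconjP
          rw [hθP] at h2
          exact h2
        have e2 := hψ'τ (Cfsg.Agent.Lib.helper88.conjAut (qp F p Pst) (θ g) hd z) hcz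
        have e3 : τ ⟨((Cfsg.Agent.Lib.helper88.conjAut (qp F p Pst) (θ g) hd z : ↥(qp F p Pst)) : Ω),
            hcz⟩ = φ ⟨(g : Ω) * (x : Ω) * (g : Ω)⁻¹, hconjP⟩ := by
          have hm : θ ⟨(g : Ω) * (x : Ω) * (g : Ω)⁻¹, hPN hconjP⟩ ∈ Pst := by
            rw [← e1]
            exact hcz
          have h2 := hτθ _ hconjP hm
          have h9 : (⟨θ ⟨(g : Ω) * (x : Ω) * (g : Ω)⁻¹, hPN hconjP⟩, hm⟩ : Pst) =
              ⟨((Cfsg.Agent.Lib.helper88.conjAut (qp F p Pst) (θ g) hd z : ↥(qp F p Pst)) : Ω),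
                hcz⟩ := Subtype.ext e1.symm
          rw [h9] at h2
          exact h2
        have e4 := hgh ⟨x, hxP⟩ hconjP
        show ((ψ' (Cfsg.Agent.Lib.helper88.conjAut (qp F p Pst) (θ g) hd (ψ'⁻¹ y)) :
          ↥(qp F p Pst)) : Ω) = h * y * h⁻¹
        rw [← hzdef, e2, e3, e4, ← e8, ← e7]
      have hhN : h ∈ Subgroup.normalizer (Pst : Set Ω) :=
        mem_normalizer_of_conj_aut (a := resAut (qp F p Pst) Pst hPQ ⟨_, hvs⟩)
          (fun w => hpoint ⟨w, hPQ w.2⟩ w.2)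
      have hhNQ : h ∈ Subgroup.normalizer ((qp F p Pst : Subgroup Ω) : Set Ω) := (hNN ⟨hhS, hhN⟩).2
      have huS : Cfsg.Agent.Lib.helper88.conjAut (qp F p Pst) h hhNQ ∈ autInducedBy S (qp F p Pst) :=
        Cfsg.Agent.Lib.helper88.conjAut_mem S _ h hhNQ hhS
      refine ⟨Cfsg.Agent.Lib.helper88.conjAut (qp F p Pst) h hhNQ,
        ⟨huS, ?_, Cfsg.Agent.Lib.helper89.autInducedBy_le_autGroup F hQS huS⟩,
        fun y hy => Subtype.ext (hpoint y hy)⟩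
      intro x
      exact Subgroup.mem_normalizer_iff.mp hhN (x : Ω)
    obtain ⟨z, hzA, hzfix, hzconj⟩ := exists_fix_conj_core hS F hQS
      (stabAut (qp F p Pst) Pst ⊓ F.autGroup (qp F p Pst))
      (autInducedBy S (qp F p Pst) ⊓ (stabAut (qp F p Pst) Pst ⊓ F.autGroup (qp F p Pst)))
      inf_le_left inf_le_right (fun _ h1 h2 => Subgroup.mem_inf.mpr ⟨h1, h2⟩) inf_le_right inf_le_left
      hwp (Subgroup.mem_inf.mpr ⟨hψ's, hψ'A⟩) (imgOf θ (extender S P φ)) hD hpt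
    have hξ'A : z * ψ' ∈ F.autGroup (qp F p Pst) := Subgroup.mul_mem _ hzA hψ'A
    obtain ⟨ψe, hψe, hψex⟩ := exists_ext_of_conj F hQS hrec hξ'A (imgOf θ (extender S P φ))
      (fun g hg => (hD hg).1) hzconj
    have hθN : θ.comp (Subgroup.inclusion hNφ) ∈ F.Hom (extender S P φ) :=
      hom_comp_inclusion F hθ hNφ
    have hr : (θ.comp (Subgroup.inclusion hNφ)).range ≤
        Subgroup.closure (((qp F p Pst : Subgroup Ω) : Set Ω) ∪
          ((imgOf θ (extender S P φ) : Subgroup Ω) : Set Ω)) := by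
      rintro _ ⟨x, rfl⟩
      exact Subgroup.subset_closure
        (Or.inr (apply_mem_imgOf (φ := θ) (x := Subgroup.inclusion hNφ x) x.2))
    obtain ⟨Φ, hΦ, hΦx, -⟩ := comp_mem' F hθN hψe hr
    refine ⟨Φ, hΦ, fun x hP hN => ?_⟩
    have hmem : (θ.comp (Subgroup.inclusion hNφ)) ⟨x, hN⟩ ∈
        Subgroup.closure (((qp F p Pst : Subgroup Ω) : Set Ω) ∪
          ((imgOf θ (extender S P φ) : Subgroup Ω) : Set Ω)) := hr ⟨_, rfl⟩
    rw [hΦx ⟨x, hN⟩ hmem]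
    have hθx : θ ⟨x, hPN hP⟩ ∈ Pst := by
      have h1 := apply_mem_imgOf (φ := θ) (x := (⟨x, hPN hP⟩ : ↥(normalizerIn S P))) hP
      rw [hθP] at h1
      exact h1
    have h1 := hψex (θ ⟨x, hPN hP⟩) (hPQ hθx) hmem
    refine h1.trans ?_
    show ((z (ψ' ⟨θ ⟨x, hPN hP⟩, hPQ hθx⟩) : ↥(qp F p Pst)) : Ω) = φ ⟨x, hP⟩
    have h2 : ((ψ' ⟨θ ⟨x, hPN hP⟩, hPQ hθx⟩ : ↥(qp F p Pst)) : Ω) ∈ Pst := (hψ's _).mp hθx
    rw [hzfix _ h2, hψ'τ _ hθx]
    exact hτθ x hP hθx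

/-- The inductive step of the saturation criterion. -/
theorem exists_fullyAutomized_receptive_conj [Finite S] {p : ℕ} [Fact p.Prime] (hS : IsPGroup p S)
    (F : FusionSystem S) (ℋ : Set (Subgroup Ω)) (hℋconj : ∀ P ∈ ℋ, ∀ Q, F.IsConj P Q → Q ∈ ℋ)
    (hgen : ∀ E : FusionSystem S, (∀ P ∈ ℋ, F.Hom P ⊆ E.Hom P) → F ≤ E)
    {P₀ : Subgroup Ω} (hP₀S : P₀ ≤ S) (hP₀ℋ : P₀ ∉ ℋ) (hlt : Nat.card P₀ < Nat.card S)
    (hbig : HBig F p (Nat.card P₀)) (hq : ∃ Q, F.IsConj P₀ Q ∧ ¬ qp F p Q ≤ Q) :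
    ∃ Q, F.IsConj P₀ Q ∧ F.IsFullyAutomized p Q ∧ F.IsReceptive Q := by
  obtain ⟨Pst, hconj, hfn, hfa, hrec, hwp⟩ :=
    exists_wellPlaced_fullyNormalized hS F ℋ hℋconj hgen hP₀S hP₀ℋ hlt hbig hq
  have hcard := Cfsg.Agent.Lib.helper88.isConj_card F hconj
  have hPstℋ : Pst ∉ ℋ :=
    fun h => hP₀ℋ (hℋconj Pst h P₀ (Cfsg.Agent.Lib.helper88.isConj_symm F hconj))
  have hlt' : Nat.card Pst < Nat.card S := by
    rw [← hcard]
    exact hlt
  have hbig' : HBig F p (Nat.card Pst) := by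
    rw [← hcard]
    exact hbig
  obtain ⟨h1, h2⟩ := fullyAutomized_receptive_of_wellPlaced hS F ℋ hℋconj hgen hfn hPstℋ hlt' hbig'
    hfa hrec hwp
  exact ⟨Pst, hconj, h1, h2⟩

end Cfsg.Agent.Lib.helper87
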