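import Cfsg.Agent.Lib.helper87.WellPlaced

/-!
Towards the saturation criterion for fusion systems generated by a family of subgroups: every member
of a conjugacy class all of whose strict overgroups are "saturated" admits a map of its normalizer to a
fixed fully normalized member of the class.
-/

set_option autoImplicit false

namespace Cfsg.Agent.Lib.helper87

open Cfsg
open Cfsg.FusionSystem (normalizerIn centralizerIn extender)

variable {Ω : Type*} [Group Ω] {S : Subgroup Ω}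

/-- Every subgroup of `S` of order larger than `n` is conjugate to a fully automized receptive one. -/
def HBig (F : FusionSystem S) (p n : ℕ) : Prop :=
  ∀ R : Subgroup Ω, R ≤ S → n < Nat.card R →
    ∃ Rh, F.IsConj R Rh ∧ F.IsFullyAutomized p Rh ∧ F.IsReceptive Rh

/-- `P` reaches `Ph`: a map of the system defined on a subgroup containing `N_S(P)` carries `P` to `Ph`. -/
def Reach (F : FusionSystem S) (Ph P : Subgroup Ω) : Prop :=
  P ≤ S ∧ ∃ (M : Subgroup Ω) (σ : M →* Ω), normalizerIn S P ≤ M ∧ σ ∈ F.Hom M ∧ imgOf σ P = Ph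

theorem Reach.isConj {F : FusionSystem S} {Ph P : Subgroup Ω} (h : Reach F Ph P) : F.IsConj P Ph := by
  obtain ⟨hPS, M, σ, hM, hσ, himg⟩ := h
  rw [← himg]
  exact isConj_imgOf F hσ ((Cfsg.Agent.Lib.helper89.le_normalizerIn hPS).trans hM)

theorem Reach.exists_map {F : FusionSystem S} {Ph P : Subgroup Ω} (h : Reach F Ph P) :
    ∃ σ ∈ F.Hom (normalizerIn S P), imgOf σ P = Ph := by
  obtain ⟨hPS, M, σ, hM, hσ, himg⟩ := h
  refine ⟨σ.comp (Subgroup.inclusion hM), hom_comp_inclusion F hσ hM, ?_⟩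
  rw [imgOf_restrict σ hM (Cfsg.Agent.Lib.helper89.le_normalizerIn hPS)]
  exact himg

theorem imgOf_subtype {M P : Subgroup Ω} (hP : P ≤ M) : imgOf M.subtype P = P := by
  ext y
  rw [mem_imgOf]
  constructor
  · rintro ⟨x, hx, rfl⟩
    exact hx
  · intro hy
    exact ⟨⟨y, hP hy⟩, hy, rfl⟩

theorem reach_self (F : FusionSystem S) {Ph : Subgroup Ω} (hPh : Ph ≤ S) : Reach F Ph Ph :=
  ⟨hPh, normalizerIn S Ph, (normalizerIn S Ph).subtype, le_rfl,
    Cfsg.Agent.Lib.helper88.subtype_mem F inf_le_left,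
    imgOf_subtype (Cfsg.Agent.Lib.helper89.le_normalizerIn hPh)⟩

/-- A map defined on (at least) the whole normalizer of `P` pulls reachability back. -/
theorem reach_back (F : FusionSystem S) {Ph Q P : Subgroup Ω} {φ : Q →* Ω} (hφ : φ ∈ F.Hom Q)
    (hNQ : normalizerIn S P ≤ Q) (hPS : P ≤ S) (h : Reach F Ph (imgOf φ P)) : Reach F Ph P := by
  obtain ⟨-, M, σ, hM, hσ, himg⟩ := h
  have hφ₀ : φ.comp (Subgroup.inclusion hNQ) ∈ F.Hom (normalizerIn S P) := hom_comp_inclusion F hφ hNQ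
  have hPN : P ≤ normalizerIn S P := Cfsg.Agent.Lib.helper89.le_normalizerIn hPS
  have himg₀ : imgOf (φ.comp (Subgroup.inclusion hNQ)) P = imgOf φ P := imgOf_restrict φ hNQ hPN
  have hr : (φ.comp (Subgroup.inclusion hNQ)).range ≤ M := by
    refine (range_le_normalizerIn F hφ₀ le_rfl).trans ?_
    rw [himg₀]
    exact hM
  obtain ⟨κ, hκ, -, hκimg⟩ := comp_mem' F hφ₀ hσ hr
  refine ⟨hPS, normalizerIn S P, κ, le_rfl, hκ, ?_⟩
  rw [hκimg, himg₀]
  exact himg

section Step

variable [Finite S] {p : ℕ} [Fact p.Prime]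

/-- The induction hypothesis: steps with source of order larger than `n` preserve reachability. -/
def StepIH (F : FusionSystem S) (Ph : Subgroup Ω) (n : ℕ) : Prop :=
  ∀ (Q : Subgroup Ω) (φ : Q →* Ω) (P : Subgroup Ω), n < Nat.card Q → φ ∈ F.Hom Q → P < Q →
    Q ≤ normalizerIn S P → Nat.card P = Nat.card Ph → (Reach F Ph P ↔ Reach F Ph (imgOf φ P))

theorem lt_inf_normalizerIn (hS : IsPGroup p S) {K N : Subgroup Ω} (hKN : K < N) (hNS : N ≤ S) :
    K < N ⊓ normalizerIn S K := by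
  have h1 := lt_inf_normalizer hS hKN hNS
  refine lt_of_lt_of_le h1 ?_
  intro x hx
  exact ⟨hx.1, hNS hx.1, hx.2⟩

theorem reach_forward (hS : IsPGroup p S) (F : FusionSystem S) {Ph : Subgroup Ω}
    (hPh : F.IsFullyNormalized Ph) (hbig : HBig F p (Nat.card Ph)) {n : ℕ} (IH : StepIH F Ph n)
    {Q P : Subgroup Ω} {φ : Q →* Ω} (hn : n ≤ Nat.card Q) (hφ : φ ∈ F.Hom Q) (hPQ : P < Q)
    (hQN : Q ≤ normalizerIn S P) (hNQ : normalizerIn S P ≤ Q) (hcard : Nat.card P = Nat.card Ph)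
    (h : Reach F Ph P) : Reach F Ph (imgOf φ P) := by
  have hQS : Q ≤ S := (F.le_of_mem hφ).1
  have hPS : P ≤ S := hPQ.le.trans hQS
  have hPhS : Ph ≤ S := hPh.1
  have hφinj := F.injective_of_mem hφ
  obtain ⟨-, M, σ₀, hM, hσ₀, himg₀⟩ := h
  have hQM : Q ≤ M := hQN.trans hM
  have hσ : σ₀.comp (Subgroup.inclusion hQM) ∈ F.Hom Q := hom_comp_inclusion F hσ₀ hQM
  have hσimg : imgOf (σ₀.comp (Subgroup.inclusion hQM)) P = Ph := by
    rw [imgOf_restrict σ₀ hQM hPQ.le]
    exact himg₀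
  have hσinj := F.injective_of_mem hσ
  obtain ⟨τ, hτ, hτx⟩ := exists_inv_comp F hφ hσ rfl
  have hτimg : imgOf τ (imgOf φ P) = Ph := by
    rw [imgOf_inv_comp rfl hτx P]
    exact hσimg
  have hτR : τ.range = (σ₀.comp (Subgroup.inclusion hQM)).range := range_inv_comp rfl hτx
  have hP'R : imgOf φ P ≤ φ.range := imgOf_le_range φ P
  have hRS : φ.range ≤ S := range_le_S F hφ
  have hP'S : imgOf φ P ≤ S := hP'R.trans hRS
  have hRN : φ.range ≤ normalizerIn S (imgOf φ P) := range_le_normalizerIn F hφ hQN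
  have hcardR : Nat.card φ.range = Nat.card Q := card_range hφinj
  have hcardP' : Nat.card (imgOf φ P) = Nat.card P := card_imgOf hφinj hPQ.le
  have hPltQ : Nat.card P < Nat.card Q := Cfsg.Agent.Lib.helper89.card_lt_of_lt hPQ hQS
  have hP'ltR : imgOf φ P < φ.range := by
    refine lt_of_le_of_ne hP'R ?_
    intro heq
    rw [heq] at hcardP'
    omega
  by_cases hfull : normalizerIn S (imgOf φ P) ≤ φ.range
  · exact ⟨hP'S, φ.range, τ, hfull, hτ, hτimg⟩
  · have hRlt : φ.range < normalizerIn S (imgOf φ P) := lt_of_le_not_ge hRN hfull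
    have hsat := hbig φ.range hRS (by omega)
    obtain ⟨Qh, Pst, ρ, ρ', ξ, -, -, -, -, hρ, hρ', hρP, hρ'P, -, -, -, -, -⟩ :=
      exists_surgery hS F hτ hsat hP'R hRN hτimg
    have hτRS : τ.range ≤ S := range_le_S F hτ
    have hτRN : τ.range ≤ normalizerIn S Ph := by
      have h1 := range_le_normalizerIn F hτ hRN
      rw [hτimg] at h1
      exact h1
    have hcardτR : Nat.card τ.range = Nat.card Q := by
      rw [card_range (F.injective_of_mem hτ), hcardR]
    have hPhτ : Ph ≤ τ.range := by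
      rw [← hτimg]
      exact imgOf_le_range τ _
    have hPhlt : Ph < τ.range := by
      refine lt_of_le_of_ne hPhτ ?_
      intro heq
      rw [← heq] at hcardτR
      omega
    -- the well placed subgroup reaches `Ph`
    have hPstS : Pst ≤ S := by
      rw [← hρP]
      exact imgOf_le_S F hρ _
    have hclaim1 : Reach F Ph Pst := by
      by_cases hfull' : normalizerIn S Ph ≤ τ.range
      · -- `ρ'` is defined on the whole normalizer of `Ph`
        have hle : normalizerIn S Ph ≤ normalizerIn S Ph ⊓ normalizerIn S τ.range :=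
          le_inf le_rfl (hfull'.trans (Cfsg.Agent.Lib.helper89.le_normalizerIn hτRS))
        have hρ₀ : ρ'.comp (Subgroup.inclusion hle) ∈ F.Hom (normalizerIn S Ph) :=
          hom_comp_inclusion F hρ' hle
        have hPhN : Ph ≤ normalizerIn S Ph := Cfsg.Agent.Lib.helper89.le_normalizerIn hPhS
        have himg : imgOf (ρ'.comp (Subgroup.inclusion hle)) Ph = Pst := by
          rw [imgOf_restrict ρ' hle hPhN]
          exact hρ'P
        have hr : (ρ'.comp (Subgroup.inclusion hle)).range ≤ normalizerIn S Pst := by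
          have h1 := range_le_normalizerIn F hρ₀ (P := Ph) le_rfl
          rw [himg] at h1
          exact h1
        have hconj : F.IsConj Ph Pst := by
          rw [← himg]
          exact isConj_imgOf F hρ₀ hPhN
        have hc1 : Nat.card (normalizerIn S Pst) ≤ Nat.card (normalizerIn S Ph) := hPh.2 Pst hconj
        have hc2 : Nat.card (ρ'.comp (Subgroup.inclusion hle)).range = Nat.card (normalizerIn S Ph) :=
          card_range (F.injective_of_mem hρ₀)
        have : Finite ↥(normalizerIn S Pst) :=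
          Cfsg.Agent.Lib.helper89.finite_of_le (inf_le_left : normalizerIn S Pst ≤ S)
        have hreq : (ρ'.comp (Subgroup.inclusion hle)).range = normalizerIn S Pst :=
          Subgroup.eq_of_le_of_card_ge hr (by omega)
        obtain ⟨τ₂, hτ₂, hτ₂x⟩ := exists_inv_comp F hρ₀
          (Cfsg.Agent.Lib.helper88.subtype_mem F (inf_le_left : normalizerIn S Ph ≤ S)) hreq
        refine ⟨hPstS, normalizerIn S Pst, τ₂, le_rfl, hτ₂, ?_⟩
        have h3 := imgOf_inv_comp hreq hτ₂x Ph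
        rw [himg] at h3
        rw [h3]
        exact imgOf_subtype hPhN
      · have hlt : τ.range < normalizerIn S Ph := lt_of_le_not_ge hτRN hfull'
        have hlt2 : τ.range < normalizerIn S Ph ⊓ normalizerIn S τ.range :=
          lt_inf_normalizerIn hS hlt inf_le_left
        have hcardD : Nat.card Q < Nat.card ↥(normalizerIn S Ph ⊓ normalizerIn S τ.range) := by
          rw [← hcardτR]
          exact Cfsg.Agent.Lib.helper89.card_lt_of_lt hlt2 (inf_le_left.trans inf_le_left)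
        have h1 := IH _ ρ' Ph (by omega) hρ' (lt_trans hPhlt hlt2) inf_le_left rfl
        rw [hρ'P] at h1
        exact h1.mp (reach_self F hPhS)
    -- the image of `P` reaches the well placed subgroup's target
    have hlt2 : φ.range < normalizerIn S (imgOf φ P) ⊓ normalizerIn S φ.range :=
      lt_inf_normalizerIn hS hRlt inf_le_left
    have hcardD : Nat.card Q < Nat.card ↥(normalizerIn S (imgOf φ P) ⊓ normalizerIn S φ.range) := by
      rw [← hcardR]
      exact Cfsg.Agent.Lib.helper89.card_lt_of_lt hlt2 (inf_le_left.trans inf_le_left)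
    have h2 := IH _ ρ (imgOf φ P) (by omega) hρ (lt_trans hP'ltR hlt2) inf_le_left (by omega)
    rw [hρP] at h2
    exact h2.mpr hclaim1

theorem reach_half (hS : IsPGroup p S) (F : FusionSystem S) {Ph : Subgroup Ω}
    (hPh : F.IsFullyNormalized Ph) (hbig : HBig F p (Nat.card Ph)) {n : ℕ} (IH : StepIH F Ph n)
    {K P₀ : Subgroup Ω} (hn : n ≤ Nat.card K) (hP₀K : P₀ < K) (hKN : K ≤ normalizerIn S P₀)
    (hcard : Nat.card P₀ = Nat.card Ph) {ρ₀ : ↥(normalizerIn S P₀ ⊓ normalizerIn S K) →* Ω}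
    (hρ₀ : ρ₀ ∈ F.Hom (normalizerIn S P₀ ⊓ normalizerIn S K)) :
    Reach F Ph P₀ ↔ Reach F Ph (imgOf ρ₀ P₀) := by
  have hKS : K ≤ S := hKN.trans inf_le_left
  have hKD : K ≤ normalizerIn S P₀ ⊓ normalizerIn S K :=
    le_inf hKN (Cfsg.Agent.Lib.helper89.le_normalizerIn hKS)
  have hDS : normalizerIn S P₀ ⊓ normalizerIn S K ≤ S := inf_le_left.trans inf_le_left
  have : Finite ↥(normalizerIn S P₀ ⊓ normalizerIn S K) := Cfsg.Agent.Lib.helper89.finite_of_le hDS
  have hP₀D : P₀ < normalizerIn S P₀ ⊓ normalizerIn S K := lt_of_lt_of_le hP₀K hKD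
  by_cases hfull : normalizerIn S P₀ ≤ K
  · have hND : normalizerIn S P₀ ≤ normalizerIn S P₀ ⊓ normalizerIn S K :=
      le_inf le_rfl (hfull.trans (Cfsg.Agent.Lib.helper89.le_normalizerIn hKS))
    have hn' : n ≤ Nat.card ↥(normalizerIn S P₀ ⊓ normalizerIn S K) :=
      hn.trans (Subgroup.card_le_of_le hKD)
    exact ⟨reach_forward hS F hPh hbig IH hn' hρ₀ hP₀D inf_le_left hND hcard,
      reach_back F hρ₀ hND (hP₀K.le.trans hKS)⟩
  · have hlt : K < normalizerIn S P₀ := lt_of_le_not_ge hKN hfull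
    have hlt2 : K < normalizerIn S P₀ ⊓ normalizerIn S K := lt_inf_normalizerIn hS hlt inf_le_left
    have hc := Cfsg.Agent.Lib.helper89.card_lt_of_lt hlt2 hDS
    exact IH _ ρ₀ P₀ (by omega) hρ₀ hP₀D inf_le_left hcard

/-- A step `P ◁ Q → S` preserves reachability of the fully normalized `Ph`. -/
theorem reach_iff_of_step (hS : IsPGroup p S) (F : FusionSystem S) {Ph : Subgroup Ω}
    (hPh : F.IsFullyNormalized Ph) (hbig : HBig F p (Nat.card Ph)) :
    ∀ (m : ℕ) (Q : Subgroup Ω) (φ : Q →* Ω) (P : Subgroup Ω), Nat.card S - Nat.card Q = m →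
      φ ∈ F.Hom Q → P < Q → Q ≤ normalizerIn S P → Nat.card P = Nat.card Ph →
      (Reach F Ph P ↔ Reach F Ph (imgOf φ P)) := by
  intro m
  induction m using Nat.strong_induction_on with
  | _ m ih =>
    intro Q φ P hm hφ hPQ hQN hcard
    have hQS : Q ≤ S := (F.le_of_mem hφ).1
    have hφinj := F.injective_of_mem hφ
    have IH : StepIH F Ph (Nat.card Q) := by
      intro Q' φ' P' hlt hφ' hP'Q' hQ'N hcard'
      have hQ'S : Q' ≤ S := (F.le_of_mem hφ').1
      have hle : Nat.card Q' ≤ Nat.card S := Subgroup.card_le_of_le hQ'S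
      exact ih (Nat.card S - Nat.card Q') (by omega) Q' φ' P' rfl hφ' hP'Q' hQ'N hcard'
    have hPltQ : Nat.card P < Nat.card Q := Cfsg.Agent.Lib.helper89.card_lt_of_lt hPQ hQS
    have hsat := hbig Q hQS (by omega)
    obtain ⟨Qh, Pst, ρ, ρ', ξ, -, -, -, -, hρ, hρ', hρP, hρ'P, -, -, -, -, -⟩ :=
      exists_surgery hS F hφ hsat hPQ.le hQN rfl
    have h1 := reach_half hS F hPh hbig IH le_rfl hPQ hQN hcard hρ
    rw [hρP] at h1
    have hP'R : imgOf φ P ≤ φ.range := imgOf_le_range φ P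
    have hcardR : Nat.card φ.range = Nat.card Q := card_range hφinj
    have hcardP' : Nat.card (imgOf φ P) = Nat.card P := card_imgOf hφinj hPQ.le
    have hP'ltR : imgOf φ P < φ.range := by
      refine lt_of_le_of_ne hP'R ?_
      intro heq
      rw [heq] at hcardP'
      omega
    have h2 := reach_half hS F hPh hbig IH hcardR.ge hP'ltR (range_le_normalizerIn F hφ hQN)
      (by omega) hρ'
    rw [hρ'P] at h2
    exact h1.trans h2.symm

/-- A map defined on a subgroup strictly containing `P` preserves reachability of `Ph`. -/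
theorem reach_iff_of_lt (hS : IsPGroup p S) (F : FusionSystem S) {Ph : Subgroup Ω}
    (hPh : F.IsFullyNormalized Ph) (hbig : HBig F p (Nat.card Ph)) {R P : Subgroup Ω} {φ : R →* Ω}
    (hφ : φ ∈ F.Hom R) (hPR : P < R) (hcard : Nat.card P = Nat.card Ph) :
    Reach F Ph P ↔ Reach F Ph (imgOf φ P) := by
  have hRS : R ≤ S := (F.le_of_mem hφ).1
  have hlt : P < R ⊓ Subgroup.normalizer (P : Set Ω) := lt_inf_normalizer hS hPR hRS
  have hle : R ⊓ Subgroup.normalizer (P : Set Ω) ≤ R := inf_le_left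
  have h1 := reach_iff_of_step hS F hPh hbig _ _ (φ.comp (Subgroup.inclusion hle)) P rfl
    (hom_comp_inclusion F hφ hle) hlt (fun x hx => ⟨hRS hx.1, hx.2⟩) hcard
  rw [imgOf_restrict φ hle hlt.le] at h1
  exact h1

end Step

/-- Induction over the maps of a system generated by its maps with source in `ℋ`. -/
theorem gen_induction (F : FusionSystem S) (ℋ : Set (Subgroup Ω))
    (hgen : ∀ E : FusionSystem S, (∀ P ∈ ℋ, F.Hom P ⊆ E.Hom P) → F ≤ E)
    (C : ∀ P : Subgroup Ω, (P →* Ω) → Prop)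
    (hconj : ∀ (P : Subgroup Ω) (g : Ω), P ≤ S → g ∈ S → C P (conjHom P g))
    (hcomp : ∀ (P Q : Subgroup Ω) (φ : P →* Ω) (ψ : Q →* Ω), φ ∈ F.Hom P → ψ ∈ F.Hom Q → C P φ →
      C Q ψ → ∀ h : ∀ x : P, φ x ∈ Q, C P (ψ.comp (φ.codRestrict Q h)))
    (hinv : ∀ (P : Subgroup Ω) (φ : P →* Ω), φ ∈ F.Hom P → C P φ → ∀ ψ ∈ F.Hom φ.range,
      (∀ x : P, ψ ⟨φ x, ⟨x, rfl⟩⟩ = (x : Ω)) → C φ.range ψ)
    (hℋ : ∀ P ∈ ℋ, ∀ φ ∈ F.Hom P, C P φ) :
    ∀ (P : Subgroup Ω) (φ : P →* Ω), φ ∈ F.Hom P → C P φ := by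
  let E : FusionSystem S :=
    { Hom := fun P => {φ | φ ∈ F.Hom P ∧ C P φ}
      le_of_mem := fun h => F.le_of_mem h.1
      injective_of_mem := fun h => F.injective_of_mem h.1
      conj_mem := fun hP hg => ⟨F.conj_mem hP hg, hconj _ _ hP hg⟩
      comp_mem := fun hφ hψ h => ⟨F.comp_mem hφ.1 hψ.1 h, hcomp _ _ _ _ hφ.1 hψ.1 hφ.2 hψ.2 h⟩
      inv_mem := fun {P φ} hφ => by
        obtain ⟨ψ, hψ, hψx⟩ := F.inv_mem hφ.1
        exact ⟨ψ, ⟨hψ, hinv P φ hφ.1 hφ.2 ψ hψ hψx⟩, hψx⟩ }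
  have hle : F ≤ E := hgen E (fun P hP φ hφ => ⟨hφ, hℋ P hP φ hφ⟩)
  intro P φ hφ
  exact (hle P hφ).2

theorem imgOf_conjHom_eq {R N P : Subgroup Ω} (hPR : P ≤ R) (hPN : P ≤ N) (g : Ω) :
    imgOf (conjHom R g) P = imgOf (conjHom N g) P := by
  ext y
  rw [mem_imgOf, mem_imgOf]
  constructor
  · rintro ⟨x, hx, rfl⟩
    exact ⟨⟨x, hPN hx⟩, hx, rfl⟩
  · rintro ⟨x, hx, rfl⟩
    exact ⟨⟨x, hPR hx⟩, hx, rfl⟩

/-- Every member of the class of a fully normalized `Ph` outside `ℋ` reaches `Ph`. -/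
theorem reach_of_isConj [Finite S] {p : ℕ} [Fact p.Prime] (hS : IsPGroup p S) (F : FusionSystem S)
    (ℋ : Set (Subgroup Ω)) (hℋconj : ∀ P ∈ ℋ, ∀ Q, F.IsConj P Q → Q ∈ ℋ)
    (hgen : ∀ E : FusionSystem S, (∀ P ∈ ℋ, F.Hom P ⊆ E.Hom P) → F ≤ E)
    {Ph : Subgroup Ω} (hPh : F.IsFullyNormalized Ph) (hPhℋ : Ph ∉ ℋ)
    (hlt : Nat.card Ph < Nat.card S) (hbig : HBig F p (Nat.card Ph)) :
    ∀ P, F.IsConj Ph P → Reach F Ph P := by
  have hPhS : Ph ≤ S := hPh.1
  have key := gen_induction F ℋ hgen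
    (fun R φ => ∀ P : Subgroup Ω, P ≤ R → Nat.card P = Nat.card Ph →
      (Reach F Ph P ↔ Reach F Ph (imgOf φ P))) ?_ ?_ ?_ ?_
  · intro P hP
    obtain ⟨φ, hφ, rfl⟩ := hP
    have h1 := key Ph φ hφ Ph le_rfl rfl
    rw [imgOf_self] at h1
    exact h1.mp (reach_self F hPhS)
  · -- conjugation maps
    intro R g hRS hg P hPR hcard
    have hPS : P ≤ S := hPR.trans hRS
    have hPltS : P < S := by
      refine lt_of_le_of_ne hPS ?_
      intro heq
      rw [heq] at hcard
      omega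
    have hPN : P < normalizerIn S P := Cfsg.Agent.Lib.helper89.lt_normalizerIn hS hPltS
    have h1 := reach_iff_of_lt hS F hPh hbig
      (F.conj_mem (inf_le_left : normalizerIn S P ≤ S) hg) hPN hcard
    rw [imgOf_conjHom_eq hPR hPN.le g]
    exact h1
  · -- composition
    intro P₀ Q₀ φ ψ hφ hψ hCφ hCψ h P hP hcard
    have hφinj := F.injective_of_mem hφ
    have h1 := hCφ P hP hcard
    have hle : imgOf φ P ≤ Q₀ := by
      rintro _ ⟨x, -, rfl⟩
      exact h x
    have h2 := hCψ (imgOf φ P) hle (by rw [card_imgOf hφinj hP, hcard])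
    rw [imgOf_comp]
    exact h1.trans h2
  · -- inverses
    intro P₀ φ hφ hCφ ψ hψ hψx P' hP' hcard
    have hψinj := F.injective_of_mem hψ
    have hle : imgOf ψ P' ≤ P₀ := by
      rintro _ ⟨⟨_, x, rfl⟩, -, rfl⟩
      rw [hψx]
      exact x.2
    have hc : Nat.card (imgOf ψ P') = Nat.card Ph := by rw [card_imgOf hψinj hP', hcard]
    have h1 := hCφ (imgOf ψ P') hle hc
    have himg : imgOf φ (imgOf ψ P') = P' := by
      ext y
      rw [mem_imgOf]
      constructor
      · rintro ⟨x, hx, rfl⟩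
        obtain ⟨z, hz, hzx⟩ := mem_imgOf.mp hx
        obtain ⟨_, x', rfl⟩ := z
        rw [hψx] at hzx
        have h2 : x' = x := Subtype.ext hzx
        rw [← h2]
        exact hz
      · intro hy
        obtain ⟨x, rfl⟩ := hP' hy
        refine ⟨x, ?_, rfl⟩
        have h2 := apply_mem_imgOf (φ := ψ) (x := (⟨φ x, ⟨x, rfl⟩⟩ : φ.range)) hy
        rw [hψx] at h2
        exact h2
    rw [himg] at h1
    exact h1.symm
  · -- maps with source in `ℋ`
    intro R hR φ hφ P hPR hcard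
    by_cases hPeq : P = R
    · subst hPeq
      constructor
      · intro h
        exact absurd (hℋconj P hR Ph h.isConj) hPhℋ
      · intro h
        have h1 : F.IsConj P (imgOf φ P) := isConj_imgOf F hφ le_rfl
        exact absurd (hℋconj _ (hℋconj P hR _ h1) Ph h.isConj) hPhℋ
    · exact reach_iff_of_lt hS F hPh hbig hφ (lt_of_le_of_ne hPR hPeq) hcard

end Cfsg.Agent.Lib.helper87
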