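import Cfsg.Agent.Lib.helper87.AutInduced
import Cfsg.Agent.Lib.helper87.Fusion
import Cfsg.Agent.Lib.helper89.FusionSat

set_option autoImplicit false

namespace Cfsg.Agent.Lib.helper87

open Cfsg

section OrbitSylow

variable {G : Type*} [Group G]

/-- If `T` is a Sylow `p`-subgroup of `A` and `H ≤ A`, then for some `A`-conjugate `H'` of `H` the
intersection `T ⊓ H'` is a Sylow `p`-subgroup of `H'`. -/
theorem exists_conj_sylowIn_inf [Finite G] {p : ℕ} [Fact p.Prime] {T A H : Subgroup G} (hTA : T ≤ A)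
    (hT : ∃ R : Sylow p ↥A, (R : Subgroup A) = T.subgroupOf A) (hH : H ≤ A) :
    ∃ n ∈ A, ∀ H' : Subgroup G, H' = H.map (MulAut.conj n).toMonoidHom →
      ∃ R : Sylow p ↥H', (R : Subgroup H') = (T ⊓ H').subgroupOf H' := by
  obtain ⟨R₀⟩ : Nonempty (Sylow p ↥H) := inferInstance
  have hT₀H : (R₀ : Subgroup H).map H.subtype ≤ H := by
    rintro _ ⟨x, -, rfl⟩
    exact x.2
  have hT₀p : IsPGroup p ↥((R₀ : Subgroup H).map H.subtype) := R₀.isPGroup'.map _
  have hT₀syl : ∃ R : Sylow p ↥H, (R : Subgroup H) = ((R₀ : Subgroup H).map H.subtype).subgroupOf H := by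
    refine ⟨R₀, ?_⟩
    ext x
    rw [Subgroup.mem_subgroupOf]
    constructor
    · intro hx
      exact ⟨x, hx, rfl⟩
    · rintro ⟨y, hy, hxy⟩
      have : y = x := Subtype.ext hxy
      rwa [← this]
  obtain ⟨n, hn, hle⟩ := exists_conj_le_of_sylowIn hT (hT₀H.trans hH) hT₀p
  refine ⟨n, hn, ?_⟩
  rintro H' rfl
  rw [sylowIn_iff inf_le_right]
  have hTp : IsPGroup p T := ((sylowIn_iff hTA).mp hT).1
  refine ⟨hTp.to_le inf_le_left, ?_⟩
  intro K hK hKp
  have h1 : K.map (MulAut.conj n⁻¹).toMonoidHom ≤ H := by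
    rintro _ ⟨k, hk, rfl⟩
    obtain ⟨h, hh, rfl⟩ := hK hk
    have : (MulAut.conj n⁻¹).toMonoidHom ((MulAut.conj n).toMonoidHom h) = h := by
      show n⁻¹ * (n * h * n⁻¹) * n⁻¹⁻¹ = h
      group
    rw [this]
    exact hh
  have h2 := ((sylowIn_iff hT₀H).mp hT₀syl).2 _ h1 (isPGroup_map_conj _ hKp)
  rw [card_map_conj] at h2
  have h3 : Nat.card ↥((R₀ : Subgroup H).map H.subtype) =
      Nat.card ↥(((R₀ : Subgroup H).map H.subtype).map (MulAut.conj n).toMonoidHom) :=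
    (card_map_conj n _).symm
  have h4 : ((R₀ : Subgroup H).map H.subtype).map (MulAut.conj n).toMonoidHom ≤
      T ⊓ H.map (MulAut.conj n).toMonoidHom :=
    le_inf hle (Subgroup.map_mono hT₀H)
  calc Nat.card K ≤ Nat.card ↥((R₀ : Subgroup H).map H.subtype) := h2
    _ = _ := h3
    _ ≤ _ := Subgroup.card_le_of_le h4

/-- The product of Sylow subgroups is a Sylow subgroup of the product. -/
theorem exists_sylow_prod {G₁ G₂ : Type*} [Group G₁] [Group G₂] [Finite G₁] [Finite G₂] {p : ℕ}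
    [Fact p.Prime] (R₁ : Sylow p G₁) (R₂ : Sylow p G₂) :
    ∃ R : Sylow p (G₁ × G₂), (R : Subgroup (G₁ × G₂)) = (R₁ : Subgroup G₁).prod (R₂ : Subgroup G₂) := by
  have hcard : Nat.card ↥((R₁ : Subgroup G₁).prod (R₂ : Subgroup G₂)) =
      p ^ (Nat.card (G₁ × G₂)).factorization p := by
    rw [Nat.card_congr (Subgroup.prodEquiv _ _).toEquiv, Nat.card_prod, Nat.card_prod,
      Sylow.card_eq_multiplicity, Sylow.card_eq_multiplicity,
      Nat.factorization_mul Nat.card_pos.ne' Nat.card_pos.ne', Finsupp.add_apply, pow_add]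
  exact ⟨Sylow.ofCard _ hcard, Sylow.coe_ofCard _ _⟩

end OrbitSylow

section Stab

variable {Ω : Type*} [Group Ω]

/-- The automorphisms of `Q` stabilizing the subgroup `P`. -/
def stabAut (Q P : Subgroup Ω) : Subgroup (MulAut Q) where
  carrier := {α | ∀ x : Q, (x : Ω) ∈ P ↔ ((α x : Q) : Ω) ∈ P}
  one_mem' := fun _ => Iff.rfl
  mul_mem' := fun {α β} hα hβ x => (hβ x).trans (hα (β x))
  inv_mem' := fun {α} hα x => by
    have h := hα (α⁻¹ x)
    rw [MulAut.apply_inv_self] at h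
    exact h.symm

theorem mem_stabAut {Q P : Subgroup Ω} {α : MulAut Q} :
    α ∈ stabAut Q P ↔ ∀ x : Q, (x : Ω) ∈ P ↔ ((α x : Q) : Ω) ∈ P := Iff.rfl

/-- The image of `P` (more precisely of `P ⊓ Q`) under an automorphism of `Q`. -/
def imgAut (Q P : Subgroup Ω) (α : MulAut Q) : Subgroup Ω :=
  (P.subgroupOf Q).map (Q.subtype.comp α.toMonoidHom)

theorem mem_imgAut {Q P : Subgroup Ω} {α : MulAut Q} {y : Ω} :
    y ∈ imgAut Q P α ↔ ∃ x : Q, (x : Ω) ∈ P ∧ ((α x : Q) : Ω) = y := by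
  constructor
  · rintro ⟨x, hx, rfl⟩
    exact ⟨x, Subgroup.mem_subgroupOf.mp hx, rfl⟩
  · rintro ⟨x, hx, rfl⟩
    exact ⟨x, Subgroup.mem_subgroupOf.mpr hx, rfl⟩

theorem imgAut_le (Q P : Subgroup Ω) (α : MulAut Q) : imgAut Q P α ≤ Q := by
  rintro _ ⟨x, -, rfl⟩
  exact (α x).2

theorem apply_mem_imgAut_iff {Q P : Subgroup Ω} {α : MulAut Q} (x : Q) :
    ((α x : Q) : Ω) ∈ imgAut Q P α ↔ (x : Ω) ∈ P := by
  rw [mem_imgAut]
  constructor
  · rintro ⟨y, hy, hxy⟩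
    have : y = x := α.injective (Subtype.ext hxy)
    rwa [← this]
  · intro hx
    exact ⟨x, hx, rfl⟩

theorem stabAut_imgAut (Q P : Subgroup Ω) (n : MulAut Q) :
    stabAut Q (imgAut Q P n) = (stabAut Q P).map (MulAut.conj n).toMonoidHom := by
  ext α
  rw [mem_map_conj, mem_stabAut, mem_stabAut]
  constructor
  · intro h x
    have h1 := h (n x)
    rw [apply_mem_imgAut_iff] at h1
    rw [h1]
    have h2 : α (n x) = n ((n⁻¹ * α * n) x) := by
      show α (n x) = n (n⁻¹ (α (n x)))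
      rw [MulAut.apply_inv_self]
    rw [h2, apply_mem_imgAut_iff]
  · intro h x
    have h1 := h (n⁻¹ x)
    have h2 : (n⁻¹ * α * n) (n⁻¹ x) = n⁻¹ (α x) := by
      show n⁻¹ (α (n (n⁻¹ x))) = n⁻¹ (α x)
      rw [MulAut.apply_inv_self]
    rw [h2] at h1
    have h3 : ((x : Q) : Ω) ∈ imgAut Q P n ↔ ((n⁻¹ x : Q) : Ω) ∈ P := by
      rw [← apply_mem_imgAut_iff (α := n) (n⁻¹ x), MulAut.apply_inv_self]
    have h4 : ((α x : Q) : Ω) ∈ imgAut Q P n ↔ ((n⁻¹ (α x) : Q) : Ω) ∈ P := by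
      rw [← apply_mem_imgAut_iff (α := n) (n⁻¹ (α x)), MulAut.apply_inv_self]
    rw [h3, h4]
    exact h1

/-- Restriction to `P ≤ Q` of the automorphisms of `Q` stabilizing `P`. -/
def resAut (Q P : Subgroup Ω) (hPQ : P ≤ Q) : ↥(stabAut Q P) →* MulAut P where
  toFun α :=
    { toFun := fun x => ⟨((α : MulAut Q) ⟨x, hPQ x.2⟩ : Q), (α.2 ⟨x, hPQ x.2⟩).mp x.2⟩
      invFun := fun x => ⟨((α : MulAut Q).symm ⟨x, hPQ x.2⟩ : Q), by
        have h := α.2 ((α : MulAut Q).symm ⟨x, hPQ x.2⟩)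
        rw [MulEquiv.apply_symm_apply] at h
        exact h.mpr x.2⟩
      left_inv := fun x => by
        apply Subtype.ext
        simp
      right_inv := fun x => by
        apply Subtype.ext
        simp
      map_mul' := fun x y => by
        apply Subtype.ext
        have : (⟨(x * y : P), hPQ (x * y).2⟩ : Q) = ⟨x, hPQ x.2⟩ * ⟨y, hPQ y.2⟩ := rfl
        simp only [this, map_mul]
        rfl }
  map_one' := by
    ext x
    rfl
  map_mul' := fun α β => by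
    ext x
    rfl

theorem resAut_apply (Q P : Subgroup Ω) (hPQ : P ≤ Q) (α : ↥(stabAut Q P)) (x : P) :
    ((resAut Q P hPQ α x : P) : Ω) = (((α : MulAut Q) ⟨x, hPQ x.2⟩ : Q) : Ω) := rfl

end Stab

section Automized

variable {Ω : Type*} [Group Ω] {S : Subgroup Ω}

/-- Let `Q` be fully automized in `E` and let `C` be a class of subgroups of `Q`, closed under `Aut_E(Q)`,
such that every `E`-automorphism of a member `P` of `C` extends to an `E`-automorphism of `Q` and such that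
`N_S(P) ≤ N_S(Q)` for the members `P` of `C`. Then every member of `C` has an image under `Aut_E(Q)` that is
fully automized. -/
theorem exists_fullyAutomized_imgAut [Finite S] (E : FusionSystem S) (p : ℕ) [Fact p.Prime]
    {Q : Subgroup Ω} (hQ : E.IsFullyAutomized p Q) (C : Subgroup Ω → Prop)
    (hC_le : ∀ P, C P → P ≤ Q)
    (hC_img : ∀ P, C P → ∀ α ∈ E.autGroup Q, C (imgAut Q P α))
    (hC_ext : ∀ P, C P → ∀ γ ∈ E.autGroup P, ∃ γ' ∈ E.autGroup Q,
      ∀ (x : Q) (hx : (x : Ω) ∈ P), ((γ' x : Q) : Ω) = γ ⟨x, hx⟩)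
    (hC_norm : ∀ P, C P → ∀ g ∈ S, g ∈ Subgroup.normalizer (P : Set Ω) →
      g ∈ Subgroup.normalizer (Q : Set Ω))
    {P : Subgroup Ω} (hP : C P) :
    ∃ α ∈ E.autGroup Q, E.IsFullyAutomized p (imgAut Q P α) := by
  obtain ⟨hQS, hQsyl⟩ := hQ
  have : Finite Q := Cfsg.Agent.Lib.helper89.finite_of_le hQS
  have : Finite (MulAut Q) := Finite.of_injective (fun α : MulAut Q => (α : Q → Q))
    (fun α β h => MulEquiv.ext (congrFun h))
  have hAS : autInducedBy S Q ≤ E.autGroup Q := Cfsg.Agent.Lib.helper89.autInducedBy_le_autGroup E hQS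
  obtain ⟨n, hn, hsyl⟩ := exists_conj_sylowIn_inf hAS hQsyl
    (inf_le_right : stabAut Q P ⊓ E.autGroup Q ≤ E.autGroup Q)
  refine ⟨n, hn, ?_⟩
  have hP' : C (imgAut Q P n) := hC_img P hP n hn
  have hP'Q : imgAut Q P n ≤ Q := hC_le _ hP'
  have hP'S : imgAut Q P n ≤ S := hP'Q.trans hQS
  have hH' : stabAut Q (imgAut Q P n) ⊓ E.autGroup Q =
      (stabAut Q P ⊓ E.autGroup Q).map (MulAut.conj n).toMonoidHom := by
    ext α
    rw [mem_map_conj, Subgroup.mem_inf, Subgroup.mem_inf, stabAut_imgAut, mem_map_conj]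
    refine and_congr Iff.rfl ?_
    constructor
    · intro h
      exact (E.autGroup Q).mul_mem ((E.autGroup Q).mul_mem ((E.autGroup Q).inv_mem hn) h) hn
    · intro h
      have h1 := (E.autGroup Q).mul_mem ((E.autGroup Q).mul_mem hn h) ((E.autGroup Q).inv_mem hn)
      have h2 : n * (n⁻¹ * α * n) * n⁻¹ = α := by group
      rwa [h2] at h1
  obtain ⟨R, hR⟩ := hsyl _ hH'
  refine ⟨hP'S, ?_⟩
  refine sylowIn_map_range
    ((resAut Q (imgAut Q P n) hP'Q).comp (Subgroup.inclusion inf_le_left))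
    (E.autGroup (imgAut Q P n)) (autInducedBy S (imgAut Q P n))
    ((autInducedBy S Q ⊓ (stabAut Q (imgAut Q P n) ⊓ E.autGroup Q)).subgroupOf
      (stabAut Q (imgAut Q P n) ⊓ E.autGroup Q)) ?_ ?_ R hR
  · -- the range of the restriction is `Aut_E(P')`
    ext γ
    constructor
    · intro hγ
      obtain ⟨γ', hγ', hext⟩ := hC_ext _ hP' γ hγ
      have hstab : γ' ∈ stabAut Q (imgAut Q P n) := by
        intro x
        constructor
        · intro hx
          rw [hext x hx]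
          exact (γ ⟨x, hx⟩).2
        · intro hx
          have h1 := hext ⟨(γ.symm ⟨γ' x, hx⟩ : ↥(imgAut Q P n)), hP'Q (γ.symm ⟨γ' x, hx⟩).2⟩
            (γ.symm ⟨γ' x, hx⟩).2
          have h2 : (γ ⟨(γ.symm ⟨γ' x, hx⟩ : ↥(imgAut Q P n)), (γ.symm ⟨γ' x, hx⟩).2⟩ :
              ↥(imgAut Q P n)) = ⟨γ' x, hx⟩ := γ.apply_symm_apply _
          rw [h2] at h1
          have h3 : (⟨(γ.symm ⟨γ' x, hx⟩ : ↥(imgAut Q P n)), hP'Q (γ.symm ⟨γ' x, hx⟩).2⟩ : Q) = x :=
            γ'.injective (Subtype.ext h1)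
          rw [← h3]
          exact (γ.symm ⟨γ' x, hx⟩).2
      refine ⟨⟨γ', Subgroup.mem_inf.mpr ⟨hstab, hγ'⟩⟩, ?_⟩
      ext x
      exact hext ⟨x, hP'Q x.2⟩ x.2
    · rintro ⟨a, rfl⟩
      rw [Cfsg.Agent.Lib.helper89.mem_autGroup_iff E hP'S]
      have h1 : Q.subtype.comp (a : MulAut Q).toMonoidHom ∈ E.Hom Q :=
        (Cfsg.Agent.Lib.helper89.mem_autGroup_iff E hQS _).mp (Subgroup.mem_inf.mp a.2).2
      exact hom_restrict E h1 hP'Q _ (fun x => rfl)
  · -- the image of `Aut_S(Q) ∩ Stab` is `Aut_S(P')`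
    ext γ
    constructor
    · intro hγ
      rw [autInducedBy_eq_map] at hγ
      obtain ⟨m, hm, rfl⟩ := hγ
      obtain ⟨hmS, hmN⟩ := Subgroup.mem_subgroupOf.mp hm
      have hmQ : (m : Ω) ∈ Subgroup.normalizer (Q : Set Ω) := hC_norm _ hP' _ hmS hmN
      have hσ : Q.normalizerMonoidHom ⟨m, hmQ⟩ ∈ autInducedBy S Q :=
        (Cfsg.Agent.Lib.helper89.mem_autInducedBy_iff S Q _).mpr ⟨m, hmS, fun x => rfl⟩
      have hstab : Q.normalizerMonoidHom ⟨m, hmQ⟩ ∈ stabAut Q (imgAut Q P n) := by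
        intro x
        exact Subgroup.mem_normalizer_iff.mp hmN x
      refine ⟨⟨Q.normalizerMonoidHom ⟨m, hmQ⟩, Subgroup.mem_inf.mpr ⟨hstab, hAS hσ⟩⟩, ?_, ?_⟩
      · exact Subgroup.mem_subgroupOf.mpr (Subgroup.mem_inf.mpr ⟨hσ, Subgroup.mem_inf.mpr ⟨hstab, hAS hσ⟩⟩)
      · ext x
        rfl
    · rintro ⟨a, ha, rfl⟩
      have ha1 : (a : MulAut Q) ∈ autInducedBy S Q := (Subgroup.mem_inf.mp (Subgroup.mem_subgroupOf.mp ha)).1
      obtain ⟨g, hg, hga⟩ := (Cfsg.Agent.Lib.helper89.mem_autInducedBy_iff S Q _).mp ha1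
      exact (Cfsg.Agent.Lib.helper89.mem_autInducedBy_iff S _ _).mpr
        ⟨g, hg, fun x => hga ⟨x, hP'Q x.2⟩⟩

end Automized

end Cfsg.Agent.Lib.helper87
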