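import Cfsg.Agent.Lib.helper38.TN2

/-!
helper87: PIECE K (`trichotomy`) of helper38's split of S4415 (Thompson's N-groups lemma):
a minimal `GN` subgroup not centralized by `b` is either elementary abelian (`TypeI`) or of
"extraspecial type".
-/

set_option autoImplicit false

namespace Cfsg.Agent.Lib.helper87

open Cfsg.Agent.Lib.helper38.TN

open scoped commutatorElement

variable {G : Type*} [Group G] [Finite G] {V : Type*} [AddCommGroup V] [Module (ZMod 3) V] [Finite V]
variable {ρ : Representation (ZMod 3) G V} {R : Subgroup G} {b q₁ q₂ q₃ : G} {u₁ u₂ u₃ : V}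

namespace TNK

/-- (F3): a `GN` subgroup centralized by `b` is centralized by `R`. -/
theorem cent_of_b (h : Ctx ρ R b q₁ q₂ q₃ u₁ u₂ u₃) (M : Subgroup G) (hM : GN R b M)
    (hb : ∀ m ∈ M, b * m * b⁻¹ = m) : ∀ r ∈ R, ∀ m ∈ M, m * r = r * m := by
  have hK := h.gen (Subgroup.centralizer (M : Set G)) ?_ ?_
  · intro r hr m hm
    exact (Subgroup.mem_centralizer_iff.mp (hK hr)) m hm
  · rw [Subgroup.mem_centralizer_iff]
    intro m hm
    have hbm := hb m hm
    calc m * b = (b * m * b⁻¹) * b := by rw [hbm]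
      _ = b * m := by group
  · intro r hr k hk
    rw [Subgroup.mem_centralizer_iff] at hk ⊢
    intro m hm
    have hm' : r⁻¹ * m * r ∈ M := by
      have h1 := hM.2.1 r⁻¹ (R.inv_mem hr) m hm
      simpa using h1
    have e := hk _ hm'
    calc m * (r * k * r⁻¹) = r * ((r⁻¹ * m * r) * k) * r⁻¹ := by group
      _ = r * (k * (r⁻¹ * m * r)) * r⁻¹ := by rw [e]
      _ = r * k * r⁻¹ * m := by group

theorem nb_nb_u1 (F : Frame ρ b q₁ q₂ q₃ u₁ u₂ u₃) :
    nb ρ b (nb ρ b u₁) = u₁ + u₂ + u₃ := by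
  unfold nb
  rw [map_sub, F.bu1, F.bu2]
  have h3 := three_smul_eq_zero u₂
  have e : u₃ - u₂ - (u₂ - u₁) = u₁ + u₂ + u₃ - (u₂ + u₂ + u₂) := by abel
  rw [e, h3, sub_zero]

theorem nb_nb_mem (F : Frame ρ b q₁ q₂ q₃ u₁ u₂ u₃) (v : V) :
    ∃ c : ZMod 3, nb ρ b (nb ρ b v) = c • (u₁ + u₂ + u₃) := by
  obtain ⟨a₁, a₂, a₃, c, hc, rfl⟩ := F.decomp v
  refine ⟨a₁ + a₂ + a₃, ?_⟩
  have e1 := F.b_apply a₁ a₂ a₃ hc
  have e2 := F.b_apply a₃ a₁ a₂ hc
  unfold nb
  rw [map_sub, e1, e2]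
  have h3 : (3 : ZMod 3) = 0 := by decide
  have key : a₂ • u₁ + a₃ • u₂ + a₁ • u₃ + c - (a₃ • u₁ + a₁ • u₂ + a₂ • u₃ + c)
      - (a₃ • u₁ + a₁ • u₂ + a₂ • u₃ + c - (a₁ • u₁ + a₂ • u₂ + a₃ • u₃ + c))
      = (a₁ + a₂ + a₃) • (u₁ + u₂ + u₃) - (3 : ZMod 3) • (a₃ • u₁ + a₁ • u₂ + a₂ • u₃) := by
    module
  rw [key, h3, zero_smul, sub_zero]

/-- (F4): an element of `R` commuting with `R` and with `b` is `1` or acts as `-1`. -/
theorem pm_of_central (h : Ctx ρ R b q₁ q₂ q₃ u₁ u₂ u₃) (g : G) (hg : g ∈ R)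
    (hR : ∀ r ∈ R, g * r = r * g) (hb : g * b = b * g) :
    g = 1 ∨ ∀ v, ρ g v = -v := by
  have F := h.frame
  have hgb : ∀ v, ρ g (ρ b v) = ρ b (ρ g v) := by
    intro v; rw [← rho_mul, hb, rho_mul]
  have hnb : ∀ v, ρ g (nb ρ b v) = nb ρ b (ρ g v) := by
    intro v; unfold nb; rw [map_sub, hgb]
  obtain ⟨t, ht⟩ := nb_nb_mem F (ρ g u₁)
  have hw : ρ g (u₁ + u₂ + u₃) = t • (u₁ + u₂ + u₃) := by
    calc ρ g (u₁ + u₂ + u₃) = ρ g (nb ρ b (nb ρ b u₁)) := by rw [nb_nb_u1 F]
      _ = nb ρ b (nb ρ b (ρ g u₁)) := by rw [hnb, hnb]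
      _ = t • (u₁ + u₂ + u₃) := ht
  have hw0 : u₁ + u₂ + u₃ ≠ 0 := by
    intro h0
    have h1 : (1 : ZMod 3) • u₁ + (1 : ZMod 3) • u₂ + (1 : ZMod 3) • u₃ + (0 : V) = 0 := by
      rw [one_smul, one_smul, one_smul, add_zero]; exact h0
    have h2 := (F.indep (Submodule.zero_mem _) h1).1
    exact absurd h2 (by decide)
  have ht0 : t ≠ 0 := by
    rintro rfl
    rw [zero_smul] at hw
    exact hw0 (rho_inj ρ g (by rw [hw, map_zero]))
  let E : Submodule (ZMod 3) V :=
    { carrier := {v | ρ g v = t • v}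
      add_mem' := by
        intro v w hv hw'
        show ρ g (v + w) = t • (v + w)
        have hv' : ρ g v = t • v := hv
        have hw'' : ρ g w = t • w := hw'
        rw [map_add, hv', hw'', smul_add]
      zero_mem' := by
        show ρ g 0 = t • (0 : V)
        rw [map_zero, smul_zero]
      smul_mem' := by
        intro c v hv
        show ρ g (c • v) = t • (c • v)
        have hv' : ρ g v = t • v := hv
        rw [map_smul, hv', smul_comm] }
  have hE : E = ⊥ ∨ E = ⊤ := by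
    apply h.irr E
    · intro r hr v hv
      show ρ g (ρ r v) = t • ρ r v
      have hv' : ρ g v = t • v := hv
      rw [← rho_mul, hR r hr, rho_mul, hv', map_smul]
    · intro v hv
      show ρ g (ρ b v) = t • ρ b v
      have hv' : ρ g v = t • v := hv
      rw [hgb, hv', map_smul]
  have hE' : E = ⊤ := by
    rcases hE with hE | hE
    · exfalso
      have hwE : u₁ + u₂ + u₃ ∈ E := hw
      rw [hE, Submodule.mem_bot] at hwE
      exact hw0 hwE
    · exact hE
  have hall : ∀ v, ρ g v = t • v := by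
    intro v
    have hv : v ∈ E := by rw [hE']; exact Submodule.mem_top
    exact hv
  rcases zmod3_unit t ht0 with rfl | rfl
  · left
    exact h.faith g hg (fun v => by rw [hall, one_smul])
  · right
    intro v
    rw [hall, neg_smul, one_smul]

theorem neg_unique (h : Ctx ρ R b q₁ q₂ q₃ u₁ u₂ u₃) {x y : G} (hx : x ∈ R) (hy : y ∈ R)
    (hxV : ∀ v, ρ x v = -v) (hyV : ∀ v, ρ y v = -v) : x = y := by
  have hyi : ∀ v, ρ y⁻¹ v = -v := by
    intro v
    have h1 := rho_self_inv ρ y v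
    rw [hyV] at h1
    exact neg_eq_iff_eq_neg.mp h1
  have h1 : x * y⁻¹ = 1 := by
    apply h.faith _ (R.mul_mem hx (R.inv_mem hy))
    intro v
    rw [rho_mul, hyi, hxV, neg_neg]
  exact mul_inv_eq_one.mp h1

theorem neg_sq (h : Ctx ρ R b q₁ q₂ q₃ u₁ u₂ u₃) {x : G} (hx : x ∈ R)
    (hxV : ∀ v, ρ x v = -v) : x * x = 1 := by
  apply h.faith _ (R.mul_mem hx hx)
  intro v
  rw [rho_mul, hxV, hxV, neg_neg]

theorem neg_ne_one (h : Ctx ρ R b q₁ q₂ q₃ u₁ u₂ u₃) {x : G}
    (hxV : ∀ v, ρ x v = -v) : x ≠ 1 := by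
  rintro rfl
  have h1 := hxV u₁
  rw [rho_one] at h1
  exact neg_ne_self h.frame.u1 h1.symm

/-- The `k`-torsion of an abelian subgroup. -/
def powKer (N : Subgroup G) (hab : ∀ x ∈ N, ∀ y ∈ N, x * y = y * x) (k : ℕ) : Subgroup G where
  carrier := {x | x ∈ N ∧ x ^ k = 1}
  mul_mem' := by
    rintro x y ⟨hx, hx'⟩ ⟨hy, hy'⟩
    refine ⟨N.mul_mem hx hy, ?_⟩
    have hc : Commute x y := hab x hx y hy
    rw [hc.mul_pow, hx', hy', one_mul]
  one_mem' := ⟨N.one_mem, one_pow k⟩
  inv_mem' := by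
    rintro x ⟨hx, hx'⟩
    exact ⟨N.inv_mem hx, by rw [inv_pow, hx', inv_one]⟩

theorem mem_powKer {N : Subgroup G} {hab : ∀ x ∈ N, ∀ y ∈ N, x * y = y * x} {k : ℕ} {x : G} :
    x ∈ powKer N hab k ↔ x ∈ N ∧ x ^ k = 1 := Iff.rfl

theorem powKer_le (N : Subgroup G) (hab : ∀ x ∈ N, ∀ y ∈ N, x * y = y * x) (k : ℕ) :
    powKer N hab k ≤ N := fun _ hx => (mem_powKer.mp hx).1

theorem powKer_GN {N : Subgroup G} (hN : GN R b N) (hab : ∀ x ∈ N, ∀ y ∈ N, x * y = y * x)
    (k : ℕ) : GN R b (powKer N hab k) := by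
  refine ⟨fun x hx => hN.1 (mem_powKer.mp hx).1, ?_, ?_⟩
  · intro r hr n hn
    have hn' := mem_powKer.mp hn
    refine mem_powKer.mpr ⟨hN.2.1 r hr n hn'.1, ?_⟩
    rw [conj_pow, hn'.2]; group
  · intro n hn
    have hn' := mem_powKer.mp hn
    refine mem_powKer.mpr ⟨hN.2.2 n hn'.1, ?_⟩
    rw [conj_pow, hn'.2]; group

end TNK

open TNK

theorem trichotomy (h : Ctx ρ R b q₁ q₂ q₃ u₁ u₂ u₃)
    (hodd : ∀ A : Subgroup G, GN R b A → (∀ x ∈ A, ∀ y ∈ A, x * y = y * x) → ¬ 2 ∣ Nat.card ↥A → A = ⊥) :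
    TypeI R b ∨ ∃ (N : Subgroup G) (z : G), GN R b N ∧ z ∈ N ∧ (∀ v, ρ z v = -v) ∧
      (∀ x ∈ N, ∀ y ∈ N, x * y = y * x ∨ x * y = z * (y * x)) ∧
      (∀ x ∈ N, (∀ y ∈ N, x * y = y * x) → x = 1 ∨ x = z) ∧ ∃ x ∈ N, b * x * b⁻¹ ≠ x := by
  have F := h.frame
  have T := F.tri
  have hb3 : b * b * b = 1 := by rw [← F.b3, pow_succ, pow_two]
  -- a minimal `GN` subgroup not centralized by `b`
  let s : Set (Subgroup G) := {N | GN R b N ∧ ∃ x ∈ N, b * x * b⁻¹ ≠ x}
  have hs : s.Nonempty := by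
    refine ⟨R, ⟨le_rfl, fun r hr n hn => R.mul_mem (R.mul_mem hr hn) (R.inv_mem hr), h.bR⟩,
      q₁, h.q1R, ?_⟩
    rw [T.c1]
    intro h12
    apply T.ne3
    rw [← T.m12, h12, T.sq]
  obtain ⟨N, ⟨hN, hnc⟩, hmin⟩ :=
    Set.exists_min_image s (fun N => Nat.card ↥N) (Set.toFinite s) hs
  have hcentb : ∀ M : Subgroup G, GN R b M → M ≤ N → M ≠ N → ∀ m ∈ M, b * m * b⁻¹ = m := by
    intro M hM hMN hne m hm
    by_contra hbm
    have hMs : M ∈ s := ⟨hM, m, hm, hbm⟩
    have hle := hmin M hMs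
    exact hne (Subgroup.eq_of_le_of_card_ge hMN hle)
  have hpm : ∀ M : Subgroup G, GN R b M → M ≤ N → M ≠ N →
      ∀ m ∈ M, m = 1 ∨ ∀ v, ρ m v = -v := by
    intro M hM hMN hne m hm
    have hcb := hcentb M hM hMN hne
    have hcR := cent_of_b h M hM hcb
    refine pm_of_central h m (hM.1 hm) (fun r hr => hcR r hr m hm) ?_
    have hbm := hcb m hm
    calc m * b = (b * m * b⁻¹) * b := by rw [hbm]
      _ = b * m := by group
  by_cases hab : ∀ x ∈ N, ∀ y ∈ N, x * y = y * x
  · -- `N` abelian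
    by_cases hΩ : powKer N hab 2 = N
    · left
      refine ⟨N, hN, fun x hx => ?_, hnc⟩
      have hx' : x ∈ powKer N hab 2 := by rw [hΩ]; exact hx
      have hx2 := (mem_powKer.mp hx').2
      rwa [pow_two] at hx2
    · exfalso
      have hΩle : powKer N hab 2 ≤ N := powKer_le N hab 2
      have hΩGN := powKer_GN hN hab 2
      have h2 : 2 ∣ Nat.card ↥N := by
        by_contra h2
        have hbot := hodd N hN hab h2
        obtain ⟨x, hx, hxb⟩ := hnc
        rw [hbot, Subgroup.mem_bot] at hx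
        apply hxb
        rw [hx]; group
      have : Fact (Nat.Prime 2) := ⟨Nat.prime_two⟩
      obtain ⟨z₀, hz₀⟩ := exists_prime_orderOf_dvd_card' 2 h2
      obtain ⟨z, hzdef⟩ : ∃ z : G, z = (z₀ : G) := ⟨_, rfl⟩
      have hzN : z ∈ N := by rw [hzdef]; exact z₀.2
      have hzo : orderOf z = 2 := by rw [hzdef, Subgroup.orderOf_coe]; exact hz₀
      have hz2 : z ^ 2 = 1 := by rw [← hzo]; exact pow_orderOf_eq_one _
      have hz1 : z ≠ 1 := by
        intro h1
        rw [h1, orderOf_one] at hzo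
        omega
      have hzΩ : z ∈ powKer N hab 2 := mem_powKer.mpr ⟨hzN, hz2⟩
      have hzV : ∀ v, ρ z v = -v := by
        rcases hpm _ hΩGN hΩle hΩ _ hzΩ with h1 | h1
        · exact absurd h1 hz1
        · exact h1
      have hzb : b * z * b⁻¹ = z := hcentb _ hΩGN hΩle hΩ _ hzΩ
      by_cases h4 : powKer N hab 4 = N
      · -- then `b` centralizes `N`
        obtain ⟨x, hx, hxb⟩ := hnc
        apply hxb
        have hx4 : x ^ 4 = 1 := by
          have hx' : x ∈ powKer N hab 4 := by rw [h4]; exact hx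
          exact (mem_powKer.mp hx').2
        have hx2Ω : x ^ 2 ∈ powKer N hab 2 :=
          mem_powKer.mpr ⟨N.pow_mem hx 2, by rw [← pow_mul]; exact hx4⟩
        have hbx2 : b * x ^ 2 * b⁻¹ = x ^ 2 := hcentb _ hΩGN hΩle hΩ _ hx2Ω
        obtain ⟨y, hy⟩ : ∃ y : G, y = b * x * b⁻¹ := ⟨_, rfl⟩
        have hyN : y ∈ N := by rw [hy]; exact hN.2.2 x hx
        have hy2 : y ^ 2 = x ^ 2 := by rw [hy, conj_pow, hbx2]
        have htN : x⁻¹ * y ∈ N := N.mul_mem (N.inv_mem hx) hyN
        have ht2 : (x⁻¹ * y) ^ 2 = 1 := by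
          have hc : Commute x⁻¹ y := hab _ (N.inv_mem hx) _ hyN
          rw [hc.mul_pow, hy2, inv_pow, inv_mul_cancel]
        have htΩ : x⁻¹ * y ∈ powKer N hab 2 := mem_powKer.mpr ⟨htN, ht2⟩
        rw [← hy]
        rcases hpm _ hΩGN hΩle hΩ _ htΩ with h1 | h1
        · exact (inv_mul_eq_one.mp h1).symm
        · exfalso
          have htz : x⁻¹ * y = z := neg_unique h (hN.1 htN) (hN.1 hzN) h1 hzV
          have hyxz : y = x * z := by rw [← htz]; group
          have e1 : b * y * b⁻¹ = x := by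
            calc b * y * b⁻¹ = b * (x * z) * b⁻¹ := by rw [hyxz]
              _ = (b * x * b⁻¹) * (b * z * b⁻¹) := by group
              _ = y * z := by rw [hzb, ← hy]
              _ = x * (z * z) := by rw [hyxz]; group
              _ = x := by rw [← pow_two, hz2, mul_one]
          have e3 : b * (b * y * b⁻¹) * b⁻¹ = x := by
            calc b * (b * y * b⁻¹) * b⁻¹ = (b * b * b) * x * (b * b * b)⁻¹ := by rw [hy]; group
              _ = x := by rw [hb3]; group
          rw [e1, ← hy] at e3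
          have e4 : x * z = x * 1 := by rw [← hyxz, mul_one]; exact e3
          exact hz1 (mul_left_cancel e4)
      · -- every element of `N` of order dividing `4` has order dividing `2`
        have h4le : powKer N hab 4 ≤ N := powKer_le N hab 4
        have h4GN := powKer_GN hN hab 4
        have hsq4 : ∀ x ∈ N, x ^ 4 = 1 → x ^ 2 = 1 := by
          intro x hx hx4
          rcases hpm _ h4GN h4le h4 x (mem_powKer.mpr ⟨hx, hx4⟩) with h1 | h1
          · rw [h1, one_pow]
          · rw [pow_two]; exact neg_sq h (hN.1 hx) h1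
        have hcard0 : Nat.card ↥N ≠ 0 := Nat.card_pos.ne'
        obtain ⟨a, m, hm, hcard⟩ := Nat.exists_eq_two_pow_mul_odd hcard0
        have hOGN := powKer_GN hN hab m
        have hObot : powKer N hab m = ⊥ := by
          apply hodd _ hOGN (fun x hx y hy => hab x (mem_powKer.mp hx).1 y (mem_powKer.mp hy).1)
          intro h2'
          obtain ⟨y₀, hy₀⟩ := exists_prime_orderOf_dvd_card' 2 h2'
          have hyo : orderOf (y₀ : G) = 2 := by rw [Subgroup.orderOf_coe]; exact hy₀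
          have hym : (y₀ : G) ^ m = 1 := (mem_powKer.mp y₀.2).2
          have hdvd := orderOf_dvd_of_pow_eq_one hym
          rw [hyo] at hdvd
          exact (Nat.not_even_iff_odd.mpr hm) (even_iff_two_dvd.mpr hdvd)
        have h2pow : ∀ x ∈ N, x ^ (2 ^ a) = 1 := by
          intro x hx
          have hxO : x ^ (2 ^ a) ∈ powKer N hab m := by
            refine mem_powKer.mpr ⟨N.pow_mem hx _, ?_⟩
            rw [← pow_mul, ← hcard]
            have h1 : ((⟨x, hx⟩ : ↥N) ^ Nat.card ↥N : ↥N) = 1 := pow_card_eq_one'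
            exact congrArg Subtype.val h1
          rw [hObot, Subgroup.mem_bot] at hxO
          exact hxO
        have hind : ∀ j : ℕ, ∀ x ∈ N, x ^ (2 ^ (j + 1)) = 1 → x ^ 2 = 1 := by
          intro j
          induction j with
          | zero => intro x _ hx; simpa using hx
          | succ j ih =>
            intro x hx hxj
            apply hsq4 x hx
            have h' : (x ^ 2) ^ (2 ^ (j + 1)) = 1 := by
              rw [← pow_mul]
              have e : 2 * 2 ^ (j + 1) = 2 ^ (j + 1 + 1) := by ring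
              rw [e]; exact hxj
            have h'' := ih (x ^ 2) (N.pow_mem hx 2) h'
            rw [← pow_mul] at h''
            exact h''
        apply hΩ
        apply le_antisymm hΩle
        intro x hx
        refine mem_powKer.mpr ⟨hx, hind a x hx ?_⟩
        rw [pow_succ, pow_mul, h2pow x hx, one_pow]
  · -- `N` nonabelian
    right
    push Not at hab
    obtain ⟨x₀, hx₀, y₀, hy₀, hxy⟩ := hab
    have hCle : ⁅N, N⁆ ≤ N := by
      rw [Subgroup.commutator_le]
      intro g₁ h₁ g₂ h₂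
      exact N.mul_mem (N.mul_mem (N.mul_mem h₁ h₂) (N.inv_mem h₁)) (N.inv_mem h₂)
    have hconj : ∀ g : G, (∀ n ∈ N, g * n * g⁻¹ ∈ N) →
        ∀ c ∈ ⁅N, N⁆, g * c * g⁻¹ ∈ ⁅N, N⁆ := by
      intro g hg c hc
      have hmap : N.map (MulAut.conj g).toMonoidHom ≤ N := by
        rintro _ ⟨n, hn, rfl⟩
        exact hg n hn
      have h1 : (⁅N, N⁆).map (MulAut.conj g).toMonoidHom ≤ ⁅N, N⁆ := by
        rw [Subgroup.map_commutator]
        exact Subgroup.commutator_mono hmap hmap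
      exact h1 ⟨c, hc, rfl⟩
    have hCGN : GN R b ⁅N, N⁆ :=
      ⟨hCle.trans hN.1, fun r hr c hc => hconj r (hN.2.1 r hr) c hc,
        fun c hc => hconj b hN.2.2 c hc⟩
    have hNbot : N ≠ ⊥ := by
      intro hbot
      rw [hbot, Subgroup.mem_bot] at hx₀ hy₀
      apply hxy; rw [hx₀, hy₀]
    have hCne : ⁅N, N⁆ ≠ N := by
      intro hC
      have : Group.IsSolvable ↥R := h.solv
      have hsub : N.subgroupOf R ≠ ⊥ := by
        intro hbot
        apply hNbot
        rw [eq_bot_iff]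
        intro x hx
        have hxR : x ∈ R := hN.1 hx
        have h1 : (⟨x, hxR⟩ : ↥R) ∈ N.subgroupOf R := Subgroup.mem_subgroupOf.mpr hx
        rw [hbot, Subgroup.mem_bot] at h1
        rw [Subgroup.mem_bot]
        exact congrArg Subtype.val h1
      have hlt := Group.IsSolvable.commutator_lt_of_ne_bot hsub
      have hmapN : (N.subgroupOf R).map R.subtype = N := by
        rw [Subgroup.subgroupOf_map_subtype, inf_eq_left.mpr hN.1]
      have hmapC : (⁅N.subgroupOf R, N.subgroupOf R⁆).map R.subtype = ⁅N, N⁆ := by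
        rw [Subgroup.map_commutator, hmapN]
      have heq : ⁅N.subgroupOf R, N.subgroupOf R⁆ = N.subgroupOf R := by
        apply Subgroup.map_injective (Subgroup.subtype_injective R)
        rw [hmapC, hmapN, hC]
      exact hlt.ne heq
    obtain ⟨z, hzdef⟩ : ∃ z : G, z = ⁅x₀, y₀⁆ := ⟨_, rfl⟩
    have hzC : z ∈ ⁅N, N⁆ := by rw [hzdef]; exact Subgroup.commutator_mem_commutator hx₀ hy₀
    have hz1 : z ≠ 1 := by
      intro h1
      rw [hzdef] at h1
      exact hxy (commutatorElement_eq_one_iff_mul_comm.mp h1)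
    have hzV : ∀ v, ρ z v = -v := by
      rcases hpm _ hCGN hCle hCne z hzC with h1 | h1
      · exact absurd h1 hz1
      · exact h1
    refine ⟨N, z, hN, hCle hzC, hzV, ?_, ?_, hnc⟩
    · intro x hx y hy
      have hc : ⁅x, y⁆ ∈ ⁅N, N⁆ := Subgroup.commutator_mem_commutator hx hy
      rcases hpm _ hCGN hCle hCne _ hc with h1 | h1
      · left; exact commutatorElement_eq_one_iff_mul_comm.mp h1
      · right
        have hcz : ⁅x, y⁆ = z := neg_unique h (hN.1 (hCle hc)) (hN.1 (hCle hzC)) h1 hzV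
        rw [← hcz, commutatorElement_def]; group
    · intro x hx hxc
      have hbinv : ∀ n ∈ N, b⁻¹ * n * b ∈ N := by
        intro n hn
        have h1 := hN.2.2 _ (hN.2.2 n hn)
        have e : b * (b * n * b⁻¹) * b⁻¹ = b⁻¹ * n * b := by
          calc b * (b * n * b⁻¹) * b⁻¹ = (b * b * b) * (b⁻¹ * n * b) * (b * b * b)⁻¹ := by group
            _ = b⁻¹ * n * b := by rw [hb3]; group
        rwa [e] at h1
      have hconjZ : ∀ g : G, (∀ n ∈ N, g * n * g⁻¹ ∈ N) → (∀ n ∈ N, g⁻¹ * n * g ∈ N) →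
          ∀ c ∈ N ⊓ Subgroup.centralizer (N : Set G),
            g * c * g⁻¹ ∈ N ⊓ Subgroup.centralizer (N : Set G) := by
        intro g hg hg' c hc
        have hc' := Subgroup.mem_inf.mp hc
        refine Subgroup.mem_inf.mpr ⟨hg c hc'.1, ?_⟩
        rw [Subgroup.mem_centralizer_iff]
        intro n hn
        have e := (Subgroup.mem_centralizer_iff.mp hc'.2) _ (hg' n hn)
        calc n * (g * c * g⁻¹) = g * ((g⁻¹ * n * g) * c) * g⁻¹ := by group
          _ = g * (c * (g⁻¹ * n * g)) * g⁻¹ := by rw [e]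
          _ = g * c * g⁻¹ * n := by group
      have hZGN : GN R b (N ⊓ Subgroup.centralizer (N : Set G)) := by
        refine ⟨fun c hc => hN.1 (Subgroup.mem_inf.mp hc).1, fun r hr c hc => hconjZ r (hN.2.1 r hr) ?_ c hc,
          fun c hc => hconjZ b hN.2.2 hbinv c hc⟩
        intro n hn
        have h1 := hN.2.1 r⁻¹ (R.inv_mem hr) n hn
        simpa using h1
      have hZle : N ⊓ Subgroup.centralizer (N : Set G) ≤ N := inf_le_left
      have hZne : N ⊓ Subgroup.centralizer (N : Set G) ≠ N := by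
        intro hZ
        apply hxy
        have hx₀Z : x₀ ∈ N ⊓ Subgroup.centralizer (N : Set G) := by rw [hZ]; exact hx₀
        exact ((Subgroup.mem_centralizer_iff.mp (Subgroup.mem_inf.mp hx₀Z).2) y₀ hy₀).symm
      have hxZ : x ∈ N ⊓ Subgroup.centralizer (N : Set G) := by
        refine Subgroup.mem_inf.mpr ⟨hx, ?_⟩
        rw [Subgroup.mem_centralizer_iff]
        intro y hy
        exact (hxc y hy).symm
      rcases hpm _ hZGN hZle hZne x hxZ with h1 | h1
      · left; exact h1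
      · right; exact neg_unique h (hN.1 hx) (hN.1 (hCle hzC)) h1 hzV

end Cfsg.Agent.Lib.helper87
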